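import Mathlib
import Groth.Prelude.Def_W4ega4s0809p4Pair

/-!
# Relations "some base change admits a morphism with property `Q`" are ind-constructible (helper25)
-/

set_option autoImplicit false
set_option linter.unusedSectionVars false
set_option linter.unusedVariables false
universe u

open CategoryTheory CategoryTheory.Limits AlgebraicGeometry

namespace Groth.Agent.Lib.Helper25.ConsPair

/-- the relation: after a field extension there is a morphism with `Q` between the base changes -/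
def ExQ (Q : MorphismProperty Scheme.{u}) : ∀ ⦃X Y T : Scheme.{u}⦄, (X ⟶ T) → (Y ⟶ T) → Prop :=
  fun X Y T gX gY => ∃ (T' X' Y' : Scheme.{u}) (h : T' ⟶ T) (gX' : X' ⟶ T') (gY' : Y' ⟶ T')
        (eX : X' ⟶ X) (eY : Y' ⟶ Y), IsIntegral T' ∧ Subsingleton ↥T' ∧
          IsPullback eX gX' gX h ∧ IsPullback eY gY' gY h ∧
            ∃ g : X' ⟶ Y', g ≫ gY' = gX' ∧ Q g

variable (Q : MorphismProperty Scheme.{u}) [Q.IsStableUnderBaseChange]

/-- base change of a morphism over `T₁` along `b : T₂ ⟶ T₁` -/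
theorem exists_baseChange {X₁ Y₁ T₁ T₂ : Scheme.{u}} (gX₁ : X₁ ⟶ T₁) (gY₁ : Y₁ ⟶ T₁) (g₁ : X₁ ⟶ Y₁)
    (hg₁ : g₁ ≫ gY₁ = gX₁) (hQ : Q g₁) (b : T₂ ⟶ T₁) :
    ∃ g₂ : pullback gX₁ b ⟶ pullback gY₁ b, g₂ ≫ pullback.snd gY₁ b = pullback.snd gX₁ b ∧
      g₂ ≫ pullback.fst gY₁ b = pullback.fst gX₁ b ≫ g₁ ∧ Q g₂ := by
  let g₂ : pullback gX₁ b ⟶ pullback gY₁ b :=
    pullback.map gX₁ b gY₁ b g₁ (𝟙 T₂) (𝟙 T₁) (by rw [Category.comp_id, hg₁]) (by simp)
  have h1 : g₂ ≫ pullback.snd gY₁ b = pullback.snd gX₁ b := by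
    simp only [g₂, pullback.map]
    rw [pullback.lift_snd, Category.comp_id]
  have h2 : g₂ ≫ pullback.fst gY₁ b = pullback.fst gX₁ b ≫ g₁ := by
    simp only [g₂, pullback.map]
    rw [pullback.lift_fst]
  refine ⟨g₂, h1, h2, ?_⟩
  have hbot : IsPullback (pullback.fst gY₁ b) (pullback.snd gY₁ b) gY₁ b := IsPullback.of_hasPullback _ _
  have houter : IsPullback (pullback.fst gX₁ b) (g₂ ≫ pullback.snd gY₁ b) (g₁ ≫ gY₁) b := by
    rw [h1, hg₁]; exact IsPullback.of_hasPullback _ _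
  have htop : IsPullback (pullback.fst gX₁ b) g₂ g₁ (pullback.fst gY₁ b) :=
    IsPullback.of_bot houter h2.symm hbot
  exact Q.of_isPullback htop hQ

/-- field stability -/
theorem isFieldStablePair : ConsPropPair.IsFieldStablePair (ExQ Q) := by
  intro X X' Y Y' T T' gX gY gX' gY' eX eY h _ _ _ _ _ _ _ _ hX hY
  constructor
  · rintro ⟨T₁, X₁, Y₁, h₁, gX₁, gY₁, eX₁, eY₁, hint, hsub, p1, p2, g₁, hg₁, hQ₁⟩
    haveI := hint
    haveI := hsub
    obtain ⟨t'⟩ : Nonempty T' := inferInstance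
    obtain ⟨t₁⟩ : Nonempty T₁ := inferInstance
    obtain ⟨z, -, -⟩ := Scheme.Pullback.exists_preimage_pullback (f := h) (g := h₁) t' t₁
      (Subsingleton.elim _ _)
    obtain ⟨T₂, hT₂int, hT₂sub, a, b, hab⟩ : ∃ (T₂ : Scheme.{u}) (_ : IsIntegral T₂)
        (_ : Subsingleton T₂) (a : T₂ ⟶ T') (b : T₂ ⟶ T₁), a ≫ h = b ≫ h₁ :=
      ⟨Spec ((pullback h h₁).residueField z), inferInstance, inferInstance,
        (pullback h h₁).fromSpecResidueField z ≫ pullback.fst h h₁,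
        (pullback h h₁).fromSpecResidueField z ≫ pullback.snd h h₁, by
          simp only [Category.assoc, pullback.condition]⟩
    obtain ⟨g₂, hg₂, hg₂', hQ₂⟩ := exists_baseChange Q gX₁ gY₁ g₁ hg₁ hQ₁ b
    have key : ∀ {W W₁ W' : Scheme.{u}} (gW : W ⟶ T) (gW₁ : W₁ ⟶ T₁) (gW' : W' ⟶ T') (eW₁ : W₁ ⟶ W)
        (eW : W' ⟶ W), IsPullback eW₁ gW₁ gW h₁ → IsPullback eW gW' gW h →
        ∃ e₂ : pullback gW₁ b ⟶ W', IsPullback e₂ (pullback.snd gW₁ b) gW' a := by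
      intro W W₁ W' gW gW₁ gW' eW₁ eW q1 q
      have hc : (pullback.fst gW₁ b ≫ eW₁) ≫ gW = (pullback.snd gW₁ b ≫ a) ≫ h := by
        rw [Category.assoc, q1.w, ← Category.assoc, pullback.condition, Category.assoc, Category.assoc,
          hab]
      refine ⟨q.lift _ _ hc, ?_⟩
      refine IsPullback.of_right ?_ (q.lift_snd _ _ hc) q
      rw [q.lift_fst, hab]
      exact (IsPullback.of_hasPullback gW₁ b).paste_horiz q1
    obtain ⟨eX₂, hX₂⟩ := key gX gX₁ gX' eX₁ eX p1 hX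
    obtain ⟨eY₂, hY₂⟩ := key gY gY₁ gY' eY₁ eY p2 hY
    exact ⟨T₂, pullback gX₁ b, pullback gY₁ b, a, pullback.snd gX₁ b, pullback.snd gY₁ b, eX₂, eY₂,
      hT₂int, hT₂sub, hX₂, hY₂, g₂, hg₂, hQ₂⟩
  · rintro ⟨T₂, X₂, Y₂, h₂, gX₂, gY₂, eX₂, eY₂, hint, hsub, p1, p2, g, hg, hQ⟩
    exact ⟨T₂, X₂, Y₂, h₂ ≫ h, gX₂, gY₂, eX₂ ≫ eX, eY₂ ≫ eY, hint, hsub, p1.paste_horiz hX,
      p2.paste_horiz hY, g, hg, hQ⟩

/-- fibres of a family carrying a morphism with `Q` -/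
theorem exQ_of_family {X Y S Z XZ YZ : Scheme.{u}} (u : X ⟶ S) (v : Y ⟶ S) (f : Z ⟶ S)
    (pX : XZ ⟶ X) (uZ : XZ ⟶ Z) (pY : YZ ⟶ Y) (vZ : YZ ⟶ Z)
    (hX : IsPullback pX uZ u f) (hY : IsPullback pY vZ v f) (gZ : XZ ⟶ YZ) (hg : gZ ≫ vZ = uZ)
    (hQ : Q gZ) (z : Z) :
    ExQ Q (u.fiberToSpecResidueField (f z)) (v.fiberToSpecResidueField (f z)) := by
  obtain ⟨g₂, hg₂, -, hQ₂⟩ := exists_baseChange Q uZ vZ gZ hg hQ (Z.fromSpecResidueField z)
  exact ⟨Spec (Z.residueField z), uZ.fiber z, vZ.fiber z, Spec.map (f.residueFieldMap z),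
    uZ.fiberToSpecResidueField z, vZ.fiberToSpecResidueField z, _, _, inferInstance, inferInstance,
    isPullback_fiberToSpecResidueField_of_isPullback hX z,
    isPullback_fiberToSpecResidueField_of_isPullback hY z, g₂, hg₂, hQ₂⟩

end Groth.Agent.Lib.Helper25.ConsPair
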