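import Mathlib
import Groth.Agent.Lib.Helper25.ConsPair
import Groth.Agent.S9218
import Groth.Agent.S4585

/-!
# The family clause for relations "some base change admits a morphism with property `Q`" (helper25)

The limit argument: `Spec K` is the limit of the spectra of the finitely generated `A`-subalgebras of
`K`; a morphism between finitely presented schemes over `Spec K` descends to a stage, and so does the
property `Q` when `Q` satisfies the descent statement `Descends Q`.
-/

set_option autoImplicit false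
set_option linter.unusedSectionVars false
set_option linter.unusedVariables false
set_option linter.style.haveILetI false
universe u

open CategoryTheory CategoryTheory.Limits AlgebraicGeometry

namespace Groth.Agent.Lib.Helper25.ConsPair

section Ring

variable (A K : Type u) [CommRing A] [CommRing K] [Algebra A K]

/-- the diagram of subalgebras generated by finite subsets -/
noncomputable def fgDiag : Finset K ⥤ CommRingCat.{u} where
  obj s := CommRingCat.of (Algebra.adjoin A (s : Set K))
  map {s t} f := CommRingCat.ofHom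
    (Subalgebra.inclusion (Algebra.adjoin_mono (Finset.coe_subset.mpr (leOfHom f)))).toRingHom
  map_id s := by ext x; rfl
  map_comp f g := by ext x; rfl

/-- the cocone with vertex `K` -/
noncomputable def fgCocone : Cocone (fgDiag A K) where
  pt := CommRingCat.of K
  ι :=
    { app := fun s => CommRingCat.ofHom (Algebra.adjoin A (s : Set K)).val.toRingHom
      naturality := fun s t f => by ext x; rfl }

/-- `K` is the filtered colimit of its finitely generated subalgebras -/
noncomputable def fgIsColimit : IsColimit (fgCocone A K) := by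
  haveI : ReflectsColimit (fgDiag A K) (forget CommRingCat.{u}) :=
    reflectsColimit_of_reflectsIsomorphisms _ _
  apply isColimitOfReflects (forget CommRingCat.{u})
  apply Types.FilteredColimit.isColimitOf
  · intro x
    exact ⟨{x}, ⟨x, Algebra.subset_adjoin (Finset.mem_coe.mpr (Finset.mem_singleton_self x))⟩, rfl⟩
  · intro s t x y hxy
    classical
    refine ⟨s ∪ t, homOfLE Finset.subset_union_left, homOfLE Finset.subset_union_right, ?_⟩
    apply Subtype.ext
    exact hxy

/-- the diagram of spectra -/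
noncomputable def specDiag : (Finset K)ᵒᵖ ⥤ Scheme.{u} := (fgDiag A K).op ⋙ Scheme.Spec

/-- the cone with vertex `Spec K` -/
noncomputable def specCone : Cone (specDiag A K) := Scheme.Spec.mapCone (fgCocone A K).op

/-- it is a limit cone -/
noncomputable def specIsLimit : IsLimit (specCone A K) :=
  isLimitOfPreserves Scheme.Spec (fgIsColimit A K).op

instance (s : (Finset K)ᵒᵖ) : IsAffine ((specDiag A K).obj s) := by
  dsimp [specDiag]; infer_instance

instance {s t : (Finset K)ᵒᵖ} (f : s ⟶ t) : IsAffineHom ((specDiag A K).map f) := by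
  infer_instance

lemma specCone_pt : (specCone A K).pt = Spec (CommRingCat.of K) := rfl

/-- structure map to `Spec A` -/
noncomputable def specStr (s : (Finset K)ᵒᵖ) : (specDiag A K).obj s ⟶ Spec (CommRingCat.of A) :=
  Spec.map (CommRingCat.ofHom (algebraMap A (Algebra.adjoin A (s.unop : Set K))))

lemma specDiag_map_str {s t : (Finset K)ᵒᵖ} (f : s ⟶ t) :
    (specDiag A K).map f ≫ specStr A K t = specStr A K s :=
  (Spec.map_comp (CommRingCat.ofHom (algebraMap A (Algebra.adjoin A (t.unop : Set K))))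
    ((fgDiag A K).map f.unop)).symm.trans (congrArg Spec.map (by ext x; rfl))

/-- the map `Spec K ⟶ Spec A` -/
noncomputable def specτ : (specCone A K).pt ⟶ Spec (CommRingCat.of A) :=
  Spec.map (CommRingCat.ofHom (algebraMap A K))

lemma specCone_π_str (s : (Finset K)ᵒᵖ) :
    (specCone A K).π.app s ≫ specStr A K s = specτ A K :=
  (Spec.map_comp (CommRingCat.ofHom (algebraMap A (Algebra.adjoin A (s.unop : Set K))))
    ((fgCocone A K).ι.app s.unop)).symm.trans (congrArg Spec.map (by ext x; rfl))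

instance (s : (Finset K)ᵒᵖ) : LocallyOfFiniteType (specStr A K s) := by
  have h : (algebraMap A (Algebra.adjoin A (s.unop : Set K))).FiniteType := by
    rw [RingHom.finiteType_algebraMap]
    exact ⟨(Subalgebra.fg_top _).mpr (Subalgebra.fg_adjoin_finset s.unop)⟩
  exact (HasRingHomProperty.Spec_iff (P := @LocallyOfFiniteType)
    (φ := CommRingCat.ofHom (algebraMap A (Algebra.adjoin A (s.unop : Set K))))).mpr h

end Ring

/-- the descent statement for a property of morphisms, in the shape of EGA IV 8.10.5 -/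
def Descends (Q : MorphismProperty Scheme.{u}) : Prop :=
  ∀ {I : Type u} [SmallCategory I] [IsCofiltered I] (D : I ⥤ Scheme.{u}) (c : Cone D)
    (hc : IsLimit c) [∀ (i j : I) (f : i ⟶ j), IsAffineHom (D.map f)] (i₀ : I)
    [IsAffine (D.obj i₀)] {X₀ Y₀ : Scheme.{u}} (f₀ : X₀ ⟶ Y₀) (g₀ : Y₀ ⟶ D.obj i₀)
    [LocallyOfFinitePresentation g₀] [QuasiCompact g₀] [QuasiSeparated g₀]
    [LocallyOfFinitePresentation (f₀ ≫ g₀)] [QuasiCompact (f₀ ≫ g₀)] [QuasiSeparated (f₀ ≫ g₀)]
    [CompactSpace X₀] [QuasiSeparatedSpace X₀] [CompactSpace Y₀] [QuasiSeparatedSpace Y₀]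
    [LocallyOfFiniteType f₀]
    {X Y : Scheme.{u}} (f : X ⟶ Y) (g : Y ⟶ c.pt) (qY : Y ⟶ Y₀) (qX : X ⟶ X₀)
    (hY : IsPullback qY g g₀ (c.π.app i₀)) (hX : IsPullback qX f f₀ qY), Q f →
    ∃ (i : I) (φ : i ⟶ i₀) (Xi Yi : Scheme.{u}) (fi : Xi ⟶ Yi) (gi : Yi ⟶ D.obj i)
      (pY : Yi ⟶ Y₀) (pX : Xi ⟶ X₀),
      IsPullback pY gi g₀ (D.map φ) ∧ IsPullback pX fi f₀ pY ∧ Q fi

variable (Q : MorphismProperty Scheme.{u}) [Q.IsStableUnderBaseChange]

section Stage

variable (A K : Type u) [CommRing A] [CommRing K] [Algebra A K]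

set_option maxHeartbeats 1600000 in
/-- spreading out a morphism with `Q` over `Spec K` to a finite type `A`-stage -/
theorem exists_stage (hQ : Descends Q) {X Y S : Scheme.{u}} (u : X ⟶ S) (v : Y ⟶ S)
    [IsLocallyNoetherian S]
    [LocallyOfFiniteType u] [QuasiCompact u] [LocallyOfFiniteType v] [QuasiCompact v]
    (ι : Spec (CommRingCat.of A) ⟶ S) [LocallyOfFiniteType ι]
    {X' Y' : Scheme.{u}} (a : X' ⟶ X) (b : Y' ⟶ Y) (gX : X' ⟶ (specCone A K).pt)
    (gY : Y' ⟶ (specCone A K).pt)
    (hX : IsPullback a gX u (specτ A K ≫ ι))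
    (hY : IsPullback b gY v (specτ A K ≫ ι))
    (g : X' ⟶ Y') (hg : g ≫ gY = gX) (hQg : Q g) :
    ∃ (Z : Scheme.{u}) (f : Z ⟶ S) (_ : LocallyOfFiniteType f) (XZ YZ : Scheme.{u}) (pX : XZ ⟶ X)
      (uZ : XZ ⟶ Z) (pY : YZ ⟶ Y) (vZ : YZ ⟶ Z) (_ : IsPullback pX uZ u f)
      (_ : IsPullback pY vZ v f) (gZ : XZ ⟶ YZ), gZ ≫ vZ = uZ ∧ Q gZ ∧
      Set.range (specτ A K ≫ ι) ⊆ Set.range f := by
  classical
  -- the structure maps to `S`
  let tS : ∀ s, (specDiag A K).obj s ⟶ S := fun s => specStr A K s ≫ ι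
  have htS_map : ∀ {s t : (Finset K)ᵒᵖ} (f : s ⟶ t), (specDiag A K).map f ≫ tS t = tS s :=
    fun f => by simp only [tS]; rw [← Category.assoc, specDiag_map_str]
  have hcS : ∀ s, (specCone A K).π.app s ≫ tS s = specτ A K ≫ ι :=
    fun s => by simp only [tS]; rw [← Category.assoc, specCone_π_str]
  haveI : ∀ s, LocallyOfFiniteType (tS s) := fun s => by simp only [tS]; infer_instance
  haveI : ∀ s, IsLocallyNoetherian ((specDiag A K).obj s) :=
    fun s => LocallyOfFiniteType.isLocallyNoetherian (tS s)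
  let i₀ : (Finset K)ᵒᵖ := Opposite.op ∅
  -- stage `i₀`
  let xi : pullback u (tS i₀) ⟶ (specDiag A K).obj i₀ := pullback.snd u (tS i₀)
  let yi : pullback v (tS i₀) ⟶ (specDiag A K).obj i₀ := pullback.snd v (tS i₀)
  haveI : CompactSpace ↥(pullback u (tS i₀)) := QuasiCompact.compactSpace_of_compactSpace xi
  haveI : CompactSpace ↥(pullback v (tS i₀)) := QuasiCompact.compactSpace_of_compactSpace yi
  haveI : LocallyOfFinitePresentation xi := inferInstance
  haveI : LocallyOfFinitePresentation yi := inferInstance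
  have hτ0 : (specCone A K).π.app i₀ ≫ tS i₀ = specτ A K ≫ ι := hcS i₀
  let qX : X' ⟶ pullback u (tS i₀) := pullback.lift a (gX ≫ (specCone A K).π.app i₀)
    (by rw [Category.assoc, hτ0]; exact hX.w)
  let qY : Y' ⟶ pullback v (tS i₀) := pullback.lift b (gY ≫ (specCone A K).π.app i₀)
    (by rw [Category.assoc, hτ0]; exact hY.w)
  have hX3 : IsPullback qX gX xi ((specCone A K).π.app i₀) := by
    refine IsPullback.of_right ?_ (pullback.lift_snd _ _ _) (IsPullback.of_hasPullback u (tS i₀))
    rw [pullback.lift_fst, hτ0]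
    exact hX
  have hY3 : IsPullback qY gY yi ((specCone A K).π.app i₀) := by
    refine IsPullback.of_right ?_ (pullback.lift_snd _ _ _) (IsPullback.of_hasPullback v (tS i₀))
    rw [pullback.lift_fst, hτ0]
    exact hY
  obtain ⟨j, φ, fj, sX, sY, h1, h2, h3, h4, h5, h6⟩ :=
    Groth.Agent.S9218.result (specDiag A K) (specCone A K) (specIsLimit A K) i₀ xi yi qX gX hX3
      qY gY hY3 g hg
  -- the squares at stage `j`
  have hcφ : (specCone A K).π.app j ≫ (specDiag A K).map φ = (specCone A K).π.app i₀ :=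
    (specCone A K).w φ
  have hY4 : IsPullback sY gY (pullback.snd yi ((specDiag A K).map φ))
      ((specCone A K).π.app j) := by
    refine IsPullback.of_right ?_ h5 (IsPullback.of_hasPullback yi ((specDiag A K).map φ))
    rw [h4, hcφ]
    exact hY3
  have hX4 : IsPullback sX gX (pullback.snd xi ((specDiag A K).map φ))
      ((specCone A K).π.app j) := by
    refine IsPullback.of_right ?_ h3 (IsPullback.of_hasPullback xi ((specDiag A K).map φ))
    rw [h2, hcφ]
    exact hX3
  have hX5 : IsPullback sX g fj sY := by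
    refine IsPullback.of_bot ?_ h6 hY4
    rw [hg, h1]
    exact hX4
  -- instances at stage `j`
  haveI : IsLocallyNoetherian (pullback yi ((specDiag A K).map φ)) := inferInstance
  haveI : IsLocallyNoetherian (pullback xi ((specDiag A K).map φ)) := inferInstance
  haveI : LocallyOfFinitePresentation (pullback.snd yi ((specDiag A K).map φ)) := inferInstance
  haveI : QuasiCompact (pullback.snd yi ((specDiag A K).map φ)) := inferInstance
  haveI : QuasiSeparated (pullback.snd yi ((specDiag A K).map φ)) := inferInstance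
  haveI : LocallyOfFinitePresentation (fj ≫ pullback.snd yi ((specDiag A K).map φ)) := by
    rw [h1]; infer_instance
  haveI : QuasiCompact (fj ≫ pullback.snd yi ((specDiag A K).map φ)) := by
    rw [h1]; infer_instance
  haveI : QuasiSeparated (fj ≫ pullback.snd yi ((specDiag A K).map φ)) := by
    rw [h1]; infer_instance
  haveI : CompactSpace ↥(pullback xi ((specDiag A K).map φ)) :=
    QuasiCompact.compactSpace_of_compactSpace (pullback.snd xi ((specDiag A K).map φ))
  haveI : CompactSpace ↥(pullback yi ((specDiag A K).map φ)) :=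
    QuasiCompact.compactSpace_of_compactSpace (pullback.snd yi ((specDiag A K).map φ))
  haveI : LocallyOfFiniteType fj := by
    haveI : LocallyOfFiniteType (fj ≫ pullback.snd yi ((specDiag A K).map φ)) := inferInstance
    exact locallyOfFiniteType_of_comp fj (pullback.snd yi ((specDiag A K).map φ))
  obtain ⟨i, φ', Xi, Yi, fi, gi, pY, pX, hpY, hpX, hQi⟩ :=
    hQ (specDiag A K) (specCone A K) (specIsLimit A K) j fj
      (pullback.snd yi ((specDiag A K).map φ)) g gY sY sX hY4 hX5 hQg
  -- the family over the stage `i`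
  have htSi : ((specDiag A K).map φ' ≫ (specDiag A K).map φ) ≫ tS i₀ = tS i := by
    rw [Category.assoc, htS_map φ, htS_map φ']
  have hYZ : IsPullback ((pY ≫ pullback.fst yi ((specDiag A K).map φ)) ≫ pullback.fst v (tS i₀))
      gi v (tS i) := by
    have := (hpY.paste_horiz (IsPullback.of_hasPullback yi ((specDiag A K).map φ))).paste_horiz
      (IsPullback.of_hasPullback v (tS i₀))
    rw [htSi] at this
    exact this
  have hpX' : IsPullback pX (fi ≫ gi) (pullback.snd xi ((specDiag A K).map φ))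
      ((specDiag A K).map φ') := by
    have := hpX.paste_vert hpY
    rw [h1] at this
    exact this
  have hXZ : IsPullback ((pX ≫ pullback.fst xi ((specDiag A K).map φ)) ≫ pullback.fst u (tS i₀))
      (fi ≫ gi) u (tS i) := by
    have := (hpX'.paste_horiz (IsPullback.of_hasPullback xi ((specDiag A K).map φ))).paste_horiz
      (IsPullback.of_hasPullback u (tS i₀))
    rw [htSi] at this
    exact this
  refine ⟨(specDiag A K).obj i, tS i, inferInstance, Xi, Yi, _, fi ≫ gi, _, gi, hXZ, hYZ, fi, rfl,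
    hQi, ?_⟩
  rw [← hcS i]
  rintro _ ⟨x, rfl⟩
  exact ⟨(specCone A K).π.app i x, rfl⟩

end Stage

set_option maxHeartbeats 1600000 in
/-- the family clause -/
theorem family_clause (hQ : Descends Q) {X Y S : Scheme.{u}} (u : X ⟶ S) (v : Y ⟶ S)
    [IsIntegral S] [IsNoetherian S]
    [LocallyOfFiniteType u] [QuasiCompact u] [LocallyOfFiniteType v] [QuasiCompact v]
    (h : genericPoint S ∈ ConsPropPair.locusPair (ExQ Q) u v) :
    (interior (ConsPropPair.locusPair (ExQ Q) u v)).Nonempty := by
  obtain ⟨T', X', Y', τ₀, gX', gY', eX, eY, hint, hsub, hpX, hpY, g, hg, hQg⟩ := h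
  haveI := hint
  haveI := hsub
  -- the map to `S`
  let τ : T' ⟶ S := τ₀ ≫ S.fromSpecResidueField (genericPoint S)
  have hτpt : ∀ t : T', τ t = genericPoint S := fun t => by
    simp only [τ, Scheme.Hom.comp_apply, Scheme.fromSpecResidueField_apply]
  have hX1 : IsPullback (eX ≫ u.fiberι (genericPoint S)) gX' u τ :=
    hpX.paste_horiz (IsPullback.of_hasPullback u (S.fromSpecResidueField (genericPoint S)))
  have hY1 : IsPullback (eY ≫ v.fiberι (genericPoint S)) gY' v τ :=
    hpY.paste_horiz (IsPullback.of_hasPullback v (S.fromSpecResidueField (genericPoint S)))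
  -- an affine open neighbourhood of the generic point
  obtain ⟨U₀, hU₀, hηU₀, -⟩ := exists_isAffineOpen_mem_and_subset (X := S) (x := genericPoint S)
    (U := ⊤) (by simp)
  have hτU : (⊤ : T'.Opens) ≤ τ ⁻¹ᵁ U₀ := fun t _ => by
    change τ t ∈ U₀
    rw [hτpt]
    exact hηU₀
  letI : Algebra Γ(S, U₀) Γ(T', ⊤) := (τ.appLE U₀ ⊤ hτU).hom.toAlgebra
  let ε : T' ≅ (specCone Γ(S, U₀) Γ(T', ⊤)).pt := T'.isoSpec
  let ι : Spec (CommRingCat.of Γ(S, U₀)) ⟶ S := hU₀.fromSpec
  haveI : LocallyOfFiniteType ι := by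
    haveI : IsOpenImmersion ι := inferInstanceAs (IsOpenImmersion hU₀.fromSpec)
    infer_instance
  have hfac : ε.hom ≫ specτ Γ(S, U₀) Γ(T', ⊤) ≫ ι = τ := by
    have h1 : Spec.map (τ.appLE U₀ ⊤ hτU) ≫ hU₀.fromSpec = (isAffineOpen_top T').fromSpec ≫ τ :=
      IsAffineOpen.SpecMap_appLE_fromSpec τ hU₀ (isAffineOpen_top T') hτU
    rw [IsAffineOpen.fromSpec_top] at h1
    have h2 : specτ Γ(S, U₀) Γ(T', ⊤) ≫ ι = ε.inv ≫ τ := h1
    rw [h2, Iso.hom_inv_id_assoc]
  have hX2 : IsPullback (eX ≫ u.fiberι (genericPoint S)) (gX' ≫ ε.hom) u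
      (specτ Γ(S, U₀) Γ(T', ⊤) ≫ ι) :=
    IsPullback.of_iso hX1 (Iso.refl _) (Iso.refl _) ε (Iso.refl _) (by simp) (by simp) (by simp)
      (by rw [Iso.refl_hom, Category.comp_id, hfac])
  have hY2 : IsPullback (eY ≫ v.fiberι (genericPoint S)) (gY' ≫ ε.hom) v
      (specτ Γ(S, U₀) Γ(T', ⊤) ≫ ι) :=
    IsPullback.of_iso hY1 (Iso.refl _) (Iso.refl _) ε (Iso.refl _) (by simp) (by simp) (by simp)
      (by rw [Iso.refl_hom, Category.comp_id, hfac])
  obtain ⟨Z, f, hf, XZ, YZ, pX, uZ, pY, vZ, hXZ, hYZ, gZ, hgZ, hQZ, hrange⟩ :=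
    exists_stage Q Γ(S, U₀) Γ(T', ⊤) hQ u v ι _ _ (gX' ≫ ε.hom) (gY' ≫ ε.hom) hX2 hY2 g
      (by rw [← Category.assoc, hg]) hQg
  haveI := hf
  have hηf : genericPoint S ∈ Set.range f := by
    obtain ⟨t⟩ : Nonempty T' := inferInstance
    apply hrange
    refine ⟨ε.hom t, ?_⟩
    have := hτpt t
    rw [← hfac] at this
    exact this
  have hint := Groth.Agent.S4585.result f hηf
  have hsub : Set.range f ⊆ ConsPropPair.locusPair (ExQ Q) u v := by
    rintro _ ⟨z, rfl⟩
    exact exQ_of_family Q u v f pX uZ pY vZ hXZ hYZ gZ hgZ hQZ z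
  exact ⟨genericPoint S, interior_mono hsub hint⟩

/-- ind-constructibility of the relation `ExQ Q` -/
theorem isIndConsPair (hQ : Descends Q) : ConsPropPair.IsIndConsPair (ExQ Q) :=
  ⟨isFieldStablePair Q, fun _ _ _ u v _ _ _ _ _ _ h => family_clause Q hQ u v h⟩

end Groth.Agent.Lib.Helper25.ConsPair
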