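import Groth.Agent.Lib.Helper25.ProConsScheme

/-!
# Helper library (helper25): pro/ind-constructible sets, part 2
(constructible sets as neighbourhoods in point closures; open sets are ind-constructible)
-/

set_option autoImplicit false
universe u
open Topology Set AlgebraicGeometry
open scoped Set.Notation

namespace Groth.Agent.Lib.Helper25.PC

section Nbhd
variable {X : Type*} [TopologicalSpace X]

/-- a constructible set contains, for each of its points `z`, a relatively open neighbourhood of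
`z` in `closure {z}` -/
theorem exists_open_inter_closure_subset [CompactSpace X] [QuasiSeparatedSpace X]
    [PrespectralSpace X] {T : Set X} (hT : IsConstructible T) :
    ∀ z ∈ T, ∃ O, IsOpen O ∧ z ∈ O ∧ O ∩ closure {z} ⊆ T := by
  let ι := {U : Set X // IsOpen U ∧ IsCompact U}
  have : Nonempty ι := ⟨⟨∅, isOpen_empty, isCompact_empty⟩⟩
  have hb : TopologicalSpace.IsTopologicalBasis (range (Subtype.val : ι → Set X)) := by
    have : range (Subtype.val : ι → Set X) = {U : Set X | IsOpen U ∧ IsCompact U} :=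
      Subtype.range_coe
    rw [this]
    exact PrespectralSpace.isTopologicalBasis
  induction T, hT using IsConstructible.induction_of_isTopologicalBasis (Subtype.val : ι → Set X)
    hb (fun i => i.2.2) with
  | sdiff i s hs =>
    rintro z ⟨hzi, hzs⟩
    refine ⟨i.1, i.2.1, hzi, ?_⟩
    rintro w ⟨hwi, hwz⟩
    refine ⟨hwi, ?_⟩
    intro hws
    apply hzs
    obtain ⟨j, hj, hwj⟩ := mem_iUnion₂.mp hws
    have hsp : z ⤳ w := specializes_iff_mem_closure.mpr hwz
    exact mem_iUnion₂.mpr ⟨j, hj, hsp.mem_open j.2.1 hwj⟩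
  | union s hs t ht hs' ht' =>
    rintro z (hz | hz)
    · obtain ⟨O, hO, hzO, hsub⟩ := hs' z hz
      exact ⟨O, hO, hzO, hsub.trans subset_union_left⟩
    · obtain ⟨O, hO, hzO, hsub⟩ := ht' z hz
      exact ⟨O, hO, hzO, hsub.trans subset_union_right⟩

theorem _root_.IsOpen.isPO [PrespectralSpace X] {s : Set X} (hs : IsOpen s) : IsPO s := by
  obtain ⟨S, hS, rfl⟩ := PrespectralSpace.isTopologicalBasis.open_eq_sUnion hs
  exact isPO_sUnion (fun U hU => isPO_of_isCompact_isOpen (hS hU).2 (hS hU).1)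

theorem _root_.IsClosed.isPCl [PrespectralSpace X] {s : Set X} (hs : IsClosed s) : IsPCl s :=
  isPCl_iff_compl.mpr hs.isOpen_compl.isPO

theorem _root_.IsOpen.indC [PrespectralSpace X] {s : Set X} (hs : IsOpen s) : IndC s := by
  intro V hV
  have := hV.prespectralSpace
  exact (hs.preimage continuous_subtype_val).isPO

theorem _root_.IsClosed.proC [PrespectralSpace X] {s : Set X} (hs : IsClosed s) : ProC s :=
  proC_iff_indC_compl.mpr hs.isOpen_compl.indC

/-- EGA IV 1.9.10 (necessity): an ind-constructible set is a neighbourhood of each of its points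
`x` inside `closure {x}` -/
theorem IndC.exists_open_inter_closure_subset [PrespectralSpace X] (hX : LocSpectral X) {E : Set X}
    (hE : IndC E) {x : X} (hx : x ∈ E) : ∃ O, IsOpen O ∧ x ∈ O ∧ O ∩ closure {x} ⊆ E := by
  obtain ⟨V, hV, hxV⟩ := hX x
  have := hV.compactSpace
  have := hV.quasiSeparatedSpace
  have := hV.prespectralSpace
  obtain ⟨T, hT, hzT, hTE⟩ := isPO_iff_forall_exists.mp (hE V hV) ⟨x, hxV⟩ hx
  obtain ⟨O', hO', hzO', hsub⟩ := PC.exists_open_inter_closure_subset hT _ hzT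
  refine ⟨Subtype.val '' O', hV.isOpen.isOpenMap_subtype_val _ hO', ⟨⟨x, hxV⟩, hzO', rfl⟩, ?_⟩
  rintro _ ⟨⟨w, hwO', rfl⟩, hwx⟩
  have : w ∈ T := by
    apply hsub
    refine ⟨hwO', ?_⟩
    rw [closure_subtype, image_singleton]
    exact hwx
  exact hTE this

end Nbhd

section Noeth

/-- EGA IV 1.9.10 (sufficiency, locally Noetherian case) -/
theorem indC_of_forall_nhd {X : Scheme.{u}} [IsLocallyNoetherian X] {E : Set X}
    (h : ∀ x ∈ E, ∃ O, IsOpen O ∧ x ∈ O ∧ O ∩ closure {x} ⊆ E) : IndC E := by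
  apply indC_of_forall_exists
  intro x₀
  obtain ⟨V, hV, hxV⟩ := exists_affine_mem x₀
  have hVs := IsAffineOpen.isSpecOpen hV
  refine ⟨V, hVs, hxV, ?_⟩
  have := hVs.compactSpace
  have := hVs.quasiSeparatedSpace
  have : IsNoetherianRing Γ(X, V) := IsLocallyNoetherian.component_noetherian ⟨V, hV⟩
  have : TopologicalSpace.NoetherianSpace (V : Set X) := noetherianSpace_of_isAffineOpen V hV
  rw [isPO_iff_forall_exists]
  intro z hz
  obtain ⟨O, hO, hzO, hsub⟩ := h z.1 hz
  refine ⟨((V : Set X) ↓∩ O) ∩ ((V : Set X) ↓∩ closure {z.1}), ?_, ⟨hzO, subset_closure rfl⟩, ?_⟩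
  · apply IsConstructible.inter
    · exact (TopologicalSpace.NoetherianSpace.isCompact _).isConstructible (hO.preimage continuous_subtype_val)
    · have hc : IsClosed ((V : Set X) ↓∩ closure {z.1}) :=
        isClosed_closure.preimage continuous_subtype_val
      have := (TopologicalSpace.NoetherianSpace.isCompact _).isConstructible hc.isOpen_compl
      rwa [isConstructible_compl] at this
  · rintro w ⟨hwO, hwc⟩
    exact hsub ⟨hwO, hwc⟩

theorem nhd_subtype_iff {X : Type*} [TopologicalSpace X] {E : Set X} {x : X} :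
    (Subtype.val ⁻¹' E : Set ↥(closure ({x} : Set X))) ∈
        nhds (⟨x, subset_closure rfl⟩ : ↥(closure ({x} : Set X))) ↔
      ∃ O, IsOpen O ∧ x ∈ O ∧ O ∩ closure {x} ⊆ E := by
  rw [mem_nhds_subtype]
  constructor
  · rintro ⟨u, hu, hsub⟩
    obtain ⟨O, hOu, hO, hxO⟩ := mem_nhds_iff.mp hu
    refine ⟨O, hO, hxO, ?_⟩
    rintro w ⟨hwO, hwc⟩
    exact hsub (show (⟨w, hwc⟩ : ↥(closure ({x} : Set X))) ∈ Subtype.val ⁻¹' u from hOu hwO)
  · rintro ⟨O, hO, hxO, hsub⟩
    refine ⟨O, hO.mem_nhds hxO, ?_⟩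
    intro w hw
    exact hsub ⟨hw, w.2⟩

end Noeth

section Generization

/-- topological core of EGA IV 1.10.3: for a spectral map `g` of spectral spaces, if every compact
open neighbourhood of `z` meets the fibre over `v'`, then some generization of `z` maps to `v'`. -/
theorem exists_specializes_of_forall_compactOpen {U V : Type*} [TopologicalSpace U]
    [TopologicalSpace V] [CompactSpace U] [QuasiSober U] [PrespectralSpace U]
    [QuasiSeparatedSpace U] [T0Space V] [PrespectralSpace V] {g : U → V} (hg : IsSpectralMap g)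
    (z : U) (v' : V)
    (h : ∀ W : Set U, IsOpen W → IsCompact W → z ∈ W → ∃ w ∈ W, g w = v') :
    ∃ w, w ⤳ z ∧ g w = v' := by
  let 𝒩 : Set (Set U) := {W | IsOpen W ∧ IsCompact W ∧ z ∈ W}
  have hfib : IsPCl (g ⁻¹' {v'}) := by
    apply IsPCl.preimage hg
    have := @t2Space_patch V _ _ _
    exact @isClosed_singleton V (constructibleTopology V) _ v'
  by_contra hcon
  push Not at hcon
  have hempty : g ⁻¹' {v'} ∩ ⋂ W : 𝒩, (W : Set U) = ∅ := by
    rw [eq_empty_iff_forall_notMem]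
    rintro w ⟨hw1, hw2⟩
    refine hcon w ?_ hw1
    rw [specializes_iff_forall_open]
    intro s hs hzs
    obtain ⟨W, ⟨hWo, hWc⟩, hzW, hWs⟩ :=
      PrespectralSpace.isTopologicalBasis.mem_nhds_iff.mp (hs.mem_nhds hzs)
    exact hWs (mem_iInter.mp hw2 ⟨W, hWo, hWc, hzW⟩)
  have hK : @IsCompact U (constructibleTopology U) (g ⁻¹' {v'}) :=
    @IsClosed.isCompact U (constructibleTopology U) _ compactSpace_patch hfib
  obtain ⟨J, hJ⟩ := @IsCompact.elim_finite_subfamily_closed U (constructibleTopology U) _ 𝒩 hK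
    (fun W => (W : Set U)) (fun W => isPCl_of_isCompact_isOpen W.2.2.1 W.2.1) hempty
  have hWJ : IsCompact (⋂₀ ((fun W : 𝒩 => (W : Set U)) '' (J : Set 𝒩))) := by
    apply QuasiSeparatedSpace.isCompact_sInter ((J.finite_toSet).image _)
    · rintro _ ⟨W, -, rfl⟩; exact Or.inl W.2.1
    · rintro _ ⟨W, -, rfl⟩; exact W.2.2.1
  have hWJo : IsOpen (⋂₀ ((fun W : 𝒩 => (W : Set U)) '' (J : Set 𝒩))) := by
    apply ((J.finite_toSet).image _).isOpen_sInter
    rintro _ ⟨W, -, rfl⟩; exact W.2.1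
  have hzJ : z ∈ ⋂₀ ((fun W : 𝒩 => (W : Set U)) '' (J : Set 𝒩)) := by
    rintro _ ⟨W, -, rfl⟩; exact W.2.2.2
  obtain ⟨w, hwJ, hgw⟩ := h _ hWJo hWJ hzJ
  have : w ∈ g ⁻¹' {v'} ∩ ⋂ W ∈ J, (W : Set U) := by
    refine ⟨hgw, ?_⟩
    rw [mem_iInter₂]
    intro W hW
    exact hwJ _ ⟨W, hW, rfl⟩
  rw [hJ] at this
  exact this

/-- EGA IV 1.10.3: if images of open neighbourhoods of `x` all contain `y'`, then `y'` lifts to a
generization of `x`. -/
theorem exists_specializes_of_forall_open {X Y : Scheme.{u}} (f : X ⟶ Y) (x : X) (y' : Y)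
    (hy' : y' ⤳ f.base x) (h : ∀ O : Set X, IsOpen O → x ∈ O → y' ∈ f.base '' O) :
    ∃ x', x' ⤳ x ∧ f.base x' = y' := by
  obtain ⟨V, hV, hyV⟩ := exists_affine_mem (f.base x)
  obtain ⟨U, hU, hxU, hUV⟩ := exists_affine_le_preimage f V x hyV
  have hUs := IsAffineOpen.isSpecOpen hU
  have hVs := IsAffineOpen.isSpecOpen hV
  have := hUs.compactSpace
  have := hUs.quasiSeparatedSpace
  have := hUs.prespectralSpace
  have := hUs.quasiSober
  have := hVs.prespectralSpace
  have hy'V : y' ∈ (V : Set Y) := hy'.mem_open V.2 hyV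
  obtain ⟨w, hwz, hgw⟩ := exists_specializes_of_forall_compactOpen
    (isSpectralMap_resMap f hU hV hUV) (⟨x, hxU⟩ : ↥(U : Set X)) (⟨y', hy'V⟩ : ↥(V : Set Y)) (by
      intro W hWo _ hzW
      obtain ⟨e, ⟨w, hwW, rfl⟩, hew⟩ := h (Subtype.val '' W) (U.2.isOpenMap_subtype_val _ hWo)
        ⟨⟨x, hxU⟩, hzW, rfl⟩
      exact ⟨w, hwW, Subtype.ext hew⟩)
  refine ⟨w.1, hwz.map continuous_subtype_val, ?_⟩
  exact congrArg Subtype.val hgw

end Generization

end Groth.Agent.Lib.Helper25.PC
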