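import Groth.Agent.Lib.Helper25.ProCons

/-!
# Helper library (helper25): pro/ind-constructible subsets of schemes
-/

set_option autoImplicit false
universe u
open Topology Set AlgebraicGeometry
open scoped Set.Notation

namespace Groth.Agent.Lib.Helper25.PC

theorem _root_.AlgebraicGeometry.IsAffineOpen.isSpecOpen {X : Scheme.{u}} {U : X.Opens}
    (hU : IsAffineOpen U) : IsSpecOpen (U : Set X) :=
  ⟨U.2, hU.isCompact, hU.isQuasiSeparated⟩

/-- schemes have spectral charts -/
theorem locSpectral (X : Scheme.{u}) : LocSpectral X := by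
  intro x
  obtain ⟨_, ⟨U, hU, rfl⟩, hxU, -⟩ :=
    X.isBasis_affineOpens.exists_subset_of_mem_open (Set.mem_univ x) isOpen_univ
  exact ⟨U, IsAffineOpen.isSpecOpen hU, hxU⟩

theorem isPro_iff (X : Scheme.{u}) {E : Set X} : ProCons.IsProConstructible E ↔ ProC E :=
  isProConstructible_iff (locSpectral X)

theorem isInd_iff (X : Scheme.{u}) {E : Set X} : ProCons.IsIndConstructible E ↔ IndC E :=
  isIndConstructible_iff (locSpectral X)

theorem isInd_iff_isPro_compl (X : Scheme.{u}) {E : Set X} :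
    ProCons.IsIndConstructible E ↔ ProCons.IsProConstructible Eᶜ := by
  rw [isInd_iff, isPro_iff, indC_iff_proC_compl]

theorem isPro_iff_isInd_compl (X : Scheme.{u}) {E : Set X} :
    ProCons.IsProConstructible E ↔ ProCons.IsIndConstructible Eᶜ := by
  rw [isInd_iff, isPro_iff, proC_iff_indC_compl]

section Morphisms
variable {X Y : Scheme.{u}} (f : X ⟶ Y)

theorem resLE_val {U : X.Opens} {V : Y.Opens} (h : U ≤ f ⁻¹ᵁ V) (z : U) :
    ((f.resLE V U h).base z).1 = f.base z.1 := by
  have := congrArg (fun g => g.base z) (Scheme.Hom.resLE_comp_ι f h)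
  exact this

theorem isSpectralMap_resLE {U : X.Opens} {V : Y.Opens} (hU : IsAffineOpen U)
    (hV : IsAffineOpen V) (h : U ≤ f ⁻¹ᵁ V) : IsSpectralMap (f.resLE V U h).base := by
  have : IsAffine U.toScheme := hU
  have : IsAffine V.toScheme := hV
  exact quasiCompact_iff_isSpectralMap.mp inferInstance

/-- the restriction of `f` to opens, as a plain map of subtypes -/
def resMap {U : X.Opens} {V : Y.Opens} (h : U ≤ f ⁻¹ᵁ V) : ↥(U : Set X) → ↥(V : Set Y) :=
  fun z => ⟨f.base z.1, h z.2⟩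

@[simp] theorem resMap_val {U : X.Opens} {V : Y.Opens} (h : U ≤ f ⁻¹ᵁ V) (z : ↥(U : Set X)) :
    (resMap f h z).1 = f.base z.1 := rfl

theorem resMap_eq {U : X.Opens} {V : Y.Opens} (h : U ≤ f ⁻¹ᵁ V) :
    resMap f h = (f.resLE V U h).base :=
  funext fun z => Subtype.ext (resLE_val f h z).symm

theorem isSpectralMap_resMap {U : X.Opens} {V : Y.Opens} (hU : IsAffineOpen U)
    (hV : IsAffineOpen V) (h : U ≤ f ⁻¹ᵁ V) : IsSpectralMap (resMap f h) := by
  rw [resMap_eq]
  exact isSpectralMap_resLE f hU hV h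

/-- every point of the preimage of an open has an affine open nbhd inside the preimage -/
theorem exists_affine_le_preimage (V : Y.Opens) (x : X) (hx : f.base x ∈ V) :
    ∃ U : X.Opens, IsAffineOpen U ∧ x ∈ U ∧ U ≤ f ⁻¹ᵁ V := by
  obtain ⟨_, ⟨U, hU, rfl⟩, hxU, hUV⟩ :=
    X.isBasis_affineOpens.exists_subset_of_mem_open (show x ∈ ((f ⁻¹ᵁ V : X.Opens) : Set X) from hx)
      (f ⁻¹ᵁ V).2
  exact ⟨U, hU, hxU, hUV⟩

theorem exists_affine_mem (x : X) : ∃ U : X.Opens, IsAffineOpen U ∧ x ∈ U := by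
  obtain ⟨_, ⟨U, hU, rfl⟩, hxU, -⟩ :=
    X.isBasis_affineOpens.exists_subset_of_mem_open (Set.mem_univ x) isOpen_univ
  exact ⟨U, hU, hxU⟩

/-- preimages of ind-constructible sets under scheme morphisms -/
theorem IndC.preimage {T : Set Y} (hT : IndC T) : IndC (f.base ⁻¹' T) := by
  apply indC_of_forall_exists
  intro x
  obtain ⟨V, hV, hxV⟩ := exists_affine_mem (f.base x)
  obtain ⟨U, hU, hxU, hUV⟩ := exists_affine_le_preimage f V x hxV
  refine ⟨U, IsAffineOpen.isSpecOpen hU, hxU, ?_⟩
  have hEq : (U : Set X) ↓∩ (f.base ⁻¹' T) = resMap f hUV ⁻¹' ((V : Set Y) ↓∩ T) := rfl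
  rw [hEq]
  exact IsPO.preimage (isSpectralMap_resMap f hU hV hUV) (hT V (IsAffineOpen.isSpecOpen hV))

/-- preimages of pro-constructible sets under scheme morphisms -/
theorem ProC.preimage {T : Set Y} (hT : ProC T) : ProC (f.base ⁻¹' T) := by
  rw [proC_iff_indC_compl] at hT ⊢
  exact IndC.preimage f hT

end Morphisms

section Images
variable {X Y : Scheme.{u}} (f : X ⟶ Y)

theorem isPCl_iUnion_of_finite {W : Type*} [TopologicalSpace W] {ι : Type*} [Finite ι]
    {s : ι → Set W} (h : ∀ i, IsPCl (s i)) : IsPCl (⋃ i, s i) :=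
  @isClosed_iUnion_of_finite W ι (constructibleTopology W) _ s h

/-- EGA IV 1.9.5 (vii): the image of a pro-constructible set under a quasi-compact morphism
is pro-constructible. -/
theorem ProC.image [QuasiCompact f] {E : Set X} (hE : ProC E) : ProC (f.base '' E) := by
  apply proC_of_forall_exists
  intro y
  obtain ⟨V, hV, hyV⟩ := exists_affine_mem y
  refine ⟨V, IsAffineOpen.isSpecOpen hV, hyV, ?_⟩
  have hc : IsCompact (f.base ⁻¹' (V : Set Y)) :=
    QuasiCompact.isCompact_preimage (f := f) V V.2 hV.isCompact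
  have hex : ∀ x ∈ f.base ⁻¹' (V : Set Y), ∃ U : X.Opens, IsAffineOpen U ∧ x ∈ U ∧ U ≤ f ⁻¹ᵁ V :=
    fun x hx => exists_affine_le_preimage f V x hx
  choose! U hU hxU hUV using hex
  obtain ⟨t, hts, hcov⟩ := hc.elim_nhds_subcover (fun x => (U x : Set X))
    (fun x hx => (U x).2.mem_nhds (hxU x hx))
  have hEq : (V : Set Y) ↓∩ (f.base '' E) =
      ⋃ x : t, resMap f (hUV x.1 (hts x.1 x.2)) '' ((U x.1 : Set X) ↓∩ E) := by
    ext z
    constructor
    · rintro ⟨e, heE, hez⟩
      have heV : e ∈ f.base ⁻¹' (V : Set Y) := by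
        rw [mem_preimage, hez]; exact z.2
      obtain ⟨x, hxt, hex⟩ := mem_iUnion₂.mp (hcov heV)
      refine mem_iUnion.mpr ⟨⟨x, hxt⟩, ⟨⟨e, hex⟩, heE, ?_⟩⟩
      exact Subtype.ext hez
    · intro hz
      obtain ⟨x, ⟨e, heE, rfl⟩⟩ := mem_iUnion.mp hz
      exact ⟨e.1, heE, rfl⟩
  rw [hEq]
  apply isPCl_iUnion_of_finite
  intro x
  have hUx := IsAffineOpen.isSpecOpen (hU x.1 (hts x.1 x.2))
  have := hUx.compactSpace
  have := hUx.quasiSeparatedSpace
  have := hUx.prespectralSpace
  have := hUx.quasiSober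
  have := (IsAffineOpen.isSpecOpen hV).prespectralSpace
  exact IsPCl.image (isSpectralMap_resMap f (hU x.1 (hts x.1 x.2)) hV _) (hE _ hUx)

/-- EGA IV 1.9.5 (viii): the image of an ind-constructible set under a morphism locally of finite
presentation is ind-constructible. -/
theorem IndC.image [LocallyOfFinitePresentation f] {E : Set X} (hE : IndC E) :
    IndC (f.base '' E) := by
  apply indC_of_forall_exists
  intro y
  obtain ⟨V, hV, hyV⟩ := exists_affine_mem y
  refine ⟨V, IsAffineOpen.isSpecOpen hV, hyV, ?_⟩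
  have hVs := IsAffineOpen.isSpecOpen hV
  have := hVs.compactSpace
  have := hVs.quasiSeparatedSpace
  rw [isPO_iff_forall_exists]
  rintro z ⟨e, heE, hez⟩
  have heV : f.base e ∈ V := by rw [hez]; exact z.2
  obtain ⟨U, hU, heU, hUV⟩ := exists_affine_le_preimage f V e heV
  have hUs := IsAffineOpen.isSpecOpen hU
  have := hUs.compactSpace
  have := hUs.quasiSeparatedSpace
  obtain ⟨T, hT, heT, hTE⟩ := isPO_iff_forall_exists.mp (hE U hUs) ⟨e, heU⟩ heE
  refine ⟨resMap f hUV '' T, ?_, ⟨⟨e, heU⟩, heT, Subtype.ext hez⟩, ?_⟩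
  · have : IsAffine U.toScheme := hU
    have : IsAffine V.toScheme := hV
    rw [resMap_eq]
    exact (f.resLE V U hUV).isConstructible_image hT
  · rintro _ ⟨w, hw, rfl⟩
    exact ⟨w.1, hTE hw, rfl⟩

end Images

section Descent
variable {X Y : Scheme.{u}} (f : X ⟶ Y)

theorem proC_preimage_iff [Surjective f] (hf : QuasiCompact f ∨ LocallyOfFinitePresentation f)
    {E : Set Y} : ProC (f.base ⁻¹' E) ↔ ProC E := by
  refine ⟨fun h => ?_, fun h => ProC.preimage f h⟩
  rcases hf with hf | hf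
  · have := ProC.image f h
    rwa [image_preimage_eq E f.surjective] at this
  · rw [proC_iff_indC_compl] at h ⊢
    rw [← preimage_compl] at h
    have := IndC.image f h
    rwa [image_preimage_eq Eᶜ f.surjective] at this

theorem indC_preimage_iff [Surjective f] (hf : QuasiCompact f ∨ LocallyOfFinitePresentation f)
    {E : Set Y} : IndC (f.base ⁻¹' E) ↔ IndC E := by
  rw [indC_iff_proC_compl, indC_iff_proC_compl, ← preimage_compl]
  exact proC_preimage_iff f hf

theorem isLocallyConstructible_preimage_iff [Surjective f]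
    (hf : QuasiCompact f ∨ LocallyOfFinitePresentation f) {E : Set Y} :
    IsLocallyConstructible (f.base ⁻¹' E) ↔ IsLocallyConstructible E := by
  rw [isLocallyConstructible_iff (locSpectral X), isLocallyConstructible_iff (locSpectral Y),
    indC_preimage_iff f hf, proC_preimage_iff f hf]

end Descent

end Groth.Agent.Lib.Helper25.PC
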