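import Mathlib

/-!
# A field generated by fractions over `A` as a filtered colimit of finitely presented `A`-algebras
(helper25)

For an `A`-algebra `K` which is a field, every element of which is a fraction of elements of `A`
(e.g. the residue field of a prime of `A`), `K` is the filtered colimit, over finite subsets `σ` of
`A`, of the finitely presented `A`-algebras `(A ⧸ I_σ)[1/t_σ]`, where `I_σ` is generated by the
elements of `σ` vanishing in `K` and `t_σ` is the product of the others.
-/

set_option autoImplicit false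
set_option linter.unusedSectionVars false
set_option linter.unusedVariables false
set_option linter.style.haveILetI false
universe u

open CategoryTheory CategoryTheory.Limits

namespace Groth.Agent.Lib.Helper25.ResLim

open Classical

section Ring

variable (A K : Type u) [CommRing A] [Field K] [Algebra A K]

/-- the ideal generated by the elements of `σ` vanishing in `K` -/
def resIdeal (σ : Finset A) : Ideal A := Ideal.span {a | a ∈ σ ∧ algebraMap A K a = 0}

/-- the product of the elements of `σ` not vanishing in `K` -/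
noncomputable def resElt (σ : Finset A) : A := ∏ a ∈ σ.filter (fun a => algebraMap A K a ≠ 0), a

/-- the stage `(A ⧸ I_σ)[1/t_σ]` -/
abbrev ResAlg (σ : Finset A) : Type u :=
  Localization.Away (Ideal.Quotient.mk (resIdeal A K σ) (resElt A K σ))

variable {A K}

lemma resIdeal_mono {σ τ : Finset A} (h : σ ⊆ τ) : resIdeal A K σ ≤ resIdeal A K τ :=
  Ideal.span_mono fun a ha => ⟨h ha.1, ha.2⟩

lemma resElt_dvd {σ τ : Finset A} (h : σ ⊆ τ) : resElt A K σ ∣ resElt A K τ :=
  Finset.prod_dvd_prod_of_subset _ _ _ (Finset.filter_subset_filter _ h)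

lemma algebraMap_resElt_ne_zero (σ : Finset A) : algebraMap A K (resElt A K σ) ≠ 0 := by
  rw [resElt, map_prod]
  exact Finset.prod_ne_zero_iff.mpr fun a ha => (Finset.mem_filter.mp ha).2

lemma algebraMap_eq_zero_of_mem_resIdeal (σ : Finset A) {a : A} (ha : a ∈ resIdeal A K σ) :
    algebraMap A K a = 0 := by
  have : resIdeal A K σ ≤ RingHom.ker (algebraMap A K) :=
    Ideal.span_le.mpr fun b hb => hb.2
  exact this ha

lemma algebraMap_resAlg_eq (σ : Finset A) (a : A) :
    algebraMap A (ResAlg A K σ) a =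
      algebraMap (A ⧸ resIdeal A K σ) (ResAlg A K σ) (Ideal.Quotient.mk _ a) :=
  rfl

lemma algebraMap_resAlg_eq_zero (σ : Finset A) {a : A} (ha : a ∈ resIdeal A K σ) :
    algebraMap A (ResAlg A K σ) a = 0 := by
  rw [algebraMap_resAlg_eq, Ideal.Quotient.eq_zero_iff_mem.mpr ha, map_zero]

lemma isUnit_algebraMap_resElt (σ : Finset A) :
    IsUnit (algebraMap A (ResAlg A K σ) (resElt A K σ)) := by
  rw [algebraMap_resAlg_eq]
  exact IsLocalization.Away.algebraMap_isUnit _

lemma algebraMap_resAlg_eq_zero_of_mem {σ : Finset A} {a : A} (ha : a ∈ σ)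
    (h0 : algebraMap A K a = 0) : algebraMap A (ResAlg A K σ) a = 0 :=
  algebraMap_resAlg_eq_zero σ (Ideal.subset_span ⟨ha, h0⟩)

lemma isUnit_algebraMap_resAlg_of_mem {σ : Finset A} {a : A} (ha : a ∈ σ)
    (h0 : algebraMap A K a ≠ 0) : IsUnit (algebraMap A (ResAlg A K σ) a) := by
  have hd : a ∣ resElt A K σ := Finset.dvd_prod_of_mem _ (Finset.mem_filter.mpr ⟨ha, h0⟩)
  exact isUnit_of_dvd_unit (map_dvd (algebraMap A (ResAlg A K σ)) hd) (isUnit_algebraMap_resElt σ)

/-- universal property: existence -/
theorem exists_algHom (σ : Finset A) (C : Type u) [CommRing C] [Algebra A C]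
    (h0 : ∀ a ∈ resIdeal A K σ, algebraMap A C a = 0)
    (h1 : IsUnit (algebraMap A C (resElt A K σ))) : Nonempty (ResAlg A K σ →ₐ[A] C) := by
  let ψ : A ⧸ resIdeal A K σ →+* C := Ideal.Quotient.lift _ (algebraMap A C) h0
  have hψ : IsUnit (ψ (Ideal.Quotient.mk _ (resElt A K σ))) := by
    simpa [ψ] using h1
  let θ : ResAlg A K σ →+* C := IsLocalization.Away.lift _ hψ
  refine ⟨{ θ with commutes' := fun a => ?_ }⟩
  change θ (algebraMap A (ResAlg A K σ) a) = _
  rw [algebraMap_resAlg_eq, IsLocalization.Away.lift_eq]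
  simp [ψ]

/-- universal property: uniqueness -/
instance (σ : Finset A) (C : Type u) [CommRing C] [Algebra A C] :
    Subsingleton (ResAlg A K σ →ₐ[A] C) := by
  constructor
  intro f g
  have h : (f : ResAlg A K σ →+* C) = g := by
    apply IsLocalization.ringHom_ext (Submonoid.powers (Ideal.Quotient.mk (resIdeal A K σ)
      (resElt A K σ)))
    apply Ideal.Quotient.ringHom_ext
    ext a
    change f (algebraMap A (ResAlg A K σ) a) = g (algebraMap A (ResAlg A K σ) a)
    rw [f.commutes, g.commutes]
  exact AlgHom.coe_ringHom_injective h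

/-- transition maps -/
noncomputable def resMap {σ τ : Finset A} (h : σ ⊆ τ) : ResAlg A K σ →ₐ[A] ResAlg A K τ :=
  (exists_algHom σ (ResAlg A K τ)
    (fun a ha => algebraMap_resAlg_eq_zero τ (resIdeal_mono h ha))
    (isUnit_of_dvd_unit (map_dvd (algebraMap A (ResAlg A K τ)) (resElt_dvd h))
      (isUnit_algebraMap_resElt τ))).some

/-- the map to `K` -/
noncomputable def resToK (σ : Finset A) : ResAlg A K σ →ₐ[A] K :=
  (exists_algHom σ K (fun a ha => algebraMap_eq_zero_of_mem_resIdeal σ ha)
    (isUnit_iff_ne_zero.mpr (algebraMap_resElt_ne_zero σ))).some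

lemma resMap_refl (σ : Finset A) : resMap (A := A) (K := K) (subset_refl σ) = AlgHom.id A _ :=
  Subsingleton.elim _ _

lemma resMap_trans {σ τ ρ : Finset A} (h1 : σ ⊆ τ) (h2 : τ ⊆ ρ) :
    resMap (A := A) (K := K) (h1.trans h2) = (resMap h2).comp (resMap h1) :=
  Subsingleton.elim _ _

lemma resToK_comp {σ τ : Finset A} (h : σ ⊆ τ) :
    (resToK (A := A) (K := K) τ).comp (resMap h) = resToK σ :=
  Subsingleton.elim _ _

lemma resMap_resMap {σ τ ρ : Finset A} (h1 : σ ⊆ τ) (h2 : τ ⊆ ρ) (x : ResAlg A K σ) :
    resMap h2 (resMap h1 x) = resMap (h1.trans h2) x := by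
  rw [resMap_trans h1 h2]; rfl

lemma resToK_resMap {σ τ : Finset A} (h : σ ⊆ τ) (x : ResAlg A K σ) :
    resToK τ (resMap h x) = resToK σ x := by
  rw [← resToK_comp h]; rfl

/-- an element killed in `K` is killed at a later stage -/
theorem exists_resMap_eq_zero {σ : Finset A} (z : ResAlg A K σ) (hz : resToK σ z = 0) :
    ∃ (τ : Finset A) (h : σ ⊆ τ), resMap h z = 0 := by
  obtain ⟨⟨q, s⟩, hqs⟩ := IsLocalization.mk'_surjective
    (Submonoid.powers (Ideal.Quotient.mk (resIdeal A K σ) (resElt A K σ))) z
  obtain ⟨a, rfl⟩ := Ideal.Quotient.mk_surjective q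
  have hspec : z * algebraMap (A ⧸ resIdeal A K σ) (ResAlg A K σ) s =
      algebraMap A (ResAlg A K σ) a := by
    rw [← hqs, IsLocalization.mk'_spec]; rfl
  have ha : algebraMap A K a = 0 := by
    have := congrArg (resToK σ) hspec
    rw [map_mul, hz, zero_mul, AlgHom.commutes] at this
    exact this.symm
  refine ⟨insert a σ, Finset.subset_insert a σ, ?_⟩
  have hunit : IsUnit (algebraMap (A ⧸ resIdeal A K σ) (ResAlg A K σ) s) :=
    IsLocalization.map_units _ s
  have h2 := congrArg (resMap (A := A) (K := K) (Finset.subset_insert a σ)) hspec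
  rw [map_mul, AlgHom.commutes,
    algebraMap_resAlg_eq_zero_of_mem (Finset.mem_insert_self a σ) ha] at h2
  exact (hunit.map (resMap (Finset.subset_insert a σ))).mul_left_eq_zero.mp h2

theorem exists_resToK_eq
    (hK : ∀ x : K, ∃ a t : A, algebraMap A K t ≠ 0 ∧ x * algebraMap A K t = algebraMap A K a)
    (x : K) : ∃ (σ : Finset A) (y : ResAlg A K σ), resToK σ y = x := by
  obtain ⟨a, t, ht, hx⟩ := hK x
  have hu : IsUnit (algebraMap A (ResAlg A K {t}) t) :=
    isUnit_algebraMap_resAlg_of_mem (Finset.mem_singleton_self t) ht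
  let v : ResAlg A K {t} := ((hu.unit⁻¹ : (ResAlg A K {t})ˣ) : ResAlg A K {t})
  have hv : v * algebraMap A (ResAlg A K {t}) t = 1 := IsUnit.val_inv_mul hu
  refine ⟨{t}, algebraMap A (ResAlg A K {t}) a * v, ?_⟩
  have h1 : resToK {t} (algebraMap A (ResAlg A K {t}) a * v) * algebraMap A K t =
      algebraMap A K a := by
    rw [← AlgHom.commutes (resToK (A := A) (K := K) {t}) t, ← map_mul, mul_assoc,
      hv, mul_one, AlgHom.commutes]
  exact mul_right_cancel₀ ht (h1.trans hx.symm)

theorem exists_resMap_eq {σ τ : Finset A} (x : ResAlg A K σ) (y : ResAlg A K τ)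
    (hxy : resToK σ x = resToK τ y) :
    ∃ (ρ : Finset A) (h1 : σ ⊆ ρ) (h2 : τ ⊆ ρ), resMap h1 x = resMap h2 y := by
  have hσ : σ ⊆ σ ∪ τ := Finset.subset_union_left
  have hτ : τ ⊆ σ ∪ τ := Finset.subset_union_right
  obtain ⟨ρ, hρ, h0⟩ := exists_resMap_eq_zero (A := A) (K := K) (resMap hσ x - resMap hτ y) (by
    rw [map_sub, resToK_resMap, resToK_resMap, hxy, sub_self])
  refine ⟨ρ, hσ.trans hρ, hτ.trans hρ, ?_⟩
  rw [map_sub, resMap_resMap, resMap_resMap, sub_eq_zero] at h0
  exact h0

variable (A K)

/-- the diagram of stages -/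
noncomputable def resDiag : Finset A ⥤ CommRingCat.{u} where
  obj σ := CommRingCat.of (ResAlg A K σ)
  map {σ τ} f := CommRingCat.ofHom (resMap (A := A) (K := K) (leOfHom f)).toRingHom
  map_id σ := by
    ext x
    exact congrArg (fun φ : ResAlg A K σ →ₐ[A] ResAlg A K σ => φ x) (resMap_refl σ)
  map_comp {σ τ ρ} f g := by
    ext x
    exact (resMap_resMap (leOfHom f) (leOfHom g) x).symm

/-- the cocone with vertex `K` -/
noncomputable def resCocone : Cocone (resDiag A K) where
  pt := CommRingCat.of K
  ι :=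
    { app := fun σ => CommRingCat.ofHom (resToK (A := A) (K := K) σ).toRingHom
      naturality := fun σ τ f => by
        ext x
        exact resToK_resMap (leOfHom f) x }

/-- `K` is the colimit when it consists of fractions of elements of `A` -/
noncomputable def resIsColimit
    (hK : ∀ x : K, ∃ a t : A, algebraMap A K t ≠ 0 ∧ x * algebraMap A K t = algebraMap A K a) :
    IsColimit (resCocone A K) := by
  haveI : ReflectsColimit (resDiag A K) (forget CommRingCat.{u}) :=
    reflectsColimit_of_reflectsIsomorphisms _ _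
  apply isColimitOfReflects (forget CommRingCat.{u})
  apply Types.FilteredColimit.isColimitOf
  · intro x
    obtain ⟨σ, y, hy⟩ := exists_resToK_eq hK x
    exact ⟨σ, y, hy.symm⟩
  · intro σ τ x y hxy
    obtain ⟨ρ, h1, h2, h⟩ := exists_resMap_eq (A := A) (K := K) x y hxy
    exact ⟨ρ, homOfLE h1, homOfLE h2, h⟩

instance finitePresentation (σ : Finset A) : Algebra.FinitePresentation A (ResAlg A K σ) := by
  haveI : Algebra.FinitePresentation A (A ⧸ resIdeal A K σ) := by
    apply Algebra.FinitePresentation.quotient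
    apply Submodule.fg_span
    exact Set.Finite.subset σ.finite_toSet fun a ha => ha.1
  infer_instance

end Ring

section Sch

open AlgebraicGeometry

variable (A K : Type u) [CommRing A] [Field K] [Algebra A K]

/-- the diagram of spectra -/
noncomputable def specDiag : (Finset A)ᵒᵖ ⥤ Scheme.{u} := (resDiag A K).op ⋙ Scheme.Spec

/-- the cone with vertex `Spec K` -/
noncomputable def specCone : Cone (specDiag A K) := Scheme.Spec.mapCone (resCocone A K).op

/-- it is a limit cone -/
noncomputable def specIsLimit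
    (hK : ∀ x : K, ∃ a t : A, algebraMap A K t ≠ 0 ∧ x * algebraMap A K t = algebraMap A K a) :
    IsLimit (specCone A K) :=
  isLimitOfPreserves Scheme.Spec (resIsColimit A K hK).op

instance (s : (Finset A)ᵒᵖ) : IsAffine ((specDiag A K).obj s) := by
  dsimp [specDiag]; infer_instance

instance {s t : (Finset A)ᵒᵖ} (f : s ⟶ t) : IsAffineHom ((specDiag A K).map f) := by
  infer_instance

/-- structure map to `Spec A` -/
noncomputable def specStr (s : (Finset A)ᵒᵖ) : (specDiag A K).obj s ⟶ Spec (CommRingCat.of A) :=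
  Spec.map (CommRingCat.ofHom (algebraMap A (ResAlg A K s.unop)))

/-- the map `Spec K ⟶ Spec A` -/
noncomputable def specτ : (specCone A K).pt ⟶ Spec (CommRingCat.of A) :=
  Spec.map (CommRingCat.ofHom (algebraMap A K))

lemma specDiag_map_str {s t : (Finset A)ᵒᵖ} (f : s ⟶ t) :
    (specDiag A K).map f ≫ specStr A K t = specStr A K s :=
  (Spec.map_comp (CommRingCat.ofHom (algebraMap A (ResAlg A K t.unop)))
    ((resDiag A K).map f.unop)).symm.trans (congrArg Spec.map (by
      ext x
      exact (resMap (A := A) (K := K) (leOfHom f.unop)).commutes x))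

lemma specCone_π_str (s : (Finset A)ᵒᵖ) :
    (specCone A K).π.app s ≫ specStr A K s = specτ A K :=
  (Spec.map_comp (CommRingCat.ofHom (algebraMap A (ResAlg A K s.unop)))
    ((resCocone A K).ι.app s.unop)).symm.trans (congrArg Spec.map (by
      ext x
      exact (resToK (A := A) (K := K) s.unop).commutes x))

instance (s : (Finset A)ᵒᵖ) : LocallyOfFinitePresentation (specStr A K s) := by
  have h : (algebraMap A (ResAlg A K s.unop)).FinitePresentation := by
    rw [RingHom.finitePresentation_algebraMap]
    infer_instance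
  exact (HasRingHomProperty.Spec_iff (P := @LocallyOfFinitePresentation)
    (φ := CommRingCat.ofHom (algebraMap A (ResAlg A K s.unop)))).mpr h

instance (s : (Finset A)ᵒᵖ) : IsPreimmersion (specStr A K s) := by
  have h1 : IsClosedImmersion (Spec.map (CommRingCat.ofHom
      (Ideal.Quotient.mk (resIdeal A K s.unop)))) :=
    IsClosedImmersion.spec_of_surjective _ Ideal.Quotient.mk_surjective
  have h2 : IsOpenImmersion (Spec.map (CommRingCat.ofHom (algebraMap (A ⧸ resIdeal A K s.unop)
      (ResAlg A K s.unop)))) := inferInstance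
  have e : specStr A K s = Spec.map (CommRingCat.ofHom (algebraMap (A ⧸ resIdeal A K s.unop)
      (ResAlg A K s.unop))) ≫ Spec.map (CommRingCat.ofHom
      (Ideal.Quotient.mk (resIdeal A K s.unop))) := by
    rw [← Spec.map_comp]; rfl
  rw [e]
  have h3 : IsPreimmersion (Spec.map (CommRingCat.ofHom
      (Ideal.Quotient.mk (resIdeal A K s.unop)))) := inferInstance
  have h4 : IsPreimmersion (Spec.map (CommRingCat.ofHom (algebraMap (A ⧸ resIdeal A K s.unop)
      (ResAlg A K s.unop)))) :=
    @IsImmersion.toIsPreimmersion _ _ _ (@IsImmersion.instOfIsOpenImmersion _ _ _ h2)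
  exact @IsPreimmersion.comp _ _ _ _ _ h4 h3

end Sch

end Groth.Agent.Lib.Helper25.ResLim
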