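import Mathlib
import Groth.Agent.Lib.Helper25.ConsPairLim
import Groth.Agent.Lib.Helper25.ResLim
import Groth.Agent.Lib.Helper25.ProConsScheme

/-!
# Ind-constructibility of the locus where the morphism of fibres has a property (helper25)

For `f : X ⟶ Y`, `g : Y ⟶ S` of finite presentation over `S` and a property `Q` of morphisms, stable
under base change and descending along cofiltered limits (`Descends Q`), the set of `s ∈ S` such that
`f_s : X_s ⟶ Y_s` has `Q` is ind-constructible.
-/

set_option autoImplicit false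
set_option linter.unusedSectionVars false
set_option linter.unusedVariables false
set_option linter.style.haveILetI false
universe u

open CategoryTheory CategoryTheory.Limits AlgebraicGeometry

namespace Groth.Agent.Lib.Helper25.FibLocus

section BaseChange

variable {X Y S : Scheme.{u}} (f : X ⟶ Y) (g : Y ⟶ S)

/-- the base change of `f` (as an `S`-morphism) along `b : T ⟶ S` -/
noncomputable def bcMap {T : Scheme.{u}} (b : T ⟶ S) : pullback (f ≫ g) b ⟶ pullback g b :=
  pullback.lift (pullback.fst (f ≫ g) b ≫ f) (pullback.snd (f ≫ g) b)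
    ((Category.assoc _ _ _).trans pullback.condition)

@[reassoc]
lemma bcMap_fst {T : Scheme.{u}} (b : T ⟶ S) :
    bcMap f g b ≫ pullback.fst g b = pullback.fst (f ≫ g) b ≫ f :=
  pullback.lift_fst _ _ _

@[reassoc]
lemma bcMap_snd {T : Scheme.{u}} (b : T ⟶ S) :
    bcMap f g b ≫ pullback.snd g b = pullback.snd (f ≫ g) b :=
  pullback.lift_snd _ _ _

lemma isPullback_bcMap {T : Scheme.{u}} (b : T ⟶ S) :
    IsPullback (pullback.fst (f ≫ g) b) (bcMap f g b) f (pullback.fst g b) := by
  refine IsPullback.of_bot ?_ (bcMap_fst f g b).symm (IsPullback.of_hasPullback g b)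
  rw [bcMap_snd]
  exact IsPullback.of_hasPullback (f ≫ g) b

/-- comparison of pullbacks along `b' = e ≫ b` -/
noncomputable def cmp {Z : Scheme.{u}} (h : Z ⟶ S) {T T' : Scheme.{u}} (b : T ⟶ S) (e : T' ⟶ T)
    (b' : T' ⟶ S) (hb : e ≫ b = b') : pullback h b' ⟶ pullback h b :=
  pullback.lift (pullback.fst h b') (pullback.snd h b' ≫ e)
    (by rw [Category.assoc, hb]; exact pullback.condition)

@[reassoc]
lemma cmp_fst {Z : Scheme.{u}} (h : Z ⟶ S) {T T' : Scheme.{u}} (b : T ⟶ S) (e : T' ⟶ T)
    (b' : T' ⟶ S) (hb : e ≫ b = b') : cmp h b e b' hb ≫ pullback.fst h b = pullback.fst h b' :=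
  pullback.lift_fst _ _ _

@[reassoc]
lemma cmp_snd {Z : Scheme.{u}} (h : Z ⟶ S) {T T' : Scheme.{u}} (b : T ⟶ S) (e : T' ⟶ T)
    (b' : T' ⟶ S) (hb : e ≫ b = b') :
    cmp h b e b' hb ≫ pullback.snd h b = pullback.snd h b' ≫ e :=
  pullback.lift_snd _ _ _

lemma isPullback_cmp {Z : Scheme.{u}} (h : Z ⟶ S) {T T' : Scheme.{u}} (b : T ⟶ S) (e : T' ⟶ T)
    (b' : T' ⟶ S) (hb : e ≫ b = b') :
    IsPullback (cmp h b e b' hb) (pullback.snd h b') (pullback.snd h b) e := by
  refine IsPullback.of_right ?_ (cmp_snd h b e b' hb) (IsPullback.of_hasPullback h b)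
  rw [cmp_fst, hb]
  exact IsPullback.of_hasPullback h b'

lemma isPullback_bcMap_cmp {T T' : Scheme.{u}} (b : T ⟶ S) (e : T' ⟶ T)
    (b' : T' ⟶ S) (hb : e ≫ b = b') :
    IsPullback (cmp (f ≫ g) b e b' hb) (bcMap f g b') (bcMap f g b) (cmp g b e b' hb) := by
  refine IsPullback.of_right ?_ ?_ (isPullback_bcMap f g b)
  · rw [cmp_fst, cmp_fst]
    exact isPullback_bcMap f g b'
  · apply pullback.hom_ext
    · rw [Category.assoc, bcMap_fst, cmp_fst_assoc, Category.assoc, cmp_fst, bcMap_fst]
    · rw [Category.assoc, bcMap_snd, cmp_snd, Category.assoc, cmp_snd, bcMap_snd_assoc]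

/-- `Q` for the base change along `b` gives `Q` for the base change along `e ≫ b` -/
theorem bcMap_of_comp (Q : MorphismProperty Scheme.{u}) [Q.IsStableUnderBaseChange]
    {T T' : Scheme.{u}} (b : T ⟶ S) (e : T' ⟶ T) (b' : T' ⟶ S) (hb : e ≫ b = b')
    (h : Q (bcMap f g b)) : Q (bcMap f g b') :=
  MorphismProperty.of_isPullback (isPullback_bcMap_cmp f g b e b' hb) h

end BaseChange

section Residue

/-- a preimmersion induces isomorphisms of residue fields -/
theorem isIso_residueFieldMap {Z S : Scheme.{u}} (j : Z ⟶ S) [IsPreimmersion j] (z : Z) :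
    IsIso (j.residueFieldMap z) := by
  have hsurj : Function.Surjective (j.residueFieldMap z) := by
    have h1 : Function.Surjective (S.residue (j z) ≫ j.residueFieldMap z) := by
      rw [Scheme.residue_residueFieldMap]
      exact (Scheme.residue_surjective Z z).comp (j.stalkMap_surjective z)
    intro y
    obtain ⟨x, hx⟩ := h1 y
    exact ⟨S.residue (j z) x, hx⟩
  have hinj : Function.Injective (j.residueFieldMap z) := (j.residueFieldMap z).hom.injective
  exact (ConcreteCategory.isIso_iff_bijective _).mpr ⟨hinj, hsurj⟩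

/-- `Spec κ(j z) ⟶ S` factors through a preimmersion `j` -/
theorem exists_fac_fromSpecResidueField {Z S : Scheme.{u}} (j : Z ⟶ S) [IsPreimmersion j] (z : Z) :
    ∃ e : Spec (S.residueField (j z)) ⟶ Z, e ≫ j = S.fromSpecResidueField (j z) := by
  haveI := isIso_residueFieldMap j z
  refine ⟨inv (Spec.map (j.residueFieldMap z)) ≫ Z.fromSpecResidueField z, ?_⟩
  rw [Category.assoc, IsIso.inv_comp_eq]
  exact (Scheme.Hom.SpecMap_residueFieldMap_fromSpecResidueField j z).symm

end Residue

section Main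

open Groth.Agent.Lib.Helper25.ConsPair (Descends)

variable (Q : MorphismProperty Scheme.{u}) [Q.IsStableUnderBaseChange]

/-- `Q` over a stage gives `Q` at every point of the stage -/
theorem bcMap_fromSpecResidueField_of_stage {X Y S Z : Scheme.{u}} (f : X ⟶ Y) (g : Y ⟶ S)
    (j : Z ⟶ S) [IsPreimmersion j] (h : Q (bcMap f g j)) (z : Z) :
    Q (bcMap f g (S.fromSpecResidueField (j z))) := by
  obtain ⟨e, he⟩ := exists_fac_fromSpecResidueField j z
  exact bcMap_of_comp f g Q j e _ he h

/-- the residue field consists of fractions of sections over an affine open -/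
theorem exists_fraction {S : Scheme.{u}} {U : S.Opens} (hU : IsAffineOpen U) (s : S) (hs : s ∈ U)
    (x : S.residueField s) :
    ∃ a t : Γ(S, U), (S.evaluation U s hs).hom t ≠ 0 ∧
      x * (S.evaluation U s hs).hom t = (S.evaluation U s hs).hom a := by
  letI := S.presheaf.algebra_section_stalk ⟨s, hs⟩
  haveI := hU.isLocalization_stalk ⟨s, hs⟩
  obtain ⟨y, rfl⟩ := Scheme.residue_surjective S s x
  obtain ⟨⟨a, t⟩, rfl⟩ := IsLocalization.mk'_surjective
    (hU.primeIdealOf ⟨s, hs⟩).asIdeal.primeCompl y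
  refine ⟨a, t, ?_, ?_⟩
  · have hu : IsUnit (algebraMap Γ(S, U) (S.presheaf.stalk s) t) :=
      IsLocalization.map_units (S.presheaf.stalk s) t
    exact (hu.map (S.residue s).hom).ne_zero
  · have := IsLocalization.mk'_spec (S.presheaf.stalk s) a t
    exact congrArg (S.residue s).hom this

set_option maxHeartbeats 1600000 in
/-- spreading out `Q` from the fibre at `s` to a finitely presented stage through `s` -/
theorem exists_stage (hQ : Descends Q) {X Y S : Scheme.{u}} (f : X ⟶ Y) (g : Y ⟶ S)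
    [LocallyOfFinitePresentation g] [QuasiCompact g] [QuasiSeparated g]
    [LocallyOfFinitePresentation (f ≫ g)] [QuasiCompact (f ≫ g)] [QuasiSeparated (f ≫ g)]
    (s : S) (hs : Q (bcMap f g (S.fromSpecResidueField s))) :
    ∃ (Z : Scheme.{u}) (j : Z ⟶ S), LocallyOfFinitePresentation j ∧ IsPreimmersion j ∧
      s ∈ Set.range j ∧ Q (bcMap f g j) := by
  obtain ⟨U, hU, hsU, -⟩ := exists_isAffineOpen_mem_and_subset (X := S) (x := s) (U := ⊤) (by simp)
  letI : Algebra Γ(S, U) (S.residueField s) := (S.evaluation U s hsU).hom.toAlgebra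
  have hK : ∀ x : S.residueField s, ∃ a t : Γ(S, U),
      algebraMap Γ(S, U) (S.residueField s) t ≠ 0 ∧
        x * algebraMap Γ(S, U) (S.residueField s) t = algebraMap Γ(S, U) (S.residueField s) a :=
    exists_fraction hU s hsU
  let ι : Spec (CommRingCat.of Γ(S, U)) ⟶ S := hU.fromSpec
  haveI : IsOpenImmersion ι := inferInstanceAs (IsOpenImmersion hU.fromSpec)
  have hτ : ResLim.specτ Γ(S, U) (S.residueField s) ≫ ι = S.fromSpecResidueField s := by
    have h1 : Spec.map (S.evaluation U s hsU) ≫ hU.fromSpec = S.fromSpecResidueField s := by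
      rw [← Scheme.germ_residue, Spec.map_comp, Category.assoc]
      change _ ≫ hU.fromSpecStalk hsU = _
      rw [hU.fromSpecStalk_eq_fromSpecStalk]
      rfl
    exact h1
  -- the structure maps
  let tS : ∀ σ, (ResLim.specDiag Γ(S, U) (S.residueField s)).obj σ ⟶ S :=
    fun σ => ResLim.specStr Γ(S, U) (S.residueField s) σ ≫ ι
  have htS_map : ∀ {σ τ : (Finset Γ(S, U))ᵒᵖ} (a : σ ⟶ τ),
      (ResLim.specDiag Γ(S, U) (S.residueField s)).map a ≫ tS τ = tS σ :=
    fun a => by simp only [tS]; rw [← Category.assoc, ResLim.specDiag_map_str]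
  have hcS : ∀ σ, (ResLim.specCone Γ(S, U) (S.residueField s)).π.app σ ≫ tS σ =
      S.fromSpecResidueField s :=
    fun σ => by simp only [tS]; rw [← Category.assoc, ResLim.specCone_π_str, hτ]
  haveI : ∀ σ, LocallyOfFinitePresentation (tS σ) := fun σ => by simp only [tS]; infer_instance
  haveI : ∀ σ, IsPreimmersion (tS σ) := fun σ => by simp only [tS]; infer_instance
  let i₀ : (Finset Γ(S, U))ᵒᵖ := Opposite.op ∅
  have hb₀ := hcS i₀
  -- instances at the stage `i₀`
  haveI : LocallyOfFinitePresentation (bcMap f g (tS i₀) ≫ pullback.snd g (tS i₀)) := by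
    rw [bcMap_snd]; infer_instance
  haveI : QuasiCompact (bcMap f g (tS i₀) ≫ pullback.snd g (tS i₀)) := by
    rw [bcMap_snd]; infer_instance
  haveI : QuasiSeparated (bcMap f g (tS i₀) ≫ pullback.snd g (tS i₀)) := by
    rw [bcMap_snd]; infer_instance
  haveI : CompactSpace ↥(pullback (f ≫ g) (tS i₀)) :=
    QuasiCompact.compactSpace_of_compactSpace (pullback.snd (f ≫ g) (tS i₀))
  haveI : CompactSpace ↥(pullback g (tS i₀)) :=
    QuasiCompact.compactSpace_of_compactSpace (pullback.snd g (tS i₀))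
  haveI : QuasiSeparatedSpace ↥(pullback (f ≫ g) (tS i₀)) :=
    quasiSeparatedSpace_of_quasiSeparated (pullback.snd (f ≫ g) (tS i₀))
  haveI : QuasiSeparatedSpace ↥(pullback g (tS i₀)) :=
    quasiSeparatedSpace_of_quasiSeparated (pullback.snd g (tS i₀))
  haveI : LocallyOfFiniteType (bcMap f g (tS i₀)) := by
    haveI : LocallyOfFiniteType (bcMap f g (tS i₀) ≫ pullback.snd g (tS i₀)) := inferInstance
    exact locallyOfFiniteType_of_comp (bcMap f g (tS i₀)) (pullback.snd g (tS i₀))
  obtain ⟨i, φ, Xi, Yi, fi, gi, pY, pX, hpY, hpX, hQi⟩ :=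
    hQ (ResLim.specDiag Γ(S, U) (S.residueField s)) (ResLim.specCone Γ(S, U) (S.residueField s))
      (ResLim.specIsLimit Γ(S, U) (S.residueField s) hK) i₀ (bcMap f g (tS i₀))
      (pullback.snd g (tS i₀)) (bcMap f g (S.fromSpecResidueField s))
      (pullback.snd g (S.fromSpecResidueField s))
      (cmp g (tS i₀) _ _ hb₀) (cmp (f ≫ g) (tS i₀) _ _ hb₀)
      (isPullback_cmp g (tS i₀) _ _ hb₀) (isPullback_bcMap_cmp f g (tS i₀) _ _ hb₀) hs
  -- transfer to the canonical base change at the stage `i`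
  have hb : (ResLim.specDiag Γ(S, U) (S.residueField s)).map φ ≫ tS i₀ = tS i := htS_map φ
  let ρ : pullback g (tS i) ⟶ Yi :=
    hpY.lift (cmp g (tS i₀) _ _ hb) (pullback.snd g (tS i)) (cmp_snd g (tS i₀) _ _ hb)
  have hρ : ρ ≫ pY = cmp g (tS i₀) _ _ hb := hpY.lift_fst _ _ _
  have hw : cmp (f ≫ g) (tS i₀) _ _ hb ≫ bcMap f g (tS i₀) = (bcMap f g (tS i) ≫ ρ) ≫ pY := by
    rw [Category.assoc, hρ]
    exact (isPullback_bcMap_cmp f g (tS i₀) _ _ hb).w
  let l : pullback (f ≫ g) (tS i) ⟶ Xi := hpX.lift _ _ hw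
  have hl1 : l ≫ pX = cmp (f ≫ g) (tS i₀) _ _ hb := hpX.lift_fst _ _ hw
  have hl2 : l ≫ fi = bcMap f g (tS i) ≫ ρ := hpX.lift_snd _ _ hw
  have hsq : IsPullback l (bcMap f g (tS i)) fi ρ := by
    refine IsPullback.of_right ?_ hl2 hpX
    rw [hl1, hρ]
    exact isPullback_bcMap_cmp f g (tS i₀) _ _ hb
  refine ⟨_, tS i, inferInstance, inferInstance, ?_, MorphismProperty.of_isPullback hsq hQi⟩
  refine ⟨(ResLim.specCone Γ(S, U) (S.residueField s)).π.app i
    (IsLocalRing.closedPoint (S.residueField s)), ?_⟩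
  have h2 : ((ResLim.specCone Γ(S, U) (S.residueField s)).π.app i ≫ tS i)
      (IsLocalRing.closedPoint (S.residueField s)) = s := by
    rw [hcS i]
    exact Scheme.fromSpecResidueField_apply s _
  exact h2

open Groth.Agent.Lib.Helper25.PC in
/-- the range of a morphism locally of finite presentation is ind-constructible -/
theorem indC_range {Z S : Scheme.{u}} (j : Z ⟶ S) [LocallyOfFinitePresentation j] :
    IndC (Set.range j) := by
  have h : IndC (Set.univ : Set Z) := by
    intro V hV
    rw [Set.preimage_univ]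
    exact @isOpen_univ _ (constructibleTopology _)
  have := IndC.image j h
  rwa [Set.image_univ] at this

open Groth.Agent.Lib.Helper25.PC in
/-- the locus where the morphism of fibres has `Q` is ind-constructible -/
theorem isIndConstructible_setOf_fibre (hQ : Descends Q) {X Y S : Scheme.{u}} (f : X ⟶ Y)
    (g : Y ⟶ S)
    [LocallyOfFinitePresentation g] [QuasiCompact g] [QuasiSeparated g]
    [LocallyOfFinitePresentation (f ≫ g)] [QuasiCompact (f ≫ g)] [QuasiSeparated (f ≫ g)] :
    ProCons.IsIndConstructible {s : S | Q (bcMap f g (S.fromSpecResidueField s))} := by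
  rw [isInd_iff]
  have key : ∀ s : {s : S | Q (bcMap f g (S.fromSpecResidueField s))},
      ∃ T : Set S, IndC T ∧ s.1 ∈ T ∧ T ⊆ {s : S | Q (bcMap f g (S.fromSpecResidueField s))} := by
    rintro ⟨s, hs⟩
    obtain ⟨Z, j, hj1, hj2, hsj, hQj⟩ := exists_stage Q hQ f g s hs
    refine ⟨Set.range j, indC_range j, hsj, ?_⟩
    rintro _ ⟨z, rfl⟩
    exact bcMap_fromSpecResidueField_of_stage Q f g j hQj z
  choose T hT1 hT2 hT3 using key
  have hE : {s : S | Q (bcMap f g (S.fromSpecResidueField s))} = ⋃ s, T s := by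
    apply Set.Subset.antisymm
    · intro s hs
      exact Set.mem_iUnion.mpr ⟨⟨s, hs⟩, hT2 ⟨s, hs⟩⟩
    · exact Set.iUnion_subset hT3
  rw [hE]
  intro V hV
  rw [Set.preimage_iUnion]
  exact isPO_iUnion fun s => hT1 s V hV

end Main

end Groth.Agent.Lib.Helper25.FibLocus
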