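import Mathlib
import Groth.Prelude.Def_EGA4Misc
import Groth.Agent.Lib.Helper25.FibLocus
import Groth.Agent.Lib.helper11.ConstrTop

/-!
# Fibrewise properties of a morphism are (ind-)constructible properties of morphisms (helper25)
EGA IV 9.2.6-type statement: if `P(X, k)` is (ind-)constructible then so is
`P'(f) = ∀ y, P(f⁻¹(y), κ(y))`.
-/

set_option autoImplicit false
set_option linter.unusedSectionVars false
set_option linter.unusedVariables false
set_option linter.style.haveILetI false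
universe u

open CategoryTheory CategoryTheory.Limits AlgebraicGeometry Topology

namespace Groth.Agent.Lib.Helper25.ConsFib

variable {P : ∀ ⦃Y T : Scheme.{u}⦄, (Y ⟶ T) → Prop}

instance {X Y : Scheme.{u}} (f : X ⟶ Y) [LocallyOfFiniteType f] (y : Y) :
    LocallyOfFiniteType (f.fiberToSpecResidueField y) :=
  inferInstanceAs (LocallyOfFiniteType (pullback.snd f (Y.fromSpecResidueField y)))

instance {X Y : Scheme.{u}} (f : X ⟶ Y) [QuasiCompact f] (y : Y) :
    QuasiCompact (f.fiberToSpecResidueField y) :=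
  inferInstanceAs (QuasiCompact (pullback.snd f (Y.fromSpecResidueField y)))

/-- the locus of a base change is the preimage of the locus -/
theorem mem_locus_iff_of_isPullback (hP : ConsProp.IsFieldStable P) {X' X Y' Y : Scheme.{u}}
    {a : X' ⟶ X} {f' : X' ⟶ Y'} {f : X ⟶ Y} {b : Y' ⟶ Y} (sq : IsPullback a f' f b)
    [LocallyOfFiniteType f] [QuasiCompact f] (y' : Y') :
    y' ∈ ConsProp.locus P f' ↔ b y' ∈ ConsProp.locus P f :=
  (hP (f.fiberToSpecResidueField (b y')) (f'.fiberToSpecResidueField y') _ _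
    (isPullback_fiberToSpecResidueField_of_isPullback sq y')).symm

/-- the fibrewise relation -/
def Fibrewise (P : ∀ ⦃Y T : Scheme.{u}⦄, (Y ⟶ T) → Prop) :
    ∀ ⦃X Y T : Scheme.{u}⦄, (X ⟶ Y) → (Y ⟶ T) → Prop :=
  fun X Y T f g => ∀ y : ↥Y, P (f.fiberToSpecResidueField y)

/-- a one-point integral scheme is locally Noetherian -/
theorem isLocallyNoetherian_of_subsingleton (T : Scheme.{u}) [IsIntegral T] [Subsingleton T] :
    IsLocallyNoetherian T := by
  haveI : IsNoetherianRing Γ(T, ⊤) := by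
    letI := (isField_of_isIntegral_of_subsingleton T).toField
    infer_instance
  have : IsLocallyNoetherian (Spec Γ(T, ⊤)) := inferInstance
  exact isLocallyNoetherian_of_isOpenImmersion T.isoSpec.hom

/-- `f` is of finite type and quasi-compact when `f ≫ g` and `g` are, over a one-point base -/
theorem lft_qc_of_comp {X Y T : Scheme.{u}} (f : X ⟶ Y) (g : Y ⟶ T) [IsLocallyNoetherian T]
    [LocallyOfFiniteType g] [LocallyOfFiniteType (f ≫ g)] [QuasiCompact (f ≫ g)] :
    LocallyOfFiniteType f ∧ QuasiCompact f := by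
  haveI : IsLocallyNoetherian Y := LocallyOfFiniteType.isLocallyNoetherian g
  haveI : QuasiSeparated g := inferInstance
  exact ⟨locallyOfFiniteType_of_comp f g, QuasiCompact.of_comp f g⟩

/-- field-stability of the fibrewise relation -/
theorem isFieldStableMor_fibrewise (hP : ConsProp.IsFieldStable P) :
    ConsProp.IsFieldStableMor (Fibrewise P) := by
  intro X X' Y Y' T T' f g f' g' eX eY h _ _ _ _ _ _ _ _ hY hX
  haveI := isLocallyNoetherian_of_subsingleton T
  obtain ⟨h1, h2⟩ := lft_qc_of_comp f g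
  constructor
  · intro H y'
    exact (mem_locus_iff_of_isPullback hP hX y').mpr (H (eY y'))
  · intro H y
    haveI : Surjective h := by
      obtain ⟨t'⟩ : Nonempty T' := inferInstance
      exact ⟨fun t => ⟨t', Subsingleton.elim _ _⟩⟩
    haveI : Surjective eY := MorphismProperty.of_isPullback (P := @Surjective) hY.flip inferInstance
    obtain ⟨y', rfl⟩ := eY.surjective y
    exact (mem_locus_iff_of_isPullback hP hX y').mp (H y')

/-- the locus of the fibrewise relation -/
theorem mem_locusMor_fibrewise_iff (hP : ConsProp.IsFieldStable P) {X Y S : Scheme.{u}}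
    (f : X ⟶ Y) (g : Y ⟶ S) [LocallyOfFiniteType f] [QuasiCompact f] (s : S) :
    s ∈ ConsProp.locusMor (Fibrewise P) f g ↔ ∀ y : Y, g y = s → y ∈ ConsProp.locus P f := by
  have sq : IsPullback ((f ≫ g).fiberι s) (MoreMor.fiberMap f g s) f (g.fiberι s) :=
    FibLocus.isPullback_bcMap f g (S.fromSpecResidueField s)
  have hr : Set.range (g.fiberι s) = g ⁻¹' {s} := Scheme.Hom.range_fiberι g s
  constructor
  · intro H y hy
    have hy' : y ∈ Set.range (g.fiberι s) := by rw [hr]; exact hy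
    obtain ⟨y', rfl⟩ := hy'
    exact (mem_locus_iff_of_isPullback hP sq y').mp (H y')
  · intro H y'
    have hy' : (g.fiberι s) y' ∈ g ⁻¹' {s} := by rw [← hr]; exact ⟨y', rfl⟩
    exact (mem_locus_iff_of_isPullback hP sq y').mpr (H _ hy')

/-- the reduced induced closed subscheme is reduced -/
theorem isReduced_vanishingIdeal_subscheme {Y : Scheme.{u}} (Z : TopologicalSpace.Closeds Y) :
    IsReduced (Scheme.IdealSheafData.vanishingIdeal Z).subscheme := by
  haveI : ∀ i, IsReduced
      ((Scheme.IdealSheafData.vanishingIdeal Z).subschemeCover.openCover.X i) := by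
    intro (U : Y.affineOpens)
    change IsReduced (Spec (.of (Γ(Y, U.1) ⧸ (Scheme.IdealSheafData.vanishingIdeal Z).ideal U)))
    rw [affine_isReduced_iff]
    change _root_.IsReduced (Γ(Y, U.1) ⧸ (Scheme.IdealSheafData.vanishingIdeal Z).ideal U)
    rw [← Ideal.isRadical_iff_quotient_reduced, Scheme.IdealSheafData.vanishingIdeal_ideal]
    exact PrimeSpectrum.isRadical_vanishingIdeal _
  exact IsReduced.of_openCover _ (Scheme.IdealSheafData.vanishingIdeal Z).subschemeCover.openCover

/-- an irreducible closed subset carries an integral closed subscheme structure -/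
theorem exists_integral_closedSubscheme {Y : Scheme.{u}} (Z : Set Y) (hZc : IsClosed Z)
    (hZi : IsIrreducible Z) :
    ∃ (Z' : Scheme.{u}) (i : Z' ⟶ Y), IsClosedImmersion i ∧ IsIntegral Z' ∧ Set.range i = Z := by
  let Zc : TopologicalSpace.Closeds Y := ⟨Z, hZc⟩
  let i := (Scheme.IdealSheafData.vanishingIdeal Zc).subschemeι
  have hr : Set.range i = Z :=
    (Scheme.IdealSheafData.vanishingIdeal Zc).range_subschemeι.trans
      (Scheme.IdealSheafData.coe_support_vanishingIdeal Zc)
  haveI : IsReduced (Scheme.IdealSheafData.vanishingIdeal Zc).subscheme :=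
    isReduced_vanishingIdeal_subscheme Zc
  haveI : IrreducibleSpace ↥(Scheme.IdealSheafData.vanishingIdeal Zc).subscheme := by
    have hemb : IsEmbedding i := i.isClosedEmbedding.isEmbedding
    haveI : IrreducibleSpace ↥(Set.range i) := by
      rw [hr]; exact isIrreducible_iff_irreducibleSpace.mp hZi
    exact hemb.toHomeomorph.irreducibleSpace_iff.mpr inferInstance
  exact ⟨_, i, inferInstance, isIntegral_of_irreducibleSpace_of_isReduced _, hr⟩

/-- transport of a nonempty open subset along a closed embedding -/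
theorem exists_open_inter_of_interior {Z' Y : Type*} [TopologicalSpace Z'] [TopologicalSpace Y]
    {i : Z' → Y} (hi : IsEmbedding i) {T : Set Y} (h : (interior (i ⁻¹' T)).Nonempty) :
    ∃ W : Set Y, IsOpen W ∧ (W ∩ Set.range i).Nonempty ∧ W ∩ Set.range i ⊆ T := by
  obtain ⟨z, hz⟩ := h
  obtain ⟨W, hW, hWV⟩ := hi.isInducing.isOpen_iff.mp (isOpen_interior (s := i ⁻¹' T))
  refine ⟨W, hW, ⟨i z, ?_, ⟨z, rfl⟩⟩, ?_⟩
  · have : z ∈ i ⁻¹' W := by rw [hWV]; exact hz
    exact this
  · rintro _ ⟨hyW, ⟨z', rfl⟩⟩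
    have : z' ∈ interior (i ⁻¹' T) := by rw [← hWV]; exact hyW
    exact (interior_subset this : z' ∈ i ⁻¹' T)

section Trace

variable {X Y : Scheme.{u}} (f : X ⟶ Y) [IsNoetherian Y] [LocallyOfFiniteType f] [QuasiCompact f]

/-- the family clause applied to an integral closed subscheme: set-up -/
theorem exists_closedSubscheme_locus (hP : ConsProp.IsFieldStable P) (Z : Set Y) (hZc : IsClosed Z)
    (hZi : IsIrreducible Z) :
    ∃ (Z' : Scheme.{u}) (i : Z' ⟶ Y) (X' : Scheme.{u}) (f' : X' ⟶ Z'), IsIntegral Z' ∧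
      IsNoetherian Z' ∧ LocallyOfFiniteType f' ∧ QuasiCompact f' ∧ IsEmbedding i ∧
      Set.range i = Z ∧ ConsProp.locus P f' = i ⁻¹' ConsProp.locus P f ∧
      (∀ (ζ : Y) (z' : Z'), IsGenericPoint ζ Z → IsGenericPoint z' Set.univ → i z' = ζ) := by
  obtain ⟨Z', i, hi, hint, hr⟩ := exists_integral_closedSubscheme Z hZc hZi
  haveI := hi
  haveI := hint
  haveI : IsLocallyNoetherian Z' := LocallyOfFiniteType.isLocallyNoetherian i
  haveI : CompactSpace Z' := QuasiCompact.compactSpace_of_compactSpace i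
  refine ⟨Z', i, pullback f i, pullback.snd f i, hint, {}, inferInstance, inferInstance,
    i.isClosedEmbedding.isEmbedding, hr, ?_, ?_⟩
  · ext z
    exact mem_locus_iff_of_isPullback hP (IsPullback.of_hasPullback f i) z
  · intro ζ z' hζ hz'
    have h1 : IsGenericPoint (i z') (closure (i '' Set.univ)) := hz'.image i.continuous
    rw [Set.image_univ, hr, hZc.closure_eq] at h1
    exact h1.eq hζ

theorem trace_indCons (hP : ConsProp.IsIndCons P) (Z : Set Y) (hZc : IsClosed Z)
    (hZi : IsIrreducible Z) (ζ : Y) (hζ : IsGenericPoint ζ Z) (hζE : ζ ∈ ConsProp.locus P f) :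
    ∃ W : Set Y, IsOpen W ∧ (W ∩ Z).Nonempty ∧ W ∩ Z ⊆ ConsProp.locus P f := by
  obtain ⟨Z', i, X', f', h1, h2, h3, h4, hemb, hr, hloc, hgen⟩ :=
    exists_closedSubscheme_locus f hP.1 Z hZc hZi
  haveI := h1; haveI := h2; haveI := h3; haveI := h4
  have hmem : genericPoint Z' ∈ ConsProp.locus P f' := by
    rw [hloc]
    change i (genericPoint Z') ∈ ConsProp.locus P f
    rw [hgen ζ (genericPoint Z') hζ (genericPoint_spec Z')]
    exact hζE
  have := hP.2 f' hmem
  rw [hloc] at this
  have := exists_open_inter_of_interior hemb this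
  rwa [hr] at this

theorem trace_cons (hP : ConsProp.IsCons P) (Z : Set Y) (hZc : IsClosed Z)
    (hZi : IsIrreducible Z) :
    (∃ W : Set Y, IsOpen W ∧ (W ∩ Z).Nonempty ∧ W ∩ Z ⊆ ConsProp.locus P f) ∨
      ∃ W : Set Y, IsOpen W ∧ (W ∩ Z).Nonempty ∧ W ∩ Z ⊆ (ConsProp.locus P f)ᶜ := by
  obtain ⟨Z', i, X', f', h1, h2, h3, h4, hemb, hr, hloc, hgen⟩ :=
    exists_closedSubscheme_locus f hP.1 Z hZc hZi
  haveI := h1; haveI := h2; haveI := h3; haveI := h4
  rcases hP.2 f' with h | h
  · left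
    rw [hloc] at h
    have := exists_open_inter_of_interior hemb h
    rwa [hr] at this
  · right
    rw [hloc, ← Set.preimage_compl] at h
    have := exists_open_inter_of_interior hemb h
    rwa [hr] at this

end Trace

open Groth.Agent.Lib.helper11.ConstrTop in
/-- spreading out from the generic fibre by Noetherian induction -/
theorem exists_open_preimage_subset {Y S : Type u} [TopologicalSpace Y] [TopologicalSpace S]
    [TopologicalSpace.NoetherianSpace Y] [QuasiSober Y] [T0Space S]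
    (g : Y → S) (hg : Continuous g) (η : S) (hη : ∀ s : S, η ⤳ s) (E : Set Y)
    (hstar : ∀ Z : Set Y, IsClosed Z → IsIrreducible Z → ∀ ζ, IsGenericPoint ζ Z → ζ ∈ E →
      ∃ W : Set Y, IsOpen W ∧ (W ∩ Z).Nonempty ∧ W ∩ Z ⊆ E)
    (hfib : g ⁻¹' {η} ⊆ E) : ∃ U : Set S, IsOpen U ∧ η ∈ U ∧ g ⁻¹' U ⊆ E := by
  have key : ∀ Z : Set Y, IsClosed Z → ∃ U : Set S, IsOpen U ∧ η ∈ U ∧ g ⁻¹' U ∩ Z ⊆ E := by
    apply closed_induction
    · exact ⟨Set.univ, isOpen_univ, Set.mem_univ _, by simp⟩
    · rintro Y₁ Y₂ - - ⟨U₁, hU₁, hη₁, h₁⟩ ⟨U₂, hU₂, hη₂, h₂⟩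
      refine ⟨U₁ ∩ U₂, hU₁.inter hU₂, ⟨hη₁, hη₂⟩, ?_⟩
      rintro y ⟨⟨hy₁, hy₂⟩, hy | hy⟩
      · exact h₁ ⟨hy₁, hy⟩
      · exact h₂ ⟨hy₂, hy⟩
    · intro Z hZc hZi ih
      obtain ⟨ζ, hζ⟩ := QuasiSober.sober hZi hZc
      by_cases hgζ : g ζ = η
      · have hζE : ζ ∈ E := hfib hgζ
        obtain ⟨W, hW, hne, hsub⟩ := hstar Z hZc hZi ζ hζ hζE
        obtain ⟨U, hU, hηU, hUsub⟩ := ih _ (hZc.sdiff hW) (diff_ssubset_of_inter_nonempty hne)
        refine ⟨U, hU, hηU, ?_⟩
        rintro y ⟨hyU, hyZ⟩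
        by_cases hyW : y ∈ W
        · exact hsub ⟨hyW, hyZ⟩
        · exact hUsub ⟨hyU, hyZ, hyW⟩
      · refine ⟨(closure {g ζ})ᶜ, isClosed_closure.isOpen_compl, ?_, ?_⟩
        · intro hmem
          have h1 : g ζ ⤳ η := specializes_iff_mem_closure.mpr hmem
          exact hgζ ((h1.antisymm (hη (g ζ))).eq)
        · rintro y ⟨hyU, hyZ⟩
          exfalso
          apply hyU
          have h1 : ζ ⤳ y := by
            rw [specializes_iff_mem_closure, hζ.def]; exact hyZ
          exact specializes_iff_mem_closure.mp (h1.map hg)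
  obtain ⟨U, hU, hηU, hsub⟩ := key Set.univ isClosed_univ
  exact ⟨U, hU, hηU, by simpa using hsub⟩

/-- EGA IV 9.2.6, ind-constructible case -/
theorem isIndConsMor_fibrewise (hP : ConsProp.IsIndCons P) :
    ConsProp.IsIndConsMor (Fibrewise P) := by
  refine ⟨isFieldStableMor_fibrewise hP.1, ?_⟩
  intro X Y S f g _ _ _ _ _ _ hη
  obtain ⟨h1, h2⟩ := lft_qc_of_comp f g
  haveI : IsLocallyNoetherian Y := LocallyOfFiniteType.isLocallyNoetherian g
  haveI : CompactSpace Y := QuasiCompact.compactSpace_of_compactSpace g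
  haveI : IsNoetherian Y := {}
  rw [mem_locusMor_fibrewise_iff hP.1] at hη
  obtain ⟨U, hU, hηU, hsub⟩ := exists_open_preimage_subset g g.continuous (genericPoint S)
    (fun s => genericPoint_specializes s) (ConsProp.locus P f)
    (fun Z hZc hZi ζ hζ hζE => trace_indCons f hP Z hZc hZi ζ hζ hζE)
    (fun y hy => hη y hy)
  refine ⟨genericPoint S, mem_interior.mpr ⟨U, ?_, hU, hηU⟩⟩
  intro s hs
  rw [mem_locusMor_fibrewise_iff hP.1]
  intro y hy
  apply hsub
  change g y ∈ U
  rw [hy]
  exact hs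

open Groth.Agent.Lib.helper11.ConstrTop in
/-- EGA IV 9.2.6, constructible case -/
theorem isConsMor_fibrewise (hP : ConsProp.IsCons P) :
    ConsProp.IsConsMor (Fibrewise P) := by
  refine ⟨isFieldStableMor_fibrewise hP.1, ?_⟩
  intro X Y S f g _ _ _ _ _ _
  obtain ⟨h1, h2⟩ := lft_qc_of_comp f g
  haveI : IsLocallyNoetherian Y := LocallyOfFiniteType.isLocallyNoetherian g
  haveI : CompactSpace Y := QuasiCompact.compactSpace_of_compactSpace g
  haveI : IsNoetherian Y := {}
  have hE : IsConstructible (ConsProp.locus P f) := by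
    rw [isConstructible_iff_forall_irreducible]
    intro Z hZc hZi
    rcases trace_cons f hP Z hZc hZi with ⟨W, hW, hne, h⟩ | ⟨W, hW, hne, h⟩
    · exact Or.inr ⟨W, hW, hne, h⟩
    · exact Or.inl (not_dense_of_open_inter_subset_compl hW hne h)
  have hC : IsConstructible (g '' (ConsProp.locus P f)ᶜ) := g.isConstructible_image hE.compl
  have hloc : ConsProp.locusMor (Fibrewise P) f g = (g '' (ConsProp.locus P f)ᶜ)ᶜ := by
    ext s
    rw [mem_locusMor_fibrewise_iff hP.1]
    constructor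
    · rintro H ⟨y, hy, rfl⟩
      exact hy (H y rfl)
    · intro H y hy
      by_contra hyE
      exact H ⟨y, hyE, hy⟩
  rw [hloc]
  obtain ⟨U, hU, hne, h | h⟩ := dichotomy hC.compl (IrreducibleSpace.isIrreducible_univ S)
  · left
    obtain ⟨s, hs⟩ := hne
    exact ⟨s, mem_interior.mpr ⟨U, by simpa using h, hU, hs.1⟩⟩
  · right
    obtain ⟨s, hs⟩ := hne
    exact ⟨s, mem_interior.mpr ⟨U, by simpa using h, hU, hs.1⟩⟩

end Groth.Agent.Lib.Helper25.ConsFib
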