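import Mathlib
import Groth.Prelude.Def_EGA4Misc
import Groth.Prelude.Def_W4ega4s0809p4Pair
import Groth.Agent.Lib.Helper25.ConsFib
import Groth.Agent.Lib.Helper25.ProCons2

/-!
# (Ind-)constructible properties: loci over a locally Noetherian base, and base change (helper25)

* `mem_locusMor_iff_of_isPullback`, `mem_locusPair_iff_of_isPullback`: the loci of a base-changed
  family are the preimages of the loci (field-stability);
* `IndTrace`, `indC_of_indTrace`: the trace criterion for ind-constructibility over a locally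
  Noetherian scheme (EGA IV 1.9.10 + 9.2.3);
* `indC_locusMor_of_noeth`, `isLocallyConstructible_locusMor_of_noeth` (+ `Pair` versions): EGA IV
  9.2.3 over a locally Noetherian base.
-/

set_option autoImplicit false
set_option linter.unusedSectionVars false
set_option linter.unusedVariables false
set_option linter.style.haveILetI false
universe u

open CategoryTheory CategoryTheory.Limits AlgebraicGeometry Topology

namespace Groth.Agent.Lib.Helper25.ConsBase

open Groth.Agent.Lib.Helper25.FibLocus Groth.Agent.Lib.Helper25.ConsFib Groth.Agent.Lib.Helper25.PC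

section BaseChangeMor

variable {P : ∀ ⦃X Y T : Scheme.{u}⦄, (X ⟶ Y) → (Y ⟶ T) → Prop}

instance {X Y S : Scheme.{u}} (f : X ⟶ Y) (g : Y ⟶ S) [LocallyOfFiniteType (f ≫ g)] (s : S) :
    LocallyOfFiniteType (MoreMor.fiberMap f g s ≫ g.fiberToSpecResidueField s) := by
  have hc : MoreMor.fiberMap f g s ≫ g.fiberToSpecResidueField s =
      (f ≫ g).fiberToSpecResidueField s := pullback.lift_snd _ _ _
  rw [hc]; infer_instance

instance {X Y S : Scheme.{u}} (f : X ⟶ Y) (g : Y ⟶ S) [QuasiCompact (f ≫ g)] (s : S) :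
    QuasiCompact (MoreMor.fiberMap f g s ≫ g.fiberToSpecResidueField s) := by
  have hc : MoreMor.fiberMap f g s ≫ g.fiberToSpecResidueField s =
      (f ≫ g).fiberToSpecResidueField s := pullback.lift_snd _ _ _
  rw [hc]; infer_instance

/-- the locus of a base-changed pair of morphisms is the preimage of the locus -/
theorem mem_locusMor_iff_of_isPullback (hP : ConsProp.IsFieldStableMor P)
    {X Y S X' Y' S' : Scheme.{u}} {f : X ⟶ Y} {g : Y ⟶ S} {f' : X' ⟶ Y'} {g' : Y' ⟶ S'}
    {qX : X' ⟶ X} {qY : Y' ⟶ Y} {b : S' ⟶ S}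
    (hY : IsPullback qY g' g b) (hX : IsPullback qX f' f qY)
    [LocallyOfFiniteType g] [QuasiCompact g] [LocallyOfFiniteType (f ≫ g)] [QuasiCompact (f ≫ g)]
    (s' : S') : s' ∈ ConsProp.locusMor P f' g' ↔ b s' ∈ ConsProp.locusMor P f g := by
  have hXY : IsPullback qX (f' ≫ g') (f ≫ g) b := hX.paste_vert hY
  have sqY := isPullback_fiberToSpecResidueField_of_isPullback hY s'
  have sqXY := isPullback_fiberToSpecResidueField_of_isPullback hXY s'
  set eY := pullback.map g' (S'.fromSpecResidueField s') g (S.fromSpecResidueField (b s')) qY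
    (Spec.map (b.residueFieldMap s')) b hY.w.symm (by simp) with heY
  set eX := pullback.map (f' ≫ g') (S'.fromSpecResidueField s') (f ≫ g)
    (S.fromSpecResidueField (b s')) qX
    (Spec.map (b.residueFieldMap s')) b hXY.w.symm (by simp) with heX
  have eY_fst : eY ≫ pullback.fst g (S.fromSpecResidueField (b s')) =
      pullback.fst g' (S'.fromSpecResidueField s') ≫ qY := pullback.lift_fst _ _ _
  have eY_snd : eY ≫ pullback.snd g (S.fromSpecResidueField (b s')) =
      pullback.snd g' (S'.fromSpecResidueField s') ≫ Spec.map (b.residueFieldMap s') :=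
    pullback.lift_snd _ _ _
  have eX_fst : eX ≫ pullback.fst (f ≫ g) (S.fromSpecResidueField (b s')) =
      pullback.fst (f' ≫ g') (S'.fromSpecResidueField s') ≫ qX := pullback.lift_fst _ _ _
  have eX_snd : eX ≫ pullback.snd (f ≫ g) (S.fromSpecResidueField (b s')) =
      pullback.snd (f' ≫ g') (S'.fromSpecResidueField s') ≫ Spec.map (b.residueFieldMap s') :=
    pullback.lift_snd _ _ _
  have sqX : IsPullback eX (bcMap f' g' (S'.fromSpecResidueField s'))
      (bcMap f g (S.fromSpecResidueField (b s'))) eY := by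
    refine IsPullback.of_right ?_ ?_
      (isPullback_bcMap f g (S.fromSpecResidueField (b s')))
    · have h1 : IsPullback (pullback.fst (f' ≫ g') (S'.fromSpecResidueField s') ≫ qX)
          (bcMap f' g' (S'.fromSpecResidueField s')) f
          (pullback.fst g' (S'.fromSpecResidueField s') ≫ qY) :=
        (isPullback_bcMap f' g' (S'.fromSpecResidueField s')).paste_horiz hX
      rw [← eX_fst, ← eY_fst] at h1
      exact h1
    · apply pullback.hom_ext
      · rw [Category.assoc, bcMap_fst, ← Category.assoc, eX_fst, Category.assoc, Category.assoc,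
          eY_fst, bcMap_fst_assoc, hX.w]
      · rw [Category.assoc, bcMap_snd, eX_snd, Category.assoc, eY_snd, ← Category.assoc, bcMap_snd]
  exact (hP (MoreMor.fiberMap f g (b s')) (g.fiberToSpecResidueField (b s'))
    (MoreMor.fiberMap f' g' s') (g'.fiberToSpecResidueField s') eX eY
    (Spec.map (b.residueFieldMap s')) sqY sqX).symm

theorem locusMor_eq_preimage_of_isPullback (hP : ConsProp.IsFieldStableMor P)
    {X Y S X' Y' S' : Scheme.{u}} {f : X ⟶ Y} {g : Y ⟶ S} {f' : X' ⟶ Y'} {g' : Y' ⟶ S'}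
    {qX : X' ⟶ X} {qY : Y' ⟶ Y} {b : S' ⟶ S}
    (hY : IsPullback qY g' g b) (hX : IsPullback qX f' f qY)
    [LocallyOfFiniteType g] [QuasiCompact g] [LocallyOfFiniteType (f ≫ g)] [QuasiCompact (f ≫ g)] :
    ConsProp.locusMor P f' g' = b ⁻¹' ConsProp.locusMor P f g := by
  ext s'
  exact mem_locusMor_iff_of_isPullback hP hY hX s'

/-- the standard base change of a family along `b : T ⟶ S` -/
theorem locusMor_bcMap (hP : ConsProp.IsFieldStableMor P) {X Y S T : Scheme.{u}} (f : X ⟶ Y)
    (g : Y ⟶ S) (b : T ⟶ S)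
    [LocallyOfFiniteType g] [QuasiCompact g] [LocallyOfFiniteType (f ≫ g)] [QuasiCompact (f ≫ g)] :
    ConsProp.locusMor P (bcMap f g b) (pullback.snd g b) = b ⁻¹' ConsProp.locusMor P f g :=
  locusMor_eq_preimage_of_isPullback hP (IsPullback.of_hasPullback g b) (isPullback_bcMap f g b)

end BaseChangeMor

section BaseChangePair

variable {P : ∀ ⦃X Y T : Scheme.{u}⦄, (X ⟶ T) → (Y ⟶ T) → Prop}

/-- the locus of a base-changed pair of families is the preimage of the locus -/
theorem mem_locusPair_iff_of_isPullback (hP : ConsPropPair.IsFieldStablePair P)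
    {X Y S X' Y' S' : Scheme.{u}} {u : X ⟶ S} {v : Y ⟶ S} {u' : X' ⟶ S'} {v' : Y' ⟶ S'}
    {qX : X' ⟶ X} {qY : Y' ⟶ Y} {b : S' ⟶ S}
    (hX : IsPullback qX u' u b) (hY : IsPullback qY v' v b)
    [LocallyOfFiniteType u] [QuasiCompact u] [LocallyOfFiniteType v] [QuasiCompact v]
    (s' : S') : s' ∈ ConsPropPair.locusPair P u' v' ↔ b s' ∈ ConsPropPair.locusPair P u v :=
  (hP (u.fiberToSpecResidueField (b s')) (v.fiberToSpecResidueField (b s'))
    (u'.fiberToSpecResidueField s') (v'.fiberToSpecResidueField s') _ _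
    (Spec.map (b.residueFieldMap s'))
    (isPullback_fiberToSpecResidueField_of_isPullback hX s')
    (isPullback_fiberToSpecResidueField_of_isPullback hY s')).symm

theorem locusPair_eq_preimage_of_isPullback (hP : ConsPropPair.IsFieldStablePair P)
    {X Y S X' Y' S' : Scheme.{u}} {u : X ⟶ S} {v : Y ⟶ S} {u' : X' ⟶ S'} {v' : Y' ⟶ S'}
    {qX : X' ⟶ X} {qY : Y' ⟶ Y} {b : S' ⟶ S}
    (hX : IsPullback qX u' u b) (hY : IsPullback qY v' v b)
    [LocallyOfFiniteType u] [QuasiCompact u] [LocallyOfFiniteType v] [QuasiCompact v] :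
    ConsPropPair.locusPair P u' v' = b ⁻¹' ConsPropPair.locusPair P u v := by
  ext s'
  exact mem_locusPair_iff_of_isPullback hP hX hY s'

theorem locusPair_snd (hP : ConsPropPair.IsFieldStablePair P) {X Y S T : Scheme.{u}} (u : X ⟶ S)
    (v : Y ⟶ S) (b : T ⟶ S)
    [LocallyOfFiniteType u] [QuasiCompact u] [LocallyOfFiniteType v] [QuasiCompact v] :
    ConsPropPair.locusPair P (pullback.snd u b) (pullback.snd v b) =
      b ⁻¹' ConsPropPair.locusPair P u v :=
  locusPair_eq_preimage_of_isPullback hP (IsPullback.of_hasPullback u b)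
    (IsPullback.of_hasPullback v b)

end BaseChangePair

section Trace

/-- the trace condition on integral closed subschemes -/
def IndTrace {Y : Scheme.{u}} (E : Set Y) : Prop :=
  ∀ (Z' : Scheme.{u}) (i : Z' ⟶ Y) [IsClosedImmersion i] [IsIntegral Z'],
    genericPoint Z' ∈ i ⁻¹' E → (interior (i ⁻¹' E)).Nonempty

/-- EGA IV 1.9.10 + 9.2.3: the trace criterion for ind-constructibility -/
theorem indC_of_indTrace {Y : Scheme.{u}} [IsLocallyNoetherian Y] {E : Set Y} (h : IndTrace E) :
    IndC E := by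
  apply indC_of_forall_nhd
  intro x hx
  have hZc : IsClosed (closure ({x} : Set Y)) := isClosed_closure
  have hZi : IsIrreducible (closure ({x} : Set Y)) := isIrreducible_singleton.closure
  obtain ⟨Z', i, hi, hint, hr⟩ := exists_integral_closedSubscheme (closure {x}) hZc hZi
  haveI := hi
  haveI := hint
  have hgen : i (genericPoint Z') = x := by
    have h1 : IsGenericPoint (i (genericPoint Z')) (closure (i '' Set.univ)) :=
      (genericPoint_spec Z').image i.continuous
    rw [Set.image_univ, hr, closure_closure] at h1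
    exact h1.eq isGenericPoint_closure
  obtain ⟨W, hW, hne, hsub⟩ := exists_open_inter_of_interior i.isClosedEmbedding.isEmbedding
    (h Z' i (by change i _ ∈ E; rw [hgen]; exact hx))
  rw [hr] at hne hsub
  refine ⟨W, hW, ?_, hsub⟩
  obtain ⟨w, hwW, hwc⟩ := hne
  exact (specializes_iff_mem_closure.mpr hwc).mem_open hW hwW

/-- a nonempty open subset of an integral scheme contains the generic point -/
theorem genericPoint_mem_of_interior_nonempty {Z : Scheme.{u}} [IsIntegral Z] {L : Set Z}
    (h : (interior L).Nonempty) : genericPoint Z ∈ L := by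
  obtain ⟨z, hz⟩ := h
  exact interior_subset ((genericPoint_specializes z).mem_open isOpen_interior hz)

end Trace

section Mor

variable {P : ∀ ⦃X Y T : Scheme.{u}⦄, (X ⟶ Y) → (Y ⟶ T) → Prop}

/-- a constructible property of morphisms is ind-constructible -/
theorem isIndConsMor_of_isConsMor (hP : ConsProp.IsConsMor P) : ConsProp.IsIndConsMor P := by
  refine ⟨hP.1, ?_⟩
  intro X Y S f g _ _ _ _ _ _ hgen
  rcases hP.2 f g with h | h
  · exact h
  · exact absurd hgen (genericPoint_mem_of_interior_nonempty h)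

/-- the negation of a constructible property of morphisms is constructible -/
theorem isConsMor_not (hP : ConsProp.IsConsMor P) :
    ConsProp.IsConsMor (fun X Y T f g => ¬ P f g) := by
  refine ⟨?_, ?_⟩
  · intro X X' Y Y' T T' f g f' g' eX eY h _ _ _ _ _ _ _ _ hY hX
    exact not_congr (hP.1 f g f' g' eX eY h hY hX)
  · intro X Y S f g _ _ _ _ _ _
    have hc : ConsProp.locusMor (fun X Y T f g => ¬ P f g) f g = (ConsProp.locusMor P f g)ᶜ := rfl
    rw [hc, compl_compl]
    exact (hP.2 f g).symm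

theorem locusMor_not {X Y S : Scheme.{u}} (f : X ⟶ Y) (g : Y ⟶ S) :
    ConsProp.locusMor (fun X Y T f g => ¬ P f g) f g = (ConsProp.locusMor P f g)ᶜ := rfl

/-- EGA IV 9.2.3 over a Noetherian base: the trace condition -/
theorem indTrace_locusMor (hP : ConsProp.IsIndConsMor P) {X Y S : Scheme.{u}} [IsNoetherian S]
    (f : X ⟶ Y) (g : Y ⟶ S) [LocallyOfFiniteType g] [QuasiCompact g]
    [LocallyOfFiniteType (f ≫ g)] [QuasiCompact (f ≫ g)] :
    IndTrace (ConsProp.locusMor P f g) := by
  intro Z' i hi hint hgen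
  haveI : IsLocallyNoetherian Z' := LocallyOfFiniteType.isLocallyNoetherian i
  haveI : CompactSpace Z' := QuasiCompact.compactSpace_of_compactSpace i
  haveI : IsNoetherian Z' := {}
  have hloc := locusMor_bcMap hP.1 f g i
  rw [← hloc] at hgen ⊢
  haveI : LocallyOfFiniteType (bcMap f g i ≫ pullback.snd g i) := by
    rw [bcMap_snd]; infer_instance
  haveI : QuasiCompact (bcMap f g i ≫ pullback.snd g i) := by
    rw [bcMap_snd]; infer_instance
  exact hP.2 (bcMap f g i) (pullback.snd g i) hgen

/-- EGA IV 9.2.3 over a Noetherian base, ind-constructible case -/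
theorem indC_locusMor_noeth (hP : ConsProp.IsIndConsMor P) {X Y S : Scheme.{u}} [IsNoetherian S]
    (f : X ⟶ Y) (g : Y ⟶ S) [LocallyOfFiniteType g] [QuasiCompact g]
    [LocallyOfFiniteType (f ≫ g)] [QuasiCompact (f ≫ g)] :
    IndC (ConsProp.locusMor P f g) :=
  indC_of_indTrace (indTrace_locusMor hP f g)

/-- a Noetherian model of `X ⟶ Y ⟶ S` -/
def HasNoethModel {X Y S : Scheme.{u}} (f : X ⟶ Y) (g : Y ⟶ S) : Prop :=
  ∃ (S₀ X₀ Y₀ : Scheme.{u}) (f₀ : X₀ ⟶ Y₀) (g₀ : Y₀ ⟶ S₀) (φ : S ⟶ S₀) (qY : Y ⟶ Y₀)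
    (qX : X ⟶ X₀), IsNoetherian S₀ ∧ LocallyOfFiniteType g₀ ∧ QuasiCompact g₀ ∧
      LocallyOfFiniteType (f₀ ≫ g₀) ∧ QuasiCompact (f₀ ≫ g₀) ∧ IsPullback qY g g₀ φ ∧
      IsPullback qX f f₀ qY

theorem indC_locusMor_of_hasNoethModel (hP : ConsProp.IsIndConsMor P) {X Y S : Scheme.{u}}
    {f : X ⟶ Y} {g : Y ⟶ S} (h : HasNoethModel f g) : IndC (ConsProp.locusMor P f g) := by
  obtain ⟨S₀, X₀, Y₀, f₀, g₀, φ, qY, qX, h1, h2, h3, h4, h5, hY, hX⟩ := h
  haveI := h1; haveI := h2; haveI := h3; haveI := h4; haveI := h5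
  rw [locusMor_eq_preimage_of_isPullback hP.1 hY hX]
  exact IndC.preimage φ (indC_locusMor_noeth hP f₀ g₀)

end Mor

section Local

/-- an ind-constructible subset of a quasi-compact quasi-separated space is patch-open -/
theorem isPO_of_indC {X : Type*} [TopologicalSpace X] [CompactSpace X] [QuasiSeparatedSpace X]
    {E : Set X} (h : IndC E) : IsPO E := by
  have hV : IsSpecOpen (Set.univ : Set X) :=
    ⟨isOpen_univ, isCompact_univ, isQuasiSeparated_univ⟩
  haveI := hV.compactSpace
  haveI := hV.quasiSeparatedSpace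
  have h1 := h Set.univ hV
  have hj : IsOpenEmbedding (fun x : X => (⟨x, Set.mem_univ x⟩ : (Set.univ : Set X))) :=
    (Homeomorph.Set.univ X).symm.isOpenEmbedding
  exact h1.preimage_of_isOpenEmbedding hj

/-- ind-constructibility can be checked on affine opens -/
theorem indC_of_forall_affine {S : Scheme.{u}} {E : Set S}
    (h : ∀ U : S.Opens, IsAffineOpen U → IndC (U.ι ⁻¹' E)) : IndC E := by
  apply indC_of_forall_exists
  intro x
  obtain ⟨U, hU, hxU⟩ := exists_affine_mem x
  refine ⟨U, hU.isSpecOpen, hxU, ?_⟩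
  haveI := hU.isSpecOpen.compactSpace
  haveI := hU.isSpecOpen.quasiSeparatedSpace
  exact isPO_of_indC (X := ↥(U : Set S)) (h U hU)

end Local

section MorLocal

variable {P : ∀ ⦃X Y T : Scheme.{u}⦄, (X ⟶ Y) → (Y ⟶ T) → Prop}

/-- EGA IV 9.2.3, ind-constructible case, given Noetherian models over the affine opens -/
theorem indC_locusMor_of_forall_affine (hP : ConsProp.IsIndConsMor P) {X Y S : Scheme.{u}}
    (f : X ⟶ Y) (g : Y ⟶ S) [LocallyOfFiniteType g] [QuasiCompact g]
    [LocallyOfFiniteType (f ≫ g)] [QuasiCompact (f ≫ g)]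
    (H : ∀ U : S.Opens, IsAffineOpen U → HasNoethModel (bcMap f g U.ι) (pullback.snd g U.ι)) :
    IndC (ConsProp.locusMor P f g) := by
  apply indC_of_forall_affine
  intro U hU
  rw [← locusMor_bcMap hP.1 f g U.ι]
  exact indC_locusMor_of_hasNoethModel hP (H U hU)

/-- EGA IV 9.2.3, constructible case, given Noetherian models over the affine opens -/
theorem isLocallyConstructible_locusMor_of_forall_affine (hP : ConsProp.IsConsMor P)
    {X Y S : Scheme.{u}} (f : X ⟶ Y) (g : Y ⟶ S) [LocallyOfFiniteType g] [QuasiCompact g]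
    [LocallyOfFiniteType (f ≫ g)] [QuasiCompact (f ≫ g)]
    (H : ∀ U : S.Opens, IsAffineOpen U → HasNoethModel (bcMap f g U.ι) (pullback.snd g U.ι)) :
    IsLocallyConstructible (ConsProp.locusMor P f g) := by
  rw [isLocallyConstructible_iff (locSpectral S), proC_iff_indC_compl, ← locusMor_not]
  exact ⟨indC_locusMor_of_forall_affine (isIndConsMor_of_isConsMor hP) f g H,
    indC_locusMor_of_forall_affine (isIndConsMor_of_isConsMor (isConsMor_not hP)) f g H⟩

end MorLocal

section Pair

variable {P : ∀ ⦃X Y T : Scheme.{u}⦄, (X ⟶ T) → (Y ⟶ T) → Prop}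

/-- a constructible property of pairs is ind-constructible -/
theorem isIndConsPair_of_isConsPair (hP : ConsPropPair.IsConsPair P) :
    ConsPropPair.IsIndConsPair P := by
  refine ⟨hP.1, ?_⟩
  intro X Y S u v _ _ _ _ _ _ hgen
  rcases hP.2 u v with h | h
  · exact h
  · exact absurd hgen (genericPoint_mem_of_interior_nonempty h)

/-- the negation of a constructible property of pairs is constructible -/
theorem isConsPair_not (hP : ConsPropPair.IsConsPair P) :
    ConsPropPair.IsConsPair (fun X Y T u v => ¬ P u v) := by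
  refine ⟨?_, ?_⟩
  · intro X X' Y Y' T T' gX gY gX' gY' eX eY h _ _ _ _ _ _ _ _ hX hY
    exact not_congr (hP.1 gX gY gX' gY' eX eY h hX hY)
  · intro X Y S u v _ _ _ _ _ _
    have hc : ConsPropPair.locusPair (fun X Y T u v => ¬ P u v) u v =
        (ConsPropPair.locusPair P u v)ᶜ := rfl
    rw [hc, compl_compl]
    exact (hP.2 u v).symm

theorem locusPair_not {X Y S : Scheme.{u}} (u : X ⟶ S) (v : Y ⟶ S) :
    ConsPropPair.locusPair (fun X Y T u v => ¬ P u v) u v = (ConsPropPair.locusPair P u v)ᶜ := rfl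

theorem indTrace_locusPair (hP : ConsPropPair.IsIndConsPair P) {X Y S : Scheme.{u}}
    [IsNoetherian S] (u : X ⟶ S) (v : Y ⟶ S) [LocallyOfFiniteType u] [QuasiCompact u]
    [LocallyOfFiniteType v] [QuasiCompact v] :
    IndTrace (ConsPropPair.locusPair P u v) := by
  intro Z' i hi hint hgen
  haveI : IsLocallyNoetherian Z' := LocallyOfFiniteType.isLocallyNoetherian i
  haveI : CompactSpace Z' := QuasiCompact.compactSpace_of_compactSpace i
  haveI : IsNoetherian Z' := {}
  have hloc := locusPair_snd hP.1 u v i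
  rw [← hloc] at hgen ⊢
  exact hP.2 (pullback.snd u i) (pullback.snd v i) hgen

theorem indC_locusPair_noeth (hP : ConsPropPair.IsIndConsPair P) {X Y S : Scheme.{u}}
    [IsNoetherian S] (u : X ⟶ S) (v : Y ⟶ S) [LocallyOfFiniteType u] [QuasiCompact u]
    [LocallyOfFiniteType v] [QuasiCompact v] :
    IndC (ConsPropPair.locusPair P u v) :=
  indC_of_indTrace (indTrace_locusPair hP u v)

/-- a Noetherian model of a pair of `S`-schemes -/
def HasNoethModelPair {X Y S : Scheme.{u}} (u : X ⟶ S) (v : Y ⟶ S) : Prop :=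
  ∃ (S₀ X₀ Y₀ : Scheme.{u}) (u₀ : X₀ ⟶ S₀) (v₀ : Y₀ ⟶ S₀) (φ : S ⟶ S₀) (qX : X ⟶ X₀)
    (qY : Y ⟶ Y₀), IsNoetherian S₀ ∧ LocallyOfFiniteType u₀ ∧ QuasiCompact u₀ ∧
      LocallyOfFiniteType v₀ ∧ QuasiCompact v₀ ∧ IsPullback qX u u₀ φ ∧ IsPullback qY v v₀ φ

theorem indC_locusPair_of_hasNoethModelPair (hP : ConsPropPair.IsIndConsPair P)
    {X Y S : Scheme.{u}} {u : X ⟶ S} {v : Y ⟶ S} (h : HasNoethModelPair u v) :
    IndC (ConsPropPair.locusPair P u v) := by
  obtain ⟨S₀, X₀, Y₀, u₀, v₀, φ, qX, qY, h1, h2, h3, h4, h5, hX, hY⟩ := h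
  haveI := h1; haveI := h2; haveI := h3; haveI := h4; haveI := h5
  rw [locusPair_eq_preimage_of_isPullback hP.1 hX hY]
  exact IndC.preimage φ (indC_locusPair_noeth hP u₀ v₀)

theorem indC_locusPair_of_forall_affine (hP : ConsPropPair.IsIndConsPair P) {X Y S : Scheme.{u}}
    (u : X ⟶ S) (v : Y ⟶ S) [LocallyOfFiniteType u] [QuasiCompact u]
    [LocallyOfFiniteType v] [QuasiCompact v]
    (H : ∀ U : S.Opens, IsAffineOpen U →
      HasNoethModelPair (pullback.snd u U.ι) (pullback.snd v U.ι)) :
    IndC (ConsPropPair.locusPair P u v) := by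
  apply indC_of_forall_affine
  intro U hU
  rw [← locusPair_snd hP.1 u v U.ι]
  exact indC_locusPair_of_hasNoethModelPair hP (H U hU)

theorem isLocallyConstructible_locusPair_of_forall_affine (hP : ConsPropPair.IsConsPair P)
    {X Y S : Scheme.{u}} (u : X ⟶ S) (v : Y ⟶ S) [LocallyOfFiniteType u] [QuasiCompact u]
    [LocallyOfFiniteType v] [QuasiCompact v]
    (H : ∀ U : S.Opens, IsAffineOpen U →
      HasNoethModelPair (pullback.snd u U.ι) (pullback.snd v U.ι)) :
    IsLocallyConstructible (ConsPropPair.locusPair P u v) := by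
  rw [isLocallyConstructible_iff (locSpectral S), proC_iff_indC_compl, ← locusPair_not]
  exact ⟨indC_locusPair_of_forall_affine (isIndConsPair_of_isConsPair hP) u v H,
    indC_locusPair_of_forall_affine (isIndConsPair_of_isConsPair (isConsPair_not hP)) u v H⟩

end Pair

end Groth.Agent.Lib.Helper25.ConsBase
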