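import Mathlib
import Groth.Agent.Lib.Helper25.ConsBase
import Groth.Agent.Lib.Helper25.ConsPairLim
import Groth.Agent.Lib.Helper22.LimBaseChange
import Groth.Agent.Lib.Helper13.LimDescendSurj

/-!
# Noetherian approximation over an affine base, from descent of finitely presented morphisms
(helper25)

`FPDescent` is the statement of EGA IV 8.9.1 (Stacks 01ZM, milestone S0591).  From it we get
Noetherian models (`ConsBase.HasNoethModel`, `ConsBase.HasNoethModelPair`) of finitely presented
data over an affine base, using the presentation of a ring as the filtered colimit of its finitely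
generated `ℤ`-subalgebras (`ConsPair.specDiag`).
-/

set_option autoImplicit false
set_option linter.unusedSectionVars false
set_option linter.unusedVariables false
set_option linter.style.haveILetI false
universe u

open CategoryTheory CategoryTheory.Limits AlgebraicGeometry Topology

namespace Groth.Agent.Lib.Helper25.NoethApprox

open Groth.Agent.Lib.Helper25.ConsBase Groth.Agent.Lib.Helper25.ConsPair Groth.Agent.Lib.Helper22
open Groth.Agent.Lib.Helper13.LimDescend (locallyOfFinitePresentation_of_comp)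

/-- the statement of EGA IV 8.9.1 -/
def FPDescent : Prop :=
  ∀ {I : Type u} [SmallCategory I] [IsCofiltered I]
    (D : I ⥤ Scheme.{u}) (c : Limits.Cone D) (hc : Limits.IsLimit c)
    [∀ (i j : I) (f : i ⟶ j), IsAffineHom (D.map f)] [∀ i, CompactSpace (D.obj i)]
    [∀ i, QuasiSeparatedSpace (D.obj i)] (X : Scheme.{u}) (f : X ⟶ c.pt)
    [LocallyOfFinitePresentation f] [QuasiCompact f] [QuasiSeparated f],
    ∃ (i : I) (Xi : Scheme.{u}) (fi : Xi ⟶ D.obj i) (g : X ⟶ Xi),
      LocallyOfFinitePresentation fi ∧ QuasiCompact fi ∧ QuasiSeparated fi ∧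
      IsPullback g f fi (c.π.app i)

section Ring

/-- the base ring `ℤ`, in the universe `u` -/
abbrev ZZ : Type u := ULift.{u} ℤ

instance : IsNoetherianRing ZZ.{u} :=
  isNoetherianRing_of_ringEquiv ℤ ULift.ringEquiv.symm

variable (K : Type u) [CommRing K]

@[instance_reducible]
noncomputable def algZZ : Algebra ZZ.{u} K := ULift.algebra' ℤ K

attribute [local instance] algZZ

instance isNoetherian_stage (s : (Finset K)ᵒᵖ) : IsNoetherian ((specDiag ZZ.{u} K).obj s) := by
  have h1 : Algebra.FiniteType ZZ.{u} (Algebra.adjoin ZZ.{u} (s.unop : Set K)) :=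
    ⟨(Subalgebra.fg_top _).mpr (Subalgebra.fg_adjoin_finset s.unop)⟩
  haveI : IsNoetherianRing (Algebra.adjoin ZZ.{u} (s.unop : Set K)) :=
    Algebra.FiniteType.isNoetherianRing ZZ.{u} _
  change IsNoetherian (Spec (CommRingCat.of (Algebra.adjoin ZZ.{u} (s.unop : Set K))))
  infer_instance

end Ring

section Main

attribute [local instance] algZZ

instance bcDiag_quasiSeparatedSpace {I : Type u} [Category.{u} I] (D : I ⥤ Scheme.{u})
    [∀ (i j : I) (f : i ⟶ j), IsAffineHom (D.map f)]
    (i : I) {T : Scheme.{u}} (a : T ⟶ D.obj i) [QuasiSeparatedSpace T] (j : Over i) :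
    QuasiSeparatedSpace ((bcDiag D i a).obj j) := by
  rw [bcDiag_obj]
  have : IsAffineHom (pullback.snd (D.map j.hom) a) :=
    MorphismProperty.of_isPullback (P := @IsAffineHom) (IsPullback.of_hasPullback (D.map j.hom) a)
      inferInstance
  exact quasiSeparatedSpace_of_quasiSeparated (pullback.snd (D.map j.hom) a)

/-- cancellation of finite presentation hypotheses -/
theorem fp_of_comp {X Y S : Scheme.{u}} (f : X ⟶ Y) (g : Y ⟶ S)
    [LocallyOfFinitePresentation g] [QuasiCompact g] [QuasiSeparated g]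
    [LocallyOfFinitePresentation (f ≫ g)] [QuasiCompact (f ≫ g)] [QuasiSeparated (f ≫ g)] :
    LocallyOfFinitePresentation f ∧ QuasiCompact f ∧ QuasiSeparated f :=
  ⟨locallyOfFinitePresentation_of_comp f g, QuasiCompact.of_comp f g, QuasiSeparated.of_comp f g⟩

variable (H : FPDescent.{u})

include H in
/-- Noetherian approximation of `X ⟶ Y ⟶ S` over an affine base -/
theorem hasNoethModel_of_isAffine {X Y S : Scheme.{u}} [IsAffine S] (f : X ⟶ Y) (g : Y ⟶ S)
    [LocallyOfFinitePresentation g] [QuasiCompact g] [QuasiSeparated g]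
    [LocallyOfFinitePresentation (f ≫ g)] [QuasiCompact (f ≫ g)] [QuasiSeparated (f ≫ g)] :
    HasNoethModel f g := by
  obtain ⟨hf1, hf2, hf3⟩ := fp_of_comp f g
  let K : Type u := Γ(S, ⊤)
  let D := specDiag ZZ.{u} K
  let c := specCone ZZ.{u} K
  let hc : IsLimit c := specIsLimit ZZ.{u} K
  let e : S ⟶ c.pt := S.isoSpec.hom
  haveI : IsIso e := inferInstanceAs (IsIso S.isoSpec.hom)
  -- first step: `Y`
  obtain ⟨s₀, Y₀, g₀, qY, h1, h2, h3, hY⟩ := H D c hc Y (g ≫ e)
  haveI := h1; haveI := h2; haveI := h3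
  haveI : CompactSpace Y₀ := QuasiCompact.compactSpace_of_compactSpace g₀
  haveI : QuasiSeparatedSpace Y₀ := quasiSeparatedSpace_of_quasiSeparated g₀
  -- second step: `X`
  let D' := bcDiag D s₀ g₀
  let c' := bcCone D c s₀ g₀
  let hc' : IsLimit c' := bcIsLimit D hc s₀ g₀
  let θ : Y ≅ c'.pt := hY.flip.isoPullback
  have hθ1 : θ.hom ≫ pullback.fst (c.π.app s₀) g₀ = g ≫ e := hY.flip.isoPullback_hom_fst
  have hθ2 : θ.hom ≫ pullback.snd (c.π.app s₀) g₀ = qY := hY.flip.isoPullback_hom_snd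
  obtain ⟨k, Xk, fk, qX, k1, k2, k3, hX⟩ := H D' c' hc' X (f ≫ θ.hom)
  haveI := k1; haveI := k2; haveI := k3
  -- the model
  let πk : pullback (c.π.app s₀) g₀ ⟶ pullback (D.map k.hom) g₀ := c'.π.app k
  have hπ1 : πk ≫ pullback.snd (D.map k.hom) g₀ = pullback.snd (c.π.app s₀) g₀ :=
    bcCone_π_snd D c s₀ g₀ k
  have hπ2 : πk ≫ pullback.fst (D.map k.hom) g₀ = pullback.fst (c.π.app s₀) g₀ ≫ c.π.app k.left :=
    bcCone_π_fst D c s₀ g₀ k
  let θ' : Y ⟶ pullback (c.π.app s₀) g₀ := θ.hom
  haveI : IsIso θ' := inferInstanceAs (IsIso θ.hom)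
  let fk' : Xk ⟶ pullback (D.map k.hom) g₀ := fk
  have hXk : IsPullback qX (f ≫ θ') fk' πk := hX
  let g₀' : pullback (D.map k.hom) g₀ ⟶ D.obj k.left := pullback.fst (D.map k.hom) g₀
  let φ : S ⟶ D.obj k.left := e ≫ c.π.app k.left
  let qY' : Y ⟶ pullback (D.map k.hom) g₀ := θ' ≫ πk
  have hφ : φ ≫ D.map k.hom = e ≫ c.π.app s₀ := by
    change (e ≫ c.π.app k.left) ≫ D.map k.hom = e ≫ c.π.app s₀
    rw [Category.assoc, c.w]
  have hqY'1 : qY' ≫ pullback.snd (D.map k.hom) g₀ = qY := by
    change (θ' ≫ πk) ≫ pullback.snd (D.map k.hom) g₀ = qY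
    rw [Category.assoc, hπ1]
    exact hθ2
  have hqY'2 : qY' ≫ g₀' = g ≫ φ := by
    change (θ' ≫ πk) ≫ pullback.fst (D.map k.hom) g₀ = g ≫ e ≫ c.π.app k.left
    rw [Category.assoc, hπ2, ← Category.assoc, ← Category.assoc]
    congr 1
  have hY1 : IsPullback qY g g₀ (e ≫ c.π.app s₀) := by
    have hiso : IsPullback (𝟙 Y) g (g ≫ e) e := IsPullback.of_horiz_isIso ⟨by simp⟩
    simpa using hiso.paste_horiz hY
  have hY' : IsPullback qY' g g₀' φ := by
    refine IsPullback.of_right ?_ hqY'2 (IsPullback.of_hasPullback (D.map k.hom) g₀).flip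
    rw [hqY'1, hφ]
    exact hY1
  have hX' : IsPullback qX f fk' qY' := by
    have hiso : IsPullback (𝟙 X) f (f ≫ θ') θ' := IsPullback.of_horiz_isIso ⟨by simp⟩
    simpa using hiso.paste_horiz hXk
  refine ⟨D.obj k.left, Xk, pullback (D.map k.hom) g₀, fk', g₀', φ, qY', qX, inferInstance,
    inferInstance, inferInstance, ?_, ?_, hY', hX'⟩
  · haveI : LocallyOfFinitePresentation g₀' := inferInstance
    haveI : LocallyOfFinitePresentation fk' := k1
    haveI : LocallyOfFinitePresentation (fk' ≫ g₀') := inferInstance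
    infer_instance
  · haveI : QuasiCompact fk' := k2
    infer_instance

end Main

section Pair

attribute [local instance] algZZ

/-- passing to a finer stage -/
theorem restage {I : Type u} [Category.{u} I] {D : I ⥤ Scheme.{u}} (c : Cone D)
    {X X₁ : Scheme.{u}} {i j : I} (φ : j ⟶ i) (u : X ⟶ c.pt) (u₁ : X₁ ⟶ D.obj i) (q : X ⟶ X₁)
    (h : IsPullback q u u₁ (c.π.app i)) :
    ∃ q' : X ⟶ pullback u₁ (D.map φ),
      IsPullback q' u (pullback.snd u₁ (D.map φ)) (c.π.app j) := by
  have hw : q ≫ u₁ = (u ≫ c.π.app j) ≫ D.map φ := by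
    rw [Category.assoc, c.w, h.w]
  refine ⟨pullback.lift q (u ≫ c.π.app j) hw, ?_⟩
  refine IsPullback.of_right ?_ (pullback.lift_snd _ _ _) (IsPullback.of_hasPullback u₁ (D.map φ))
  rw [pullback.lift_fst, c.w]
  exact h

variable (H : FPDescent.{u})

include H in
/-- Noetherian approximation of a pair of finitely presented schemes over an affine base -/
theorem hasNoethModelPair_of_isAffine {X Y S : Scheme.{u}} [IsAffine S] (u : X ⟶ S) (v : Y ⟶ S)
    [LocallyOfFinitePresentation u] [QuasiCompact u] [QuasiSeparated u]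
    [LocallyOfFinitePresentation v] [QuasiCompact v] [QuasiSeparated v] :
    HasNoethModelPair u v := by
  let K : Type u := Γ(S, ⊤)
  let D := specDiag ZZ.{u} K
  let c := specCone ZZ.{u} K
  let hc : IsLimit c := specIsLimit ZZ.{u} K
  let e : S ⟶ c.pt := S.isoSpec.hom
  haveI : IsIso e := inferInstanceAs (IsIso S.isoSpec.hom)
  obtain ⟨s₁, X₁, u₁, qX, h1, h2, h3, hX⟩ := H D c hc X (u ≫ e)
  obtain ⟨s₂, Y₂, v₂, qY, k1, k2, k3, hY⟩ := H D c hc Y (v ≫ e)
  haveI := h1; haveI := h2; haveI := k1; haveI := k2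
  let s := IsCofiltered.min s₁ s₂
  let φ₁ : s ⟶ s₁ := IsCofiltered.minToLeft s₁ s₂
  let φ₂ : s ⟶ s₂ := IsCofiltered.minToRight s₁ s₂
  obtain ⟨qX', hX'⟩ := restage c φ₁ (u ≫ e) u₁ qX hX
  obtain ⟨qY', hY'⟩ := restage c φ₂ (v ≫ e) v₂ qY hY
  have hX1 : IsPullback qX' u (pullback.snd u₁ (D.map φ₁)) (e ≫ c.π.app s) := by
    have hiso : IsPullback (𝟙 X) u (u ≫ e) e := IsPullback.of_horiz_isIso ⟨by simp⟩
    simpa using hiso.paste_horiz hX'
  have hY1 : IsPullback qY' v (pullback.snd v₂ (D.map φ₂)) (e ≫ c.π.app s) := by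
    have hiso : IsPullback (𝟙 Y) v (v ≫ e) e := IsPullback.of_horiz_isIso ⟨by simp⟩
    simpa using hiso.paste_horiz hY'
  exact ⟨D.obj s, pullback u₁ (D.map φ₁), pullback v₂ (D.map φ₂), pullback.snd u₁ (D.map φ₁),
    pullback.snd v₂ (D.map φ₂), e ≫ c.π.app s, qX', qY', inferInstance, inferInstance,
    inferInstance, inferInstance, inferInstance, hX1, hY1⟩

end Pair

section Final

open Groth.Agent.Lib.Helper25.FibLocus Groth.Agent.Lib.Helper25.PC

variable (H : FPDescent.{u})

include H in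
theorem hasNoethModel_bcMap {X Y S : Scheme.{u}} (f : X ⟶ Y) (g : Y ⟶ S)
    [LocallyOfFinitePresentation g] [QuasiCompact g] [QuasiSeparated g]
    [LocallyOfFinitePresentation (f ≫ g)] [QuasiCompact (f ≫ g)] [QuasiSeparated (f ≫ g)]
    {T : Scheme.{u}} [IsAffine T] (b : T ⟶ S) :
    HasNoethModel (bcMap f g b) (pullback.snd g b) := by
  haveI : LocallyOfFinitePresentation (bcMap f g b ≫ pullback.snd g b) := by
    rw [bcMap_snd]; infer_instance
  haveI : QuasiCompact (bcMap f g b ≫ pullback.snd g b) := by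
    rw [bcMap_snd]; infer_instance
  haveI : QuasiSeparated (bcMap f g b ≫ pullback.snd g b) := by
    rw [bcMap_snd]; infer_instance
  exact hasNoethModel_of_isAffine H (bcMap f g b) (pullback.snd g b)

include H in
/-- EGA IV 9.2.3 (ind-constructible case, morphisms), from `FPDescent` -/
theorem indC_locusMor {P : ∀ ⦃X Y T : Scheme.{u}⦄, (X ⟶ Y) → (Y ⟶ T) → Prop}
    (hP : ConsProp.IsIndConsMor P) {X Y S : Scheme.{u}} (f : X ⟶ Y) (g : Y ⟶ S)
    [LocallyOfFinitePresentation g] [QuasiCompact g] [QuasiSeparated g]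
    [LocallyOfFinitePresentation (f ≫ g)] [QuasiCompact (f ≫ g)] [QuasiSeparated (f ≫ g)] :
    IndC (ConsProp.locusMor P f g) :=
  indC_locusMor_of_forall_affine hP f g (fun U hU => by
    haveI : IsAffine U := hU
    exact hasNoethModel_bcMap H f g U.ι)

include H in
/-- EGA IV 9.2.3 (constructible case, morphisms), from `FPDescent` -/
theorem isLocallyConstructible_locusMor {P : ∀ ⦃X Y T : Scheme.{u}⦄, (X ⟶ Y) → (Y ⟶ T) → Prop}
    (hP : ConsProp.IsConsMor P) {X Y S : Scheme.{u}} (f : X ⟶ Y) (g : Y ⟶ S)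
    [LocallyOfFinitePresentation g] [QuasiCompact g] [QuasiSeparated g]
    [LocallyOfFinitePresentation (f ≫ g)] [QuasiCompact (f ≫ g)] [QuasiSeparated (f ≫ g)] :
    IsLocallyConstructible (ConsProp.locusMor P f g) :=
  isLocallyConstructible_locusMor_of_forall_affine hP f g (fun U hU => by
    haveI : IsAffine U := hU
    exact hasNoethModel_bcMap H f g U.ι)

include H in
/-- EGA IV 9.2.3 (ind-constructible case, pairs), from `FPDescent` -/
theorem indC_locusPair {P : ∀ ⦃X Y T : Scheme.{u}⦄, (X ⟶ T) → (Y ⟶ T) → Prop}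
    (hP : ConsPropPair.IsIndConsPair P) {X Y S : Scheme.{u}} (u : X ⟶ S) (v : Y ⟶ S)
    [LocallyOfFinitePresentation u] [QuasiCompact u] [QuasiSeparated u]
    [LocallyOfFinitePresentation v] [QuasiCompact v] [QuasiSeparated v] :
    IndC (ConsPropPair.locusPair P u v) :=
  indC_locusPair_of_forall_affine hP u v (fun U hU => by
    haveI : IsAffine U := hU
    exact hasNoethModelPair_of_isAffine H (pullback.snd u U.ι) (pullback.snd v U.ι))

include H in
/-- EGA IV 9.2.3 (constructible case, pairs), from `FPDescent` -/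
theorem isLocallyConstructible_locusPair {P : ∀ ⦃X Y T : Scheme.{u}⦄, (X ⟶ T) → (Y ⟶ T) → Prop}
    (hP : ConsPropPair.IsConsPair P) {X Y S : Scheme.{u}} (u : X ⟶ S) (v : Y ⟶ S)
    [LocallyOfFinitePresentation u] [QuasiCompact u] [QuasiSeparated u]
    [LocallyOfFinitePresentation v] [QuasiCompact v] [QuasiSeparated v] :
    IsLocallyConstructible (ConsPropPair.locusPair P u v) :=
  isLocallyConstructible_locusPair_of_forall_affine hP u v (fun U hU => by
    haveI : IsAffine U := hU
    exact hasNoethModelPair_of_isAffine H (pullback.snd u U.ι) (pullback.snd v U.ι))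

end Final

end Groth.Agent.Lib.Helper25.NoethApprox
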