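import Mathlib
import Groth.Prelude.Def_EGA4Misc
import Groth.Agent.Lib.Helper25.ConsFib

/-!
# Constructible properties from locally constructible fibre loci (helper25)

* `fpqc_of_onePoint`, `fpqc_of_isPullback`: a base change of a morphism of one-point integral
  schemes is an fpqc covering;
* `isFieldStable_of_descends`, `isFieldStableMor_of_descends`: field-stability for fpqc-local
  morphism properties;
* `cons_dichotomy`: a locally constructible subset of an integral Noetherian scheme, or its
  complement, has nonempty interior.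
-/

set_option autoImplicit false
set_option linter.unusedSectionVars false
set_option linter.unusedVariables false
set_option linter.style.haveILetI false
universe u

open CategoryTheory CategoryTheory.Limits AlgebraicGeometry Topology MorphismProperty

namespace Groth.Agent.Lib.Helper25.ConsLocus

/-- a morphism of one-point integral schemes is an fpqc covering -/
theorem fpqc_of_onePoint {T T' : Scheme.{u}} (h : T' ⟶ T) [IsIntegral T] [Subsingleton T]
    [IsIntegral T'] [Subsingleton T'] :
    (@Surjective ⊓ @Flat ⊓ @QuasiCompact : MorphismProperty Scheme.{u}) h := by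
  refine ⟨⟨?_, inferInstance⟩, ?_⟩
  · exact ⟨fun t => ⟨(inferInstance : Nonempty T').some, Subsingleton.elim _ _⟩⟩
  · exact ⟨fun U hU hU' => (Set.toFinite _).isCompact⟩

/-- a base change of a morphism of one-point integral schemes is an fpqc covering -/
theorem fpqc_of_isPullback {Y Y' T T' : Scheme.{u}} {eY : Y' ⟶ Y} {g' : Y' ⟶ T'} {g : Y ⟶ T}
    {h : T' ⟶ T} [IsIntegral T] [Subsingleton T] [IsIntegral T'] [Subsingleton T']
    (hY : IsPullback eY g' g h) :
    (@Surjective ⊓ @Flat ⊓ @QuasiCompact : MorphismProperty Scheme.{u}) eY :=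
  ⟨⟨MorphismProperty.of_isPullback hY.flip (fpqc_of_onePoint h).1.1,
    MorphismProperty.of_isPullback hY.flip (fpqc_of_onePoint h).1.2⟩,
    MorphismProperty.of_isPullback hY.flip (fpqc_of_onePoint h).2⟩

/-- field-stability of an fpqc-local property of the structure morphism -/
theorem isFieldStable_of_descends (Q : MorphismProperty Scheme.{u}) [Q.IsStableUnderBaseChange]
    [Q.DescendsAlong (@Surjective ⊓ @Flat ⊓ @QuasiCompact)] :
    ConsProp.IsFieldStable (fun Y T g => Q g) := by
  intro Y Y' T T' g g' e h _ _ _ _ _ _ hsq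
  exact (MorphismProperty.iff_of_isPullback hsq.flip (fpqc_of_onePoint h)).symm

/-- field-stability of an fpqc-local property of morphisms -/
theorem isFieldStableMor_of_descends (Q : MorphismProperty Scheme.{u}) [Q.IsStableUnderBaseChange]
    [Q.DescendsAlong (@Surjective ⊓ @Flat ⊓ @QuasiCompact)] :
    ConsProp.IsFieldStableMor (fun X Y T f g => Q f) := by
  intro X X' Y Y' T T' f g f' g' eX eY h _ _ _ _ _ _ _ _ hY hX
  exact (MorphismProperty.iff_of_isPullback hX.flip (fpqc_of_isPullback hY)).symm

open Groth.Agent.Lib.helper11.ConstrTop in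
/-- a locally constructible subset of an integral Noetherian scheme, or its complement, contains a
nonempty open -/
theorem cons_dichotomy {S : Scheme.{u}} [IsIntegral S] [IsNoetherian S] {E : Set S}
    (hE : IsLocallyConstructible E) :
    (interior E).Nonempty ∨ (interior Eᶜ).Nonempty := by
  have hC : IsConstructible E := hE.isConstructible
  obtain ⟨U, hU, hne, h | h⟩ := dichotomy hC (IrreducibleSpace.isIrreducible_univ S)
  · left
    obtain ⟨s, hs⟩ := hne
    exact ⟨s, mem_interior.mpr ⟨U, by simpa using h, hU, hs.1⟩⟩
  · right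
    obtain ⟨s, hs⟩ := hne
    exact ⟨s, mem_interior.mpr ⟨U, by simpa using h, hU, hs.1⟩⟩

/-- over an integral Noetherian base, finite type data satisfy the hypotheses of the fibre-locus
theorems -/
theorem fp_of_noetherian {X Y S : Scheme.{u}} (f : X ⟶ Y) (g : Y ⟶ S) [IsNoetherian S]
    [LocallyOfFiniteType g] [QuasiCompact g] [LocallyOfFiniteType (f ≫ g)] [QuasiCompact (f ≫ g)] :
    LocallyOfFinitePresentation g ∧ QuasiSeparated g ∧ LocallyOfFinitePresentation (f ≫ g) ∧
      QuasiSeparated (f ≫ g) := by
  haveI : IsLocallyNoetherian Y := LocallyOfFiniteType.isLocallyNoetherian g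
  haveI : IsLocallyNoetherian X := LocallyOfFiniteType.isLocallyNoetherian (f ≫ g)
  exact ⟨inferInstance, inferInstance, inferInstance, inferInstance⟩

/-- quasi-finiteness descends along a surjective base change (for morphisms of finite type) -/
theorem lqf_of_isPullback {X X' Y Y' : Scheme.{u}} {eX : X' ⟶ X} {f' : X' ⟶ Y'} {f : X ⟶ Y}
    {eY : Y' ⟶ Y} (hX : IsPullback eX f' f eY) (hs : Function.Surjective eY)
    [LocallyOfFiniteType f] [QuasiCompact f] [LocallyQuasiFinite f'] : LocallyQuasiFinite f := by
  haveI : QuasiCompact f' := MorphismProperty.of_isPullback hX (inferInstance : QuasiCompact f)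
  rw [locallyQuasiFinite_iff_finite_preimage_singleton]
  intro y
  obtain ⟨y', rfl⟩ := hs y
  have := Scheme.image_preimage_eq_of_isPullback hX.flip {y'}
  rw [Set.image_singleton] at this
  rw [← this]
  exact (f'.finite_preimage_singleton y').image _

section schemeLocus

variable {X S : Scheme.{u}} (u : X ⟶ S)

/-- the fibre of `u` at `s`, compared with the fibre map of `u` over `𝟙 S` -/
theorem prop_fiberMap_id_iff (Q : MorphismProperty Scheme.{u}) [Q.RespectsIso] (s : S) :
    Q (MoreMor.fiberMap u (𝟙 S) s) ↔ Q (u.fiberToSpecResidueField s) := by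
  let e : (u ≫ 𝟙 S).fiber s ≅ u.fiber s :=
    pullback.congrHom (Category.comp_id u) rfl
  have he : e.hom ≫ u.fiberToSpecResidueField s = (u ≫ 𝟙 S).fiberToSpecResidueField s := by
    simp only [e, Scheme.Hom.fiberToSpecResidueField, pullback.congrHom_hom]
    exact (pullback.lift_snd _ _ _).trans (Category.comp_id _)
  have h1 : MoreMor.fiberMap u (𝟙 S) s ≫ Scheme.Hom.fiberToSpecResidueField (𝟙 S) s =
      (u ≫ 𝟙 S).fiberToSpecResidueField s :=
    pullback.lift_snd _ _ _
  haveI : IsIso (Scheme.Hom.fiberToSpecResidueField (𝟙 S) s) :=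
    inferInstanceAs (IsIso (pullback.snd (𝟙 S) (S.fromSpecResidueField s)))
  rw [← Q.cancel_right_of_respectsIso _ (Scheme.Hom.fiberToSpecResidueField (𝟙 S) s), h1, ← he,
    Q.cancel_left_of_respectsIso]

end schemeLocus

end Groth.Agent.Lib.Helper25.ConsLocus
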