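import Mathlib
import Groth.Agent.Lib.Helper25.ConsPairLim
import Groth.Agent.Lib.Helper13.LimDescendSurj
import Groth.Agent.Lib.Helper13.LimDescendClosedImm
import Groth.Agent.Lib.Helper13.LimDescendCore2

/-!
# Descent of the diagonal property (helper25)

If `Q` descends along cofiltered limits (in the sense of `Descends`), so does `Q.diagonal`.
-/

set_option autoImplicit false
set_option linter.unusedSectionVars false
set_option linter.unusedVariables false
set_option linter.style.haveILetI false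
universe u

open CategoryTheory CategoryTheory.Limits AlgebraicGeometry

namespace Groth.Agent.Lib.Helper25.ConsPair

/-- the base change functor on over categories turns a morphism into its base change -/
theorem isPullback_overPullback_map {C : Type*} [Category C] [HasPullbacks C] {Z X : C}
    {A B : Over Z} (α : A ⟶ B) (f : X ⟶ Z) :
    IsPullback (pullback.fst A.hom f) ((Over.pullback f).map α).left α.left
      (pullback.fst B.hom f) := by
  have hw : ((Over.pullback f).map α).left ≫ pullback.snd B.hom f = pullback.snd A.hom f :=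
    Over.w ((Over.pullback f).map α)
  have hfst : ((Over.pullback f).map α).left ≫ pullback.fst B.hom f =
      pullback.fst A.hom f ≫ α.left := by
    simp only [Over.pullback, Over.homMk_left]
    exact pullback.lift_fst _ _ _
  refine (IsPullback.of_right ?_ hfst (IsPullback.of_hasPullback B.hom f).flip).flip
  rw [hw, Over.w α]
  exact (IsPullback.of_hasPullback A.hom f).flip

/-- the diagonal of a base change, as a base change of the diagonal -/
theorem diagonal_pullback_fst_iff (Q : MorphismProperty Scheme.{u}) [Q.RespectsIso]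
    {Y Y₀ X₀ : Scheme.{u}} (qY : Y ⟶ Y₀) (f₀ : X₀ ⟶ Y₀) :
    Q.diagonal (pullback.fst qY f₀) ↔
      Q ((Over.pullback qY).map
        (Over.homMk (pullback.diagonal f₀) : Over.mk f₀ ⟶ Over.mk (pullback.snd f₀ f₀ ≫ f₀))).left := by
  rw [MorphismProperty.diagonal_iff, CategoryTheory.Limits.diagonal_pullback_fst,
    Q.cancel_left_of_respectsIso, Q.cancel_right_of_respectsIso]

set_option maxHeartbeats 1600000 in
/-- descent of the diagonal property -/
theorem descends_diagonal (Q : MorphismProperty Scheme.{u}) [Q.IsStableUnderBaseChange]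
    (hQ : Descends Q) : Descends Q.diagonal := by
  intro I _ _ D c hc _ i₀ _ X₀ Y₀ f₀ g₀ _ _ _ _ _ _ _ _ _ _ _ X Y f g qY qX hY hX hf
  -- `f` is isomorphic to the canonical base change
  have hf1 : Q.diagonal (pullback.fst qY f₀) := by
    have he : pullback.fst qY f₀ = hX.flip.isoPullback.inv ≫ f := by
      rw [Iso.eq_inv_comp]; exact hX.flip.isoPullback_hom_fst
    rw [he, Q.diagonal.cancel_left_of_respectsIso]
    exact hf
  let α : Over.mk f₀ ⟶ Over.mk (pullback.snd f₀ f₀ ≫ f₀) := Over.homMk (pullback.diagonal f₀)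
  have hM : Q ((Over.pullback qY).map α).left := (diagonal_pullback_fst_iff Q qY f₀).mp hf1
  have hsqM : IsPullback (pullback.fst f₀ qY) ((Over.pullback qY).map α).left
      (pullback.diagonal f₀) (pullback.fst (pullback.snd f₀ f₀ ≫ f₀) qY) :=
    isPullback_overPullback_map α qY
  have hY' : IsPullback (pullback.fst (pullback.snd f₀ f₀ ≫ f₀) qY)
      (pullback.snd (pullback.snd f₀ f₀ ≫ f₀) qY ≫ g) ((pullback.snd f₀ f₀ ≫ f₀) ≫ g₀)
      (c.π.app i₀) :=
    (IsPullback.of_hasPullback (pullback.snd f₀ f₀ ≫ f₀) qY).paste_vert hY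
  -- instances
  haveI : LocallyOfFiniteType g₀ := inferInstance
  haveI : LocallyOfFinitePresentation f₀ :=
    Groth.Agent.Lib.Helper13.LimDescend.locallyOfFinitePresentation_of_comp f₀ g₀
  haveI : QuasiCompact f₀ := QuasiCompact.of_comp f₀ g₀
  haveI : QuasiSeparated f₀ := QuasiSeparated.of_comp f₀ g₀
  haveI : LocallyOfFinitePresentation ((pullback.snd f₀ f₀ ≫ f₀) ≫ g₀) := inferInstance
  haveI : QuasiCompact ((pullback.snd f₀ f₀ ≫ f₀) ≫ g₀) := inferInstance
  haveI : QuasiSeparated ((pullback.snd f₀ f₀ ≫ f₀) ≫ g₀) := inferInstance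
  have hδ : pullback.diagonal f₀ ≫ (pullback.snd f₀ f₀ ≫ f₀) ≫ g₀ = f₀ ≫ g₀ := by
    rw [Category.assoc, pullback.diagonal_snd_assoc]
  haveI : LocallyOfFinitePresentation (pullback.diagonal f₀ ≫ (pullback.snd f₀ f₀ ≫ f₀) ≫ g₀) := by
    rw [hδ]; infer_instance
  haveI : QuasiCompact (pullback.diagonal f₀ ≫ (pullback.snd f₀ f₀ ≫ f₀) ≫ g₀) := by
    rw [hδ]; infer_instance
  haveI : QuasiSeparated (pullback.diagonal f₀ ≫ (pullback.snd f₀ f₀ ≫ f₀) ≫ g₀) := by
    rw [hδ]; infer_instance
  haveI : CompactSpace ↥(pullback f₀ f₀) :=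
    QuasiCompact.compactSpace_of_compactSpace ((pullback.snd f₀ f₀ ≫ f₀) ≫ g₀)
  haveI : QuasiSeparatedSpace ↥(pullback f₀ f₀) :=
    quasiSeparatedSpace_of_quasiSeparated ((pullback.snd f₀ f₀ ≫ f₀) ≫ g₀)
  haveI : LocallyOfFiniteType (pullback.diagonal f₀) := by
    haveI : LocallyOfFiniteType (pullback.diagonal f₀ ≫ pullback.snd f₀ f₀) := by
      rw [pullback.diagonal_snd]; infer_instance
    exact locallyOfFiniteType_of_comp (pullback.diagonal f₀) (pullback.snd f₀ f₀)
  obtain ⟨i, φ, Xi, Pi, δi, gi, pP, pX, hpP, hpX, hQδ⟩ :=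
    hQ D c hc i₀ (pullback.diagonal f₀) ((pullback.snd f₀ f₀ ≫ f₀) ≫ g₀)
      ((Over.pullback qY).map α).left (pullback.snd (pullback.snd f₀ f₀ ≫ f₀) qY ≫ g)
      (pullback.fst (pullback.snd f₀ f₀ ≫ f₀) qY) (pullback.fst f₀ qY) hY' hsqM hM
  -- the output stage
  let pY : pullback g₀ (D.map φ) ⟶ Y₀ := pullback.fst g₀ (D.map φ)
  refine ⟨i, φ, pullback pY f₀, pullback g₀ (D.map φ), pullback.fst pY f₀,
    pullback.snd g₀ (D.map φ), pY, pullback.snd pY f₀, IsPullback.of_hasPullback g₀ (D.map φ),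
    (IsPullback.of_hasPullback pY f₀).flip, ?_⟩
  rw [diagonal_pullback_fst_iff Q pY f₀]
  have hsqMi : IsPullback (pullback.fst f₀ pY) ((Over.pullback pY).map α).left
      (pullback.diagonal f₀) (pullback.fst (pullback.snd f₀ f₀ ≫ f₀) pY) :=
    isPullback_overPullback_map α pY
  -- the comparison map to `Pi`
  have hw : pullback.fst (pullback.snd f₀ f₀ ≫ f₀) pY ≫ (pullback.snd f₀ f₀ ≫ f₀) ≫ g₀ =
      (pullback.snd (pullback.snd f₀ f₀ ≫ f₀) pY ≫ pullback.snd g₀ (D.map φ)) ≫ D.map φ := by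
    rw [← Category.assoc, pullback.condition, Category.assoc, Category.assoc]
    congr 1
    exact pullback.condition
  let ρ : pullback (pullback.snd f₀ f₀ ≫ f₀) pY ⟶ Pi := hpP.lift _ _ hw
  have hρ : ρ ≫ pP = pullback.fst (pullback.snd f₀ f₀ ≫ f₀) pY := hpP.lift_fst _ _ hw
  have hw2 : pullback.fst f₀ pY ≫ pullback.diagonal f₀ =
      (((Over.pullback pY).map α).left ≫ ρ) ≫ pP := by
    rw [Category.assoc, hρ]
    exact hsqMi.w
  let l : pullback f₀ pY ⟶ Xi := hpX.lift _ _ hw2
  have hl1 : l ≫ pX = pullback.fst f₀ pY := hpX.lift_fst _ _ hw2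
  have hl2 : l ≫ δi = ((Over.pullback pY).map α).left ≫ ρ := hpX.lift_snd _ _ hw2
  have hsq : IsPullback l ((Over.pullback pY).map α).left δi ρ := by
    refine IsPullback.of_right ?_ hl2 hpX
    rw [hl1, hρ]
    exact hsqMi
  exact MorphismProperty.of_isPullback hsq hQδ

/-- closed immersions descend -/
theorem descends_isClosedImmersion : Descends.{u} @IsClosedImmersion := by
  intro I _ _ D c hc _ i₀ _ X₀ Y₀ f₀ g₀ _ _ _ _ _ _ _ _ _ _ _ X Y f g qY qX hY hX hf
  refine Groth.Agent.Lib.Helper13.LimDescend.descend_of_core D c @IsClosedImmersion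
    i₀ f₀ g₀ ?_ f g qY qX hY hX hf
  intro a ha hP
  haveI : ∀ (j k : Over i₀) (φ : j ⟶ k),
      IsAffineHom ((Groth.Agent.Lib.Helper22.bcDiag D i₀ g₀).map φ) := fun _ _ φ => inferInstance
  obtain ⟨s, hs, rfl⟩ := Groth.Agent.Lib.Helper13.LimDescend.exists_iso_eq_comp D i₀ f₀ g₀ a ha
  exact Groth.Agent.Lib.Helper13.LimDescend.core_isClosedImmersion
    (Groth.Agent.Lib.Helper22.bcDiag D i₀ g₀)
    (Groth.Agent.Lib.Helper22.bcCone D c i₀ g₀) (Groth.Agent.Lib.Helper22.bcIsLimit D hc i₀ g₀)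
    (Groth.Agent.Lib.Helper13.LimDescend.top i₀) (f₀ ≫ s) hP

/-- separated morphisms descend -/
theorem descends_isSeparated : Descends.{u} @IsSeparated := by
  rw [IsSeparated.isSeparated_eq_diagonal_isClosedImmersion]
  exact descends_diagonal @IsClosedImmersion descends_isClosedImmersion

end Groth.Agent.Lib.Helper25.ConsPair
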