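import Mathlib
import Groth.Agent.Lib.Helper25.ConsLocus
import Groth.Agent.Lib.lead.GenNowhereDense

/-!
# Closure commutes with passage to fibres, generically (EGA IV 9.5.1–9.5.4) (helper25)

For a morphism of finite type `p : W ⟶ T` to an integral Noetherian scheme and a constructible
subset `Z` of `W`, there is a nonempty open `U ⊆ T` such that for `s ∈ U` the closure of `Z` meets
the fibre `p⁻¹(s)` in the closure of `Z ∩ p⁻¹(s)` (`gc_of_isConstructible`).
-/

set_option autoImplicit false
set_option linter.unusedSectionVars false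
set_option linter.unusedVariables false
set_option linter.style.haveILetI false
universe u

open CategoryTheory CategoryTheory.Limits AlgebraicGeometry Topology TopologicalSpace

namespace Groth.Agent.Lib.Helper25.GenClosure

open Groth.Agent.Lib.Helper25.ConsFib

variable {W T : Scheme.{u}} (p : W ⟶ T)

/-- generic commutation of closure with fibres -/
def GC (Z : Set W) : Prop :=
  ∃ U : T.Opens, (U : Set T).Nonempty ∧
    ∀ s ∈ U, closure Z ∩ p ⁻¹' {s} ⊆ closure (Z ∩ p ⁻¹' {s})

theorem GC.empty [Nonempty T] : GC p ∅ :=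
  ⟨⊤, Set.univ_nonempty, fun s _ => by simp⟩

theorem GC.union [IrreducibleSpace T] {Z₁ Z₂ : Set W} (h₁ : GC p Z₁) (h₂ : GC p Z₂) :
    GC p (Z₁ ∪ Z₂) := by
  obtain ⟨U₁, hn₁, h₁⟩ := h₁
  obtain ⟨U₂, hn₂, h₂⟩ := h₂
  refine ⟨U₁ ⊓ U₂, nonempty_preirreducible_inter U₁.isOpen U₂.isOpen hn₁ hn₂, fun s hs => ?_⟩
  rw [closure_union, Set.union_inter_distrib_right, Set.union_inter_distrib_right, closure_union]
  exact Set.union_subset_union (h₁ s hs.1) (h₂ s hs.2)

theorem GC.biUnion [IrreducibleSpace T] {ι : Type*} {S : Set ι} (hS : S.Finite) {Z : ι → Set W}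
    (h : ∀ i ∈ S, GC p (Z i)) : GC p (⋃ i ∈ S, Z i) := by
  induction S, hS using Set.Finite.induction_on with
  | empty => simpa using GC.empty p
  | @insert a S ha hS ih =>
    rw [Set.biUnion_insert]
    exact GC.union p (h a (Set.mem_insert a S))
      (ih fun i hi => h i (Set.mem_insert_of_mem a hi))

section Irred

variable [IsIntegral T] [LocallyOfFiniteType p] [QuasiCompact p]

/-- the irreducible locally closed case -/
theorem gc_irred (O F : Set W) (hO : IsOpen O) (hF : IsClosed F) (hFi : IsIrreducible F) :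
    GC p (O ∩ F) := by
  obtain ⟨F', i, hi, hint, hr⟩ := exists_integral_closedSubscheme F hF hFi
  haveI := hi
  haveI := hint
  set ζ' : F' := genericPoint F' with hζ'
  have hgen : ∀ z' : F', i ζ' ⤳ i z' := fun z' =>
    (genericPoint_specializes z').map i.continuous
  by_cases hζ : i ζ' ∈ O
  swap
  · -- `O ∩ F` is empty
    have hem : O ∩ F = ∅ := by
      rw [Set.eq_empty_iff_forall_notMem]
      rintro z ⟨hzO, hzF⟩
      rw [← hr] at hzF
      obtain ⟨z', rfl⟩ := hzF
      exact hζ ((hgen z').mem_open hO hzO)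
    rw [hem]
    exact GC.empty p
  let q : F' ⟶ T := i ≫ p
  have hq : ∀ z' : F', q z' = p (i z') := fun z' => rfl
  by_cases hη : q ζ' = genericPoint T
  swap
  · -- `F` does not dominate `T`
    refine ⟨⟨(closure {q ζ'})ᶜ, isClosed_closure.isOpen_compl⟩, ⟨genericPoint T, ?_⟩, ?_⟩
    · intro hmem
      have h1 : q ζ' ⤳ genericPoint T := specializes_iff_mem_closure.mpr hmem
      exact hη (h1.antisymm (genericPoint_specializes _)).eq
    · intro s hs w hw
      exfalso
      have hwF : w ∈ F := (closure_minimal Set.inter_subset_right hF) hw.1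
      rw [← hr] at hwF
      obtain ⟨w', rfl⟩ := hwF
      have h1 : q ζ' ⤳ q w' := (genericPoint_specializes w').map q.continuous
      have h2 : q w' = s := hw.2
      rw [h2] at h1
      exact hs (specializes_iff_mem_closure.mp h1)
  · -- the dominant case: `S1298`
    have hfib : ∀ s : T, ∀ z' : F', q z' = s → ∃ z'' : q.fiber s, q.fiberι s z'' = z' := by
      intro s z' hz'
      have : z' ∈ Set.range (q.fiberι s) := by
        rw [Scheme.Hom.range_fiberι]; exact hz'
      exact this
    have hclosed : IsClosed (i ⁻¹' Oᶜ) := hO.isClosed_compl.preimage i.continuous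
    have hnd : IsNowhereDense ((q.fiberι (genericPoint T)) ⁻¹' (i ⁻¹' Oᶜ)) := by
      have hcl : IsClosed ((q.fiberι (genericPoint T)) ⁻¹' (i ⁻¹' Oᶜ)) :=
        hclosed.preimage (q.fiberι _).continuous
      rw [IsNowhereDense, hcl.closure_eq, Set.eq_empty_iff_forall_notMem]
      intro a ha
      obtain ⟨ζ'', hζ''⟩ := hfib _ ζ' hη
      -- the open set `interior A` is the preimage of an open subset of `F'`
      obtain ⟨G', hG', hGe⟩ := (q.fiberι (genericPoint T)).isEmbedding.isInducing.isOpen_iff.mp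
        (isOpen_interior (s := (q.fiberι (genericPoint T)) ⁻¹' (i ⁻¹' Oᶜ)))
      have haG : q.fiberι (genericPoint T) a ∈ G' := by
        have : a ∈ (q.fiberι (genericPoint T)) ⁻¹' G' := by rw [hGe]; exact ha
        exact this
      have hζG : ζ' ∈ G' := (genericPoint_specializes _).mem_open hG' haG
      have hζint : ζ'' ∈ interior ((q.fiberι (genericPoint T)) ⁻¹' (i ⁻¹' Oᶜ)) := by
        rw [← hGe]; change q.fiberι (genericPoint T) ζ'' ∈ G'; rw [hζ'']; exact hζG
      have := interior_subset hζint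
      change i (q.fiberι (genericPoint T) ζ'') ∈ Oᶜ at this
      rw [hζ''] at this
      exact this hζ
    obtain ⟨V, hVne, hV⟩ := Groth.Agent.Lib.lead.GenNowhereDense.S1298 q (i ⁻¹' Oᶜ) hclosed hnd
    refine ⟨V, hVne, fun s hs w hw => ?_⟩
    have hwF : w ∈ F := (closure_minimal Set.inter_subset_right hF) hw.1
    rw [← hr] at hwF
    obtain ⟨w', rfl⟩ := hwF
    obtain ⟨w'', rfl⟩ := hfib s w' hw.2
    rw [mem_closure_iff]
    intro N hN hwN
    have hcl : IsClosed ((q.fiberι s) ⁻¹' (i ⁻¹' Oᶜ)) :=
      hclosed.preimage (q.fiberι _).continuous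
    have hnds := hV s hs
    rw [IsNowhereDense, hcl.closure_eq] at hnds
    let G : Set (q.fiber s) := (q.fiberι s) ⁻¹' (i ⁻¹' N)
    have hGo : IsOpen G := (hN.preimage i.continuous).preimage (q.fiberι s).continuous
    have hnot : ¬ G ⊆ (q.fiberι s) ⁻¹' (i ⁻¹' Oᶜ) := by
      intro hsub
      have : w'' ∈ interior ((q.fiberι s) ⁻¹' (i ⁻¹' Oᶜ)) :=
        mem_interior.mpr ⟨G, hsub, hGo, hwN⟩
      rw [hnds] at this
      exact this
    obtain ⟨g, hgG, hgO⟩ := Set.not_subset.mp hnot
    refine ⟨i (q.fiberι s g), hgG, ⟨?_, ?_⟩, ?_⟩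
    · by_contra hc
      exact hgO hc
    · rw [← hr]; exact ⟨_, rfl⟩
    · have : q.fiberι s g ∈ q ⁻¹' {s} := by
        rw [← Scheme.Hom.range_fiberι]; exact ⟨g, rfl⟩
      exact this

end Irred

section Noeth

variable [IsIntegral T] [IsNoetherian T] [LocallyOfFiniteType p] [QuasiCompact p]

include p in
theorem noetherianSpace_of_finiteType : NoetherianSpace W := by
  haveI : IsLocallyNoetherian W := LocallyOfFiniteType.isLocallyNoetherian p
  haveI : CompactSpace W := QuasiCompact.compactSpace_of_compactSpace p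
  haveI : IsNoetherian W := ⟨⟩
  infer_instance

/-- the locally closed case -/
theorem gc_locallyClosed (O F : Set W) (hO : IsOpen O) (hF : IsClosed F) : GC p (O ∩ F) := by
  haveI := noetherianSpace_of_finiteType p
  obtain ⟨S, hS, hcl, hirr, hsup⟩ := NoetherianSpace.exists_finite_set_isClosed_irreducible hF
  have : O ∩ F = ⋃ t ∈ S, O ∩ (t : Set W) := by
    rw [hsup, Set.sUnion_eq_biUnion, Set.inter_iUnion₂]
  rw [this]
  exact GC.biUnion p hS fun t ht => gc_irred p O t hO (hcl t ht) (hirr t ht)

/-- EGA IV 9.5.3: generically, closure commutes with passage to the fibres -/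
theorem gc_of_isConstructible {Z : Set W} (hZ : IsConstructible Z) : GC p Z := by
  induction Z, hZ using BooleanSubalgebra.closure_sdiff_sup_induction with
  | isSublattice =>
    exact ⟨fun s hs t ht ↦ ⟨hs.1.union ht.1, hs.2.union ht.2⟩,
      fun s hs t ht ↦ ⟨hs.1.inter ht.1, hs.2.inter_isOpen ht.2 ht.1⟩⟩
  | bot_mem => exact ⟨isOpen_empty, .empty⟩
  | top_mem => exact ⟨isOpen_univ, .univ⟩
  | sdiff U hU V hV =>
    rw [Set.sdiff_eq]
    exact gc_locallyClosed p U Vᶜ hU.1 hV.1.isClosed_compl
  | sup s _ t _ hs' ht' => exact GC.union p hs' ht'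

end Noeth

end Groth.Agent.Lib.Helper25.GenClosure
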