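import Mathlib
import Groth.Agent.Lib.Helper25.GenClosure

/-!
# Fibrewise topological properties of constructible sets: the generic dichotomy
(EGA IV 9.5.3, 9.5.4) (helper25)

For `p : W ⟶ T` of finite type over an integral Noetherian scheme and constructible `Z, Z' ⊆ W`,
each of the sets of `s ∈ T` where `Z_s` is dense in `Z'_s`, resp. closed, open, locally closed in
`W_s`, contains a nonempty open subset of `T` or has a complement which does (`Dich`).
-/

set_option autoImplicit false
set_option linter.unusedSectionVars false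
set_option linter.unusedVariables false
set_option linter.style.haveILetI false
set_option linter.deprecated false
universe u

open CategoryTheory CategoryTheory.Limits AlgebraicGeometry Topology TopologicalSpace

namespace Groth.Agent.Lib.Helper25.FibTop

open Groth.Agent.Lib.Helper25.GenClosure Groth.Agent.Lib.helper11.ConstrTop

section Dich

variable {T : Type*} [TopologicalSpace T]

/-- the set or its complement contains a nonempty open subset -/
def Dich (E : Set T) : Prop := (interior E).Nonempty ∨ (interior Eᶜ).Nonempty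

theorem Dich.compl {E : Set T} (h : Dich E) : Dich Eᶜ := by
  rcases h with h | h
  · right; rwa [compl_compl]
  · left; exact h

theorem Dich.of_compl {E : Set T} (h : Dich Eᶜ) : Dich E := by
  have := h.compl
  rwa [compl_compl] at this

variable [PreirreducibleSpace T]

theorem Dich.of_eqOn {E D U : Set T} (hU : IsOpen U) (hne : U.Nonempty)
    (h : ∀ s ∈ U, s ∈ E ↔ s ∈ D) (hD : Dich D) : Dich E := by
  rcases hD with hD | hD
  · left
    obtain ⟨s, hs1, hs2⟩ := nonempty_preirreducible_inter isOpen_interior hU hD hne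
    exact ⟨s, mem_interior.mpr ⟨interior D ∩ U, fun t ht => (h t ht.2).mpr (interior_subset ht.1),
      isOpen_interior.inter hU, hs1, hs2⟩⟩
  · right
    obtain ⟨s, hs1, hs2⟩ := nonempty_preirreducible_inter isOpen_interior hU hD hne
    exact ⟨s, mem_interior.mpr ⟨interior Dᶜ ∩ U,
      fun t ht hE => (interior_subset ht.1 : t ∈ Dᶜ) ((h t ht.2).mp hE),
      isOpen_interior.inter hU, hs1, hs2⟩⟩

theorem Dich.inter {E₁ E₂ : Set T} (h₁ : Dich E₁) (h₂ : Dich E₂) : Dich (E₁ ∩ E₂) := by
  rcases h₁ with h₁ | h₁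
  · rcases h₂ with h₂ | h₂
    · left
      rw [interior_inter]
      exact nonempty_preirreducible_inter isOpen_interior isOpen_interior h₁ h₂
    · right
      exact h₂.mono (interior_mono (Set.compl_subset_compl.mpr Set.inter_subset_right))
  · right
    exact h₁.mono (interior_mono (Set.compl_subset_compl.mpr Set.inter_subset_left))

theorem Dich.union {E₁ E₂ : Set T} (h₁ : Dich E₁) (h₂ : Dich E₂) : Dich (E₁ ∪ E₂) := by
  apply Dich.of_compl
  rw [Set.compl_union]
  exact h₁.compl.inter h₂.compl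

end Dich

section Scheme

variable {W T : Scheme.{u}} (p : W ⟶ T) [IsIntegral T] [IsNoetherian T]
  [LocallyOfFiniteType p] [QuasiCompact p]

theorem dich_of_isConstructible {D : Set T} (hD : IsConstructible D) : Dich D :=
  Groth.Agent.Lib.Helper25.ConsLocus.cons_dichotomy hD.isLocallyConstructible

/-- Chevalley: the set of `s` whose fibre misses a constructible set -/
theorem dich_inter_fibre_eq_empty {C : Set W} (hC : IsConstructible C) :
    Dich {s : T | C ∩ p ⁻¹' {s} = ∅} := by
  haveI : IsLocallyNoetherian W := LocallyOfFiniteType.isLocallyNoetherian p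
  have h : {s : T | C ∩ p ⁻¹' {s} = ∅} = (p '' C)ᶜ := by
    ext s
    simp only [Set.mem_setOf_eq, Set.mem_compl_iff, Set.mem_image, not_exists, not_and,
      Set.eq_empty_iff_forall_notMem, Set.mem_inter_iff, Set.mem_preimage, Set.mem_singleton_iff]
  rw [h]
  exact (dich_of_isConstructible (p.isConstructible_image hC)).compl

/-- EGA IV 9.5.3: the set of `s` where `Z_s` is dense in `Z'_s` -/
theorem dich_dense {Z Z' : Set W} (hZ : IsConstructible Z) (hZ' : IsConstructible Z') :
    Dich {s : T | Z' ∩ p ⁻¹' {s} ⊆ closure (Z ∩ p ⁻¹' {s})} := by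
  haveI := noetherianSpace_of_finiteType p
  obtain ⟨U, hne, hU⟩ := gc_of_isConstructible p hZ
  refine Dich.of_eqOn U.isOpen hne (D := {s : T | (Z' \ closure Z) ∩ p ⁻¹' {s} = ∅}) ?_
    (dich_inter_fibre_eq_empty p (hZ'.sdiff (isConstructible_of_isClosed isClosed_closure)))
  intro s hs
  simp only [Set.mem_setOf_eq]
  constructor
  · intro h
    rw [Set.eq_empty_iff_forall_notMem]
    rintro w ⟨⟨hw1, hw2⟩, hw3⟩
    exact hw2 (closure_mono Set.inter_subset_left (h ⟨hw1, hw3⟩))
  · intro h w hw
    apply hU s hs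
    refine ⟨?_, hw.2⟩
    by_contra hc
    exact (Set.eq_empty_iff_forall_notMem.mp h w) ⟨⟨hw.1, hc⟩, hw.2⟩

/-- EGA IV 9.5.4: the set of `s` where `Z_s` is closed in `W_s` -/
theorem dich_closed {Z : Set W} (hZ : IsConstructible Z) :
    Dich {s : T | closure (Z ∩ p ⁻¹' {s}) ∩ p ⁻¹' {s} ⊆ Z} := by
  haveI := noetherianSpace_of_finiteType p
  obtain ⟨U, hne, hU⟩ := gc_of_isConstructible p hZ
  refine Dich.of_eqOn U.isOpen hne (D := {s : T | (closure Z \ Z) ∩ p ⁻¹' {s} = ∅}) ?_
    (dich_inter_fibre_eq_empty p ((isConstructible_of_isClosed isClosed_closure).sdiff hZ))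
  intro s hs
  simp only [Set.mem_setOf_eq]
  constructor
  · intro h
    rw [Set.eq_empty_iff_forall_notMem]
    rintro w ⟨⟨hw1, hw2⟩, hw3⟩
    exact hw2 (h ⟨hU s hs ⟨hw1, hw3⟩, hw3⟩)
  · intro h w hw
    by_contra hc
    exact (Set.eq_empty_iff_forall_notMem.mp h w)
      ⟨⟨closure_mono Set.inter_subset_left hw.1, hc⟩, hw.2⟩

/-- the set of `s` where `Z_s` is open in `W_s` -/
theorem dich_open {Z : Set W} (hZ : IsConstructible Z) :
    Dich {s : T | closure (Zᶜ ∩ p ⁻¹' {s}) ∩ p ⁻¹' {s} ⊆ Zᶜ} :=
  dich_closed p hZ.compl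

/-- the set of `s` where `Z_s` is locally closed in `W_s` -/
theorem dich_locallyClosed {Z : Set W} (hZ : IsConstructible Z) :
    Dich {s : T | closure ((closure (Z ∩ p ⁻¹' {s}) \ Z) ∩ p ⁻¹' {s}) ∩ p ⁻¹' {s} ⊆
      closure (Z ∩ p ⁻¹' {s}) \ Z} := by
  haveI := noetherianSpace_of_finiteType p
  obtain ⟨U, hne, hU⟩ := gc_of_isConstructible p hZ
  have hb : IsConstructible (closure Z \ Z) :=
    (isConstructible_of_isClosed isClosed_closure).sdiff hZ
  refine Dich.of_eqOn U.isOpen hne ?_ (dich_closed p hb)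
  intro s hs
  have key : (closure (Z ∩ p ⁻¹' {s}) \ Z) ∩ p ⁻¹' {s} = (closure Z \ Z) ∩ p ⁻¹' {s} := by
    ext w
    constructor
    · rintro ⟨⟨h1, h2⟩, h3⟩
      exact ⟨⟨closure_mono Set.inter_subset_left h1, h2⟩, h3⟩
    · rintro ⟨⟨h1, h2⟩, h3⟩
      exact ⟨⟨hU s hs ⟨h1, h3⟩, h2⟩, h3⟩
  simp only [Set.mem_setOf_eq]
  rw [key]
  constructor
  · intro h w hw
    have := h hw
    exact ⟨closure_mono Set.inter_subset_left this.1, this.2⟩
  · intro h w hw
    have := h hw
    exact ⟨hU s hs ⟨this.1, hw.2⟩, this.2⟩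

end Scheme

end Groth.Agent.Lib.Helper25.FibTop
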