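import Mathlib
import Groth.Agent.Lib.Helper25.FibTop
import Groth.Agent.Lib.Helper25.NoethApprox

/-!
# Constructible properties of morphisms defined by the topology of the range (helper25)

For a property `Pr` of subsets of topological spaces which is invariant under open continuous
surjections, the relation `Pr (range f)` on morphisms of algebraic schemes over a field is stable
under field extensions; for `Pr = Dense` and `Pr = IsClosed` it is a constructible property
(EGA IV 9.6.1 (ii), and the key step for (i), (vii)).
-/

set_option autoImplicit false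
set_option linter.unusedSectionVars false
set_option linter.unusedVariables false
set_option linter.style.haveILetI false
set_option linter.deprecated false
universe u

open CategoryTheory CategoryTheory.Limits AlgebraicGeometry Topology TopologicalSpace

namespace Groth.Agent.Lib.Helper25.ConsTopMor

open Groth.Agent.Lib.Helper25.FibTop Groth.Agent.Lib.Helper25.ConsLocus
  Groth.Agent.Lib.Helper25.FibLocus

/-- a property of subsets of topological spaces invariant under open continuous surjections -/
def TopInvariant (Pr : ∀ {A : Type u} [TopologicalSpace A], Set A → Prop) : Prop :=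
  ∀ {A' A : Type u} [TopologicalSpace A'] [TopologicalSpace A] (π : A' → A),
    Continuous π → IsOpenMap π → Function.Surjective π → ∀ B : Set A, Pr B ↔ Pr (π ⁻¹' B)

theorem topInvariant_dense : TopInvariant.{u} (fun {A} _ B => Dense B) := by
  intro A' A _ _ π hc ho hs B
  simp only [dense_iff_closure_eq]
  rw [← ho.preimage_closure_eq_closure_preimage hc]
  constructor
  · intro h; rw [h]; rfl
  · intro h
    ext a
    obtain ⟨a', rfl⟩ := hs a
    have : a' ∈ π ⁻¹' closure B := by rw [h]; trivial
    simpa using this

theorem topInvariant_isClosed : TopInvariant.{u} (fun {A} _ B => IsClosed B) := by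
  intro A' A _ _ π hc ho hs B
  exact ((ho.isQuotientMap hc hs).isClosed_preimage).symm

/-- the range of a base change -/
theorem range_of_isPullback {P X Y Z : Scheme.{u}} {fst : P ⟶ X} {snd : P ⟶ Y} {f : X ⟶ Z}
    {g : Y ⟶ Z} (h : IsPullback fst snd f g) : Set.range snd = g ⁻¹' Set.range f := by
  have := Scheme.image_preimage_eq_of_isPullback h Set.univ
  simpa using this

section FieldStable

variable (Pr : ∀ {A : Type u} [TopologicalSpace A], Set A → Prop)

theorem isFieldStableMor_range (hPr : TopInvariant.{u} Pr) :
    ConsProp.IsFieldStableMor (fun X Y T f g => Pr (Set.range f)) := by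
  intro X X' Y Y' T T' f g f' g' eX eY h _ _ _ _ _ _ _ _ hY hX
  have hfpqc := fpqc_of_isPullback hY
  haveI : UniversallyOpen h := inferInstance
  haveI : UniversallyOpen eY := MorphismProperty.of_isPullback hY.flip (inferInstance : UniversallyOpen h)
  haveI : Surjective eY := hfpqc.1.1
  change Pr (Set.range f) ↔ Pr (Set.range f')
  rw [range_of_isPullback hX]
  exact hPr eY eY.continuous eY.isOpenMap eY.surjective _

end FieldStable

section Locus

variable {X Y S : Scheme.{u}} (f : X ⟶ Y) (g : Y ⟶ S)

theorem range_fiberMap (s : S) :
    Set.range (MoreMor.fiberMap f g s) = (g.fiberι s) ⁻¹' Set.range f :=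
  range_of_isPullback (isPullback_bcMap f g (S.fromSpecResidueField s))

/-- density in the scheme-theoretic fibre, in terms of the ambient space -/
theorem dense_preimage_fiberι_iff (s : S) (B : Set Y) :
    Dense ((g.fiberι s) ⁻¹' B) ↔ g ⁻¹' {s} ⊆ closure (B ∩ g ⁻¹' {s}) := by
  rw [(g.fiberι s).isEmbedding.isInducing.dense_iff, Set.image_preimage_eq_inter_range,
    Scheme.Hom.range_fiberι]
  constructor
  · intro h y hy
    have : y ∈ Set.range (g.fiberι s) := by rw [Scheme.Hom.range_fiberι]; exact hy
    obtain ⟨y', rfl⟩ := this
    exact h y'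
  · intro h y'
    apply h
    rw [← Scheme.Hom.range_fiberι]
    exact ⟨y', rfl⟩

/-- closedness in the scheme-theoretic fibre, in terms of the ambient space -/
theorem isClosed_preimage_fiberι_iff (s : S) (B : Set Y) :
    IsClosed ((g.fiberι s) ⁻¹' B) ↔ closure (B ∩ g ⁻¹' {s}) ∩ g ⁻¹' {s} ⊆ B := by
  rw [(g.fiberι s).isEmbedding.isInducing.isClosed_iff', Set.image_preimage_eq_inter_range,
    Scheme.Hom.range_fiberι]
  constructor
  · intro h y hy
    have : y ∈ Set.range (g.fiberι s) := by rw [Scheme.Hom.range_fiberι]; exact hy.2
    obtain ⟨y', rfl⟩ := this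
    exact h y' hy.1
  · intro h y' hy'
    apply h
    refine ⟨hy', ?_⟩
    rw [← Scheme.Hom.range_fiberι]
    exact ⟨y', rfl⟩

end Locus

section Cons

/-- EGA IV 9.6.1 (ii): dominance is a constructible property of morphisms -/
theorem isConsMor_denseRange :
    ConsProp.IsConsMor.{u} (fun X Y T f g => Dense (Set.range f)) := by
  refine ⟨isFieldStableMor_range _ topInvariant_dense, ?_⟩
  intro X Y S f g _ _ _ _ _ _
  obtain ⟨h1, h2, h3, h4⟩ := fp_of_noetherian f g
  haveI := h1; haveI := h2; haveI := h3; haveI := h4
  haveI : IsLocallyNoetherian Y := LocallyOfFiniteType.isLocallyNoetherian g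
  haveI : LocallyOfFinitePresentation f :=
    Groth.Agent.Lib.Helper13.LimDescend.locallyOfFinitePresentation_of_comp f g
  haveI : QuasiCompact f := QuasiCompact.of_comp f g
  haveI : CompactSpace Y := QuasiCompact.compactSpace_of_compactSpace g
  have hZ : IsConstructible (Set.range f) := by
    have := f.isConstructible_image (IsConstructible.univ)
    rwa [Set.image_univ] at this
  have key : ConsProp.locusMor (fun X Y T f g => Dense (Set.range f)) f g =
      {s : S | Set.univ ∩ g ⁻¹' {s} ⊆ closure (Set.range f ∩ g ⁻¹' {s})} := by
    ext s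
    change Dense (Set.range (MoreMor.fiberMap f g s)) ↔ _
    rw [range_fiberMap, dense_preimage_fiberι_iff, Set.mem_setOf_eq, Set.univ_inter]
  rw [key]
  exact dich_dense g hZ IsConstructible.univ

end Cons

end Groth.Agent.Lib.Helper25.ConsTopMor
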