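import Mathlib

/-!
# The diagonal of a base change (helper25)
-/

set_option autoImplicit false
universe v u

open CategoryTheory CategoryTheory.Limits

namespace Groth.Agent.Lib.Helper25.DiagonalBC

variable {C : Type u} [Category.{v} C] [HasPullbacks C]
  {X' X Y' Y : C} {a : X' ⟶ X} {f' : X' ⟶ Y'} {f : X ⟶ Y} {b : Y' ⟶ Y}

/-- the map `X' ×_{Y'} X' ⟶ X ×_Y X` -/
noncomputable abbrev diagMap (h : IsPullback a f' f b) : pullback f' f' ⟶ pullback f f :=
  pullback.map f' f' f f a a b h.w.symm h.w.symm

/-- the diagonal of a base change is a base change of the diagonal -/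
theorem isPullback_diagonal (h : IsPullback a f' f b) :
    IsPullback a (pullback.diagonal f') (pullback.diagonal f) (diagMap h) := by
  have hfst : diagMap h ≫ pullback.fst f f = pullback.fst f' f' ≫ a := pullback.lift_fst _ _ _
  have hsnd : diagMap h ≫ pullback.snd f f = pullback.snd f' f' ≫ a := pullback.lift_snd _ _ _
  refine ⟨⟨?_⟩, ⟨PullbackCone.IsLimit.mk _ (fun s => s.snd ≫ pullback.fst f' f') ?_ ?_ ?_⟩⟩
  · apply pullback.hom_ext
    · rw [Category.assoc, Category.assoc, hfst, pullback.diagonal_fst, pullback.diagonal_fst_assoc,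
        Category.comp_id]
    · rw [Category.assoc, Category.assoc, hsnd, pullback.diagonal_snd, pullback.diagonal_snd_assoc,
        Category.comp_id]
  · intro s
    have := s.condition =≫ pullback.fst f f
    rw [Category.assoc, Category.assoc, pullback.diagonal_fst, Category.comp_id, hfst] at this
    rw [Category.assoc]
    exact this.symm
  · intro s
    have h1 := s.condition =≫ pullback.fst f f
    rw [Category.assoc, Category.assoc, pullback.diagonal_fst, Category.comp_id, hfst] at h1
    have h2 := s.condition =≫ pullback.snd f f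
    rw [Category.assoc, Category.assoc, pullback.diagonal_snd, Category.comp_id, hsnd] at h2
    have h3 : s.snd ≫ pullback.fst f' f' = s.snd ≫ pullback.snd f' f' := by
      apply h.hom_ext
      · rw [Category.assoc, Category.assoc, ← h1, ← h2]
      · rw [Category.assoc, Category.assoc, pullback.condition]
    apply pullback.hom_ext
    · rw [Category.assoc, Category.assoc, pullback.diagonal_fst, Category.comp_id]
    · rw [Category.assoc, Category.assoc, pullback.diagonal_snd, Category.comp_id, h3]
  · intro s m hm1 hm2
    have := hm2 =≫ pullback.fst f' f'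
    rw [Category.assoc, pullback.diagonal_fst, Category.comp_id] at this
    exact this

/-- `X' ×_{Y'} X'` is the base change of `X ×_Y X` -/
theorem isPullback_diagMap (h : IsPullback a f' f b) :
    IsPullback (diagMap h) (pullback.fst f' f' ≫ f') (pullback.fst f f ≫ f) b := by
  have hfst : diagMap h ≫ pullback.fst f f = pullback.fst f' f' ≫ a := pullback.lift_fst _ _ _
  have hsnd : diagMap h ≫ pullback.snd f f = pullback.snd f' f' ≫ a := pullback.lift_snd _ _ _
  have hc1 : ∀ s : PullbackCone (pullback.fst f f ≫ f) b,
      (s.fst ≫ pullback.fst f f) ≫ f = s.snd ≫ b := fun s => by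
    rw [Category.assoc]; exact s.condition
  have hc2 : ∀ s : PullbackCone (pullback.fst f f ≫ f) b,
      (s.fst ≫ pullback.snd f f) ≫ f = s.snd ≫ b := fun s => by
    rw [Category.assoc, ← pullback.condition]; exact s.condition
  refine ⟨⟨?_⟩, ⟨PullbackCone.IsLimit.mk _
    (fun s => pullback.lift (h.lift (s.fst ≫ pullback.fst f f) s.snd (hc1 s))
      (h.lift (s.fst ≫ pullback.snd f f) s.snd (hc2 s))
      (by rw [h.lift_snd, h.lift_snd])) ?_ ?_ ?_⟩⟩
  · rw [← Category.assoc, hfst, Category.assoc, Category.assoc, h.w]
  · intro s
    apply pullback.hom_ext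
    · rw [Category.assoc, hfst, pullback.lift_fst_assoc, h.lift_fst]
    · rw [Category.assoc, hsnd, pullback.lift_snd_assoc, h.lift_fst]
  · intro s
    rw [pullback.lift_fst_assoc, h.lift_snd]
  · intro s m hm1 hm2
    apply pullback.hom_ext
    · rw [pullback.lift_fst]
      apply h.hom_ext
      · rw [h.lift_fst, Category.assoc, ← hfst, ← Category.assoc, hm1]
      · rw [h.lift_snd, Category.assoc]; exact hm2
    · rw [pullback.lift_snd]
      apply h.hom_ext
      · rw [h.lift_fst, Category.assoc, ← hsnd, ← Category.assoc, hm1]
      · rw [h.lift_snd, Category.assoc, ← pullback.condition]; exact hm2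

end Groth.Agent.Lib.Helper25.DiagonalBC
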