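import Mathlib
import Groth.Agent.Lib.Helper25.ConsTopMor
import Groth.Agent.Lib.Helper25.DiagonalBC
import Groth.Agent.Lib.Helper3.FpqcDescInst

/-!
# Separatedness is a constructible property of morphisms (EGA IV 9.6.1 (i)) (helper25)
-/

set_option autoImplicit false
set_option linter.unusedSectionVars false
set_option linter.unusedVariables false
set_option linter.style.haveILetI false
set_option linter.deprecated false
universe u

open CategoryTheory CategoryTheory.Limits AlgebraicGeometry Topology TopologicalSpace

namespace Groth.Agent.Lib.Helper25.ConsSep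

open Groth.Agent.Lib.Helper25.FibTop Groth.Agent.Lib.Helper25.ConsLocus
  Groth.Agent.Lib.Helper25.FibLocus Groth.Agent.Lib.Helper25.ConsTopMor
  Groth.Agent.Lib.Helper25.DiagonalBC

/-- closedness of a preimage under an inducing map, in terms of the ambient space -/
theorem isClosed_preimage_iff_of_isInducing {A W : Type*} [TopologicalSpace A]
    [TopologicalSpace W] {c : A → W} (hc : IsInducing c) {F : Set W} (hr : Set.range c = F)
    (B : Set W) : IsClosed (c ⁻¹' B) ↔ closure (B ∩ F) ∩ F ⊆ B := by
  rw [hc.isClosed_iff', Set.image_preimage_eq_inter_range, hr]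
  constructor
  · intro h y hy
    have : y ∈ Set.range c := by rw [hr]; exact hy.2
    obtain ⟨y', rfl⟩ := this
    exact h y' hy.1
  · intro h y' hy'
    apply h
    refine ⟨hy', ?_⟩
    rw [← hr]
    exact ⟨y', rfl⟩

set_option backward.isDefEq.respectTransparency.types false in
instance : MorphismProperty.DescendsAlong @IsSeparated
    (@Surjective ⊓ @Flat ⊓ @QuasiCompact : MorphismProperty Scheme.{u}) := by
  rw [IsSeparated.isSeparated_eq_diagonal_isClosedImmersion]
  infer_instance

section

variable {X Y S : Scheme.{u}} (f : X ⟶ Y) (g : Y ⟶ S)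

/-- the structure morphism of `X ×_Y X` -/
noncomputable abbrev diagStr : pullback f f ⟶ S := (pullback.fst f f ≫ f) ≫ g

theorem isSeparated_fiberMap_iff (s : S) :
    IsSeparated (MoreMor.fiberMap f g s) ↔
      closure (Set.range (pullback.diagonal f) ∩ (diagStr f g) ⁻¹' {s}) ∩ (diagStr f g) ⁻¹' {s} ⊆
        Set.range (pullback.diagonal f) := by
  have hsq : IsPullback ((f ≫ g).fiberι s) (MoreMor.fiberMap f g s) f (g.fiberι s) :=
    isPullback_bcMap f g (S.fromSpecResidueField s)
  have h1 := isPullback_diagonal hsq
  have h2 := isPullback_diagMap hsq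
  have h3 : IsPullback (g.fiberι s) (g.fiberToSpecResidueField s) g (S.fromSpecResidueField s) :=
    IsPullback.of_hasPullback g (S.fromSpecResidueField s)
  have h4 := h2.paste_vert h3
  haveI : IsPreimmersion (diagMap hsq) :=
    MorphismProperty.of_isPullback h4.flip (inferInstance : IsPreimmersion (S.fromSpecResidueField s))
  have hr : Set.range (diagMap hsq) = (diagStr f g) ⁻¹' {s} := by
    rw [range_of_isPullback h4.flip, Scheme.range_fromSpecResidueField]
  rw [isSeparated_iff]
  change IsClosedImmersion (pullback.diagonal (MoreMor.fiberMap f g s)) ↔ _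
  rw [IsClosedImmersion.iff_isPreimmersion]
  have hpre : IsPreimmersion (pullback.diagonal (MoreMor.fiberMap f g s)) := inferInstance
  rw [and_iff_right hpre, range_of_isPullback h1]
  exact isClosed_preimage_iff_of_isInducing (diagMap hsq).isEmbedding.isInducing hr _

end

/-- EGA IV 9.6.1 (i): separatedness is a constructible property of morphisms -/
theorem isConsMor_isSeparated :
    ConsProp.IsConsMor.{u} (fun X Y T f g => IsSeparated f) := by
  refine ⟨isFieldStableMor_of_descends @IsSeparated, ?_⟩
  intro X Y S f g _ _ _ _ _ _
  obtain ⟨h1, h2, h3, h4⟩ := fp_of_noetherian f g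
  haveI := h1; haveI := h2; haveI := h3; haveI := h4
  haveI : IsLocallyNoetherian Y := LocallyOfFiniteType.isLocallyNoetherian g
  haveI : IsLocallyNoetherian X := LocallyOfFiniteType.isLocallyNoetherian (f ≫ g)
  haveI : LocallyOfFiniteType f := locallyOfFiniteType_of_comp f g
  haveI : QuasiCompact f := QuasiCompact.of_comp f g
  haveI : CompactSpace Y := QuasiCompact.compactSpace_of_compactSpace g
  haveI : CompactSpace X := QuasiCompact.compactSpace_of_compactSpace (f ≫ g)
  haveI : LocallyOfFiniteType (diagStr f g) := by
    change LocallyOfFiniteType ((pullback.fst f f ≫ f) ≫ g); infer_instance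
  haveI : QuasiCompact (diagStr f g) := by
    change QuasiCompact ((pullback.fst f f ≫ f) ≫ g); infer_instance
  haveI : IsLocallyNoetherian (pullback f f) :=
    LocallyOfFiniteType.isLocallyNoetherian (diagStr f g)
  haveI : CompactSpace ↥(pullback f f) := QuasiCompact.compactSpace_of_compactSpace (diagStr f g)
  haveI : LocallyOfFinitePresentation (pullback.diagonal f) := inferInstance
  haveI : QuasiCompact (pullback.diagonal f) := inferInstance
  have hZ : IsConstructible (Set.range (pullback.diagonal f)) := by
    have := (pullback.diagonal f).isConstructible_image (IsConstructible.univ)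
    rwa [Set.image_univ] at this
  have key : ConsProp.locusMor (fun X Y T f g => IsSeparated f) f g =
      {s : S | closure (Set.range (pullback.diagonal f) ∩ (diagStr f g) ⁻¹' {s}) ∩
        (diagStr f g) ⁻¹' {s} ⊆ Set.range (pullback.diagonal f)} := by
    ext s
    exact isSeparated_fiberMap_iff f g s
  rw [key]
  exact dich_closed (diagStr f g) hZ

end Groth.Agent.Lib.Helper25.ConsSep
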