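import Mathlib
import Groth.Agent.Lib.Helper25.FibLocus

/-!
# Spreading out a property of the generic fibre to an open subscheme (helper25)

For an integral scheme `S`, finitely presented `X ⟶ Y ⟶ S` and a property `Q` of morphisms which is
stable under base change and descends along cofiltered limits (`Descends Q`): if the morphism of
generic fibres has `Q`, then so has the base change of `f` to a nonempty open subscheme of `S`
(`spread_generic`).
-/

set_option autoImplicit false
set_option linter.unusedSectionVars false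
set_option linter.unusedVariables false
set_option linter.style.haveILetI false
universe u

open CategoryTheory CategoryTheory.Limits AlgebraicGeometry

namespace Groth.Agent.Lib.Helper25.FibLocusGen

open Groth.Agent.Lib.Helper25.FibLocus
open Groth.Agent.Lib.Helper25.ConsPair (Descends)

section Ring

variable (A K : Type u) [CommRing A] [Field K] [Algebra A K]

theorem resIdeal_eq_bot (hinj : Function.Injective (algebraMap A K)) (σ : Finset A) :
    ResLim.resIdeal A K σ = ⊥ := by
  rw [ResLim.resIdeal, Ideal.span_eq_bot]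
  rintro a ⟨_, ha⟩
  exact hinj (by rw [ha, map_zero])

theorem isOpenImmersion_specStr (hinj : Function.Injective (algebraMap A K))
    (s : (Finset A)ᵒᵖ) : IsOpenImmersion (ResLim.specStr A K s) := by
  have h2 : IsOpenImmersion (Spec.map (CommRingCat.ofHom
      (algebraMap (A ⧸ ResLim.resIdeal A K s.unop) (ResLim.ResAlg A K s.unop)))) := inferInstance
  have e : ResLim.specStr A K s = Spec.map (CommRingCat.ofHom
      (algebraMap (A ⧸ ResLim.resIdeal A K s.unop) (ResLim.ResAlg A K s.unop))) ≫
      Spec.map (CommRingCat.ofHom (Ideal.Quotient.mk (ResLim.resIdeal A K s.unop))) := by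
    rw [← Spec.map_comp]; rfl
  have hbij : Function.Bijective (Ideal.Quotient.mk (ResLim.resIdeal A K s.unop)) := by
    refine ⟨?_, Ideal.Quotient.mk_surjective⟩
    rw [RingHom.injective_iff_ker_eq_bot, Ideal.mk_ker]
    exact resIdeal_eq_bot A K hinj _
  haveI : IsIso (CommRingCat.ofHom (Ideal.Quotient.mk (ResLim.resIdeal A K s.unop))) :=
    (ConcreteCategory.isIso_iff_bijective _).mpr hbij
  haveI : IsIso (Spec.map (CommRingCat.ofHom
      (Ideal.Quotient.mk (ResLim.resIdeal A K s.unop)))) := inferInstance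
  haveI : IsOpenImmersion (Spec.map (CommRingCat.ofHom
      (Ideal.Quotient.mk (ResLim.resIdeal A K s.unop)))) := inferInstance
  rw [e]
  exact @IsOpenImmersion.comp _ _ _ _ _ h2 inferInstance

end Ring

section Main

variable (Q : MorphismProperty Scheme.{u}) [Q.IsStableUnderBaseChange]

set_option maxHeartbeats 1600000 in
/-- spreading out `Q` from the fibre at `s` to a stage `(A/I_σ)[1/t_σ]`, `A = Γ(S, U)` -/
theorem exists_stage_aux (hQ : Descends Q) {X Y S : Scheme.{u}} (f : X ⟶ Y) (g : Y ⟶ S)
    [LocallyOfFinitePresentation g] [QuasiCompact g] [QuasiSeparated g]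
    [LocallyOfFinitePresentation (f ≫ g)] [QuasiCompact (f ≫ g)] [QuasiSeparated (f ≫ g)]
    (s : S) (hs : Q (bcMap f g (S.fromSpecResidueField s)))
    (U : S.Opens) (hU : IsAffineOpen U) (hsU : s ∈ U) :
    letI : Algebra Γ(S, U) (S.residueField s) := (S.evaluation U s hsU).hom.toAlgebra
    ∃ σ : (Finset Γ(S, U))ᵒᵖ,
      Q (bcMap f g (ResLim.specStr Γ(S, U) (S.residueField s) σ ≫ hU.fromSpec)) := by
  letI : Algebra Γ(S, U) (S.residueField s) := (S.evaluation U s hsU).hom.toAlgebra
  have hK : ∀ x : S.residueField s, ∃ a t : Γ(S, U),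
      algebraMap Γ(S, U) (S.residueField s) t ≠ 0 ∧
        x * algebraMap Γ(S, U) (S.residueField s) t = algebraMap Γ(S, U) (S.residueField s) a :=
    exists_fraction hU s hsU
  let ι : Spec (CommRingCat.of Γ(S, U)) ⟶ S := hU.fromSpec
  haveI : IsOpenImmersion ι := inferInstanceAs (IsOpenImmersion hU.fromSpec)
  have hτ : ResLim.specτ Γ(S, U) (S.residueField s) ≫ ι = S.fromSpecResidueField s := by
    have h1 : Spec.map (S.evaluation U s hsU) ≫ hU.fromSpec = S.fromSpecResidueField s := by
      rw [← Scheme.germ_residue, Spec.map_comp, Category.assoc]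
      change _ ≫ hU.fromSpecStalk hsU = _
      rw [hU.fromSpecStalk_eq_fromSpecStalk]
      rfl
    exact h1
  -- the structure maps
  let tS : ∀ σ, (ResLim.specDiag Γ(S, U) (S.residueField s)).obj σ ⟶ S :=
    fun σ => ResLim.specStr Γ(S, U) (S.residueField s) σ ≫ ι
  have htS_map : ∀ {σ τ : (Finset Γ(S, U))ᵒᵖ} (a : σ ⟶ τ),
      (ResLim.specDiag Γ(S, U) (S.residueField s)).map a ≫ tS τ = tS σ :=
    fun a => by simp only [tS]; rw [← Category.assoc, ResLim.specDiag_map_str]
  have hcS : ∀ σ, (ResLim.specCone Γ(S, U) (S.residueField s)).π.app σ ≫ tS σ =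
      S.fromSpecResidueField s :=
    fun σ => by simp only [tS]; rw [← Category.assoc, ResLim.specCone_π_str, hτ]
  haveI : ∀ σ, LocallyOfFinitePresentation (tS σ) := fun σ => by simp only [tS]; infer_instance
  haveI : ∀ σ, IsPreimmersion (tS σ) := fun σ => by simp only [tS]; infer_instance
  let i₀ : (Finset Γ(S, U))ᵒᵖ := Opposite.op ∅
  have hb₀ := hcS i₀
  -- instances at the stage `i₀`
  haveI : LocallyOfFinitePresentation (bcMap f g (tS i₀) ≫ pullback.snd g (tS i₀)) := by
    rw [bcMap_snd]; infer_instance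
  haveI : QuasiCompact (bcMap f g (tS i₀) ≫ pullback.snd g (tS i₀)) := by
    rw [bcMap_snd]; infer_instance
  haveI : QuasiSeparated (bcMap f g (tS i₀) ≫ pullback.snd g (tS i₀)) := by
    rw [bcMap_snd]; infer_instance
  haveI : CompactSpace ↥(pullback (f ≫ g) (tS i₀)) :=
    QuasiCompact.compactSpace_of_compactSpace (pullback.snd (f ≫ g) (tS i₀))
  haveI : CompactSpace ↥(pullback g (tS i₀)) :=
    QuasiCompact.compactSpace_of_compactSpace (pullback.snd g (tS i₀))
  haveI : QuasiSeparatedSpace ↥(pullback (f ≫ g) (tS i₀)) :=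
    quasiSeparatedSpace_of_quasiSeparated (pullback.snd (f ≫ g) (tS i₀))
  haveI : QuasiSeparatedSpace ↥(pullback g (tS i₀)) :=
    quasiSeparatedSpace_of_quasiSeparated (pullback.snd g (tS i₀))
  haveI : LocallyOfFiniteType (bcMap f g (tS i₀)) := by
    haveI : LocallyOfFiniteType (bcMap f g (tS i₀) ≫ pullback.snd g (tS i₀)) := inferInstance
    exact locallyOfFiniteType_of_comp (bcMap f g (tS i₀)) (pullback.snd g (tS i₀))
  obtain ⟨i, φ, Xi, Yi, fi, gi, pY, pX, hpY, hpX, hQi⟩ :=
    hQ (ResLim.specDiag Γ(S, U) (S.residueField s)) (ResLim.specCone Γ(S, U) (S.residueField s))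
      (ResLim.specIsLimit Γ(S, U) (S.residueField s) hK) i₀ (bcMap f g (tS i₀))
      (pullback.snd g (tS i₀)) (bcMap f g (S.fromSpecResidueField s))
      (pullback.snd g (S.fromSpecResidueField s))
      (cmp g (tS i₀) _ _ hb₀) (cmp (f ≫ g) (tS i₀) _ _ hb₀)
      (isPullback_cmp g (tS i₀) _ _ hb₀) (isPullback_bcMap_cmp f g (tS i₀) _ _ hb₀) hs
  -- transfer to the canonical base change at the stage `i`
  have hb : (ResLim.specDiag Γ(S, U) (S.residueField s)).map φ ≫ tS i₀ = tS i := htS_map φ
  let ρ : pullback g (tS i) ⟶ Yi :=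
    hpY.lift (cmp g (tS i₀) _ _ hb) (pullback.snd g (tS i)) (cmp_snd g (tS i₀) _ _ hb)
  have hρ : ρ ≫ pY = cmp g (tS i₀) _ _ hb := hpY.lift_fst _ _ _
  have hw : cmp (f ≫ g) (tS i₀) _ _ hb ≫ bcMap f g (tS i₀) = (bcMap f g (tS i) ≫ ρ) ≫ pY := by
    rw [Category.assoc, hρ]
    exact (isPullback_bcMap_cmp f g (tS i₀) _ _ hb).w
  let l : pullback (f ≫ g) (tS i) ⟶ Xi := hpX.lift _ _ hw
  have hl1 : l ≫ pX = cmp (f ≫ g) (tS i₀) _ _ hb := hpX.lift_fst _ _ hw
  have hl2 : l ≫ fi = bcMap f g (tS i) ≫ ρ := hpX.lift_snd _ _ hw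
  have hsq : IsPullback l (bcMap f g (tS i)) fi ρ := by
    refine IsPullback.of_right ?_ hl2 hpX
    rw [hl1, hρ]
    exact isPullback_bcMap_cmp f g (tS i₀) _ _ hb
  exact ⟨i, MorphismProperty.of_isPullback hsq hQi⟩

/-- spreading out from the generic fibre to a nonempty open subscheme -/
theorem spread_generic (hQ : Descends Q) {X Y S : Scheme.{u}} [IsIntegral S] (f : X ⟶ Y)
    (g : Y ⟶ S)
    [LocallyOfFinitePresentation g] [QuasiCompact g] [QuasiSeparated g]
    [LocallyOfFinitePresentation (f ≫ g)] [QuasiCompact (f ≫ g)] [QuasiSeparated (f ≫ g)]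
    (hs : Q (bcMap f g (S.fromSpecResidueField (genericPoint S)))) :
    ∃ V : S.Opens, (V : Set S).Nonempty ∧ Q (bcMap f g V.ι) := by
  obtain ⟨U, hU, hsU, -⟩ := exists_isAffineOpen_mem_and_subset (X := S) (x := genericPoint S)
    (U := ⊤) (by simp)
  letI : Algebra Γ(S, U) (S.residueField (genericPoint S)) :=
    (S.evaluation U (genericPoint S) hsU).hom.toAlgebra
  obtain ⟨σ, hσ⟩ := exists_stage_aux Q hQ f g (genericPoint S) hs U hU hsU
  have hinj : Function.Injective (algebraMap Γ(S, U) (S.residueField (genericPoint S))) := by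
    change Function.Injective (S.evaluation U (genericPoint S) hsU).hom
    haveI : Nonempty U := ⟨⟨genericPoint S, hsU⟩⟩
    have h1 : Function.Injective (S.presheaf.germ U (genericPoint S) hsU).hom :=
      germ_injective_of_isIntegral S (genericPoint S) hsU
    have h2 : Function.Injective (S.residue (genericPoint S)).hom := by
      letI : Field (S.presheaf.stalk (genericPoint S)) :=
        inferInstanceAs (Field S.functionField)
      exact RingHom.injective _
    have h3 : (S.evaluation U (genericPoint S) hsU).hom =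
        (S.residue (genericPoint S)).hom.comp (S.presheaf.germ U (genericPoint S) hsU).hom := rfl
    rw [h3]
    exact h2.comp h1
  haveI : IsOpenImmersion (ResLim.specStr Γ(S, U) (S.residueField (genericPoint S)) σ) :=
    isOpenImmersion_specStr _ _ hinj σ
  haveI : IsOpenImmersion hU.fromSpec := inferInstanceAs (IsOpenImmersion hU.fromSpec)
  let j := ResLim.specStr Γ(S, U) (S.residueField (genericPoint S)) σ ≫ hU.fromSpec
  haveI : IsOpenImmersion j := by simp only [j]; infer_instance
  refine ⟨j.opensRange, ?_, ?_⟩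
  · let z := (ResLim.specCone Γ(S, U) (S.residueField (genericPoint S))).π.app σ
      (IsLocalRing.closedPoint (S.residueField (genericPoint S)))
    exact ⟨j z, ⟨z, rfl⟩⟩
  · let e : (j.opensRange : Scheme.{u}) ⟶ _ := (IsOpenImmersion.isoOfRangeEq j j.opensRange.ι
      (by simp)).inv
    have he : e ≫ j = j.opensRange.ι := by
      simp only [e]
      rw [Iso.inv_comp_eq]
      exact (IsOpenImmersion.isoOfRangeEq_hom_fac _ _ _).symm
    exact bcMap_of_comp f g Q j e _ he hσ

end Main

end Groth.Agent.Lib.Helper25.FibLocusGen
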