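import Mathlib
import Groth.Agent.Lib.Helper25.ConsSep
import Groth.Agent.Lib.Helper25.FibLocusGen
import Groth.Agent.Lib.Helper25.ConsPairDiag
import Groth.Agent.Lib.Helper13.ZMTFinMain
import Groth.Agent.Lib.Helper4.AffineDescent
import Groth.Agent.S5889
import Groth.Agent.S5903

/-!
# Finiteness is a constructible property of morphisms (EGA IV 9.6.1 (vi)) (helper25)
-/

set_option autoImplicit false
set_option linter.unusedSectionVars false
set_option linter.unusedVariables false
set_option linter.style.haveILetI false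
set_option linter.deprecated false
universe u

open CategoryTheory CategoryTheory.Limits AlgebraicGeometry Topology TopologicalSpace

namespace Groth.Agent.Lib.Helper25.ConsFinite

open Groth.Agent.Lib.Helper25.FibTop Groth.Agent.Lib.Helper25.ConsLocus
  Groth.Agent.Lib.Helper25.FibLocus Groth.Agent.Lib.Helper25.ConsTopMor
  Groth.Agent.Lib.Helper25.ConsSep

section FZ

variable {X T Y S : Scheme.{u}} (j : X ⟶ T) (π : T ⟶ Y) (g : Y ⟶ S)
  [IsOpenImmersion j] [IsFinite π]

/-- for `f = j ≫ π` with `j` an open immersion and `π` finite, `f_s` is finite iff the trace of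
the range of `j` on the fibre of `T` at `s` is closed in this fibre -/
theorem isFinite_fiberMap_comp_iff (s : S) :
    IsFinite (MoreMor.fiberMap (j ≫ π) g s) ↔
      closure (Set.range j ∩ (π ≫ g) ⁻¹' {s}) ∩ (π ≫ g) ⁻¹' {s} ⊆ Set.range j := by
  set a := ((j ≫ π) ≫ g).fiberι s with ha
  set b := g.fiberι s with hb
  set fs := MoreMor.fiberMap (j ≫ π) g s with hfs
  have hsq : IsPullback a fs (j ≫ π) b := isPullback_bcMap (j ≫ π) g (S.fromSpecResidueField s)
  let p1 := pullback.fst π b
  let πs := pullback.snd π b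
  have hT : IsPullback p1 πs π b := IsPullback.of_hasPullback π b
  let js : ((j ≫ π) ≫ g).fiber s ⟶ pullback π b :=
    pullback.lift (a ≫ j) fs ((Category.assoc _ _ _).trans hsq.w)
  have hj1 : js ≫ p1 = a ≫ j := pullback.lift_fst _ _ _
  have hj2 : js ≫ πs = fs := pullback.lift_snd _ _ _
  have hJ : IsPullback a js j p1 := by
    refine IsPullback.of_bot ?_ hj1.symm hT
    rw [hj2]; exact hsq
  haveI : IsOpenImmersion js := MorphismProperty.of_isPullback hJ (inferInstance : IsOpenImmersion j)
  haveI : IsFinite πs := MorphismProperty.of_isPullback hT (inferInstance : IsFinite π)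
  have h3 : IsPullback b (g.fiberToSpecResidueField s) g (S.fromSpecResidueField s) :=
    IsPullback.of_hasPullback g (S.fromSpecResidueField s)
  have h4 := hT.paste_vert h3
  haveI : IsPreimmersion p1 :=
    MorphismProperty.of_isPullback h4.flip (inferInstance : IsPreimmersion (S.fromSpecResidueField s))
  have hr : Set.range p1 = (π ≫ g) ⁻¹' {s} := by
    rw [range_of_isPullback h4.flip, Scheme.range_fromSpecResidueField]
  have hrange : Set.range js = p1 ⁻¹' Set.range j := range_of_isPullback hJ
  have key : IsFinite fs ↔ IsClosed (Set.range js) := by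
    constructor
    · intro hfin
      haveI : IsProper (js ≫ πs) := by rw [hj2]; infer_instance
      haveI : IsProper js := IsProper.of_comp js πs
      exact js.isClosedMap.isClosed_range
    · intro hcl
      haveI : IsClosedImmersion js := IsClosedImmersion.of_isPreimmersion js hcl
      rw [← hj2]
      infer_instance
  rw [key, hrange]
  exact isClosed_preimage_iff_of_isInducing p1.isEmbedding.isInducing hr _

end FZ


section Transfer

/-- the dichotomy may be checked on an open subscheme -/
theorem dich_of_opens {S : Scheme.{u}} (V : S.Opens) {E : Set S} (h : Dich (V.ι ⁻¹' E)) :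
    Dich E := by
  have hopen : IsOpenEmbedding V.ι := V.ι.isOpenEmbedding
  rcases h with h | h
  · left
    obtain ⟨v, hv⟩ := h
    refine ⟨V.ι v, mem_interior.mpr ⟨V.ι '' interior (V.ι ⁻¹' E), ?_, ?_, ⟨v, hv, rfl⟩⟩⟩
    · rintro _ ⟨w, hw, rfl⟩
      exact (interior_subset hw : w ∈ V.ι ⁻¹' E)
    · exact hopen.isOpenMap _ isOpen_interior
  · right
    obtain ⟨v, hv⟩ := h
    refine ⟨V.ι v, mem_interior.mpr ⟨V.ι '' interior (V.ι ⁻¹' E)ᶜ, ?_, ?_, ⟨v, hv, rfl⟩⟩⟩
    · rintro _ ⟨w, hw, rfl⟩
      exact (interior_subset hw : w ∈ (V.ι ⁻¹' E)ᶜ)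
    · exact hopen.isOpenMap _ isOpen_interior

/-- an open subscheme of a Noetherian integral scheme -/
theorem isNoetherian_opens {S : Scheme.{u}} [IsNoetherian S] (V : S.Opens) :
    IsNoetherian (V : Scheme.{u}) := by
  haveI : CompactSpace ↥(V : Scheme.{u}) :=
    isCompact_iff_compactSpace.mp (NoetherianSpace.isCompact (V : Set S))
  exact ⟨⟩

end Transfer

section Main

open Groth.Agent.Lib.Helper25.ConsBase Groth.Agent.Lib.Helper25.FibLocusGen
  Groth.Agent.Lib.helper11.ConstrTop Groth.Agent.Lib.Helper25.GenClosure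

set_option maxHeartbeats 1600000 in
/-- EGA IV 9.6.1 (vi): finiteness is a constructible property of morphisms -/
theorem isConsMor_isFinite :
    ConsProp.IsConsMor.{u} (fun X Y T f g => IsFinite f) := by
  have hfs : ConsProp.IsFieldStableMor.{u} (fun X Y T f g => IsFinite f) :=
    isFieldStableMor_of_descends @IsFinite
  refine ⟨hfs, ?_⟩
  intro X Y S f g _ _ _ _ _ _
  obtain ⟨h1, h2, h3, h4⟩ := fp_of_noetherian f g
  haveI := h1; haveI := h2; haveI := h3; haveI := h4
  have dqf := Groth.Agent.S5889.result.2 f g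
  have dsep := isConsMor_isSeparated.2 f g
  -- finite morphisms are quasi-finite and separated
  have hsub1 : ConsProp.locusMor (fun X Y T f g => IsFinite f) f g ⊆
      ConsProp.locusMor (fun X Y T f g => AlgebraicGeometry.LocallyOfFiniteType f ∧
        AlgebraicGeometry.QuasiCompact f ∧ AlgebraicGeometry.LocallyQuasiFinite f) f g := by
    intro s hs
    haveI : IsFinite (MoreMor.fiberMap f g s) := hs
    exact ⟨inferInstance, inferInstance, inferInstance⟩
  have hsub2 : ConsProp.locusMor (fun X Y T f g => IsFinite f) f g ⊆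
      ConsProp.locusMor (fun X Y T f g => IsSeparated f) f g := by
    intro s hs
    haveI : IsFinite (MoreMor.fiberMap f g s) := hs
    change IsSeparated (MoreMor.fiberMap f g s)
    infer_instance
  rcases dqf with dqf | dqf
  swap
  · right
    exact dqf.mono (interior_mono (Set.compl_subset_compl.mpr hsub1))
  rcases dsep with dsep | dsep
  swap
  · right
    exact dsep.mono (interior_mono (Set.compl_subset_compl.mpr hsub2))
  have hη1 := genericPoint_mem_of_interior_nonempty dqf
  have hη2 := genericPoint_mem_of_interior_nonempty dsep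
  obtain ⟨V1, hV1, hQ1⟩ := spread_generic Groth.Agent.S5903.QFin.{u}
    Groth.Agent.S5903.descends_prop f g hη1
  obtain ⟨V2, hV2, hQ2⟩ := spread_generic @IsSeparated
    Groth.Agent.Lib.Helper25.ConsPair.descends_isSeparated f g hη2
  let V : S.Opens := V1 ⊓ V2
  have hVne : (V : Set S).Nonempty :=
    nonempty_preirreducible_inter V1.isOpen V2.isOpen hV1 hV2
  have hQ1' : Groth.Agent.S5903.QFin.{u} (bcMap f g V.ι) :=
    bcMap_of_comp f g _ V1.ι (S.homOfLE inf_le_left) V.ι (S.homOfLE_ι _) hQ1
  have hQ2' : IsSeparated (bcMap f g V.ι) :=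
    bcMap_of_comp f g @IsSeparated V2.ι (S.homOfLE inf_le_right) V.ι (S.homOfLE_ι _) hQ2
  apply dich_of_opens V
  rw [← locusMor_bcMap hfs f g V.ι]
  -- the situation over `V`
  haveI : Nonempty ↥(V : Scheme.{u}) := hVne.to_subtype
  haveI : IsIntegral (V : Scheme.{u}) := isIntegral_of_isOpenImmersion V.ι
  haveI : IsNoetherian (V : Scheme.{u}) := isNoetherian_opens V
  set fV := bcMap f g V.ι with hfV
  set gV := pullback.snd g V.ι with hgV
  haveI : LocallyOfFiniteType fV := hQ1'.1
  haveI : QuasiCompact fV := hQ1'.2.1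
  haveI : LocallyQuasiFinite fV := hQ1'.2.2
  haveI : IsSeparated fV := hQ2'
  haveI : CompactSpace ↥(pullback g V.ι) := QuasiCompact.compactSpace_of_compactSpace gV
  haveI : IsLocallyNoetherian (pullback g V.ι) := LocallyOfFiniteType.isLocallyNoetherian gV
  obtain ⟨T, j, π, hj, hjqc, hjd, hπ, hfac⟩ :=
    Groth.Agent.Lib.Helper13.ZMTFin.exists_finite_factorization fV
  haveI := hj; haveI := hπ
  haveI : LocallyOfFiniteType (π ≫ gV) := inferInstance
  haveI : QuasiCompact (π ≫ gV) := inferInstance
  haveI := noetherianSpace_of_finiteType (π ≫ gV)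
  have hZ : IsConstructible (Set.range j) := isConstructible_of_isOpen j.isOpenEmbedding.isOpen_range
  have key : ConsProp.locusMor (fun X Y T f g => IsFinite f) fV gV =
      {s | closure (Set.range j ∩ (π ≫ gV) ⁻¹' {s}) ∩ (π ≫ gV) ⁻¹' {s} ⊆ Set.range j} := by
    ext s
    change IsFinite (MoreMor.fiberMap fV gV s) ↔ _
    rw [← hfac]
    exact isFinite_fiberMap_comp_iff j π gV s
  rw [key]
  exact dich_closed (π ≫ gV) hZ

end Main

end Groth.Agent.Lib.Helper25.ConsFinite
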