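import Mathlib
import Groth.Agent.Lib.Helper25.ConsFinite
import Groth.Agent.S16765
import Groth.Agent.S5890

/-!
# Unramified morphisms and monomorphisms: constructible properties (EGA IV 9.6.1 (iii))
(helper25)
-/

set_option autoImplicit false
set_option linter.unusedSectionVars false
set_option linter.unusedVariables false
set_option linter.style.haveILetI false
set_option linter.deprecated false
universe u

open CategoryTheory CategoryTheory.Limits AlgebraicGeometry Topology TopologicalSpace

namespace Groth.Agent.Lib.Helper25.ConsMono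

open Groth.Agent.Lib.Helper25.FibTop Groth.Agent.Lib.Helper25.ConsLocus
  Groth.Agent.Lib.Helper25.FibLocus Groth.Agent.Lib.Helper25.ConsTopMor
  Groth.Agent.Lib.Helper25.ConsSep Groth.Agent.Lib.helper11.ConstrTop
  Groth.Agent.Lib.Helper25.GenClosure

section Ram

variable {X Y : Scheme.{u}} (f : X ⟶ Y)

/-- the ramification locus of a morphism -/
def ramLocus : Set X := {x | ¬ (f.stalkMap x).hom.FormallyUnramified}

theorem isClosed_ramLocus [LocallyOfFiniteType f] : IsClosed (ramLocus f) := by
  rw [← isOpen_compl_iff, isOpen_iff_forall_mem_open]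
  intro x hx
  have hx' : (f.stalkMap x).hom.FormallyUnramified := not_not.mp hx
  obtain ⟨U, hxU, hU⟩ := Groth.Agent.S16765.exists_open_formallyUnramified f x hx'
  refine ⟨U, ?_, U.isOpen, hxU⟩
  intro u hu
  have h1 := FormallyUnramified.stalkMap (U.ι ≫ f) (⟨u, hu⟩ : U)
  have h2 := (Groth.Agent.S16765.formallyUnramified_stalkMap_ι_comp_iff f U ⟨u, hu⟩).mp h1
  exact not_not.mpr h2

end Ram

section Fibre

variable {X Y S : Scheme.{u}} (f : X ⟶ Y) (g : Y ⟶ S) [LocallyOfFiniteType f]

set_option backward.isDefEq.respectTransparency.types false in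
theorem formallyUnramified_fiberMap_iff (s : S) :
    FormallyUnramified (MoreMor.fiberMap f g s) ↔ ramLocus f ∩ (f ≫ g) ⁻¹' {s} = ∅ := by
  have hsq : IsPullback ((f ≫ g).fiberι s) (MoreMor.fiberMap f g s) f (g.fiberι s) :=
    isPullback_bcMap f g (S.fromSpecResidueField s)
  constructor
  · intro hfu
    rw [Set.eq_empty_iff_forall_notMem]
    rintro x ⟨hxR, hxs⟩
    have : x ∈ Set.range ((f ≫ g).fiberι s) := by
      rw [Scheme.Hom.range_fiberι]; exact hxs
    obtain ⟨x', rfl⟩ := this
    exact hxR (Groth.Agent.S16765.stalkMap_formallyUnramified_of_isPullback hsq x'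
      (FormallyUnramified.stalkMap (MoreMor.fiberMap f g s) x'))
  · intro hem
    have hpt : ∀ x' : (f ≫ g).fiber s, ∃ V : ((f ≫ g).fiber s).Opens, x' ∈ V ∧
        FormallyUnramified (V.ι ≫ MoreMor.fiberMap f g s) := by
      intro x'
      have hx : (f ≫ g).fiberι s x' ∉ ramLocus f := by
        intro hc
        have hmem : (f ≫ g).fiberι s x' ∈ (f ≫ g) ⁻¹' {s} := by
          rw [← Scheme.Hom.range_fiberι]; exact ⟨x', rfl⟩
        exact (Set.eq_empty_iff_forall_notMem.mp hem _) ⟨hc, hmem⟩
      obtain ⟨U, hxU, hU⟩ := Groth.Agent.S16765.exists_open_formallyUnramified f _ (not_not.mp hx)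
      refine ⟨((f ≫ g).fiberι s) ⁻¹ᵁ U, hxU, ?_⟩
      have h1 : IsPullback (((f ≫ g).fiberι s) ∣_ U) (((f ≫ g).fiberι s) ⁻¹ᵁ U).ι U.ι
          ((f ≫ g).fiberι s) := isPullback_morphismRestrict ((f ≫ g).fiberι s) U
      have h2 := h1.paste_vert hsq
      exact MorphismProperty.of_isPullback h2 hU
    choose V hV1 hV2 using hpt
    refine IsZariskiLocalAtSource.of_iSup_eq_top (P := @FormallyUnramified) V ?_ hV2
    rw [eq_top_iff]
    intro x' _
    exact Opens.mem_iSup.mpr ⟨x', hV1 x'⟩

end Fibre

section Cons

/-- being unramified is a constructible property of morphisms -/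
theorem isConsMor_formallyUnramified :
    ConsProp.IsConsMor.{u} (fun X Y T f g => FormallyUnramified f) := by
  refine ⟨isFieldStableMor_of_descends @FormallyUnramified, ?_⟩
  intro X Y S f g _ _ _ _ _ _
  haveI : IsLocallyNoetherian Y := LocallyOfFiniteType.isLocallyNoetherian g
  haveI : LocallyOfFiniteType f := locallyOfFiniteType_of_comp f g
  haveI := noetherianSpace_of_finiteType (f ≫ g)
  have key : ConsProp.locusMor (fun X Y T f g => FormallyUnramified f) f g =
      {s : S | ramLocus f ∩ (f ≫ g) ⁻¹' {s} = ∅} := by
    ext s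
    exact formallyUnramified_fiberMap_iff f g s
  rw [key]
  exact dich_inter_fibre_eq_empty (f ≫ g) (isConstructible_of_isClosed (isClosed_ramLocus f))

/-- a morphism locally of finite type is a monomorphism iff it is radicial and unramified -/
theorem mono_iff {X Y : Scheme.{u}} (f : X ⟶ Y) [LocallyOfFiniteType f] :
    Mono f ↔ UniversallyInjective f ∧ FormallyUnramified f := by
  constructor
  · intro h
    haveI : IsIso (pullback.diagonal f) := (pullback.isIso_diagonal_iff f).mpr h
    exact ⟨inferInstance, inferInstance⟩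
  · rintro ⟨h1, h2⟩
    haveI : Surjective (pullback.diagonal f) := (UniversallyInjective.iff_diagonal f).mp h1
    haveI : IsOpenImmersion (pullback.diagonal f) := inferInstance
    haveI : IsIso (pullback.diagonal f) :=
      (isIso_iff_isOpenImmersion_and_surjective _).mpr ⟨inferInstance, inferInstance⟩
    exact (pullback.isIso_diagonal_iff f).mp inferInstance

set_option backward.isDefEq.respectTransparency.types false in
instance : MorphismProperty.DescendsAlong (MorphismProperty.monomorphisms Scheme.{u})
    (@Surjective ⊓ @Flat ⊓ @QuasiCompact : MorphismProperty Scheme.{u}) := by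
  rw [← MorphismProperty.diagonal_isomorphisms]
  infer_instance

/-- EGA IV 9.6.1 (iii): being a monomorphism is a constructible property of morphisms -/
theorem isConsMor_mono :
    ConsProp.IsConsMor.{u} (fun X Y T f g => Mono f) := by
  refine ⟨isFieldStableMor_of_descends (MorphismProperty.monomorphisms Scheme.{u}), ?_⟩
  intro X Y S f g _ _ _ _ _ _
  have d1 : Dich _ := Groth.Agent.S5890.result.2 f g
  have d2 : Dich _ := isConsMor_formallyUnramified.2 f g
  have key : ConsProp.locusMor (fun X Y T f g => Mono f) f g =
      ConsProp.locusMor (fun X Y T f g => AlgebraicGeometry.UniversallyInjective f) f g ∩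
      ConsProp.locusMor (fun X Y T f g => FormallyUnramified f) f g := by
    ext s
    haveI : IsLocallyNoetherian (g.fiber s) :=
      LocallyOfFiniteType.isLocallyNoetherian (g.fiberToSpecResidueField s)
    haveI : LocallyOfFiniteType (MoreMor.fiberMap f g s) :=
      locallyOfFiniteType_of_comp (MoreMor.fiberMap f g s) (g.fiberToSpecResidueField s)
    exact mono_iff (MoreMor.fiberMap f g s)
  have := d1.inter d2
  rw [← key] at this
  exact this

end Cons

end Groth.Agent.Lib.Helper25.ConsMono
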