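import Mathlib
import Groth.Agent.Lib.Helper25.ConsMono
import Groth.Agent.Lib.Helper4.QuotFlat
import Groth.Agent.S1386
import Groth.Agent.S0414

/-!
# Flatness is a constructible property of morphisms (EGA IV 11.2.8 for the structure sheaf)
(helper25)

Uses the fibre criterion of flatness at the level of schemes (S1386, helper21) and generic flatness
(S0414, helper24).
-/

set_option autoImplicit false
set_option linter.unusedSectionVars false
set_option linter.unusedVariables false
set_option linter.style.haveILetI false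
set_option linter.deprecated false
universe u

open CategoryTheory CategoryTheory.Limits AlgebraicGeometry Topology TopologicalSpace

namespace Groth.Agent.Lib.Helper25.ConsFlat

open Groth.Agent.Lib.Helper25.FibTop Groth.Agent.Lib.Helper25.ConsLocus
  Groth.Agent.Lib.Helper25.FibLocus Groth.Agent.Lib.Helper25.ConsTopMor
  Groth.Agent.Lib.helper11.ConstrTop Groth.Agent.Lib.Helper25.GenClosure

section Locus

variable {X Y : Scheme.{u}} (f : X ⟶ Y)

/-- the locus where a morphism is not flat -/
def nonFlatLocus : Set X := {x | ¬ (f.stalkMap x).hom.Flat}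

theorem isClosed_nonFlatLocus [LocallyOfFinitePresentation f] : IsClosed (nonFlatLocus f) := by
  haveI : LocallyOfFinitePresentation (f ≫ 𝟙 Y) := by rw [Category.comp_id]; infer_instance
  have h := (Groth.Agent.S1386.result f (𝟙 Y)).2
  rw [← isOpen_compl_iff]
  convert h using 1
  ext x
  simp only [nonFlatLocus, Set.mem_compl_iff, Set.mem_setOf_eq, not_not]
  constructor
  · intro hx
    exact ⟨Flat.stalkMap (𝟙 Y) (f x), hx⟩
  · exact fun h => h.2

/-- flatness at the points over an open subset over which the morphism is flat -/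
theorem flat_stalkMap_of_flat_restrict {S : Scheme.{u}} (p : X ⟶ S) (U : S.Opens) [Flat (p ∣_ U)]
    (x : X) (hx : p x ∈ U) : (p.stalkMap x).hom.Flat := by
  have h := Flat.stalkMap (p ∣_ U) ⟨x, hx⟩
  exact (RingHom.Flat.respectsIso.arrow_mk_iso_iff (morphismRestrictStalkMap p U ⟨x, hx⟩)).mp h

end Locus

section Fibre

variable {X Y S : Scheme.{u}} (f : X ⟶ Y) (g : Y ⟶ S)

/-- the fibre criterion of flatness, for a whole fibre -/
theorem flat_fiberMap_iff_of_flat [LocallyOfFinitePresentation (f ≫ g)] [LocallyOfFiniteType g]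
    (s : S) (h1 : ∀ x : X, (f ≫ g) x = s → ((f ≫ g).stalkMap x).hom.Flat)
    (h2 : ∀ y : Y, g y = s → (g.stalkMap y).hom.Flat) :
    Flat (MoreMor.fiberMap f g s) ↔ nonFlatLocus f ∩ (f ≫ g) ⁻¹' {s} = ∅ := by
  have key := (Groth.Agent.S1386.result f g).1
  constructor
  · intro hfl
    rw [Set.eq_empty_iff_forall_notMem]
    rintro x ⟨hx1, hx2⟩
    have hx2' : (f ≫ g) x = s := hx2
    subst hx2'
    have hfl' : Flat (MoreMor.fiberMap f g (g (f x))) := hfl
    have h12 := (key x).mp ⟨h1 x rfl, Flat.stalkMap _ _⟩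
    exact hx1 h12.2
  · intro hem
    rw [Flat.iff_flat_stalkMap]
    intro z
    obtain ⟨x, hx⟩ : ∃ x : X, x = (f ≫ g).fiberι s z := ⟨_, rfl⟩
    have hxs : (f ≫ g) x = s := by
      have : x ∈ (f ≫ g) ⁻¹' {s} := by
        rw [← Scheme.Hom.range_fiberι]; exact ⟨z, hx.symm⟩
      exact this
    subst hxs
    have hz : z = (f ≫ g).asFiber x := by
      apply ((f ≫ g).fiberι _).isEmbedding.injective
      rw [Scheme.Hom.fiberι_asFiber, ← hx]
    subst hz
    have hxf : (f.stalkMap x).hom.Flat := by
      by_contra hc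
      exact (Set.eq_empty_iff_forall_notMem.mp hem x) ⟨hc, rfl⟩
    exact ((key x).mpr ⟨h2 (f x) rfl, hxf⟩).2

end Fibre

section Cons

instance : MorphismProperty.DescendsAlong (@Flat : MorphismProperty Scheme.{u})
    (@Surjective ⊓ @Flat ⊓ @QuasiCompact : MorphismProperty Scheme.{u}) :=
  Groth.Agent.Lib.Helper4.QuotFlat.descendsAlong_flat

/-- EGA IV 11.2.8 (structure sheaf): flatness is a constructible property of morphisms -/
theorem isConsMor_flat : ConsProp.IsConsMor.{u} (fun X Y T f g => Flat f) := by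
  refine ⟨isFieldStableMor_of_descends @Flat, ?_⟩
  intro X Y S f g _ _ _ _ _ _
  haveI : IsLocallyNoetherian Y := LocallyOfFiniteType.isLocallyNoetherian g
  haveI : LocallyOfFiniteType f := locallyOfFiniteType_of_comp f g
  obtain ⟨hg1, hg2, hg3, hg4⟩ := fp_of_noetherian f g
  haveI := hg1; haveI := hg3
  haveI : LocallyOfFinitePresentation f :=
    Groth.Agent.Lib.Helper13.LimDescend.locallyOfFinitePresentation_of_comp f g
  haveI := noetherianSpace_of_finiteType (f ≫ g)
  obtain ⟨U₁, hU₁, hfl₁, -⟩ := Groth.Agent.S0414.result (f ≫ g)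
  obtain ⟨U₂, hU₂, hfl₂, -⟩ := Groth.Agent.S0414.result g
  have hne : ((U₁ ⊓ U₂ : S.Opens) : Set S).Nonempty :=
    (hU₁.inter_of_isOpen_left hU₂ U₁.isOpen).nonempty
  refine Dich.of_eqOn (U₁ ⊓ U₂ : S.Opens).isOpen hne
    (D := {s : S | nonFlatLocus f ∩ (f ≫ g) ⁻¹' {s} = ∅}) ?_
    (dich_inter_fibre_eq_empty (f ≫ g) (isConstructible_of_isClosed (isClosed_nonFlatLocus f)))
  intro s hs
  exact flat_fiberMap_iff_of_flat f g s
    (fun x hx => flat_stalkMap_of_flat_restrict (f ≫ g) U₁ x (by rw [hx]; exact hs.1))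
    (fun y hy => flat_stalkMap_of_flat_restrict g U₂ y (by rw [hy]; exact hs.2))

end Cons

end Groth.Agent.Lib.Helper25.ConsFlat
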