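import Mathlib
import Groth.Agent.Lib.Helper25.ConsFlat

/-!
# Open immersions, isomorphisms, étale morphisms: constructible properties of morphisms
(EGA IV 9.6.1 (vi), (vii), 17.7.11) (helper25)
-/

set_option autoImplicit false
set_option linter.unusedSectionVars false
set_option linter.unusedVariables false
set_option linter.style.haveILetI false
set_option linter.deprecated false
universe u

open CategoryTheory CategoryTheory.Limits AlgebraicGeometry Topology TopologicalSpace

namespace Groth.Agent.Lib.Helper25.ConsOpenImm

open Groth.Agent.Lib.Helper25.FibTop Groth.Agent.Lib.Helper25.ConsLocus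
  Groth.Agent.Lib.Helper25.FibLocus Groth.Agent.Lib.Helper25.ConsTopMor
  Groth.Agent.Lib.helper11.ConstrTop Groth.Agent.Lib.Helper25.GenClosure
  Groth.Agent.Lib.Helper25.ConsMono Groth.Agent.Lib.Helper25.ConsFlat

/-- the fibres of a finite type family are locally of finite presentation over each other -/
theorem lfp_fiberMap {X Y S : Scheme.{u}} (f : X ⟶ Y) (g : Y ⟶ S) [LocallyOfFiniteType g]
    [LocallyOfFiniteType (f ≫ g)] (s : S) :
    LocallyOfFinitePresentation (MoreMor.fiberMap f g s) := by
  haveI : IsLocallyNoetherian (g.fiber s) :=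
    LocallyOfFiniteType.isLocallyNoetherian (g.fiberToSpecResidueField s)
  haveI : LocallyOfFiniteType ((f ≫ g).fiberToSpecResidueField s) := inferInstance
  have hcomp : MoreMor.fiberMap f g s ≫ g.fiberToSpecResidueField s =
      (f ≫ g).fiberToSpecResidueField s := pullback.lift_snd _ _ _
  haveI : LocallyOfFiniteType (MoreMor.fiberMap f g s ≫ g.fiberToSpecResidueField s) := by
    rw [hcomp]; infer_instance
  haveI : LocallyOfFiniteType (MoreMor.fiberMap f g s) :=
    locallyOfFiniteType_of_comp (MoreMor.fiberMap f g s) (g.fiberToSpecResidueField s)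
  infer_instance

/-- EGA IV 9.6.1 (i): surjectivity is a constructible property of morphisms -/
theorem isConsMor_surjective :
    ConsProp.IsConsMor.{u} (fun X Y T f g => Surjective f) := by
  refine ⟨isFieldStableMor_of_descends @Surjective, ?_⟩
  intro X Y S f g _ _ _ _ _ _
  obtain ⟨h1, h2, h3, h4⟩ := fp_of_noetherian f g
  haveI := h1; haveI := h2; haveI := h3; haveI := h4
  haveI : IsLocallyNoetherian Y := LocallyOfFiniteType.isLocallyNoetherian g
  haveI : LocallyOfFinitePresentation f :=
    Groth.Agent.Lib.Helper13.LimDescend.locallyOfFinitePresentation_of_comp f g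
  haveI : QuasiCompact f := QuasiCompact.of_comp f g
  haveI : CompactSpace Y := QuasiCompact.compactSpace_of_compactSpace g
  have hZ : IsConstructible (Set.range f) := by
    have := f.isConstructible_image (IsConstructible.univ)
    rwa [Set.image_univ] at this
  have key : ConsProp.locusMor (fun X Y T f g => Surjective f) f g =
      {s : S | (Set.range f)ᶜ ∩ g ⁻¹' {s} = ∅} := by
    ext s
    change Surjective (MoreMor.fiberMap f g s) ↔ _
    rw [surjective_iff, ← Set.range_eq_univ, range_fiberMap, Set.mem_setOf_eq,
      Set.eq_univ_iff_forall, Set.eq_empty_iff_forall_notMem]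
    constructor
    · rintro h y ⟨hy1, hy2⟩
      have : y ∈ Set.range (g.fiberι s) := by rw [Scheme.Hom.range_fiberι]; exact hy2
      obtain ⟨y', rfl⟩ := this
      exact hy1 (h y')
    · intro h y'
      by_contra hc
      refine h (g.fiberι s y') ⟨hc, ?_⟩
      rw [← Scheme.Hom.range_fiberι]
      exact ⟨y', rfl⟩
  rw [key]
  exact dich_inter_fibre_eq_empty g hZ.compl

/-- EGA IV 9.6.1 (vii): being an open immersion is a constructible property of morphisms -/
theorem isConsMor_isOpenImmersion :
    ConsProp.IsConsMor.{u} (fun X Y T f g => IsOpenImmersion f) := by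
  refine ⟨isFieldStableMor_of_descends @IsOpenImmersion, ?_⟩
  intro X Y S f g _ _ _ _ _ _
  have d1 : Dich _ := isConsMor_flat.2 f g
  have d2 : Dich _ := isConsMor_mono.2 f g
  have key : ConsProp.locusMor (fun X Y T f g => IsOpenImmersion f) f g =
      ConsProp.locusMor (fun X Y T f g => Flat f) f g ∩
      ConsProp.locusMor (fun X Y T f g => Mono f) f g := by
    ext s
    haveI := lfp_fiberMap f g s
    constructor
    · intro (h : IsOpenImmersion (MoreMor.fiberMap f g s))
      exact ⟨(inferInstance : Flat (MoreMor.fiberMap f g s)),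
        (inferInstance : Mono (MoreMor.fiberMap f g s))⟩
    · rintro ⟨(h1 : Flat (MoreMor.fiberMap f g s)), (h2 : Mono (MoreMor.fiberMap f g s))⟩
      exact IsOpenImmersion.of_flat_of_mono (MoreMor.fiberMap f g s)
  have := d1.inter d2
  rw [← key] at this
  exact this

/-- EGA IV 9.6.1 (vi): being an isomorphism is a constructible property of morphisms -/
theorem isConsMor_isIso :
    ConsProp.IsConsMor.{u} (fun X Y T f g => IsIso f) := by
  refine ⟨isFieldStableMor_of_descends (MorphismProperty.isomorphisms Scheme.{u}), ?_⟩
  intro X Y S f g _ _ _ _ _ _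
  have d1 : Dich _ := isConsMor_isOpenImmersion.2 f g
  have d2 : Dich _ := isConsMor_surjective.2 f g
  have key : ConsProp.locusMor (fun X Y T f g => IsIso f) f g =
      ConsProp.locusMor (fun X Y T f g => IsOpenImmersion f) f g ∩
      ConsProp.locusMor (fun X Y T f g => Surjective f) f g := by
    ext s
    exact isIso_iff_isOpenImmersion_and_surjective (MoreMor.fiberMap f g s)
  have := d1.inter d2
  rw [← key] at this
  exact this

/-- EGA IV 17.7.11: being étale is a constructible property of morphisms -/
theorem isConsMor_etale :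
    ConsProp.IsConsMor.{u} (fun X Y T f g => Etale f) := by
  refine ⟨isFieldStableMor_of_descends @Etale, ?_⟩
  intro X Y S f g _ _ _ _ _ _
  have d1 : Dich _ := isConsMor_flat.2 f g
  have d2 : Dich _ := isConsMor_formallyUnramified.2 f g
  have key : ConsProp.locusMor (fun X Y T f g => Etale f) f g =
      ConsProp.locusMor (fun X Y T f g => Flat f) f g ∩
      ConsProp.locusMor (fun X Y T f g => FormallyUnramified f) f g := by
    ext s
    haveI := lfp_fiberMap f g s
    change Etale (MoreMor.fiberMap f g s) ↔
      Flat (MoreMor.fiberMap f g s) ∧ FormallyUnramified (MoreMor.fiberMap f g s)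
    rw [Etale.iff_flat_and_formallyUnramified]
    exact ⟨fun h => ⟨h.1, h.2.1⟩, fun h => ⟨h.1, h.2, inferInstance⟩⟩
  have := d1.inter d2
  rw [← key] at this
  exact this

end Groth.Agent.Lib.Helper25.ConsOpenImm
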