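import Mathlib
import Groth.Agent.Lib.Helper25.ConsOpenImm
import Groth.Agent.S2155

/-!
# Smoothness is a constructible property of morphisms (EGA IV 17.7.11, 17.8.2) (helper25)
-/

set_option autoImplicit false
set_option linter.unusedSectionVars false
set_option linter.unusedVariables false
set_option linter.style.haveILetI false
set_option linter.deprecated false
universe u

open CategoryTheory CategoryTheory.Limits AlgebraicGeometry Topology TopologicalSpace

namespace Groth.Agent.Lib.Helper25.ConsSmooth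

open Groth.Agent.Lib.Helper25.FibTop Groth.Agent.Lib.Helper25.ConsLocus
  Groth.Agent.Lib.Helper25.FibLocus Groth.Agent.Lib.Helper25.ConsTopMor
  Groth.Agent.Lib.helper11.ConstrTop Groth.Agent.Lib.Helper25.GenClosure
  Groth.Agent.Lib.Helper25.ConsMono Groth.Agent.Lib.Helper25.ConsFlat

section Snd

/-- the two forms of the morphism of fibres -/
theorem prop_snd_iff (P : MorphismProperty Scheme.{u}) [P.RespectsIso] {X Y S : Scheme.{u}}
    (f : X ⟶ Y) (g : Y ⟶ S) (s : S) :
    P (pullback.snd f (g.fiberι s)) ↔ P (MoreMor.fiberMap f g s) := by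
  have hsq : IsPullback ((f ≫ g).fiberι s) (MoreMor.fiberMap f g s) f (g.fiberι s) :=
    isPullback_bcMap f g (S.fromSpecResidueField s)
  rw [← hsq.isoPullback_hom_snd, P.cancel_left_of_respectsIso]

set_option backward.isDefEq.respectTransparency.types false in
theorem smooth_snd_iff {X Y S : Scheme.{u}} (f : X ⟶ Y) (g : Y ⟶ S) (s : S) :
    Smooth (pullback.snd f (g.fiberι s)) ↔ Smooth (MoreMor.fiberMap f g s) :=
  prop_snd_iff @Smooth f g s

set_option backward.isDefEq.respectTransparency.types false in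
theorem flat_snd_iff {X Y S : Scheme.{u}} (f : X ⟶ Y) (g : Y ⟶ S) (s : S) :
    Flat (pullback.snd f (g.fiberι s)) ↔ Flat (MoreMor.fiberMap f g s) :=
  prop_snd_iff @Flat f g s

set_option backward.isDefEq.respectTransparency.types false in
theorem etale_snd_iff {X Y S : Scheme.{u}} (f : X ⟶ Y) (g : Y ⟶ S) (s : S) :
    Etale (pullback.snd f (g.fiberι s)) ↔ Etale (MoreMor.fiberMap f g s) :=
  prop_snd_iff @Etale f g s

set_option backward.isDefEq.respectTransparency.types false in
theorem unram_snd_iff {X Y S : Scheme.{u}} (f : X ⟶ Y) (g : Y ⟶ S) (s : S) :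
    FormallyUnramified (pullback.snd f (g.fiberι s)) ↔
      FormallyUnramified (MoreMor.fiberMap f g s) :=
  prop_snd_iff @FormallyUnramified f g s

set_option backward.isDefEq.respectTransparency.types false in
theorem isOpenImmersion_snd_iff {X Y S : Scheme.{u}} (f : X ⟶ Y) (g : Y ⟶ S) (s : S) :
    IsOpenImmersion (pullback.snd f (g.fiberι s)) ↔ IsOpenImmersion (MoreMor.fiberMap f g s) :=
  prop_snd_iff @IsOpenImmersion f g s

theorem isIso_snd_iff {X Y S : Scheme.{u}} (f : X ⟶ Y) (g : Y ⟶ S) (s : S) :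
    IsIso (pullback.snd f (g.fiberι s)) ↔ IsIso (MoreMor.fiberMap f g s) :=
  prop_snd_iff (MorphismProperty.isomorphisms Scheme.{u}) f g s

end Snd

section Pointwise

variable {X Y S : Scheme.{u}} (f : X ⟶ Y) (g : Y ⟶ S)

set_option backward.isDefEq.respectTransparency.types false in
/-- EGA IV 17.8.2 (one direction, pointwise): if `X ⟶ S` is flat at `x` and the morphism of fibres
through `x` is smooth, then `f` is smooth at `x`.  (Adapted from helper13's proof of S16049.) -/
theorem mem_smoothLocus_of_smooth_snd [LocallyOfFinitePresentation g]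
    [LocallyOfFinitePresentation (f ≫ g)] [LocallyOfFinitePresentation f] (x : X)
    (hfl : ((f ≫ g).stalkMap x).hom.Flat)
    (hs : Smooth (pullback.snd f (g.fiberι ((f ≫ g).base x)))) : x ∈ f.smoothLocus := by
  have hs' : Smooth (MoreMor.fiberMap f g ((f ≫ g).base x)) := (smooth_snd_iff f g _).mp hs
  have hflat : (f.stalkMap x).hom.Flat :=
    (((Groth.Agent.S1386.result f g).1 x).mp
      ⟨hfl, Flat.stalkMap (MoreMor.fiberMap f g ((f ≫ g).base x)) _⟩).2
  let y : Y := f.base x
  let t : Spec (Y.residueField y) ⟶ g.fiber (g.base y) :=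
    Limits.pullback.lift (Y.fromSpecResidueField y) (Spec.map (g.residueFieldMap y))
      (Scheme.Hom.SpecMap_residueFieldMap_fromSpecResidueField g y).symm
  have ht : t ≫ g.fiberι (g.base y) = Y.fromSpecResidueField y := Limits.pullback.lift_fst _ _ _
  have sq2 : IsPullback
      (Limits.pullback.lift (f.fiberι y) (f.fiberToSpecResidueField y ≫ t)
        (by rw [Category.assoc, ht]; exact f.fiber_fac y))
      (f.fiberToSpecResidueField y) (Limits.pullback.snd f (g.fiberι (g.base y))) t := by
    refine IsPullback.of_right ?_ (Limits.pullback.lift_snd _ _ _)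
      (IsPullback.of_hasPullback f (g.fiberι (g.base y)))
    rw [Limits.pullback.lift_fst, ht]
    exact IsPullback.of_hasPullback f (Y.fromSpecResidueField y)
  haveI : Smooth (Limits.pullback.snd f (g.fiberι (g.base y))) := hs
  have hsm : Smooth (f.fiberToSpecResidueField y) :=
    MorphismProperty.of_isPullback (P := @Smooth) sq2 inferInstance
  haveI : LocallyOfFinitePresentation (f.fiberToSpecResidueField y) :=
    MorphismProperty.pullback_snd _ _ inferInstance
  refine Groth.Agent.S2155.mem_smoothLocus_of_flat_of_fiber' f x y rfl (f.asFiber x)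
    (f.fiberι_asFiber x) hflat ?_
  have : f.asFiber x ∈ (f.fiberToSpecResidueField y).smoothLocus := by
    rw [Scheme.Hom.smoothLocus_eq_top]; trivial
  exact this

/-- the restriction of a morphism to its smooth locus is smooth -/
theorem smooth_smoothLocus_ι_comp [LocallyOfFinitePresentation f] :
    Smooth (f.smoothLocus.ι ≫ f) := by
  rw [← Scheme.Hom.smoothLocus_eq_top_iff, ← Scheme.Hom.preimage_smoothLocus_eq]
  ext y
  simp

end Pointwise

section Fibre

variable {X Y S : Scheme.{u}} (f : X ⟶ Y) (g : Y ⟶ S)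

set_option backward.isDefEq.respectTransparency.types false in
/-- over the points where `X ⟶ S` is flat, the fibre map is smooth iff `f` is smooth along the
fibre -/
theorem smooth_fiberMap_iff_of_flat [LocallyOfFinitePresentation g]
    [LocallyOfFinitePresentation (f ≫ g)] [LocallyOfFinitePresentation f] (s : S)
    (h1 : ∀ x : X, (f ≫ g) x = s → ((f ≫ g).stalkMap x).hom.Flat) :
    Smooth (MoreMor.fiberMap f g s) ↔ (f.smoothLocus : Set X)ᶜ ∩ (f ≫ g) ⁻¹' {s} = ∅ := by
  have hsq : IsPullback ((f ≫ g).fiberι s) (MoreMor.fiberMap f g s) f (g.fiberι s) :=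
    isPullback_bcMap f g (S.fromSpecResidueField s)
  constructor
  · intro hsm
    rw [Set.eq_empty_iff_forall_notMem]
    rintro x ⟨hx1, hx2⟩
    have hx2' : (f ≫ g) x = s := hx2
    subst hx2'
    exact hx1 (mem_smoothLocus_of_smooth_snd f g x (h1 x rfl) ((smooth_snd_iff f g _).mpr hsm))
  · intro hem
    let U := f.smoothLocus
    have hU : Smooth (U.ι ≫ f) := smooth_smoothLocus_ι_comp f
    have htop : ((f ≫ g).fiberι s) ⁻¹ᵁ U = ⊤ := by
      rw [eq_top_iff]
      intro x' _
      by_contra hc
      have hmem : (f ≫ g).fiberι s x' ∈ (f ≫ g) ⁻¹' {s} := by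
        rw [← Scheme.Hom.range_fiberι]; exact ⟨x', rfl⟩
      exact (Set.eq_empty_iff_forall_notMem.mp hem _) ⟨hc, hmem⟩
    have h1' : IsPullback (((f ≫ g).fiberι s) ∣_ U) (((f ≫ g).fiberι s) ⁻¹ᵁ U).ι U.ι
        ((f ≫ g).fiberι s) := isPullback_morphismRestrict ((f ≫ g).fiberι s) U
    have h2 := h1'.paste_vert hsq
    have h3 : Smooth ((((f ≫ g).fiberι s) ⁻¹ᵁ U).ι ≫ MoreMor.fiberMap f g s) :=
      MorphismProperty.of_isPullback h2 hU
    refine IsZariskiLocalAtSource.of_iSup_eq_top (P := @Smooth)
      (fun _ : Unit => ((f ≫ g).fiberι s) ⁻¹ᵁ U) ?_ (fun _ => h3)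
    rw [iSup_const, htop]

end Fibre

section Cons

/-- EGA IV 17.7.11: smoothness is a constructible property of morphisms -/
theorem isConsMor_smooth : ConsProp.IsConsMor.{u} (fun X Y T f g => Smooth f) := by
  refine ⟨isFieldStableMor_of_descends @Smooth, ?_⟩
  intro X Y S f g _ _ _ _ _ _
  haveI : IsLocallyNoetherian Y := LocallyOfFiniteType.isLocallyNoetherian g
  haveI : LocallyOfFiniteType f := locallyOfFiniteType_of_comp f g
  obtain ⟨hg1, hg2, hg3, hg4⟩ := fp_of_noetherian f g
  haveI := hg1; haveI := hg3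
  haveI : LocallyOfFinitePresentation f :=
    Groth.Agent.Lib.Helper13.LimDescend.locallyOfFinitePresentation_of_comp f g
  haveI := noetherianSpace_of_finiteType (f ≫ g)
  obtain ⟨U₁, hU₁, hfl₁, -⟩ := Groth.Agent.S0414.result (f ≫ g)
  have hne : ((U₁ : S.Opens) : Set S).Nonempty := hU₁.nonempty
  refine Dich.of_eqOn U₁.isOpen hne
    (D := {s : S | (f.smoothLocus : Set X)ᶜ ∩ (f ≫ g) ⁻¹' {s} = ∅}) ?_
    (dich_inter_fibre_eq_empty (f ≫ g)
      (isConstructible_of_isClosed f.smoothLocus.isOpen.isClosed_compl))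
  intro s hs
  exact smooth_fiberMap_iff_of_flat f g s
    (fun x hx => flat_stalkMap_of_flat_restrict (f ≫ g) U₁ x (by rw [hx]; exact hs))

end Cons

end Groth.Agent.Lib.Helper25.ConsSmooth
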