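import Mathlib
import Groth.Agent.Lib.Helper25.ConsSmooth

/-!
# Fibrewise criteria for morphisms with flat source (EGA IV 17.8.2, 17.9.5) (helper25)

For `f : X ⟶ Y`, `g : Y ⟶ S` locally of finite presentation with `X` flat over `S`: `f` is flat /
smooth / étale / an open immersion / an isomorphism iff all the morphisms of fibres `f_s` are.
-/

set_option autoImplicit false
set_option linter.unusedSectionVars false
set_option linter.unusedVariables false
set_option linter.style.haveILetI false
set_option linter.deprecated false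
universe u

open CategoryTheory CategoryTheory.Limits AlgebraicGeometry Topology TopologicalSpace

namespace Groth.Agent.Lib.Helper25.FibCrit

open Groth.Agent.Lib.Helper25.ConsLocus
  Groth.Agent.Lib.Helper25.FibLocus Groth.Agent.Lib.Helper25.ConsTopMor
  Groth.Agent.Lib.Helper25.ConsMono Groth.Agent.Lib.Helper25.ConsFlat
  Groth.Agent.Lib.Helper25.ConsSmooth

variable {X Y S : Scheme.{u}} (f : X ⟶ Y) (g : Y ⟶ S)

section NoFlat

set_option backward.isDefEq.respectTransparency.types false in
/-- a morphism with empty ramification locus is unramified -/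
theorem formallyUnramified_of_ramLocus_eq_empty [LocallyOfFiniteType f] (h : ramLocus f = ∅) :
    FormallyUnramified f := by
  have hpt : ∀ x : X, ∃ V : X.Opens, x ∈ V ∧ FormallyUnramified (V.ι ≫ f) := by
    intro x
    have hx : x ∉ ramLocus f := by rw [h]; exact Set.notMem_empty x
    exact Groth.Agent.S16765.exists_open_formallyUnramified f _ (not_not.mp hx)
  choose V hV1 hV2 using hpt
  refine IsZariskiLocalAtSource.of_iSup_eq_top (P := @FormallyUnramified) V ?_ hV2
  rw [eq_top_iff]
  intro x _
  exact Opens.mem_iSup.mpr ⟨x, hV1 x⟩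

theorem formallyUnramified_of_forall_fiberMap [LocallyOfFiniteType f]
    (H : ∀ s : S, FormallyUnramified (MoreMor.fiberMap f g s)) : FormallyUnramified f := by
  apply formallyUnramified_of_ramLocus_eq_empty
  rw [Set.eq_empty_iff_forall_notMem]
  intro x hx
  have := (formallyUnramified_fiberMap_iff f g ((f ≫ g) x)).mp (H _)
  exact (Set.eq_empty_iff_forall_notMem.mp this x) ⟨hx, rfl⟩

theorem surjective_of_forall_fiberMap (H : ∀ s : S, Surjective (MoreMor.fiberMap f g s)) :
    Surjective f := by
  rw [surjective_iff]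
  intro y
  have hy : y ∈ Set.range (g.fiberι (g y)) := by
    rw [Scheme.Hom.range_fiberι]; rfl
  obtain ⟨y', hy'⟩ := hy
  have hs := (H (g y)).surj y'
  have h2 : y' ∈ Set.range (MoreMor.fiberMap f g (g y)) := hs
  rw [range_fiberMap] at h2
  obtain ⟨x, hx⟩ := h2
  exact ⟨x, hx.trans hy'⟩

/-- universal injectivity can be checked on the fibres over the base -/
theorem universallyInjective_of_forall_fiberMap
    (H : ∀ s : S, UniversallyInjective (MoreMor.fiberMap f g s)) : UniversallyInjective f := by
  rw [((tfae_universallyInjective f).out 0 1 :)]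
  intro K _ a₁ a₂ (ha : a₁ ≫ f = a₂ ≫ f)
  let c : Spec (.of K) ⟶ S := a₁ ≫ f ≫ g
  let s : S := c (IsLocalRing.closedPoint K)
  let c' : Spec (.of K) ⟶ Spec (S.residueField s) :=
    Spec.map (Scheme.descResidueField (Scheme.stalkClosedPointTo c))
  have hc : c' ≫ S.fromSpecResidueField s = c :=
    Scheme.descResidueField_stalkClosedPointTo_fromSpecResidueField K S c
  have hc2 : a₂ ≫ f ≫ g = c := by
    change a₂ ≫ f ≫ g = a₁ ≫ f ≫ g
    rw [← Category.assoc, ← ha, Category.assoc]
  let b₁ : Spec (.of K) ⟶ (f ≫ g).fiber s := pullback.lift a₁ c' (by rw [hc])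
  let b₂ : Spec (.of K) ⟶ (f ≫ g).fiber s := pullback.lift a₂ c' (by rw [hc, hc2])
  have hb₁ : b₁ ≫ (f ≫ g).fiberι s = a₁ := pullback.lift_fst _ _ _
  have hb₂ : b₂ ≫ (f ≫ g).fiberι s = a₂ := pullback.lift_fst _ _ _
  obtain ⟨F', hF'⟩ : ∃ F' : (f ≫ g).fiber s ⟶ pullback g (S.fromSpecResidueField s),
      F' = MoreMor.fiberMap f g s := ⟨_, rfl⟩
  have e1 : F' ≫ pullback.fst g (S.fromSpecResidueField s) = (f ≫ g).fiberι s ≫ f := by
    rw [hF']; exact pullback.lift_fst _ _ _
  have e2 : F' ≫ pullback.snd g (S.fromSpecResidueField s) =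
      (f ≫ g).fiberToSpecResidueField s := by
    rw [hF']; exact pullback.lift_snd _ _ _
  have k1 : b₁ ≫ (f ≫ g).fiberToSpecResidueField s = c' := pullback.lift_snd _ _ _
  have k2 : b₂ ≫ (f ≫ g).fiberToSpecResidueField s = c' := pullback.lift_snd _ _ _
  have hb' : b₁ ≫ F' = b₂ ≫ F' := by
    apply pullback.hom_ext
    · rw [Category.assoc, Category.assoc, e1, ← Category.assoc, ← Category.assoc, hb₁, hb₂, ha]
    · rw [Category.assoc, Category.assoc, e2, k1, k2]
  have hb : b₁ ≫ MoreMor.fiberMap f g s = b₂ ≫ MoreMor.fiberMap f g s := by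
    rw [hF'] at hb'; exact hb'
  have hinj := ((tfae_universallyInjective (MoreMor.fiberMap f g s)).out 0 1 :).mp (H s) K
  have : b₁ = b₂ := hinj hb
  rw [← hb₁, ← hb₂, this]

theorem mono_of_forall_fiberMap [LocallyOfFiniteType f]
    (H : ∀ s : S, Mono (MoreMor.fiberMap f g s)) : Mono f := by
  rw [mono_iff]
  refine ⟨universallyInjective_of_forall_fiberMap f g fun s => ?_,
    formallyUnramified_of_forall_fiberMap f g fun s => ?_⟩
  · haveI := H s; infer_instance
  · haveI := H s
    haveI : IsIso (pullback.diagonal (MoreMor.fiberMap f g s)) :=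
      (pullback.isIso_diagonal_iff _).mpr inferInstance
    infer_instance

end NoFlat

section Flat

variable [LocallyOfFinitePresentation g] [LocallyOfFinitePresentation (f ≫ g)]

/-- EGA IV 11.3.10 for a whole morphism: if `X` is flat over `S` and all `f_s` are flat, then `f` is
flat and `Y` is flat over `S` at the points of `f(X)` -/
theorem flat_of_forall_fiberMap [Flat (f ≫ g)] (H : ∀ s : S, Flat (MoreMor.fiberMap f g s))
    (x : X) : (g.stalkMap (f x)).hom.Flat ∧ (f.stalkMap x).hom.Flat := by
  haveI : Flat (MoreMor.fiberMap f g (g (f x))) := H _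
  exact ((Groth.Agent.S1386.result f g).1 x).mp ⟨Flat.stalkMap (f ≫ g) x, Flat.stalkMap _ _⟩

theorem flat_of_forall_fiberMap' [Flat (f ≫ g)] (H : ∀ s : S, Flat (MoreMor.fiberMap f g s)) :
    Flat f := by
  rw [Flat.iff_flat_stalkMap]
  exact fun x => (flat_of_forall_fiberMap f g H x).2

theorem smooth_of_forall_fiberMap [Flat (f ≫ g)] (H : ∀ s : S, Smooth (MoreMor.fiberMap f g s)) :
    Smooth f := by
  haveI : LocallyOfFinitePresentation f :=
    Groth.Agent.Lib.Helper13.LimDescend.locallyOfFinitePresentation_of_comp f g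
  rw [← Scheme.Hom.smoothLocus_eq_top_iff, eq_top_iff]
  intro x _
  exact mem_smoothLocus_of_smooth_snd f g x (Flat.stalkMap (f ≫ g) x)
    ((smooth_snd_iff f g _).mpr (H _))

theorem etale_of_forall_fiberMap [Flat (f ≫ g)] (H : ∀ s : S, Etale (MoreMor.fiberMap f g s)) :
    Etale f := by
  haveI : LocallyOfFinitePresentation f :=
    Groth.Agent.Lib.Helper13.LimDescend.locallyOfFinitePresentation_of_comp f g
  rw [Etale.iff_flat_and_formallyUnramified]
  refine ⟨flat_of_forall_fiberMap' f g fun s => ?_,
    formallyUnramified_of_forall_fiberMap f g fun s => ?_, inferInstance⟩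
  · haveI := H s; infer_instance
  · haveI := H s; infer_instance

theorem isOpenImmersion_of_forall_fiberMap [Flat (f ≫ g)]
    (H : ∀ s : S, IsOpenImmersion (MoreMor.fiberMap f g s)) : IsOpenImmersion f := by
  haveI : LocallyOfFinitePresentation f :=
    Groth.Agent.Lib.Helper13.LimDescend.locallyOfFinitePresentation_of_comp f g
  haveI : Flat f := flat_of_forall_fiberMap' f g fun s => by haveI := H s; infer_instance
  haveI : Mono f := mono_of_forall_fiberMap f g fun s => by haveI := H s; infer_instance
  exact IsOpenImmersion.of_flat_of_mono f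

theorem isIso_of_forall_fiberMap [Flat (f ≫ g)]
    (H : ∀ s : S, IsIso (MoreMor.fiberMap f g s)) : IsIso f := by
  rw [isIso_iff_isOpenImmersion_and_surjective]
  refine ⟨isOpenImmersion_of_forall_fiberMap f g fun s => ?_,
    surjective_of_forall_fiberMap f g fun s => ?_⟩
  · haveI := H s; infer_instance
  · haveI := H s; infer_instance

end Flat

end Groth.Agent.Lib.Helper25.FibCrit
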