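import Mathlib
import Groth.Agent.Lib.Helper25.NoethApprox
import Groth.Agent.S4787

/-!
# EGA IV 9.3.3: fibrewise (ind-)constructible relations and limits (helper25)
All statements take `H : FPDescent` (EGA IV 8.9.1).
-/

set_option autoImplicit false
set_option linter.unusedSectionVars false
set_option linter.unusedVariables false
set_option linter.style.haveILetI false
universe u

open CategoryTheory CategoryTheory.Limits AlgebraicGeometry Topology

namespace Groth.Agent.Lib.Helper25.ConsLim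

open Groth.Agent.Lib.Helper25.ConsBase Groth.Agent.Lib.Helper25.NoethApprox
open Groth.Agent.Lib.Helper25.FibLocus Groth.Agent.Lib.Helper25.PC
open Groth.Agent.Lib.Helper13.LimDescend (isProConstructible_univ)

section Abstract

variable {I : Type u} [SmallCategory I] [IsCofiltered I]
    (D : I ⥤ Scheme.{u}) (c : Limits.Cone D) (hc : Limits.IsLimit c)
    [∀ (i j : I) (a : i ⟶ j), IsAffineHom (D.map a)] (i₀ : I) [CompactSpace ↥(D.obj i₀)]

include hc in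
/-- EGA IV 8.3.4 for the preimages of one ind-constructible set -/
theorem exists_stage_preimage_eq_univ {E₀ : Set (D.obj i₀)} (hE₀ : ProCons.IsIndConstructible E₀)
    (h : ∀ s : c.pt, c.π.app i₀ s ∈ E₀) :
    ∃ (j : I) (φ : j ⟶ i₀), ∀ t : D.obj j, D.map φ t ∈ E₀ := by
  let D' : Over i₀ ⥤ Scheme.{u} := Over.forget i₀ ⋙ D
  let c' : Cone D' := c.whisker (Over.forget i₀)
  let hc' : IsLimit c' := (Functor.Initial.isLimitWhiskerEquiv (Over.forget i₀) c).symm hc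
  haveI : ∀ (i j : Over i₀) (a : i ⟶ j), IsAffineHom (D'.map a) := fun i j a =>
    inferInstanceAs (IsAffineHom (D.map a.left))
  haveI : CompactSpace ↥(D'.obj (Over.mk (𝟙 i₀))) := inferInstanceAs (CompactSpace ↥(D.obj i₀))
  let E : ∀ i : Over i₀, Set (D'.obj i) := fun _ => Set.univ
  let F : ∀ i : Over i₀, Set (D'.obj i) := fun i => (D.map i.hom) ⁻¹' E₀
  have key := (Groth.Agent.S4787.result D' c' hc' (Over.mk (𝟙 i₀)) E F
    (fun i => isProConstructible_univ)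
    (fun i => (isInd_iff _).mpr (IndC.preimage (D.map i.hom) ((isInd_iff _).mp hE₀)))
    (fun i j φ => Set.subset_univ _)
    (fun i j φ => by
      intro t ht
      change D.map i.hom t ∈ E₀
      have hw : D.map φ.left ≫ D.map j.hom = D.map i.hom := by
        rw [← D.map_comp, Over.w]
      rw [← hw]
      exact ht)).mp (by
      intro s _
      refine Set.mem_iUnion.mpr ⟨Over.mk (𝟙 i₀), ?_⟩
      change D.map (𝟙 i₀) (c.π.app i₀ s) ∈ E₀
      rw [D.map_id]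
      exact h s)
  obtain ⟨i, _, hi⟩ := key
  refine ⟨i.left, i.hom, fun t => ?_⟩
  exact hi i (𝟙 i) (Set.mem_univ t)

end Abstract

section Statements

variable (H : FPDescent.{u})

include H in
/-- EGA IV 9.3.3 for relations on morphisms -/
theorem forall_locusMor_iff_eventually
    {P : ∀ ⦃X Y T : Scheme.{u}⦄, (X ⟶ Y) → (Y ⟶ T) → Prop} (hP : ConsProp.IsIndConsMor P)
    {I : Type u} [SmallCategory I] [IsCofiltered I]
    (D : I ⥤ Scheme.{u}) (c : Limits.Cone D) (hc : Limits.IsLimit c)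
    [∀ (i j : I) (a : i ⟶ j), IsAffineHom (D.map a)] (i₀ : I) [CompactSpace ↥(D.obj i₀)]
    {X₀ Y₀ : Scheme.{u}} (f₀ : X₀ ⟶ Y₀) (g₀ : Y₀ ⟶ D.obj i₀)
    [LocallyOfFinitePresentation g₀] [QuasiCompact g₀] [QuasiSeparated g₀]
    [LocallyOfFinitePresentation (f₀ ≫ g₀)] [QuasiCompact (f₀ ≫ g₀)] [QuasiSeparated (f₀ ≫ g₀)]
    {X Y : Scheme.{u}} (f : X ⟶ Y) (g : Y ⟶ c.pt) (qY : Y ⟶ Y₀) (qX : X ⟶ X₀)
    (hY : IsPullback qY g g₀ (c.π.app i₀)) (hX : IsPullback qX f f₀ qY) :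
    (∀ s : ↥c.pt, s ∈ ConsProp.locusMor P f g) ↔
      ∃ (j : I) (φ : j ⟶ i₀) (Xj Yj : Scheme.{u}) (fj : Xj ⟶ Yj) (gj : Yj ⟶ D.obj j)
        (pY : Yj ⟶ Y₀) (pX : Xj ⟶ X₀), IsPullback pY gj g₀ (D.map φ) ∧ IsPullback pX fj f₀ pY ∧
          ∀ t : ↥(D.obj j), t ∈ ConsProp.locusMor P fj gj := by
  have hE₀ : ProCons.IsIndConstructible (ConsProp.locusMor P f₀ g₀) :=
    (isInd_iff _).mpr (indC_locusMor H hP f₀ g₀)
  constructor
  · intro h
    obtain ⟨j, φ, hj⟩ := exists_stage_preimage_eq_univ D c hc i₀ hE₀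
      (fun s => (mem_locusMor_iff_of_isPullback hP.1 hY hX s).mp (h s))
    refine ⟨j, φ, pullback (f₀ ≫ g₀) (D.map φ), pullback g₀ (D.map φ), bcMap f₀ g₀ (D.map φ),
      pullback.snd g₀ (D.map φ), pullback.fst g₀ (D.map φ), pullback.fst (f₀ ≫ g₀) (D.map φ),
      IsPullback.of_hasPullback g₀ (D.map φ), isPullback_bcMap f₀ g₀ (D.map φ), fun t => ?_⟩
    rw [locusMor_bcMap hP.1 f₀ g₀ (D.map φ)]
    exact hj t
  · rintro ⟨j, φ, Xj, Yj, fj, gj, pY, pX, hpY, hpX, hj⟩ s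
    rw [mem_locusMor_iff_of_isPullback hP.1 hY hX s, ← c.w φ]
    exact (mem_locusMor_iff_of_isPullback hP.1 hpY hpX (c.π.app j s)).mp (hj _)

include H in
/-- EGA IV 9.3.3 for relations between two schemes -/
theorem forall_locusPair_iff_eventually
    {P : ∀ ⦃X Y T : Scheme.{u}⦄, (X ⟶ T) → (Y ⟶ T) → Prop} (hP : ConsPropPair.IsIndConsPair P)
    {I : Type u} [SmallCategory I] [IsCofiltered I]
    (D : I ⥤ Scheme.{u}) (c : Limits.Cone D) (hc : Limits.IsLimit c)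
    [∀ (i j : I) (a : i ⟶ j), IsAffineHom (D.map a)] (i₀ : I) [CompactSpace ↥(D.obj i₀)]
    {X₀ Y₀ : Scheme.{u}} (u₀ : X₀ ⟶ D.obj i₀) (v₀ : Y₀ ⟶ D.obj i₀)
    [LocallyOfFinitePresentation u₀] [QuasiCompact u₀] [QuasiSeparated u₀]
    [LocallyOfFinitePresentation v₀] [QuasiCompact v₀] [QuasiSeparated v₀]
    {X Y : Scheme.{u}} (u : X ⟶ c.pt) (v : Y ⟶ c.pt) (qX : X ⟶ X₀) (qY : Y ⟶ Y₀)
    (hX : IsPullback qX u u₀ (c.π.app i₀)) (hY : IsPullback qY v v₀ (c.π.app i₀)) :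
    (∀ s : ↥c.pt, s ∈ ConsPropPair.locusPair P u v) ↔
      ∃ (j : I) (φ : j ⟶ i₀) (Xj Yj : Scheme.{u}) (uj : Xj ⟶ D.obj j) (vj : Yj ⟶ D.obj j)
        (pX : Xj ⟶ X₀) (pY : Yj ⟶ Y₀), IsPullback pX uj u₀ (D.map φ) ∧ IsPullback pY vj v₀ (D.map φ) ∧
          ∀ t : ↥(D.obj j), t ∈ ConsPropPair.locusPair P uj vj := by
  have hE₀ : ProCons.IsIndConstructible (ConsPropPair.locusPair P u₀ v₀) :=
    (isInd_iff _).mpr (indC_locusPair H hP u₀ v₀)
  constructor
  · intro h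
    obtain ⟨j, φ, hj⟩ := exists_stage_preimage_eq_univ D c hc i₀ hE₀
      (fun s => (mem_locusPair_iff_of_isPullback hP.1 hX hY s).mp (h s))
    refine ⟨j, φ, pullback u₀ (D.map φ), pullback v₀ (D.map φ), pullback.snd u₀ (D.map φ),
      pullback.snd v₀ (D.map φ), pullback.fst u₀ (D.map φ), pullback.fst v₀ (D.map φ),
      IsPullback.of_hasPullback u₀ (D.map φ), IsPullback.of_hasPullback v₀ (D.map φ), fun t => ?_⟩
    rw [locusPair_snd hP.1 u₀ v₀ (D.map φ)]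
    exact hj t
  · rintro ⟨j, φ, Xj, Yj, uj, vj, pX, pY, hpX, hpY, hj⟩ s
    rw [mem_locusPair_iff_of_isPullback hP.1 hX hY s, ← c.w φ]
    exact (mem_locusPair_iff_of_isPullback hP.1 hpX hpY (c.π.app j s)).mp (hj _)

end Statements

end Groth.Agent.Lib.Helper25.ConsLim
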