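/-
helper25: a finite flat algebra with a "square" presentation (as many relations as generators)
is syntomic in the sense of `Synt.IsSyntomic`.
-/
import Mathlib
import Groth.Prelude.Def_RegImm

set_option autoImplicit false
set_option linter.unusedSectionVars false
set_option linter.style.haveILetI false
universe u

namespace Groth.Agent.Lib.Helper25.FiniteSyntomic
open TensorProduct

/-- `IsGlobalCI` from a presentation with the right dimension. -/
theorem isGlobalCI_of_presentation (k : Type u) [Field k] (S : Type u) [CommRing S] [Algebra k S]
    (n c : ℕ) (hcn : c ≤ n) (P : Algebra.Presentation k S (Fin n) (Fin c))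
    (hdim : ringKrullDim S = ((n - c : ℕ) : WithBot ℕ∞)) : Synt.IsGlobalCI k S := by
  right
  refine ⟨n, c, hcn, IsScalarTower.toAlgHom k P.Ring S, P.relation, P.algebraMap_surjective, ?_,
    hdim⟩
  exact P.span_range_relation_eq_ker.symm

/-- transport of `IsGlobalCI` along an algebra isomorphism -/
theorem isGlobalCI_of_algEquiv (k : Type u) [Field k] (S S' : Type u) [CommRing S] [Algebra k S]
    [CommRing S'] [Algebra k S'] (e : S ≃ₐ[k] S') (h : Synt.IsGlobalCI k S) :
    Synt.IsGlobalCI k S' := by
  rcases h with h | ⟨n, c, hcn, φ, r, hsurj, hker, hdim⟩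
  · left
    exact e.symm.toEquiv.subsingleton
  · right
    refine ⟨n, c, hcn, e.toAlgHom.comp φ, r, e.surjective.comp hsurj, ?_, ?_⟩
    · rw [← hker]
      ext x
      simp only [RingHom.mem_ker, AlgHom.toRingHom_eq_coe, RingHom.coe_coe, AlgHom.comp_apply]
      exact map_eq_zero_iff (e : S →ₐ[k] S') e.injective
    · rw [← hdim]
      exact (ringKrullDim_eq_of_ringEquiv e.toRingEquiv).symm

/-- a nontrivial finite algebra over a field has Krull dimension zero -/
theorem ringKrullDim_eq_zero_of_finite (k : Type u) [Field k] (S : Type u) [CommRing S]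
    [Algebra k S] [Module.Finite k S] [Nontrivial S] : ringKrullDim S = 0 := by
  haveI : IsArtinianRing S := IsArtinianRing.of_finite k S
  exact le_antisymm (Ring.krullDimLE_iff.1 inferInstance) ringKrullDim_nonneg_of_nontrivial

/-- a finite algebra over a field with a square presentation is a global complete intersection -/
theorem isGlobalCI_of_finite (k : Type u) [Field k] (S : Type u) [CommRing S] [Algebra k S]
    [Module.Finite k S] (n c : ℕ) (hcn : c = n) (P : Algebra.Presentation k S (Fin n) (Fin c)) :
    Synt.IsGlobalCI k S := by
  rcases subsingleton_or_nontrivial S with h | h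
  · left; exact h
  · refine isGlobalCI_of_presentation k S n c hcn.le P ?_
    rw [ringKrullDim_eq_zero_of_finite k S, hcn, Nat.sub_self]
    rfl

/-- a finite algebra over a field with a square presentation is a local complete intersection -/
theorem isLCIOver_of_finite (k : Type u) [Field k] (S : Type u) [CommRing S] [Algebra k S]
    [Module.Finite k S] (n c : ℕ) (hcn : c = n) (P : Algebra.Presentation k S (Fin n) (Fin c)) :
    Synt.IsLCIOver k S := by
  refine ⟨inferInstance, fun p => ⟨1, ?_, ?_⟩⟩
  · exact fun h => p.isPrime.ne_top ((Ideal.eq_top_iff_one _).2 h)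
  · exact isGlobalCI_of_algEquiv k S (Localization.Away (1 : S))
      ((IsLocalization.atOne S (Localization.Away (1 : S))).restrictScalars k)
      (isGlobalCI_of_finite k S n c hcn P)

/-- **Main lemma**: a finite flat algebra with a square presentation is syntomic. -/
theorem isSyntomic_of_finite_flat (R : Type u) [CommRing R] (S : Type u) [CommRing S] [Algebra R S]
    [Module.Finite R S] [Module.Flat R S] {ι σ : Type} [Fintype ι] [Fintype σ]
    (hcard : Fintype.card σ = Fintype.card ι) (P : Algebra.Presentation R S ι σ) :
    Synt.IsSyntomic R S := by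
  refine ⟨inferInstance, P.finitePresentation_of_isFinite, fun p => ?_⟩
  let Q : Algebra.Presentation p.asIdeal.ResidueField (p.asIdeal.Fiber S) ι σ :=
    P.baseChange p.asIdeal.ResidueField
  exact isLCIOver_of_finite p.asIdeal.ResidueField (p.asIdeal.Fiber S) (Fintype.card ι)
    (Fintype.card σ) hcard (Q.reindex (Fintype.equivFin ι).symm (Fintype.equivFin σ).symm)

end Groth.Agent.Lib.Helper25.FiniteSyntomic
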