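import Mathlib

/-!
# Krull dimension of standard smooth algebras over a field

* `height_eq_of_isMaximal_mvPolynomial`: maximal ideals of `k[x_1..x_n]` have height `n`.
* `ringKrullDim_eq_of_etale_mvPolynomial`: a nontrivial étale `k[x_1..x_d]`-algebra has dimension `d`.
* `ringKrullDim_eq_of_isStandardSmoothOfRelativeDimension`.
-/

set_option autoImplicit false
set_option linter.unusedSectionVars false
set_option linter.style.haveILetI false
set_option linter.unusedVariables false
universe u v

namespace Groth.Agent.Lib.Helper25.StdSmoothDim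

open Polynomial in
/-- maximal ideals of `k[x_1..x_n]` have height `n` -/
theorem height_eq_of_isMaximal_mvPolynomial (k : Type u) [Field k] :
    ∀ (n : ℕ) (m : Ideal (MvPolynomial (Fin n) k)) [m.IsMaximal], m.height = n := by
  intro n
  induction n with
  | zero =>
    intro m hm
    have hdim : ringKrullDim (MvPolynomial (Fin 0) k) = 0 := by
      rw [ringKrullDim_eq_of_ringEquiv (MvPolynomial.isEmptyAlgEquiv k (Fin 0)).toRingEquiv]
      exact ringKrullDim_eq_zero_of_field k
    have h1 : (m.height : WithBot ℕ∞) ≤ 0 := by
      rw [← hdim]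
      exact Ideal.height_le_ringKrullDim_of_ne_top hm.ne_top
    have h2 : m.height ≤ 0 := by exact_mod_cast h1
    simpa using h2
  | succ n ih =>
    intro m hm
    let e : MvPolynomial (Fin (n + 1)) k ≃+* Polynomial (MvPolynomial (Fin n) k) :=
      (MvPolynomial.finSuccEquiv k n).toRingEquiv
    let M : Ideal (Polynomial (MvPolynomial (Fin n) k)) := m.map e
    haveI hM : M.IsMaximal := Ideal.map_isMaximal_of_equiv e
    let p : Ideal (MvPolynomial (Fin n) k) := M.comap (Polynomial.C)
    haveI hp : p.IsMaximal := Polynomial.isMaximal_comap_C_of_isJacobsonRing M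
    haveI : M.LiesOver p := ⟨rfl⟩
    have h1 := Polynomial.height_eq_height_add_one p M
    rw [ih p] at h1
    have h2 : M.height = m.height := e.height_map m
    rw [← h2, h1]
    push_cast
    rfl

/-- Krull dimension does not increase along quasi-finite algebras -/
theorem ringKrullDim_le_of_quasiFinite (R : Type u) (S : Type v) [CommRing R] [CommRing S]
    [Algebra R S] [Algebra.QuasiFinite R S] : ringKrullDim S ≤ ringKrullDim R := by
  refine Order.krullDim_le_of_strictMono (PrimeSpectrum.comap (algebraMap R S)) ?_
  intro a b hab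
  have hle : a.asIdeal ≤ b.asIdeal := hab.le
  refine lt_of_le_of_ne ?_ ?_
  · exact Ideal.comap_mono hle
  · intro heq
    have h2 : a.asIdeal.under R = b.asIdeal.under R := congrArg PrimeSpectrum.asIdeal heq
    have := Algebra.QuasiFinite.eq_of_le_of_under_eq (R := R) a.asIdeal b.asIdeal hle h2
    exact hab.ne (PrimeSpectrum.ext this)

/-- a nontrivial étale algebra over `k[x_1..x_d]` has Krull dimension `d` -/
theorem ringKrullDim_eq_of_etale_mvPolynomial (k : Type u) [Field k] (d : ℕ) (S : Type v)
    [CommRing S] [Algebra (MvPolynomial (Fin d) k) S] [Algebra.Etale (MvPolynomial (Fin d) k) S]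
    [Nontrivial S] : ringKrullDim S = d := by
  have hP : ringKrullDim (MvPolynomial (Fin d) k) = d := by
    rw [MvPolynomial.ringKrullDim_of_isNoetherianRing, ringKrullDim_eq_zero_of_field, zero_add,
      Nat.card_fin]
  haveI : Algebra.FiniteType (MvPolynomial (Fin d) k) S := inferInstance
  haveI : IsNoetherianRing S := Algebra.FiniteType.isNoetherianRing (MvPolynomial (Fin d) k) S
  refine le_antisymm ?_ ?_
  · rw [← hP]
    exact ringKrullDim_le_of_quasiFinite _ _
  · obtain ⟨q, hq⟩ := Ideal.exists_maximal S
    let p : Ideal (MvPolynomial (Fin d) k) := q.under _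
    haveI : q.LiesOver p := ⟨rfl⟩
    haveI hp : p.IsMaximal := by
      letI : Field (S ⧸ q) := Ideal.Quotient.field q
      haveI : Algebra.FiniteType (MvPolynomial (Fin d) k) (S ⧸ q) :=
        Algebra.FiniteType.trans (R := MvPolynomial (Fin d) k) (S := S) (A := S ⧸ q)
          inferInstance inferInstance
      haveI : Module.Finite (MvPolynomial (Fin d) k) (S ⧸ q) :=
        finite_of_finite_type_of_isJacobsonRing _ _
      haveI : Algebra.IsIntegral (MvPolynomial (Fin d) k) (S ⧸ q) := Algebra.IsIntegral.of_finite _ _
      have h1 : ((⊥ : Ideal (S ⧸ q)).comap (algebraMap (MvPolynomial (Fin d) k) (S ⧸ q))).IsMaximal :=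
        Ideal.isMaximal_comap_of_isIntegral_of_isMaximal (R := MvPolynomial (Fin d) k) ⊥
      convert h1 using 1
      ext x
      simp only [p, Ideal.under, Ideal.mem_comap, Ideal.mem_bot]
      rw [IsScalarTower.algebraMap_apply (MvPolynomial (Fin d) k) S (S ⧸ q),
        Ideal.Quotient.algebraMap_eq, Ideal.Quotient.eq_zero_iff_mem]
    have hht := Ideal.height_eq_height_add_of_liesOver_of_hasGoingDown p q
    rw [height_eq_of_isMaximal_mvPolynomial k d p] at hht
    have h2 : (q.height : WithBot ℕ∞) ≤ ringKrullDim S :=
      Ideal.height_le_ringKrullDim_of_ne_top hq.ne_top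
    refine le_trans ?_ h2
    rw [hht]
    exact_mod_cast le_self_add

/-- a nontrivial standard smooth algebra of relative dimension `d` over a field has dimension `d` -/
theorem ringKrullDim_eq_of_isStandardSmoothOfRelativeDimension (k : Type u) [Field k] (d : ℕ)
    (S : Type v) [CommRing S] [Algebra k S] [Algebra.IsStandardSmoothOfRelativeDimension d k S]
    [Nontrivial S] : ringKrullDim S = d := by
  obtain ⟨g, hg⟩ := Algebra.IsStandardSmoothOfRelativeDimension.exists_etale_mvPolynomial d k S
  letI := g.toRingHom.toAlgebra
  haveI : Algebra.Etale (MvPolynomial (Fin d) k) S := hg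
  exact ringKrullDim_eq_of_etale_mvPolynomial k d S

end Groth.Agent.Lib.Helper25.StdSmoothDim
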