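import Mathlib
import Groth.Prelude.Def_RegImm
import Groth.Agent.Lib.Helper7.AffineDimFormula
import Groth.Agent.Lib.Helper29.IntegralDim
import Groth.Agent.Lib.Helper25.StdSmoothDim
import Groth.Agent.Lib.Helper25.FiniteSyntomic

/-!
# Global complete intersections over a field: dimension lemmas and presentations
-/

set_option autoImplicit false
set_option linter.unusedSectionVars false
set_option linter.style.haveILetI false
set_option linter.unusedVariables false
universe u v

namespace Groth.Agent.Lib.Helper25.GlobalCI

open Polynomial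

/-- every maximal ideal of an affine domain has height `dim D` -/
theorem height_eq_of_isMaximal (k : Type u) [Field k] (D : Type v) [CommRing D] [IsDomain D]
    [Algebra k D] [Algebra.FiniteType k D] (m : Ideal D) [hm : m.IsMaximal] :
    (m.height : WithBot ℕ∞) = ringKrullDim D := by
  have h := Groth.Agent.Lib.Helper7.AffDim.height_add_dim_quotient (k := k) D m
  letI : Field (D ⧸ m) := Ideal.Quotient.field m
  rw [ringKrullDim_eq_zero_of_field, add_zero] at h
  exact h

/-- localising an affine domain at a nonzero element does not change the dimension -/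
theorem ringKrullDim_away_of_isDomain (k : Type u) [Field k] (D : Type v) [CommRing D] [IsDomain D]
    [Algebra k D] [Algebra.FiniteType k D] (g : D) (hg : g ≠ 0) :
    ringKrullDim (Localization.Away g) = ringKrullDim D := by
  refine le_antisymm (StdSmoothDim.ringKrullDim_le_of_quasiFinite D (Localization.Away g)) ?_
  haveI : IsJacobsonRing D := isJacobsonRing_of_finiteType (A := k)
  have hjac : (⊥ : Ideal D).jacobson = ⊥ :=
    IsJacobsonRing.out (R := D) inferInstance Ideal.isRadical_bot
  have : g ∉ (⊥ : Ideal D).jacobson := by rw [hjac]; simpa using hg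
  rw [Ideal.jacobson, Ideal.mem_sInf] at this
  push Not at this
  obtain ⟨m, ⟨-, hm⟩, hgm⟩ := this
  haveI := hm
  rw [← height_eq_of_isMaximal k D m]
  have hdisj : Disjoint (Submonoid.powers g : Set D) (m : Set D) := by
    rw [Set.disjoint_left]
    rintro x ⟨n, rfl⟩ hx
    exact hgm (hm.isPrime.mem_of_pow_mem n hx)
  rw [← IsLocalization.height_map_of_disjoint (S := Localization.Away g) (Submonoid.powers g) m
    hdisj]
  haveI : (m.map (algebraMap D (Localization.Away g))).IsPrime :=
    IsLocalization.isPrime_of_isPrime_disjoint (Submonoid.powers g) _ m hm.isPrime hdisj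
  exact Ideal.height_le_ringKrullDim_of_ne_top (Ideal.IsPrime.ne_top inferInstance)


section Pres

variable {R : Type u} [CommRing R] {S : Type v} [CommRing S] [Algebra R S] {ι σ : Type*}

/-- a presentation from a surjection of a polynomial ring with known kernel generators -/
noncomputable def presOfSurj (φ : MvPolynomial ι R →ₐ[R] S) (hφ : Function.Surjective φ)
    (r : σ → MvPolynomial ι R) (hker : RingHom.ker φ.toRingHom = Ideal.span (Set.range r)) :
    Algebra.Presentation R S ι σ where
  toGenerators := Algebra.Generators.ofAlgHom φ hφ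
  relation := r
  span_range_relation_eq_ker := by
    rw [Algebra.Generators.ker_eq_ker_aeval_val, ← hker]
    have : MvPolynomial.aeval (Algebra.Generators.ofAlgHom φ hφ).val = φ := by
      ext i; simp [Algebra.Generators.ofAlgHom]
    rw [this]
    rfl

end Pres

/-- data of a global complete intersection (in the nontrivial case), as a presentation -/
def Good (k : Type u) [Field k] (S : Type u) [CommRing S] [Algebra k S] : Prop :=
  ∃ n c : ℕ, c ≤ n ∧ ∃ _ : Algebra.Presentation k S (Fin n) (Fin c),
    ringKrullDim S = ((n - c : ℕ) : WithBot ℕ∞)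

theorem Good.isGlobalCI {k : Type u} [Field k] {S : Type u} [CommRing S] [Algebra k S]
    (h : Good k S) : Synt.IsGlobalCI k S := by
  obtain ⟨n, c, hcn, P, hdim⟩ := h
  exact FiniteSyntomic.isGlobalCI_of_presentation k S n c hcn P hdim

theorem good_of_isGlobalCI {k : Type u} [Field k] {S : Type u} [CommRing S] [Algebra k S]
    [Nontrivial S] (h : Synt.IsGlobalCI k S) : Good k S := by
  rcases h with h | ⟨n, c, hcn, φ, r, hsurj, hker, hdim⟩
  · exact absurd h (not_subsingleton S)
  · exact ⟨n, c, hcn, presOfSurj φ hsurj r hker, hdim⟩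

theorem Good.of_algEquiv {k : Type u} [Field k] {S S' : Type u} [CommRing S] [Algebra k S]
    [CommRing S'] [Algebra k S'] (e : S ≃ₐ[k] S') (h : Good k S) : Good k S' := by
  obtain ⟨n, c, hcn, P, hdim⟩ := h
  refine ⟨n, c, hcn, P.ofAlgEquiv e, ?_⟩
  rw [← hdim]
  exact (ringKrullDim_eq_of_ringEquiv e.toRingEquiv).symm

/-- general composition step: a presentation over `S` with `a` generators and `b` relations -/
theorem Good.comp {k : Type u} [Field k] {S T : Type u} [CommRing S] [Algebra k S]
    [CommRing T] [Algebra k T] [Algebra S T] [IsScalarTower k S T]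
    {ι' σ' : Type} [Fintype ι'] [Fintype σ'] (Q : Algebra.Presentation S T ι' σ')
    (hba : Fintype.card σ' ≤ Fintype.card ι')
    (h : Good k S)
    (hdim : ringKrullDim T = ringKrullDim S + ((Fintype.card ι' - Fintype.card σ' : ℕ) : WithBot ℕ∞)) :
    Good k T := by
  obtain ⟨n, c, hcn, P, hdimS⟩ := h
  have e1 : Fin (Fintype.card ι' + n) ≃ ι' ⊕ Fin n :=
    (Fintype.equivFinOfCardEq (by simp)).symm
  have e2 : Fin (Fintype.card σ' + c) ≃ σ' ⊕ Fin c :=
    (Fintype.equivFinOfCardEq (by simp)).symm
  refine ⟨Fintype.card ι' + n, Fintype.card σ' + c, by omega, (Q.comp P).reindex e1 e2, ?_⟩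
  rw [hdim, hdimS]
  have : Fintype.card ι' + n - (Fintype.card σ' + c) =
      (n - c) + (Fintype.card ι' - Fintype.card σ') := by omega
  rw [this]
  push_cast
  rfl


/-- polynomial ring step -/
theorem Good.polynomial {k : Type u} [Field k] {A : Type u} [CommRing A] [Algebra k A]
    (h : Good k A) : Good k A[X] := by
  haveI : Algebra.FiniteType k A := by
    obtain ⟨n, c, hcn, P, hdim⟩ := h
    haveI := P.finitePresentation_of_isFinite
    exact Algebra.FiniteType.of_finitePresentation
  haveI : IsNoetherianRing A := Algebra.FiniteType.isNoetherianRing k A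
  let Q : Algebra.Presentation A A[X] PUnit.{1} Empty :=
    presOfSurj (MvPolynomial.uniqueAlgEquiv A PUnit.{1}).toAlgHom (MvPolynomial.uniqueAlgEquiv A PUnit.{1}).surjective
      Empty.elim (by
        have : Set.range (Empty.elim : Empty → MvPolynomial PUnit.{1} A) = ∅ := Set.range_eq_empty _
        rw [this, Ideal.span_empty]
        exact (RingHom.injective_iff_ker_eq_bot _).1 (MvPolynomial.uniqueAlgEquiv A PUnit.{1}).injective)
  refine Good.comp Q (by simp) h ?_
  rw [Polynomial.ringKrullDim_of_isNoetherianRing]
  simp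

/-- localisation step -/
theorem Good.away {k : Type u} [Field k] {A : Type u} [CommRing A] [Algebra k A]
    (h : Good k A) (g : A)
    (hdim : ringKrullDim (Localization.Away g) = ringKrullDim A) :
    Good k (Localization.Away g) := by
  refine Good.comp (Algebra.Presentation.localizationAway (Localization.Away g) g) (by simp) h ?_
  rw [hdim]
  simp

/-- presentation of `AdjoinRoot P` -/
noncomputable def presAdjoinRoot {A : Type u} [CommRing A] (P : A[X]) :
    Algebra.Presentation A (AdjoinRoot P) PUnit.{1} PUnit.{1} :=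
  presOfSurj ((AdjoinRoot.mkₐ P).comp (MvPolynomial.uniqueAlgEquiv A PUnit.{1}).toAlgHom)
    (by
      exact (AdjoinRoot.mk_surjective (g := P)).comp (MvPolynomial.uniqueAlgEquiv A PUnit.{1}).surjective)
    (fun _ => (MvPolynomial.uniqueAlgEquiv A PUnit.{1}).symm P)
    (by
      ext x
      simp only [RingHom.mem_ker, AlgHom.toRingHom_eq_coe, RingHom.coe_coe, AlgHom.comp_apply,
        Set.range_const]
      rw [Ideal.mem_span_singleton]
      change AdjoinRoot.mk P _ = 0 ↔ _
      rw [AdjoinRoot.mk_eq_zero]
      constructor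
      · rintro ⟨q, hq⟩
        refine ⟨(MvPolynomial.uniqueAlgEquiv A PUnit.{1}).symm q, ?_⟩
        rw [← map_mul, ← hq]
        exact ((MvPolynomial.uniqueAlgEquiv A PUnit.{1}).symm_apply_apply x).symm
      · rintro ⟨q, hq⟩
        refine ⟨MvPolynomial.uniqueAlgEquiv A PUnit.{1} q, ?_⟩
        rw [hq]
        change (MvPolynomial.uniqueAlgEquiv A PUnit.{1}) _ = _
        rw [map_mul, AlgEquiv.apply_symm_apply])

/-- monic adjunction step -/
theorem Good.adjoinRoot {k : Type u} [Field k] {A : Type u} [CommRing A] [Algebra k A]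
    (h : Good k A) (P : A[X]) (hP : P.Monic)
    (hinj : Function.Injective (algebraMap A (AdjoinRoot P))) : Good k (AdjoinRoot P) := by
  refine Good.comp (presAdjoinRoot P) (by simp) h ?_
  haveI : Module.Finite A (AdjoinRoot P) := hP.finite_adjoinRoot
  haveI : Algebra.IsIntegral A (AdjoinRoot P) := Algebra.IsIntegral.of_finite A _
  rw [Groth.Agent.Lib.Helper29.ringKrullDim_eq_of_isIntegral_of_injective hinj]
  simp


/-- a minimal prime of a (presented) global complete intersection has a quotient of dimension at
least `n - c` -/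
theorem le_ringKrullDim_quotient_minimalPrime {k : Type u} [Field k] {S : Type u} [CommRing S]
    [Algebra k S] {n c : ℕ} (hcn : c ≤ n) (P : Algebra.Presentation k S (Fin n) (Fin c))
    (Q : Ideal S) (hQ : Q ∈ minimalPrimes S) :
    ((n - c : ℕ) : WithBot ℕ∞) ≤ ringKrullDim (S ⧸ Q) := by
  classical
  haveI hQp : Q.IsPrime := hQ.1.1
  let π : MvPolynomial (Fin n) k →+* S := (MvPolynomial.aeval P.val : _ →ₐ[k] S).toRingHom
  have hπ : Function.Surjective π := P.aeval_val_surjective
  have hkerπ : RingHom.ker π = Ideal.span (Set.range P.relation) := by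
    rw [P.span_range_relation_eq_ker, Algebra.Generators.ker_eq_ker_aeval_val]
    rfl
  set Q' : Ideal (MvPolynomial (Fin n) k) := Q.comap π with hQ'
  haveI : Q'.IsPrime := Ideal.comap_isPrime π Q
  have hmin : Q' ∈ (Ideal.span ((Finset.univ.image P.relation : Finset _) : Set _)).minimalPrimes := by
    have h1 := Ideal.comap_minimalPrimes_eq_of_surjective hπ (⊥ : Ideal S)
    have h2 : (⊥ : Ideal S).comap π = Ideal.span (Set.range P.relation) := by
      rw [← hkerπ]; rfl
    rw [h2] at h1
    rw [Finset.coe_image, Finset.coe_univ, Set.image_univ, h1]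
    exact ⟨Q, hQ, rfl⟩
  have hht : Q'.height ≤ c := by
    refine (Ideal.height_le_card_of_mem_minimalPrimes_span_finset hmin).trans ?_
    have := Finset.card_image_le (s := (Finset.univ : Finset (Fin c))) (f := P.relation)
    simp only [Finset.card_univ, Fintype.card_fin] at this
    exact_mod_cast this
  have hadd := Groth.Agent.Lib.Helper7.AffDim.mvPolynomial_height_add k n Q'
  -- identify the quotients
  let f : MvPolynomial (Fin n) k →+* S ⧸ Q := (Ideal.Quotient.mk Q).comp π
  have hf : Function.Surjective f := Ideal.Quotient.mk_surjective.comp hπ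
  have hkerf : RingHom.ker f = Q' := by
    ext x
    simp only [f, RingHom.mem_ker, RingHom.comp_apply, Ideal.Quotient.eq_zero_iff_mem, hQ',
      Ideal.mem_comap]
  have e : (MvPolynomial (Fin n) k ⧸ Q') ≃+* S ⧸ Q :=
    (Ideal.quotEquivOfEq hkerf.symm).trans (RingHom.quotientKerEquivOfSurjective hf)
  rw [← ringKrullDim_eq_of_ringEquiv e]
  -- arithmetic
  obtain ⟨m, hm⟩ : ∃ m : ℕ, Q'.height = m := by
    have : Q'.height ≠ ⊤ := ne_top_of_le_ne_top (ENat.natCast_ne_top c) hht
    exact ⟨Q'.height.toNat, (ENat.natCast_toNat this).symm⟩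
  rw [hm] at hadd hht
  have hmc : m ≤ c := by exact_mod_cast hht
  generalize ringKrullDim (MvPolynomial (Fin n) k ⧸ Q') = x at hadd ⊢
  induction x with
  | bot => simp at hadd
  | coe x =>
    induction x with
    | top =>
      exfalso
      have : ((m : ℕ∞) : WithBot ℕ∞) + ((⊤ : ℕ∞) : WithBot ℕ∞) = ((⊤ : ℕ∞) : WithBot ℕ∞) := by
        rw [← WithBot.coe_add]; simp
      rw [this] at hadd
      have h3 : ((⊤ : ℕ∞) : WithBot ℕ∞) = ((n : ℕ∞) : WithBot ℕ∞) := hadd
      exact ENat.top_ne_natCast n (WithBot.coe_injective h3)
    | coe y =>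
      have h3 : (((m + y : ℕ) : ℕ∞) : WithBot ℕ∞) = ((n : ℕ∞) : WithBot ℕ∞) := by
        refine Eq.trans ?_ hadd; push_cast; rfl
      have h4 : m + y = n := by exact_mod_cast WithBot.coe_injective h3
      have h5 : n - c ≤ y := by omega
      have h6 : ((n - c : ℕ) : ℕ∞) ≤ ((y : ℕ) : ℕ∞) := by exact_mod_cast h5
      exact WithBot.coe_le_coe.2 h6

/-- localising a nontrivial global complete intersection keeps the dimension (equidimensionality) -/
theorem Good.ringKrullDim_away {k : Type u} [Field k] {S : Type u} [CommRing S] [Algebra k S]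
    (h : Good k S) (g : S) [Nontrivial (Localization.Away g)] :
    ringKrullDim (Localization.Away g) = ringKrullDim S := by
  refine le_antisymm (StdSmoothDim.ringKrullDim_le_of_quasiFinite S (Localization.Away g)) ?_
  obtain ⟨n, c, hcn, P, hdim⟩ := h
  haveI : Algebra.FiniteType k S := by
    haveI := P.finitePresentation_of_isFinite
    exact Algebra.FiniteType.of_finitePresentation
  -- `g` is not nilpotent
  have hnil : ¬ IsNilpotent g := by
    rintro ⟨m, hm⟩
    have h0 : (0 : S) ∈ Submonoid.powers g := ⟨m, hm⟩
    have := (IsLocalization.subsingleton_iff (M := Submonoid.powers g)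
      (S := Localization.Away g)).2 h0
    exact not_subsingleton (Localization.Away g) this
  rw [← mem_nilradical, nilradical_eq_sInf, Ideal.mem_sInf] at hnil
  push Not at hnil
  obtain ⟨Q₀, hQ₀, hgQ₀⟩ := hnil
  haveI : Q₀.IsPrime := hQ₀
  obtain ⟨Q, hQ, hQQ₀⟩ := Ideal.exists_minimalPrimes_le (bot_le : (⊥ : Ideal S) ≤ Q₀)
  haveI hQp : Q.IsPrime := hQ.1.1
  have hgQ : g ∉ Q := fun hg => hgQ₀ (hQQ₀ hg)
  have h1 := le_ringKrullDim_quotient_minimalPrime hcn P Q hQ
  rw [hdim]
  refine h1.trans ?_
  have hg' : (Ideal.Quotient.mk Q g) ≠ 0 := by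
    rwa [Ne, Ideal.Quotient.eq_zero_iff_mem]
  rw [← ringKrullDim_away_of_isDomain k (S ⧸ Q) (Ideal.Quotient.mk Q g) hg']
  haveI : IsLocalization.Away ((Ideal.Quotient.mkₐ k Q) g)
      (Localization.Away ((Ideal.Quotient.mk Q) g)) :=
    (inferInstance : IsLocalization.Away ((Ideal.Quotient.mk Q) g)
      (Localization.Away ((Ideal.Quotient.mk Q) g)))
  have hsurj := IsLocalization.Away.mapₐ_surjective_of_surjective (R := k)
    (Aₚ := Localization.Away g) (Bₚ := Localization.Away (Ideal.Quotient.mk Q g))
    (f := Ideal.Quotient.mkₐ k Q) g Ideal.Quotient.mk_surjective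
  exact ringKrullDim_le_of_surjective _ hsurj


/-- a principal localisation of a global complete intersection is a global complete intersection -/
theorem isGlobalCI_away {k : Type u} [Field k] {S : Type u} [CommRing S] [Algebra k S]
    (h : Synt.IsGlobalCI k S) (g : S) : Synt.IsGlobalCI k (Localization.Away g) := by
  rcases subsingleton_or_nontrivial (Localization.Away g) with h1 | h1
  · left; exact h1
  · haveI : Nontrivial S := (algebraMap S (Localization.Away g)).domain_nontrivial
    have hG := good_of_isGlobalCI h
    exact (hG.away g (hG.ringKrullDim_away g)).isGlobalCI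

/-- version for an arbitrary model of the localisation -/
theorem isGlobalCI_of_isLocalizationAway {k : Type u} [Field k] {S : Type u} [CommRing S]
    [Algebra k S] (h : Synt.IsGlobalCI k S) (g : S) (T : Type u) [CommRing T] [Algebra S T]
    [Algebra k T] [IsScalarTower k S T] [IsLocalization.Away g T] : Synt.IsGlobalCI k T :=
  FiniteSyntomic.isGlobalCI_of_algEquiv k _ T
    ((IsLocalization.algEquiv (Submonoid.powers g) (Localization.Away g) T).restrictScalars k)
    (isGlobalCI_away h g)

/-- a principal localisation of a local complete intersection is a local complete intersection -/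
theorem isLCIOver_away {k : Type u} [Field k] {S : Type u} [CommRing S] [Algebra k S]
    (h : Synt.IsLCIOver k S) (g : S) : Synt.IsLCIOver k (Localization.Away g) := by
  obtain ⟨hft, hloc⟩ := h
  refine ⟨?_, fun p => ?_⟩
  · haveI := hft
    exact Algebra.FiniteType.trans hft
      (inferInstance : Algebra.FiniteType S (Localization.Away g))
  · obtain ⟨h, hhp, hCI⟩ := hloc (PrimeSpectrum.comap (algebraMap S (Localization.Away g)) p)
    refine ⟨algebraMap S _ h, hhp, ?_⟩
    have hCI' := isGlobalCI_away hCI (algebraMap S (Localization.Away h) g)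
    haveI : IsLocalization.Away (g * h)
        (Localization.Away (algebraMap S (Localization.Away g) h)) :=
      IsLocalization.Away.mul' (Localization.Away g) _ g h
    haveI : IsLocalization.Away (g * h)
        (Localization.Away (algebraMap S (Localization.Away h) g)) :=
      IsLocalization.Away.mul (Localization.Away h) _ h g
    exact FiniteSyntomic.isGlobalCI_of_algEquiv k _ _
      ((IsLocalization.algEquiv (Submonoid.powers (g * h))
        (Localization.Away (algebraMap S (Localization.Away h) g))
        (Localization.Away (algebraMap S (Localization.Away g) h))).restrictScalars k) hCI'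


/-- transport of `IsLCIOver` along an algebra isomorphism -/
theorem isLCIOver_of_algEquiv {k : Type u} [Field k] {S S' : Type u} [CommRing S] [Algebra k S]
    [CommRing S'] [Algebra k S'] (e : S ≃ₐ[k] S') (h : Synt.IsLCIOver k S) :
    Synt.IsLCIOver k S' := by
  obtain ⟨hft, hloc⟩ := h
  refine ⟨hft.equiv e, fun p' => ?_⟩
  obtain ⟨g, hgp, hCI⟩ := hloc (PrimeSpectrum.comap (e : S →+* S') p')
  refine ⟨e g, hgp, ?_⟩
  exact FiniteSyntomic.isGlobalCI_of_algEquiv k _ _
    (IsLocalization.algEquivOfAlgEquiv (M := Submonoid.powers g) (T := Submonoid.powers (e g))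
      (Localization.Away g) (Localization.Away (e g)) e (by rw [Submonoid.map_powers])) hCI

/-- `IsLCIOver` can be checked on a principal open cover -/
theorem isLCIOver_of_cover {k : Type u} [Field k] {F : Type u} [CommRing F] [Algebra k F]
    [hft : Algebra.FiniteType k F] (t : Set F) (ht : Ideal.span t = ⊤)
    (h : ∀ a ∈ t, Synt.IsLCIOver k (Localization.Away a)) : Synt.IsLCIOver k F := by
  refine ⟨hft, fun q => ?_⟩
  have : ∃ a ∈ t, a ∉ q.asIdeal := by
    by_contra hcon
    push Not at hcon
    have : Ideal.span t ≤ q.asIdeal := Ideal.span_le.2 hcon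
    rw [ht] at this
    exact q.isPrime.ne_top (top_le_iff.1 this)
  obtain ⟨a, hat, haq⟩ := this
  have hdisj : Disjoint (Submonoid.powers a : Set F) (q.asIdeal : Set F) := by
    rw [Set.disjoint_left]
    rintro x ⟨n, rfl⟩ hx
    exact haq (q.isPrime.mem_of_pow_mem n hx)
  haveI hq' : (q.asIdeal.map (algebraMap F (Localization.Away a))).IsPrime :=
    IsLocalization.isPrime_of_isPrime_disjoint (Submonoid.powers a) _ q.asIdeal q.isPrime hdisj
  obtain ⟨b', hb'q, hCI⟩ := (h a hat).2 ⟨_, hq'⟩
  obtain ⟨n, b, hb⟩ := IsLocalization.Away.surj a b'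
  have hu : IsUnit (algebraMap F (Localization.Away a) a ^ n) :=
    (IsLocalization.Away.algebraMap_isUnit a).pow n
  have hassoc : Associated (algebraMap F (Localization.Away a) b) b' := by
    obtain ⟨u, hu'⟩ := hu
    refine Associated.symm ⟨u, ?_⟩
    rw [hu', hb]
  haveI : IsLocalization.Away (a * b) (Localization.Away b') :=
    IsLocalization.Away.mul_of_associated a b b' hassoc
  refine ⟨a * b, ?_, ?_⟩
  · intro hab
    rcases q.isPrime.mem_or_mem hab with h1 | h1
    · exact haq h1
    · apply hb'q
      have h2 : algebraMap F (Localization.Away a) b ∈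
          q.asIdeal.map (algebraMap F (Localization.Away a)) := Ideal.mem_map_of_mem _ h1
      rw [← hb] at h2
      rcases hq'.mem_or_mem h2 with h3 | h3
      · exact h3
      · exact absurd (Ideal.eq_top_of_isUnit_mem _ h3 hu) hq'.ne_top
  · exact FiniteSyntomic.isGlobalCI_of_algEquiv k _ _
      ((IsLocalization.algEquiv (Submonoid.powers (a * b)) (Localization.Away b')
        (Localization.Away (a * b))).restrictScalars k) hCI

open TensorProduct in
/-- being syntomic is local on the target ring (S9146) -/
theorem isSyntomic_of_span {R S : Type u} [CommRing R] [CommRing S] [Algebra R S]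
    (s : Set S) (hs : Ideal.span s = ⊤)
    (h : ∀ g ∈ s, Synt.IsSyntomic R (Localization.Away g)) : Synt.IsSyntomic R S := by
  have hfp : Algebra.FinitePresentation R S :=
    Algebra.FinitePresentation.of_span_eq_top_target s hs (fun g hg => (h g hg).2.1)
  refine ⟨?_, hfp, fun p => ?_⟩
  · exact Module.flat_of_isLocalized_span S S s hs (fun g => Localization.Away g.1)
      (fun g => Algebra.linearMap S (Localization.Away g.1)) (fun g => (h g.1 g.2).1)
  · haveI : Algebra.FiniteType R S := Algebra.FiniteType.of_finitePresentation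
    refine isLCIOver_of_cover
      ((Algebra.TensorProduct.includeRight : S →ₐ[R] p.asIdeal.ResidueField ⊗[R] S) '' s) ?_ ?_
    · rw [← Ideal.map_span, hs, Ideal.map_top]
    · rintro _ ⟨g, hg, rfl⟩
      have h1 := (h g hg).2.2 p
      exact isLCIOver_of_algEquiv
        (IsLocalization.Away.tensorProductEquivTMulRight R p.asIdeal.ResidueField g
          (Localization.Away g)) h1

end Groth.Agent.Lib.Helper25.GlobalCI
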