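import Mathlib
import Groth.Prelude.Def_RegImm
import Groth.Agent.Lib.Helper25.GlobalCI

/-!
# `Synt.IsSyntomic` is a local property of ring homomorphisms
-/

set_option autoImplicit false
set_option linter.unusedSectionVars false
set_option linter.style.haveILetI false
set_option linter.unusedVariables false
universe u v

namespace Groth.Agent.Lib.Helper25.SyntLocal

open TensorProduct GlobalCI

/-- change of base field along an isomorphism (same ring) -/
theorem isGlobalCI_of_fieldEquiv {k k' : Type u} [Field k] [Field k'] (σ : k ≃+* k')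
    {S : Type u} [CommRing S] [Algebra k S] [Algebra k' S]
    (hσ : ∀ c, algebraMap k S c = algebraMap k' S (σ c)) (h : Synt.IsGlobalCI k S) :
    Synt.IsGlobalCI k' S := by
  rcases h with h | ⟨n, c, hcn, φ, r, hsurj, hker, hdim⟩
  · left; exact h
  right
  let m : MvPolynomial (Fin n) k ≃+* MvPolynomial (Fin n) k' := MvPolynomial.mapEquiv (Fin n) σ
  let φ' : MvPolynomial (Fin n) k' →ₐ[k'] S := MvPolynomial.aeval (fun i => φ (MvPolynomial.X i))
  have hcomp : ∀ x, φ' (m x) = φ x := by
    intro x
    have : (φ'.toRingHom.comp m.toRingHom) = φ.toRingHom := by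
      apply MvPolynomial.ringHom_ext
      · intro c
        simp [φ', m, hσ]
      · intro i
        simp [φ', m]
    exact congrFun (congrArg DFunLike.coe this) x
  refine ⟨n, c, hcn, φ', fun i => m (r i), ?_, ?_, hdim⟩
  · intro s
    obtain ⟨x, rfl⟩ := hsurj s
    exact ⟨m x, hcomp x⟩
  · ext y
    obtain ⟨x, rfl⟩ := m.surjective y
    have h1 : m x ∈ RingHom.ker φ'.toRingHom ↔ x ∈ RingHom.ker φ.toRingHom := by
      simp only [RingHom.mem_ker, AlgHom.toRingHom_eq_coe, RingHom.coe_coe]
      rw [hcomp]
    rw [h1, hker]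
    have h2 : Ideal.span (Set.range fun i => m (r i)) =
        (Ideal.span (Set.range r)).map m.toRingHom := by
      rw [Ideal.map_span, ← Set.range_comp]
      rfl
    rw [h2]
    constructor
    · intro hx
      exact Ideal.mem_map_of_mem _ hx
    · intro hx
      have hx2 := (Ideal.mem_map_iff_of_surjective m.toRingHom m.surjective).1 hx
      obtain ⟨x', hx', hxx'⟩ := hx2
      have : x' = x := m.injective hxx'
      rwa [← this]

theorem isLCIOver_of_fieldEquiv {k k' : Type u} [Field k] [Field k'] (σ : k ≃+* k')
    {S : Type u} [CommRing S] [Algebra k S] [Algebra k' S]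
    (hσ : ∀ c, algebraMap k S c = algebraMap k' S (σ c)) (h : Synt.IsLCIOver k S) :
    Synt.IsLCIOver k' S := by
  obtain ⟨hft, hloc⟩ := h
  refine ⟨?_, fun p => ?_⟩
  · have h1 : (algebraMap k' S) = (algebraMap k S).comp σ.symm.toRingHom := by
      ext c
      simp [hσ]
    rw [← RingHom.finiteType_algebraMap, h1]
    exact RingHom.FiniteType.comp (RingHom.finiteType_algebraMap.2 hft)
      (RingHom.FiniteType.of_surjective _ σ.symm.surjective)
  · obtain ⟨g, hgp, hCI⟩ := hloc p
    refine ⟨g, hgp, isGlobalCI_of_fieldEquiv σ (fun c => ?_) hCI⟩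
    rw [IsScalarTower.algebraMap_apply k S (Localization.Away g), hσ,
      ← IsScalarTower.algebraMap_apply k' S (Localization.Away g)]

/-- semilinear transport of `IsLCIOver` -/
theorem isLCIOver_of_semilinear {k k' : Type u} [Field k] [Field k'] (σ : k ≃+* k')
    {S S' : Type u} [CommRing S] [Algebra k S] [CommRing S'] [Algebra k' S'] (e : S ≃+* S')
    (h : ∀ c, e (algebraMap k S c) = algebraMap k' S' (σ c)) (hS : Synt.IsLCIOver k S) :
    Synt.IsLCIOver k' S' := by
  letI : Algebra k S' := ((algebraMap k' S').comp σ.toRingHom).toAlgebra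
  let e' : S ≃ₐ[k] S' := { e with commutes' := h }
  have h1 : Synt.IsLCIOver k S' := isLCIOver_of_algEquiv e' hS
  exact isLCIOver_of_fieldEquiv σ (fun c => rfl) h1


/-- fibres over corresponding primes of a localisation agree -/
theorem isLCIOver_fiber_iff_of_isLocalization {R : Type u} [CommRing R] (M : Submonoid R)
    (R' : Type u) [CommRing R'] [Algebra R R'] [IsLocalization M R'] (T : Type u) [CommRing T]
    [Algebra R T] [Algebra R' T] [IsScalarTower R R' T] (p : Ideal R) [p.IsPrime]
    (p' : Ideal R') [p'.IsPrime] (h : p = p'.comap (algebraMap R R')) :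
    Synt.IsLCIOver p.ResidueField (p.Fiber T) ↔ Synt.IsLCIOver p'.ResidueField (p'.Fiber T) := by
  have hbij := RingHom.SurjectiveOnStalks.residueFieldMap_bijective
    (RingHom.surjectiveOnStalks_of_isLocalization M R') p p' h
  let σ : p.ResidueField ≃ₐ[R] p'.ResidueField :=
    AlgEquiv.ofBijective (Ideal.ResidueField.mapₐ p p' (Algebra.ofId R R') h) hbij
  let e₁ : p.ResidueField ⊗[R] T ≃ₐ[R] p'.ResidueField ⊗[R] T :=
    Algebra.TensorProduct.congr σ AlgEquiv.refl
  let e₂ : p'.ResidueField ⊗[R'] T ≃ₐ[R'] p'.ResidueField ⊗[R] T :=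
    IsLocalization.algebraTensorEquiv M R' _ _
  let e : p.ResidueField ⊗[R] T ≃+* p'.ResidueField ⊗[R'] T :=
    e₁.toRingEquiv.trans e₂.symm.toRingEquiv
  have he2 : ∀ (x : p'.ResidueField) (t : T), e₂ (x ⊗ₜ[R'] t) = x ⊗ₜ[R] t := fun x t => rfl
  have he : ∀ c : p.ResidueField, e (algebraMap p.ResidueField (p.ResidueField ⊗[R] T) c) =
      algebraMap p'.ResidueField (p'.ResidueField ⊗[R'] T) (σ c) := by
    intro c
    rw [Algebra.TensorProduct.algebraMap_apply, Algebra.TensorProduct.algebraMap_apply]
    change e₂.symm (e₁ (c ⊗ₜ[R] 1)) = _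
    rw [AlgEquiv.symm_apply_eq, he2]
    simp [e₁]
  constructor
  · exact isLCIOver_of_semilinear σ.toRingEquiv e he
  · refine isLCIOver_of_semilinear σ.toRingEquiv.symm e.symm (fun c => ?_)
    rw [RingEquiv.symm_apply_eq, he]
    simp


/-- the zero ring is a local complete intersection -/
theorem isLCIOver_of_subsingleton {k : Type u} [Field k] {S : Type u} [CommRing S] [Algebra k S]
    [Subsingleton S] : Synt.IsLCIOver k S := by
  refine ⟨?_, fun p => ?_⟩
  · exact Algebra.FiniteType.of_surjective (Algebra.ofId k S)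
      (fun x => ⟨0, Subsingleton.elim _ _⟩)
  · exact absurd (Subsingleton.elim (1 : S) 0 ▸ p.asIdeal.zero_mem :
      (1 : S) ∈ p.asIdeal) (p.asIdeal.ne_top_iff_one.1 p.isPrime.ne_top)

/-- transport of `IsSyntomic` along an algebra isomorphism of the target -/
theorem isSyntomic_of_algEquiv {R S S' : Type u} [CommRing R] [CommRing S] [CommRing S']
    [Algebra R S] [Algebra R S'] (e : S ≃ₐ[R] S') (h : Synt.IsSyntomic R S) :
    Synt.IsSyntomic R S' := by
  obtain ⟨hfl, hfp, hfib⟩ := h
  refine ⟨Module.Flat.of_linearEquiv e.toLinearEquiv.symm, hfp.equiv e, fun p => ?_⟩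
  exact isLCIOver_of_algEquiv
    (Algebra.TensorProduct.congr (AlgEquiv.refl : p.asIdeal.ResidueField ≃ₐ[p.asIdeal.ResidueField] _) e)
    (hfib p)

/-- composing a syntomic algebra with a principal localisation of the target -/
theorem isSyntomic_away {R S : Type u} [CommRing R] [CommRing S] [Algebra R S]
    (h : Synt.IsSyntomic R S) (a : S) (T : Type u) [CommRing T] [Algebra S T] [Algebra R T]
    [IsScalarTower R S T] [IsLocalization.Away a T] : Synt.IsSyntomic R T := by
  obtain ⟨hfl, hfp, hfib⟩ := h
  haveI : Module.Flat S T := IsLocalization.flat T (Submonoid.powers a)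
  haveI : Algebra.FinitePresentation S T := IsLocalization.Away.finitePresentation a
  refine ⟨Module.Flat.trans R S T, Algebra.FinitePresentation.trans R S T, fun p => ?_⟩
  have h1 := isLCIOver_away (hfib p) ((1 : p.asIdeal.ResidueField) ⊗ₜ[R] a)
  exact isLCIOver_of_algEquiv
    (IsLocalization.Away.tensorProductEquivTMulRight R p.asIdeal.ResidueField a T).symm h1

/-- `IsSyntomic` does not see a principal localisation of the base through which it factors -/
theorem isSyntomic_iff_of_away {R : Type u} [CommRing R] (r : R) (R' : Type u) [CommRing R']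
    [Algebra R R'] [IsLocalization.Away r R'] (T : Type u) [CommRing T] [Algebra R T]
    [Algebra R' T] [IsScalarTower R R' T] : Synt.IsSyntomic R T ↔ Synt.IsSyntomic R' T := by
  haveI : Module.Flat R R' := IsLocalization.flat R' (Submonoid.powers r)
  haveI : Algebra.FinitePresentation R R' := IsLocalization.Away.finitePresentation r
  constructor
  · rintro ⟨hfl, hfp, hfib⟩
    refine ⟨?_, ?_, fun p' => ?_⟩
    · exact (Module.flat_iff_of_isLocalization R' (Submonoid.powers r) T).2 hfl
    · haveI := hfp
      exact Algebra.FinitePresentation.of_restrict_scalars_finitePresentation R R' T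
    · exact (isLCIOver_fiber_iff_of_isLocalization (Submonoid.powers r) R' T
        (p'.asIdeal.comap (algebraMap R R')) p'.asIdeal rfl).1
        (hfib ⟨p'.asIdeal.comap (algebraMap R R'), inferInstance⟩)
  · rintro ⟨hfl, hfp, hfib⟩
    refine ⟨Module.Flat.trans R R' T, Algebra.FinitePresentation.trans R R' T, fun p => ?_⟩
    by_cases hr : r ∈ p.asIdeal
    · haveI : Subsingleton (p.asIdeal.Fiber T) := by
        have hu : IsUnit (algebraMap R T r) := by
          rw [IsScalarTower.algebraMap_apply R R' T]
          exact (IsLocalization.Away.algebraMap_isUnit r).map _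
        have h0 : algebraMap R p.asIdeal.ResidueField r = 0 :=
          Ideal.algebraMap_residueField_eq_zero.2 hr
        have h1 : (1 : p.asIdeal.ResidueField ⊗[R] T) = 0 := by
          obtain ⟨u, hu'⟩ := hu
          have : (1 : p.asIdeal.ResidueField) ⊗ₜ[R] (algebraMap R T r) =
              (0 : p.asIdeal.ResidueField ⊗[R] T) := by
            rw [Algebra.algebraMap_eq_smul_one, ← TensorProduct.smul_tmul,
              ← Algebra.algebraMap_eq_smul_one, h0, TensorProduct.zero_tmul]
          have h2 : (1 : p.asIdeal.ResidueField ⊗[R] T) =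
              ((1 : p.asIdeal.ResidueField) ⊗ₜ[R] (algebraMap R T r)) *
                ((1 : p.asIdeal.ResidueField) ⊗ₜ[R] (↑u⁻¹ : T)) := by
            rw [Algebra.TensorProduct.tmul_mul_tmul, one_mul, ← hu', Units.mul_inv]
            rfl
          rw [h2, this, zero_mul]
        exact subsingleton_of_zero_eq_one h1.symm
      exact isLCIOver_of_subsingleton
    · have hdisj : Disjoint (Submonoid.powers r : Set R) (p.asIdeal : Set R) := by
        rw [Set.disjoint_left]
        rintro x ⟨n, rfl⟩ hx
        exact hr (p.isPrime.mem_of_pow_mem n hx)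
      haveI hp' : (p.asIdeal.map (algebraMap R R')).IsPrime :=
        IsLocalization.isPrime_of_isPrime_disjoint (Submonoid.powers r) _ p.asIdeal p.isPrime hdisj
      have hcomap : p.asIdeal = (p.asIdeal.map (algebraMap R R')).comap (algebraMap R R') :=
        (IsLocalization.under_map_of_isPrime_disjoint (Submonoid.powers r) R' p.isPrime
          hdisj).symm
      exact (isLCIOver_fiber_iff_of_isLocalization (Submonoid.powers r) R' T
        p.asIdeal (p.asIdeal.map (algebraMap R R')) hcomap).2
        (hfib ⟨p.asIdeal.map (algebraMap R R'), hp'⟩)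


/-- `Synt.IsSyntomic` as a property of ring homomorphisms -/
def SyntHom {R S : Type u} [CommRing R] [CommRing S] (f : R →+* S) : Prop :=
  letI := f.toAlgebra
  Synt.IsSyntomic R S

theorem syntHom_iff {R S : Type u} [CommRing R] [CommRing S] [Algebra R S] (f : R →+* S)
    (hf : f = algebraMap R S) : SyntHom f ↔ Synt.IsSyntomic R S := by
  subst hf
  have : (algebraMap R S).toAlgebra = ‹Algebra R S› := Algebra.algebra_ext _ _ (fun _ => rfl)
  unfold SyntHom
  rw [this]

theorem syntHom_algebraMap {R S : Type u} [CommRing R] [CommRing S] [Algebra R S] :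
    SyntHom (algebraMap R S) ↔ Synt.IsSyntomic R S := syntHom_iff _ rfl

theorem syntHom_awayTarget :
    RingHom.StableUnderCompositionWithLocalizationAwayTarget @SyntHom := by
  intro R S T _ _ _ _ s _ f hf
  letI := f.toAlgebra
  letI : Algebra R T := ((algebraMap S T).comp f).toAlgebra
  haveI : IsScalarTower R S T := IsScalarTower.of_algebraMap_eq (fun _ => rfl)
  rw [syntHom_iff f rfl] at hf
  rw [syntHom_iff ((algebraMap S T).comp f) rfl]
  exact isSyntomic_away hf s T

theorem syntHom_awaySource :
    RingHom.StableUnderCompositionWithLocalizationAwaySource @SyntHom := by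
  intro R S T _ _ _ _ r _ f hf
  letI := f.toAlgebra
  letI : Algebra R T := (f.comp (algebraMap R S)).toAlgebra
  haveI : IsScalarTower R S T := IsScalarTower.of_algebraMap_eq (fun _ => rfl)
  rw [syntHom_iff f rfl] at hf
  rw [syntHom_iff (f.comp (algebraMap R S)) rfl]
  exact (isSyntomic_iff_of_away r S T).2 hf

theorem syntHom_localizationAwayPreserves : RingHom.LocalizationAwayPreserves @SyntHom := by
  intro R S _ _ f r R' S' _ _ _ _ _ _ hf
  letI := f.toAlgebra
  letI : Algebra R S' := ((algebraMap S S').comp f).toAlgebra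
  haveI : IsScalarTower R S S' := IsScalarTower.of_algebraMap_eq (fun _ => rfl)
  letI : Algebra R' S' := (IsLocalization.Away.map R' S' f r).toAlgebra
  haveI : IsScalarTower R R' S' := IsScalarTower.of_algebraMap_eq (fun x => by
    change (algebraMap S S') (f x) = IsLocalization.Away.map R' S' f r (algebraMap R R' x)
    rw [IsLocalization.Away.map, IsLocalization.map_eq])
  rw [syntHom_iff f rfl] at hf
  rw [syntHom_iff (IsLocalization.Away.map R' S' f r) rfl]
  have h1 : Synt.IsSyntomic R S' := isSyntomic_away hf (algebraMap R S r) S'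
  exact (isSyntomic_iff_of_away r R' S').1 h1

theorem syntHom_ofLocalizationSpanTarget : RingHom.OfLocalizationSpanTarget @SyntHom := by
  intro R S _ _ f s hs h
  letI := f.toAlgebra
  rw [syntHom_iff f rfl]
  refine isSyntomic_of_span s hs (fun g hg => ?_)
  have h1 := h ⟨g, hg⟩
  rwa [syntHom_iff ((algebraMap S (Localization.Away g)).comp f) (by
    ext x
    exact (IsScalarTower.algebraMap_apply R S (Localization.Away g) x).symm)] at h1

theorem syntHom_propertyIsLocal : RingHom.PropertyIsLocal @SyntHom where
  localizationAwayPreserves := syntHom_localizationAwayPreserves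
  ofLocalizationSpanTarget := syntHom_ofLocalizationSpanTarget
  ofLocalizationSpan := syntHom_ofLocalizationSpanTarget.ofLocalizationSpan syntHom_awaySource
  StableUnderCompositionWithLocalizationAwayTarget := syntHom_awayTarget


section Scheme

open AlgebraicGeometry CategoryTheory

/-- the morphism property of schemes induced by `SyntHom` -/
def SyntMor : MorphismProperty Scheme.{u} := affineLocally @SyntHom

instance : HasRingHomProperty SyntMor.{u} @SyntHom := ⟨syntHom_propertyIsLocal, rfl⟩

theorem isSyntomicMor_iff {X S : Scheme.{u}} (f : X ⟶ S) : Synt.IsSyntomicMor f ↔ SyntMor f := by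
  rw [HasRingHomProperty.iff_exists_appLE (P := SyntMor) syntHom_awaySource]
  constructor
  · intro h x
    obtain ⟨U, V, e, hx, hs⟩ := h x
    exact ⟨V, U, hx, e, hs⟩
  · intro h x
    obtain ⟨V, U, hx, e, hs⟩ := h x
    exact ⟨U, V, e, hx, hs⟩

theorem isSyntomicMor_iff_forall {X S : Scheme.{u}} (f : X ⟶ S) :
    Synt.IsSyntomicMor f ↔
      ∀ (U : X.affineOpens) (V : S.affineOpens) (e : U.1 ≤ f ⁻¹ᵁ V.1),
        letI := (f.appLE V.1 U.1 e).hom.toAlgebra
        Synt.IsSyntomic Γ(S, V.1) Γ(X, U.1) := by
  rw [isSyntomicMor_iff, HasRingHomProperty.iff_appLE (P := SyntMor)]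
  constructor
  · intro h U V e
    exact h V U e
  · intro h V U e
    exact h U V e

end Scheme

end Groth.Agent.Lib.Helper25.SyntLocal
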