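import Mathlib
import Groth.Agent.Lib.Helper25.FibCrit

/-!
# Pointwise fibrewise criteria for smooth and étale morphisms (EGA IV 17.8.2) (helper25)
-/

set_option autoImplicit false
set_option linter.unusedSectionVars false
set_option linter.unusedVariables false
set_option linter.style.haveILetI false
set_option linter.deprecated false
universe u

open CategoryTheory CategoryTheory.Limits AlgebraicGeometry Topology TopologicalSpace

namespace Groth.Agent.Lib.Helper25.FibCritPt

open Groth.Agent.Lib.Helper25.ConsLocus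
  Groth.Agent.Lib.Helper25.FibLocus Groth.Agent.Lib.Helper25.ConsTopMor
  Groth.Agent.Lib.Helper25.ConsMono Groth.Agent.Lib.Helper25.ConsFlat
  Groth.Agent.Lib.Helper25.ConsSmooth

variable {X Y S : Scheme.{u}} (f : X ⟶ Y) (g : Y ⟶ S)

/-- version of `mem_smoothLocus_of_smooth_snd` over a point given up to equality -/
theorem mem_smoothLocus_of_smooth_snd' [LocallyOfFinitePresentation g]
    [LocallyOfFinitePresentation (f ≫ g)] [LocallyOfFinitePresentation f] (x : X) (s : S)
    (hxs : (f ≫ g) x = s) (hfl : ((f ≫ g).stalkMap x).hom.Flat)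
    (hs : Smooth (pullback.snd f (g.fiberι s))) : x ∈ f.smoothLocus := by
  subst hxs
  exact mem_smoothLocus_of_smooth_snd f g x hfl hs

/-- flatness at a point of an open subscheme -/
theorem flat_stalkMap_ι_comp_iff {X S : Scheme.{u}} (p : X ⟶ S) (U : X.Opens) (u : U.toScheme) :
    ((U.ι ≫ p).stalkMap u).hom.Flat ↔ (p.stalkMap (U.ι u)).hom.Flat := by
  rw [Scheme.Hom.stalkMap_comp]
  exact RingHom.Flat.respectsIso.cancel_right_isIso _ (U.ι.stalkMap u)

set_option backward.isDefEq.respectTransparency.types false in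
/-- EGA IV 17.8.2, pointwise: if `X ⟶ S` is flat at `x` and the morphism of fibres is smooth near
the point over `x`, then `f` is smooth at `x`. -/
theorem mem_smoothLocus_of_smooth_near [LocallyOfFinitePresentation g]
    [LocallyOfFinitePresentation (f ≫ g)] [LocallyOfFinitePresentation f] (x : X) (s : S)
    (hxs : (f ≫ g) x = s) (hfl : ((f ≫ g).stalkMap x).hom.Flat)
    {F : Scheme.{u}} (pr : F ⟶ X) (fs : F ⟶ g.fiber s)
    (H : IsPullback pr fs f (g.fiberι s)) (x' : F) (hx' : pr x' = x) (V : F.Opens) (hV : x' ∈ V)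
    (hs : Smooth (V.ι ≫ fs)) : x ∈ f.smoothLocus := by
  haveI : IsPreimmersion pr := MorphismProperty.of_isPullback H.flip inferInstance
  obtain ⟨W₀, hW₀, hWV⟩ := pr.isEmbedding.isInducing.isOpen_iff.mp V.isOpen
  let W : X.Opens := ⟨W₀, hW₀⟩
  have hVW : pr ⁻¹ᵁ W = V := by
    ext z
    exact Set.ext_iff.mp hWV z
  subst hVW
  have hxW : x ∈ W := by rw [← hx']; exact hV
  haveI : LocallyOfFinitePresentation ((W.ι ≫ f) ≫ g) := by
    rw [Category.assoc]; infer_instance
  have sq := (isPullback_morphismRestrict pr W).paste_vert H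
  have hsm : Smooth (pullback.snd (W.ι ≫ f) (g.fiberι s)) := by
    have e := sq.isoPullback_hom_snd
    have : Smooth (sq.isoPullback.hom ≫ pullback.snd (W.ι ≫ f) (g.fiberι s)) := by
      rw [e]; exact hs
    exact (MorphismProperty.cancel_left_of_respectsIso @Smooth sq.isoPullback.hom _).mp this
  have hflW : (((W.ι ≫ f) ≫ g).stalkMap (⟨x, hxW⟩ : W)).hom.Flat := by
    have := (flat_stalkMap_ι_comp_iff (f ≫ g) W (⟨x, hxW⟩ : W.toScheme)).mpr hfl
    have e : (W.ι ≫ f) ≫ g = W.ι ≫ f ≫ g := Category.assoc _ _ _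
    rw [e]
    exact this
  have key := mem_smoothLocus_of_smooth_snd' (W.ι ≫ f) g (⟨x, hxW⟩ : W) s hxs hflW hsm
  rw [← Scheme.Hom.preimage_smoothLocus_eq] at key
  exact key

section Statements

variable {X Y S : Scheme.{u}} (g : Y ⟶ S) (h : X ⟶ S)
  [LocallyOfFinitePresentation g] [LocallyOfFinitePresentation h] (f : X ⟶ Y) (w : f ≫ g = h)

include w in
/-- EGA IV 17.8.2 for smoothness at a point -/
theorem smoothAt_iff (x : X) (hflat : (h.stalkMap x).hom.Flat)
    (x' : h.fiber (h x)) (hx' : (h.fiberι (h x)) x' = x) :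
    (∃ U : X.Opens, x ∈ U ∧ Smooth (U.ι ≫ f)) ↔
      ∃ V : (h.fiber (h x)).Opens, x' ∈ V ∧
        Smooth (V.ι ≫ CohIII.fiberMapOver f h g w (h x)) := by
  have H := Groth.Agent.S10861.isPullback_fiberMapOver f h g w (h x)
  constructor
  · rintro ⟨U, hxU, hU⟩
    refine ⟨(h.fiberι (h x)) ⁻¹ᵁ U, ?_, ?_⟩
    · change (h.fiberι (h x)) x' ∈ U
      rw [hx']; exact hxU
    · have sq := (isPullback_morphismRestrict (h.fiberι (h x)) U).paste_vert H
      exact MorphismProperty.of_isPullback (P := @Smooth) sq hU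
  · rintro ⟨V, hx'V, hV⟩
    subst w
    haveI : LocallyOfFinitePresentation f :=
      Groth.Agent.Lib.Helper13.LimDescend.locallyOfFinitePresentation_of_comp f g
    have hx := mem_smoothLocus_of_smooth_near f g x ((f ≫ g) x) rfl hflat _ _ H x' hx' V hx'V hV
    exact ⟨f.smoothLocus, hx, smooth_smoothLocus_ι_comp f⟩

include w in
set_option backward.isDefEq.respectTransparency.types false in
/-- EGA IV 17.8.2 for étaleness at a point -/
theorem etaleAt_iff (x : X) (hflat : (h.stalkMap x).hom.Flat)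
    (x' : h.fiber (h x)) (hx' : (h.fiberι (h x)) x' = x) :
    (∃ U : X.Opens, x ∈ U ∧ Etale (U.ι ≫ f)) ↔
      ∃ V : (h.fiber (h x)).Opens, x' ∈ V ∧
        Etale (V.ι ≫ CohIII.fiberMapOver f h g w (h x)) := by
  have H := Groth.Agent.S10861.isPullback_fiberMapOver f h g w (h x)
  constructor
  · rintro ⟨U, hxU, hU⟩
    refine ⟨(h.fiberι (h x)) ⁻¹ᵁ U, ?_, ?_⟩
    · change (h.fiberι (h x)) x' ∈ U
      rw [hx']; exact hxU
    · have sq := (isPullback_morphismRestrict (h.fiberι (h x)) U).paste_vert H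
      exact MorphismProperty.of_isPullback (P := @Etale) sq hU
  · rintro ⟨V, hx'V, hV⟩
    have hsm : ∃ U : X.Opens, x ∈ U ∧ Smooth (U.ι ≫ f) :=
      (smoothAt_iff g h f w x hflat x' hx').mpr ⟨V, hx'V, inferInstance⟩
    have hun : ∃ U : X.Opens, x ∈ U ∧ FormallyUnramified (U.ι ≫ f) :=
      (Groth.Agent.S16765.result g h f w x x' hx').mpr ⟨V, hx'V, inferInstance⟩
    obtain ⟨U₁, hx₁, hU₁⟩ := hsm
    obtain ⟨U₂, hx₂, hU₂⟩ := hun
    refine ⟨U₁ ⊓ U₂, ⟨hx₁, hx₂⟩, ?_⟩
    have e1 : (U₁ ⊓ U₂).ι ≫ f = X.homOfLE (inf_le_left : U₁ ⊓ U₂ ≤ U₁) ≫ U₁.ι ≫ f := by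
      rw [← Category.assoc, Scheme.homOfLE_ι]
    have e2 : (U₁ ⊓ U₂).ι ≫ f = X.homOfLE (inf_le_right : U₁ ⊓ U₂ ≤ U₂) ≫ U₂.ι ≫ f := by
      rw [← Category.assoc, Scheme.homOfLE_ι]
    haveI : Smooth ((U₁ ⊓ U₂).ι ≫ f) := by
      rw [e1]; exact IsZariskiLocalAtSource.comp (P := @Smooth) hU₁ _
    haveI : FormallyUnramified ((U₁ ⊓ U₂).ι ≫ f) := by
      rw [e2]; exact IsZariskiLocalAtSource.comp (P := @FormallyUnramified) hU₂ _
    rw [Etale.iff_flat_and_formallyUnramified]
    exact ⟨inferInstance, inferInstance, inferInstance⟩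

end Statements

end Groth.Agent.Lib.Helper25.FibCritPt
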