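import Mathlib
import Groth.Prelude.Def_EGA4c

/-!
# helper25 — PushCompl: sections of `M~` over an open of `Spec A`, functorially in `M`

`Sec M U` is the `A`-submodule of dependent functions which are locally fractions (the sections of `M~`
over `U`); `Sec.map g` is the pointwise map; it is left exact.
-/

set_option autoImplicit false
set_option backward.isDefEq.respectTransparency.types false
set_option linter.unusedVariables false
set_option linter.style.haveILetI false
universe u
open AlgebraicGeometry StructureSheaf TopologicalSpace CategoryTheory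

namespace Groth.Agent.Lib.Helper25.PushCompl

variable {A : Type u} [CommRing A]

/-- sections of `M~` over `U`, as an `A`-submodule of the dependent functions -/
abbrev Sec (M : Type u) [AddCommGroup M] [Module A M] (U : Opens (PrimeSpectrum.Top A)) :
    Submodule A (Π x : U, Localizations M x.1) :=
  sectionsSubmodule M U

variable {M N P : Type u} [AddCommGroup M] [Module A M] [AddCommGroup N] [Module A N]
  [AddCommGroup P] [Module A P] {U : Opens (PrimeSpectrum.Top A)}

/-- the pointwise map on dependent functions -/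
noncomputable def piMap (g : M →ₗ[A] N) (U : Opens (PrimeSpectrum.Top A)) :
    (Π x : U, Localizations M x.1) →ₗ[A] (Π x : U, Localizations N x.1) where
  toFun f x := LocalizedModule.map x.1.asIdeal.primeCompl g (f x)
  map_add' f f' := by
    funext x
    exact map_add (LocalizedModule.map x.1.asIdeal.primeCompl g) (f x) (f' x)
  map_smul' a f := by
    funext x
    exact LinearMap.map_smul_of_tower (LocalizedModule.map x.1.asIdeal.primeCompl g) a (f x)

theorem piMap_apply (g : M →ₗ[A] N) (f : Π x : U, Localizations M x.1) (x : U) :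
    piMap g U f x = LocalizedModule.map x.1.asIdeal.primeCompl g (f x) := rfl

theorem piMap_mem (g : M →ₗ[A] N) {f : Π x : U, Localizations M x.1} (hf : f ∈ Sec M U) :
    piMap g U f ∈ Sec N U := by
  intro x
  obtain ⟨V, m, i, r, s, w⟩ := hf x
  refine ⟨V, m, i, g r, s, fun y => ?_⟩
  obtain ⟨hs, hy⟩ := w y
  refine ⟨hs, ?_⟩
  have hy' : f (i y) = LocalizedModule.mk r ⟨s, hs⟩ := hy
  show LocalizedModule.map _ g (f (i y)) = _
  rw [hy', LocalizedModule.map_mk]

/-- the map induced on sections -/
noncomputable def Sec.map (g : M →ₗ[A] N) (U : Opens (PrimeSpectrum.Top A)) : Sec M U →ₗ[A] Sec N U :=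
  (piMap g U).restrict fun f hf => piMap_mem g hf

theorem Sec.map_apply (g : M →ₗ[A] N) (s : Sec M U) (x : U) :
    (Sec.map g U s).1 x = LocalizedModule.map x.1.asIdeal.primeCompl g (s.1 x) := rfl

theorem Sec.map_injective (g : M →ₗ[A] N) (hg : Function.Injective g) :
    Function.Injective (Sec.map g U) := by
  intro s t h
  apply Subtype.ext
  funext x
  have h1 := congrArg (fun z : Sec N U => z.1 x) h
  exact LocalizedModule.map_injective _ g hg h1

theorem mk_eq_zero_iff {S : Submonoid A} (n : N) (r : S) :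
    LocalizedModule.mk n r = 0 ↔ ∃ u : S, u • n = 0 := by
  rw [← LocalizedModule.zero_mk r, LocalizedModule.mk_eq]
  constructor
  · rintro ⟨u, hu⟩
    refine ⟨u * r, ?_⟩
    rw [smul_zero, smul_zero] at hu
    rw [mul_smul]; exact hu
  · rintro ⟨u, hu⟩
    refine ⟨u, ?_⟩
    rw [smul_zero, smul_zero, smul_comm, hu, smul_zero]

/-- **left exactness in the middle** -/
theorem Sec.exists_of_map_eq_zero (g : M →ₗ[A] N) (h : N →ₗ[A] P) (hg : Function.Injective g)
    (hex : Function.Exact g h) (s : Sec N U) (hs : Sec.map h U s = 0) :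
    ∃ t : Sec M U, Sec.map g U t = s := by
  have hpt : ∀ x : U, ∃ z : Localizations M x.1,
      LocalizedModule.map x.1.asIdeal.primeCompl g z = s.1 x := by
    intro x
    have h1 : LocalizedModule.map x.1.asIdeal.primeCompl h (s.1 x) = 0 := by
      have := congrArg (fun z : Sec P U => z.1 x) hs
      exact this
    exact (LocalizedModule.map_exact x.1.asIdeal.primeCompl g h hex (s.1 x)).1 h1
  choose t ht using hpt
  have hinj : ∀ x : U, Function.Injective (LocalizedModule.map x.1.asIdeal.primeCompl g) :=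
    fun x => LocalizedModule.map_injective _ g hg
  have htmem : t ∈ Sec M U := by
    intro x
    obtain ⟨V, m, i, n, r, w⟩ := s.2 x
    obtain ⟨hrx, hx⟩ := w ⟨x.1, m⟩
    have hx' : s.1 x = LocalizedModule.mk n ⟨r, hrx⟩ := hx
    have h1 : LocalizedModule.map x.1.asIdeal.primeCompl h (s.1 x) = 0 := by
      have := congrArg (fun z : Sec P U => z.1 x) hs
      exact this
    rw [hx', LocalizedModule.map_mk, mk_eq_zero_iff] at h1
    obtain ⟨u, hu⟩ := h1
    have h2 : h (u.1 • n) = 0 := by rw [map_smul]; exact hu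
    obtain ⟨m₀, hm₀⟩ := (hex (u.1 • n)).1 h2
    refine ⟨V ⊓ PrimeSpectrum.basicOpen u.1, ⟨m, u.2⟩, homOfLE (inf_le_left.trans i.le), m₀, u.1 * r,
      fun y => ?_⟩
    obtain ⟨hry, hy⟩ := w ⟨y.1, y.2.1⟩
    have huy : u.1 ∉ y.1.asIdeal := y.2.2
    have hmul : u.1 * r ∉ y.1.asIdeal := y.1.asIdeal.primeCompl.mul_mem huy hry
    refine ⟨hmul, ?_⟩
    apply hinj
    show LocalizedModule.map _ g (t ⟨y.1, _⟩) = _
    rw [ht, LocalizedModule.map_mk, hm₀]
    have hy' : s.1 ⟨y.1, i.le y.2.1⟩ = LocalizedModule.mk n ⟨r, hry⟩ := hy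
    rw [hy']
    exact (LocalizedModule.mk_cancel_common_left (⟨u.1, huy⟩ : y.1.asIdeal.primeCompl) ⟨r, hry⟩ n).symm
  refine ⟨⟨t, htmem⟩, ?_⟩
  apply Subtype.ext
  funext x
  exact ht x

theorem Sec.map_map_eq_zero (g : M →ₗ[A] N) (h : N →ₗ[A] P) (hex : Function.Exact g h) (t : Sec M U) :
    Sec.map h U (Sec.map g U t) = 0 := by
  apply Subtype.ext
  funext x
  exact (LocalizedModule.map_exact x.1.asIdeal.primeCompl g h hex _).2 ⟨t.1 x, rfl⟩

/-- the predicate: the sections of `M~` over `U` form a noetherian `A`-module -/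
def SecNoeth (M : Type u) [AddCommGroup M] [Module A M] (U : Opens (PrimeSpectrum.Top A)) : Prop :=
  IsNoetherian A (Sec M U)

theorem SecNoeth.of_injective (g : M →ₗ[A] N) (hg : Function.Injective g) (hN : SecNoeth N U) :
    SecNoeth M U := by
  haveI : IsNoetherian A (Sec N U) := hN
  exact isNoetherian_of_injective (Sec.map g U) (Sec.map_injective g hg)

theorem SecNoeth.of_exact (g : M →ₗ[A] N) (h : N →ₗ[A] P) (hg : Function.Injective g)
    (hex : Function.Exact g h) (hM : SecNoeth M U) (hP : SecNoeth P U) : SecNoeth N U := by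
  haveI : IsNoetherian A (Sec M U) := hM
  haveI : IsNoetherian A (Sec P U) := hP
  refine isNoetherian_of_range_eq_ker (Sec.map g U) (Sec.map h U) ?_
  apply le_antisymm
  · rintro _ ⟨t, rfl⟩
    exact Sec.map_map_eq_zero g h hex t
  · intro s hs
    obtain ⟨t, ht⟩ := Sec.exists_of_map_eq_zero g h hg hex s hs
    exact ⟨t, ht⟩

theorem SecNoeth.of_subsingleton (h : ∀ x : U, Subsingleton (Localizations M x.1)) : SecNoeth M U := by
  haveI : Subsingleton (Sec M U) := ⟨fun s t => Subtype.ext (funext fun x => (h x).elim _ _)⟩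
  show IsNoetherian A (Sec M U)
  infer_instance

/-- modules killed by a power of each element of `J` have no sections over the complement of `V(J)` -/
theorem SecNoeth.of_torsion (J : Ideal A) (hJ : ∀ a ∈ J, ∃ k : ℕ, ∀ m : M, a ^ k • m = 0) :
    SecNoeth M (EGA4.openCompl A J) := by
  apply SecNoeth.of_subsingleton
  intro x
  have hx : ¬ J ≤ x.1.asIdeal := x.2
  obtain ⟨a, haJ, hax⟩ := SetLike.not_le_iff_exists.1 hx
  obtain ⟨k, hk⟩ := hJ a haJ
  refine ⟨fun z w => ?_⟩
  have hz : ∀ z : Localizations M x.1, z = 0 := by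
    intro z
    induction z using LocalizedModule.induction_on with
    | h m s =>
      rw [mk_eq_zero_iff]
      exact ⟨⟨a ^ k, x.1.asIdeal.primeCompl.pow_mem hax k⟩, hk m⟩
  rw [hz z, hz w]

end Groth.Agent.Lib.Helper25.PushCompl
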