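import Mathlib
import Groth.Agent.Lib.Helper25.PushCompl

/-!
# helper25 — PushComplDev: dévissage for the finiteness of the sections of `M~` over `Spec A ∖ V(J)`
(EGA IV 5.11.1 a ⇔ b)
-/

set_option autoImplicit false
set_option backward.isDefEq.respectTransparency.types false
set_option linter.unusedVariables false
set_option linter.style.haveILetI false
universe u
open AlgebraicGeometry StructureSheaf TopologicalSpace CategoryTheory

namespace Groth.Agent.Lib.Helper25.PushCompl

variable {A : Type u} [CommRing A] [IsNoetherianRing A] (J : Ideal A)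

/-- the saturation of `N' + A x` with respect to the complement of `p` -/
def satSub {Q : Type u} [AddCommGroup Q] [Module A Q] (p : Ideal A) [p.IsPrime]
    (S : Submodule A Q) : Submodule A Q where
  carrier := {y | ∃ r : A, r ∉ p ∧ r • y ∈ S}
  add_mem' := by
    rintro y y' ⟨r, hr, hy⟩ ⟨r', hr', hy'⟩
    refine ⟨r * r', fun h => (Ideal.IsPrime.mem_or_mem inferInstance h).elim hr hr', ?_⟩
    rw [smul_add]
    refine S.add_mem ?_ ?_
    · rw [mul_comm, mul_smul]; exact S.smul_mem _ hy
    · rw [mul_smul]; exact S.smul_mem _ hy'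
  zero_mem' := ⟨1, fun h => (Ideal.IsPrime.ne_top inferInstance) ((Ideal.eq_top_iff_one p).2 h),
    by rw [smul_zero]; exact S.zero_mem⟩
  smul_mem' := by
    rintro a y ⟨r, hr, hy⟩
    refine ⟨r, hr, ?_⟩
    rw [smul_comm]
    exact S.smul_mem _ hy

theorem le_satSub {Q : Type u} [AddCommGroup Q] [Module A Q] (p : Ideal A) [p.IsPrime]
    (S : Submodule A Q) : S ≤ satSub p S := fun y hy =>
  ⟨1, fun h => (Ideal.IsPrime.ne_top inferInstance) ((Ideal.eq_top_iff_one p).2 h), by
    rw [one_smul]; exact hy⟩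

theorem satSub_sat {Q : Type u} [AddCommGroup Q] [Module A Q] (p : Ideal A) [p.IsPrime]
    (S : Submodule A Q) (r : A) (hr : r ∉ p) (y : Q) (hy : r • y ∈ satSub p S) : y ∈ satSub p S := by
  obtain ⟨r', hr', h⟩ := hy
  refine ⟨r' * r, fun h => (Ideal.IsPrime.mem_or_mem inferInstance h).elim hr' hr, ?_⟩
  rw [mul_smul]; exact h

/-- a uniform multiplier for a saturation inside a noetherian module -/
theorem exists_uniform_mul {Q : Type u} [AddCommGroup Q] [Module A Q] [Module.Finite A Q]
    (p : Ideal A) [p.IsPrime] (S : Submodule A Q) :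
    ∃ r : A, r ∉ p ∧ ∀ y ∈ satSub p S, r • y ∈ S := by
  classical
  haveI : IsNoetherian A Q := isNoetherian_of_isNoetherianRing_of_finite A Q
  obtain ⟨s, hs⟩ := (IsNoetherian.noetherian (satSub p S))
  have hmem : ∀ y ∈ s, ∃ r : A, r ∉ p ∧ r • y ∈ S := fun y hy =>
    (hs ▸ Submodule.subset_span hy : y ∈ satSub p S)
  choose! r hr hry using hmem
  refine ⟨∏ y ∈ s, r y, ?_, ?_⟩
  · intro h
    obtain ⟨y, hy, hyp⟩ := (Ideal.IsPrime.prod_mem_iff (hp := inferInstance)).1 h
    exact hr y hy hyp
  · intro y hy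
    rw [← hs] at hy
    induction hy using Submodule.span_induction with
    | mem y hy =>
      have hy' : y ∈ s := hy
      rw [← Finset.mul_prod_erase s r hy', mul_comm, mul_smul]
      exact S.smul_mem _ (hry y hy')
    | zero => rw [smul_zero]; exact S.zero_mem
    | add y z _ _ hy hz => rw [smul_add]; exact S.add_mem hy hz
    | smul a y _ hy => rw [smul_comm]; exact S.smul_mem _ hy

/-- **the coprimary step of the dévissage** -/
theorem secNoeth_of_coprimary (Q : Type u) [AddCommGroup Q] [Module A Q] [Module.Finite A Q]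
    (p : Ideal A) [p.IsPrime]
    (hreg : ∀ r : A, r ∉ p → ∀ x : Q, r • x = 0 → x = 0)
    (hnil : ∀ r ∈ p, ∃ k : ℕ, ∀ x : Q, r ^ k • x = 0)
    (hp : ¬ J ≤ p → SecNoeth (A ⧸ p) (EGA4.openCompl A J)) :
    SecNoeth Q (EGA4.openCompl A J) := by
  by_cases hJ : J ≤ p
  · exact SecNoeth.of_torsion J fun a ha => hnil a (hJ ha)
  have hp' := hp hJ
  haveI : IsNoetherian A Q := isNoetherian_of_isNoetherianRing_of_finite A Q
  have key : ∀ N' : Submodule A Q, (∀ r : A, r ∉ p → ∀ x : Q, r • x ∈ N' → x ∈ N') →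
      SecNoeth (Q ⧸ N') (EGA4.openCompl A J) := by
    intro N'
    refine IsNoetherian.induction (P := fun N' : Submodule A Q =>
      (∀ r : A, r ∉ p → ∀ x : Q, r • x ∈ N' → x ∈ N') →
      SecNoeth (Q ⧸ N') (EGA4.openCompl A J)) ?_ N'
    intro N' IH hR
    by_cases hN : N' = ⊤
    · haveI : Subsingleton (Q ⧸ N') := Submodule.Quotient.subsingleton_iff.2 hN
      exact SecNoeth.of_torsion J fun a _ => ⟨0, fun m => Subsingleton.elim _ _⟩
    haveI : Nontrivial (Q ⧸ N') := Submodule.Quotient.nontrivial_iff.2 hN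
    obtain ⟨q, hq⟩ := associatedPrimes.nonempty A (Q ⧸ N')
    obtain ⟨hqprime, xbar, hqx⟩ := (isAssociatedPrime_iff).1 hq
    obtain ⟨x, rfl⟩ := Submodule.Quotient.mk_surjective N' xbar
    have hmemq : ∀ a : A, a ∈ q ↔ a • x ∈ N' := by
      intro a
      rw [hqx, Submodule.mem_colon_singleton, Submodule.mem_bot, ← Submodule.Quotient.mk_smul,
        Submodule.Quotient.mk_eq_zero]
    have hxN : x ∉ N' := by
      intro hx
      apply hqprime.ne_top
      rw [Ideal.eq_top_iff_one, hmemq, one_smul]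
      exact hx
    have hqp : q = p := by
      apply le_antisymm
      · intro r hr
        by_contra hrp
        exact hxN (hR r hrp x ((hmemq r).1 hr))
      · intro r hr
        obtain ⟨k, hk⟩ := hnil r hr
        have h1 : r ^ k ∈ q := (hmemq _).2 (by rw [hk x]; exact N'.zero_mem)
        exact hqprime.mem_of_pow_mem k h1
    have hmem : ∀ a : A, a ∈ p ↔ a • x ∈ N' := by rw [← hqp]; exact hmemq
    set S : Submodule A Q := N' ⊔ Submodule.span A {x} with hS
    set N'' : Submodule A Q := satSub p S with hN''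
    have hxS : x ∈ S := Submodule.mem_sup_right (Submodule.mem_span_singleton_self x)
    have hlt : N' < N'' := by
      refine lt_of_le_of_ne (le_sup_left.trans (le_satSub p S)) ?_
      intro h
      exact hxN (h ▸ le_satSub p S hxS)
    have hQ'' : SecNoeth (Q ⧸ N'') (EGA4.openCompl A J) :=
      IH N'' hlt (fun r hr y hy => satSub_sat p S r hr y hy)
    obtain ⟨r, hrp, hr⟩ := exists_uniform_mul p S
    let h : Q ⧸ N' →ₗ[A] Q ⧸ N'' := Submodule.mapQ N' N'' LinearMap.id (by
      rw [Submodule.comap_id]; exact hlt.le)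
    -- the embedding of `A ⧸ p`
    have hle : p ≤ LinearMap.ker (LinearMap.toSpanSingleton A (Q ⧸ N') (Submodule.Quotient.mk x)) := by
      intro a ha
      rw [LinearMap.mem_ker, LinearMap.toSpanSingleton_apply, ← Submodule.Quotient.mk_smul,
        Submodule.Quotient.mk_eq_zero]
      exact (hmem a).1 ha
    let e1 : A ⧸ p →ₗ[A] Q ⧸ N' :=
      Submodule.liftQ p (LinearMap.toSpanSingleton A (Q ⧸ N') (Submodule.Quotient.mk x)) hle
    have he1 : Function.Injective e1 := by
      rw [← LinearMap.ker_eq_bot, Submodule.ker_liftQ_eq_bot']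
      apply le_antisymm hle
      intro a ha
      rw [LinearMap.mem_ker, LinearMap.toSpanSingleton_apply, ← Submodule.Quotient.mk_smul,
        Submodule.Quotient.mk_eq_zero] at ha
      exact (hmem a).2 ha
    have hrange : ∀ z ∈ LinearMap.ker h, r • z ∈ LinearMap.range e1 := by
      intro z hz
      obtain ⟨y, rfl⟩ := Submodule.Quotient.mk_surjective N' z
      have hy : y ∈ N'' := by
        have h1 : h (Submodule.Quotient.mk y) = 0 := hz
        have h2 : h (Submodule.Quotient.mk y) = Submodule.Quotient.mk y := rfl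
        rw [h2, Submodule.Quotient.mk_eq_zero] at h1
        exact h1
      obtain ⟨n, hn, w, hw, hnw⟩ := Submodule.mem_sup.1 (hr y hy)
      obtain ⟨a, rfl⟩ := Submodule.mem_span_singleton.1 hw
      refine ⟨Submodule.Quotient.mk a, ?_⟩
      show LinearMap.toSpanSingleton A (Q ⧸ N') (Submodule.Quotient.mk x) a = _
      rw [LinearMap.toSpanSingleton_apply, ← Submodule.Quotient.mk_smul, ← Submodule.Quotient.mk_smul,
        ← hnw]
      symm
      rw [Submodule.Quotient.eq]
      simpa using hn
    let μ : LinearMap.ker h →ₗ[A] LinearMap.range e1 :=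
      LinearMap.codRestrict (LinearMap.range e1)
        ((r • (LinearMap.id : Q ⧸ N' →ₗ[A] Q ⧸ N')).comp (LinearMap.ker h).subtype)
        (fun z => hrange z.1 z.2)
    have hμ : Function.Injective μ := by
      intro z z' hzz
      have h1 : r • z.1 = r • z'.1 := congrArg Subtype.val hzz
      apply Subtype.ext
      obtain ⟨y, hy⟩ := Submodule.Quotient.mk_surjective N' (z.1 - z'.1)
      have h2 : r • (z.1 - z'.1) = 0 := by rw [smul_sub, h1, sub_self]
      rw [← hy, ← Submodule.Quotient.mk_smul, Submodule.Quotient.mk_eq_zero] at h2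
      have h3 := hR r hrp y h2
      rw [← Submodule.Quotient.mk_eq_zero, hy] at h3
      exact sub_eq_zero.1 h3
    let θ : LinearMap.ker h →ₗ[A] A ⧸ p :=
      (LinearEquiv.ofInjective e1 he1).symm.toLinearMap.comp μ
    have hθ : Function.Injective θ := (LinearEquiv.ofInjective e1 he1).symm.injective.comp hμ
    have hL : SecNoeth (LinearMap.ker h) (EGA4.openCompl A J) := SecNoeth.of_injective θ hθ hp'
    exact SecNoeth.of_exact (LinearMap.ker h).subtype h (Submodule.subtype_injective _)
      (LinearMap.exact_subtype_ker_map h) hL hQ''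
  have h0 := key ⊥ (fun r hr x hx => by
    rw [Submodule.mem_bot] at hx ⊢
    exact hreg r hr x hx)
  exact SecNoeth.of_injective (Submodule.mkQ (⊥ : Submodule A Q))
    (by
      rw [← LinearMap.ker_eq_bot, Submodule.ker_mkQ]) h0

variable {M : Type u} [AddCommGroup M] [Module A M]

omit [IsNoetherianRing A] in
theorem secNoeth_quot_inf (U : Opens (PrimeSpectrum.Top A)) (N₁ N₂ : Submodule A M)
    (h₁ : SecNoeth (M ⧸ N₁) U) (h₂ : SecNoeth (M ⧸ N₂) U) : SecNoeth (M ⧸ (N₁ ⊓ N₂)) U := by
  let h : M ⧸ (N₁ ⊓ N₂) →ₗ[A] M ⧸ N₁ := Submodule.mapQ (N₁ ⊓ N₂) N₁ LinearMap.id (by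
    rw [Submodule.comap_id]; exact inf_le_left)
  let k : M ⧸ (N₁ ⊓ N₂) →ₗ[A] M ⧸ N₂ := Submodule.mapQ (N₁ ⊓ N₂) N₂ LinearMap.id (by
    rw [Submodule.comap_id]; exact inf_le_right)
  have hk : Function.Injective (k.comp (LinearMap.ker h).subtype) := by
    rw [← LinearMap.ker_eq_bot, LinearMap.ker_eq_bot']
    rintro ⟨z, hz⟩ hkz
    apply Subtype.ext
    obtain ⟨y, rfl⟩ := Submodule.Quotient.mk_surjective _ z
    have h1 : (Submodule.Quotient.mk y : M ⧸ N₁) = 0 := hz
    have h2 : (Submodule.Quotient.mk y : M ⧸ N₂) = 0 := hkz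
    rw [Submodule.Quotient.mk_eq_zero] at h1 h2
    exact (Submodule.Quotient.mk_eq_zero _).2 ⟨h1, h2⟩
  have hK : SecNoeth (LinearMap.ker h) U := SecNoeth.of_injective _ hk h₂
  exact SecNoeth.of_exact (LinearMap.ker h).subtype h (Submodule.subtype_injective _)
    (LinearMap.exact_subtype_ker_map h) hK h₁

omit [IsNoetherianRing A] in
theorem secNoeth_of_subsingleton' (U : Opens (PrimeSpectrum.Top A)) [Subsingleton M] : SecNoeth M U := by
  apply SecNoeth.of_subsingleton
  intro x
  refine ⟨fun z w => ?_⟩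
  have hz : ∀ z : Localizations M x.1, z = 0 := by
    intro z
    induction z using LocalizedModule.induction_on with
    | h m s => rw [Subsingleton.elim m 0, LocalizedModule.zero_mk]
  rw [hz z, hz w]

omit [IsNoetherianRing A] in
theorem secNoeth_quot_finsetInf (U : Opens (PrimeSpectrum.Top A)) (t : Finset (Submodule A M))
    (h : ∀ N ∈ t, SecNoeth (M ⧸ N) U) : SecNoeth (M ⧸ t.inf id) U := by
  classical
  induction t using Finset.induction_on with
  | empty =>
    rw [Finset.inf_empty]
    haveI : Subsingleton (M ⧸ (⊤ : Submodule A M)) := Submodule.Quotient.subsingleton_iff.2 rfl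
    exact secNoeth_of_subsingleton' U
  | insert a s ha ih =>
    rw [Finset.inf_insert]
    exact secNoeth_quot_inf U _ _ (h a (Finset.mem_insert_self a s))
      (ih fun N hN => h N (Finset.mem_insert_of_mem hN))

/-- **EGA IV 5.11.1, b ⇒ a** -/
theorem secNoeth_of_associatedPrimes [Module.Finite A M]
    (h : ∀ p ∈ associatedPrimes A M, ∀ [p.IsPrime], ¬ J ≤ p →
      SecNoeth (A ⧸ p) (EGA4.openCompl A J)) :
    SecNoeth M (EGA4.openCompl A J) := by
  haveI : IsNoetherian A M := isNoetherian_of_isNoetherianRing_of_finite A M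
  obtain ⟨t, ht⟩ := Submodule.IsLasker.exists_isMinimalPrimaryDecomposition (Submodule.isLasker A M) ⊥
  have h1 : ∀ N ∈ t, SecNoeth (M ⧸ N) (EGA4.openCompl A J) := by
    intro N hN
    haveI hprime : ((N.colon Set.univ).radical).IsPrime := (ht.primary hN).isPrime_radical_colon
    have hass : (N.colon Set.univ).radical ∈ associatedPrimes A M := ht.mem_associatedPrimes hN
    refine secNoeth_of_coprimary J (M ⧸ N) ((N.colon Set.univ).radical) ?_ ?_ (h _ hass)
    · intro r hr xbar hx
      obtain ⟨x, rfl⟩ := Submodule.Quotient.mk_surjective N xbar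
      rw [← Submodule.Quotient.mk_smul, Submodule.Quotient.mk_eq_zero] at hx
      rcases (ht.primary hN).mem_or_mem hx with h2 | h2
      · exact (Submodule.Quotient.mk_eq_zero _).2 h2
      · exact absurd h2 hr
    · intro r hr
      obtain ⟨k, hk⟩ := Ideal.mem_radical_iff.1 hr
      refine ⟨k, fun xbar => ?_⟩
      obtain ⟨x, rfl⟩ := Submodule.Quotient.mk_surjective N xbar
      rw [← Submodule.Quotient.mk_smul, Submodule.Quotient.mk_eq_zero]
      exact Submodule.mem_colon.1 hk x (Set.mem_univ x)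
  have h2 := secNoeth_quot_finsetInf (EGA4.openCompl A J) t h1
  rw [ht.inf_eq] at h2
  exact SecNoeth.of_injective (Submodule.mkQ (⊥ : Submodule A M))
    (by rw [← LinearMap.ker_eq_bot, Submodule.ker_mkQ]) h2

/-- **EGA IV 5.11.1, a ⇒ b** -/
theorem secNoeth_quot_of_mem_associatedPrimes (U : Opens (PrimeSpectrum.Top A)) (hM : SecNoeth M U)
    (p : Ideal A) (hp : p ∈ associatedPrimes A M) : SecNoeth (A ⧸ p) U := by
  obtain ⟨hprime, x, hx⟩ := (isAssociatedPrime_iff).1 hp
  have hmem : ∀ a : A, a ∈ p ↔ a • x = 0 := by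
    intro a
    rw [hx, Submodule.mem_colon_singleton, Submodule.mem_bot]
  have hle : p ≤ LinearMap.ker (LinearMap.toSpanSingleton A M x) := by
    intro a ha
    rw [LinearMap.mem_ker, LinearMap.toSpanSingleton_apply]
    exact (hmem a).1 ha
  refine SecNoeth.of_injective (Submodule.liftQ p (LinearMap.toSpanSingleton A M x) hle) ?_ hM
  rw [← LinearMap.ker_eq_bot, Submodule.ker_liftQ_eq_bot']
  apply le_antisymm hle
  intro a ha
  rw [LinearMap.mem_ker, LinearMap.toSpanSingleton_apply] at ha
  exact (hmem a).2 ha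

end Groth.Agent.Lib.Helper25.PushCompl
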