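import Mathlib
import Groth.Agent.Lib.Helper25.PushComplDev

set_option autoImplicit false
set_option backward.isDefEq.respectTransparency.types false
universe u
open AlgebraicGeometry StructureSheaf TopologicalSpace CategoryTheory Opposite

namespace Groth.Agent.Lib.Helper25.PushCompl

theorem span_compHom_eq {A R' X : Type*} [Ring A] [Ring R'] [AddCommGroup X] [Module R' X]
    (ι : A →+* R') (hι : Function.Surjective ι) (s : Set X) :
    letI : Module A X := Module.compHom X ι
    ((Submodule.span A s : Submodule A X) : Set X) = (Submodule.span R' s : Set X) := by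
  letI : Module A X := Module.compHom X ι
  ext y
  constructor
  · intro hy
    induction hy using Submodule.span_induction with
    | mem y hy => exact Submodule.subset_span hy
    | zero => exact (Submodule.span R' s).zero_mem
    | add y z _ _ hy hz => exact (Submodule.span R' s).add_mem hy hz
    | smul a y _ hy => exact (Submodule.span R' s).smul_mem (ι a) hy
  · intro hy
    induction hy using Submodule.span_induction with
    | mem y hy => exact Submodule.subset_span hy
    | zero => exact (Submodule.span A s).zero_mem
    | add y z _ _ hy hz => exact (Submodule.span A s).add_mem hy hz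
    | smul r y _ hy =>
      obtain ⟨a, rfl⟩ := hι r
      exact (Submodule.span A s).smul_mem a hy

theorem finite_compHom_iff {A R' X : Type*} [Ring A] [Ring R'] [AddCommGroup X] [Module R' X]
    (ι : A →+* R') (hι : Function.Surjective ι) :
    Module.Finite R' X ↔ @Module.Finite A X _ _ (Module.compHom X ι) := by
  letI : Module A X := Module.compHom X ι
  constructor
  · rintro ⟨s, hs⟩
    refine ⟨s, ?_⟩
    apply SetLike.coe_injective
    rw [span_compHom_eq ι hι, hs]
    rfl
  · rintro ⟨s, hs⟩
    refine ⟨s, ?_⟩
    apply SetLike.coe_injective
    rw [← span_compHom_eq ι hι, hs]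
    rfl

variable {A : Type u} [CommRing A] (J : Ideal A) (M : Type u) [AddCommGroup M] [Module A M]

/-- the canonical map from `A` to the global sections of `Spec A` -/
noncomputable def toTop : A →+* ((Spec (CommRingCat.of A)).ringCatSheaf.obj.obj (op ⊤)) :=
  algebraMap A (sectionsSubalgebra (R := A) A (⊤ : Opens (PrimeSpectrum.Top A)))

theorem toTop_surjective : Function.Surjective (toTop (A := A)) := by
  intro s
  obtain ⟨a, ha⟩ := (StructureSheaf.toOpenₗ_top_bijective (R := CommRingCat.of A) (M := A)).2 s
  refine ⟨a, ?_⟩
  rw [← ha]
  rfl

/-- the sections of `M~` over the complement of `V(J)`, with the `A`-module structure through the global sections,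
are the `A`-module `Sec M U` -/
noncomputable def secEquiv :
    letI : Module A ((ModuleCat.restrictScalars ((Spec (CommRingCat.of A)).ringCatSheaf.obj.map
        (homOfLE (le_top : EGA4.openCompl A J ≤ ⊤)).op).hom).obj
      ((EGA4.tildeOf A M).val.obj (op (EGA4.openCompl A J)))) := Module.compHom _ (toTop (A := A))
    ((ModuleCat.restrictScalars ((Spec (CommRingCat.of A)).ringCatSheaf.obj.map
        (homOfLE (le_top : EGA4.openCompl A J ≤ ⊤)).op).hom).obj
      ((EGA4.tildeOf A M).val.obj (op (EGA4.openCompl A J)))) ≃ₗ[A] Sec M (EGA4.openCompl A J) :=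
  letI : Module A ((ModuleCat.restrictScalars ((Spec (CommRingCat.of A)).ringCatSheaf.obj.map
        (homOfLE (le_top : EGA4.openCompl A J ≤ ⊤)).op).hom).obj
      ((EGA4.tildeOf A M).val.obj (op (EGA4.openCompl A J)))) := Module.compHom _ (toTop (A := A))
  { toFun := fun s => s
    invFun := fun s => s
    left_inv := fun _ => rfl
    right_inv := fun _ => rfl
    map_add' := fun _ _ => rfl
    map_smul' := fun a s => by
      apply Subtype.ext
      funext x
      show (algebraMap A (Localization.AtPrime x.1.asIdeal) a) • ((s : Sec M (EGA4.openCompl A J)).1 x) =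
        a • ((s : Sec M (EGA4.openCompl A J)).1 x)
      rw [algebraMap_smul] }

theorem isCoherentPushCompl_iff :
    EGA4.IsCoherentPushCompl A J M ↔ Module.Finite A (Sec M (EGA4.openCompl A J)) := by
  unfold EGA4.IsCoherentPushCompl
  rw [finite_compHom_iff toTop toTop_surjective]
  letI : Module A ((ModuleCat.restrictScalars ((Spec (CommRingCat.of A)).ringCatSheaf.obj.map
        (homOfLE (le_top : EGA4.openCompl A J ≤ ⊤)).op).hom).obj
      ((EGA4.tildeOf A M).val.obj (op (EGA4.openCompl A J)))) := Module.compHom _ (toTop (A := A))
  constructor
  · intro h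
    exact Module.Finite.equiv (secEquiv J M)
  · intro h
    exact Module.Finite.equiv (secEquiv J M).symm

end Groth.Agent.Lib.Helper25.PushCompl
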