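import Mathlib
import Groth.Agent.Lib.Helper25.PushComplIff

set_option autoImplicit false
set_option backward.isDefEq.respectTransparency.types false
set_option linter.style.haveILetI false
universe u
open AlgebraicGeometry StructureSheaf TopologicalSpace CategoryTheory Opposite

/-!
# helper25 — PushComplQuot: sections of `N~` for a module over a quotient ring, computed over either ring
(via the pushforward of `N~` along `Spec B ⟶ Spec A`), and EGA IV 5.11.1 (a ⇔ b).
-/

namespace Groth.Agent.Lib.Helper25.PushCompl

variable {R S : CommRingCat.{u}} (φ : R ⟶ S) (N : ModuleCat.{u} S)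

/-- the pushforward of `N~` -/
noncomputable abbrev pushT : (Spec R).Modules := (Scheme.Modules.pushforward (Spec.map φ)).obj (tilde N)

instance : IsIso (pushT φ N).fromTildeΓ := isIso_fromTildeΓ_pushforward φ (tilde N)

/-- sections of the pushforward -/
noncomputable def e2 (U : (Spec R).Opens) :
    (modulesSpecToSheaf.obj (pushT φ N)).presheaf.obj (op U) ≅
      (ModuleCat.restrictScalars φ.hom).obj
        ((modulesSpecToSheaf.obj (tilde N)).presheaf.obj (op ((Spec.map φ) ⁻¹ᵁ U))) :=
  ((sheafToPresheaf _ _).mapIso ((pushforwardCompModulesSpecToSheafIso φ).app (tilde N))).app (op U)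

/-- the module of global sections of the pushforward -/
noncomputable abbrev gam : ModuleCat.{u} R := (modulesSpecToSheaf.obj (pushT φ N)).presheaf.obj (op ⊤)

/-- sections of the tilde of the global sections -/
noncomputable def e1 (U : (Spec R).Opens) :
    (modulesSpecToSheaf.obj (tilde (gam φ N))).presheaf.obj (op U) ≅
      (modulesSpecToSheaf.obj (pushT φ N)).presheaf.obj (op U) :=
  ((sheafToPresheaf _ _).mapIso (modulesSpecToSheaf.mapIso (asIso (pushT φ N).fromTildeΓ))).app (op U)

/-- sections of a tilde are the concrete sections -/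
noncomputable def e3 (M : ModuleCat.{u} R) (U : (Spec R).Opens) :
    (modulesSpecToSheaf.obj (tilde M)).presheaf.obj (op U) ≅ ModuleCat.of R (Sec M U) :=
  (tilde.modulesSpecToSheafIso M).app (op U)

/-- the global sections of the pushforward are `N` -/
noncomputable def e0 : gam φ N ≅ (ModuleCat.restrictScalars φ.hom).obj N :=
  e2 φ N ⊤ ≪≫ (ModuleCat.restrictScalars φ.hom).mapIso (tilde.isoTop N).symm

/-- **sections of `N~` over the preimage of `U`, as an `R`-module** -/
noncomputable def pushSecIso (U : (Spec R).Opens) :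
    ModuleCat.of R (Sec ((ModuleCat.restrictScalars φ.hom).obj N) U) ≅
      (ModuleCat.restrictScalars φ.hom).obj (ModuleCat.of S (Sec N ((Spec.map φ) ⁻¹ᵁ U))) :=
  (e3 _ U).symm ≪≫
    ((sheafToPresheaf _ _).mapIso (modulesSpecToSheaf.mapIso
      ((tilde.functor R).mapIso (e0 φ N).symm))).app (op U) ≪≫
    e1 φ N U ≪≫ e2 φ N U ≪≫ (ModuleCat.restrictScalars φ.hom).mapIso (e3 N _)

theorem preimage_openCompl {A B : Type u} [CommRing A] [CommRing B] (f : A →+* B) (J : Ideal A) :
    (Spec.map (CommRingCat.ofHom f)) ⁻¹ᵁ (EGA4.openCompl A J) = EGA4.openCompl B (J.map f) := by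
  ext y
  show ¬ J ≤ (PrimeSpectrum.comap f y).asIdeal ↔ ¬ J.map f ≤ y.asIdeal
  rw [Ideal.map_le_iff_le_comap]
  rfl

/-- **sections of a module over a quotient ring, computed over either ring** -/
theorem finite_sec_iff_of_surjective {A B : Type u} [CommRing A] [CommRing B] [IsNoetherianRing A]
    (f : A →+* B) (hf : Function.Surjective f) (J : Ideal A)
    (N : Type u) [AddCommGroup N] [Module A N] [Module B N] (hsm : ∀ (a : A) (n : N), a • n = f a • n) :
    Module.Finite A (Sec (A := A) N (EGA4.openCompl A J)) ↔
      Module.Finite B (Sec (A := B) N (EGA4.openCompl B (J.map f))) := by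
  let φ : CommRingCat.of A ⟶ CommRingCat.of B := CommRingCat.ofHom f
  let NN : ModuleCat.{u} (CommRingCat.of B) := ModuleCat.of B N
  let N' : ModuleCat.{u} (CommRingCat.of A) := (ModuleCat.restrictScalars φ.hom).obj NN
  let ι : N →ₗ[A] N' :=
    { toFun := fun n => n
      map_add' := fun _ _ => rfl
      map_smul' := fun a n => hsm a n }
  let ι' : N' →ₗ[A] N :=
    { toFun := fun n => n
      map_add' := fun _ _ => rfl
      map_smul' := fun a n => (hsm a n).symm }
  have hι : Function.Injective ι := fun _ _ h => h
  have hι' : Function.Injective ι' := fun _ _ h => h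
  have h1 : Module.Finite A (Sec (A := A) N (EGA4.openCompl A J)) ↔
      Module.Finite A (Sec (A := A) N' (EGA4.openCompl A J)) := by
    constructor
    · intro h
      haveI : IsNoetherian A (Sec (A := A) N (EGA4.openCompl A J)) :=
        isNoetherian_of_isNoetherianRing_of_finite A _
      haveI : IsNoetherian A (Sec (A := A) N' (EGA4.openCompl A J)) :=
        SecNoeth.of_injective ι' hι' (U := EGA4.openCompl A J) this
      exact Module.IsNoetherian.finite A _
    · intro h
      haveI : IsNoetherian A (Sec (A := A) N' (EGA4.openCompl A J)) :=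
        isNoetherian_of_isNoetherianRing_of_finite A _
      haveI : IsNoetherian A (Sec (A := A) N (EGA4.openCompl A J)) :=
        SecNoeth.of_injective ι hι (U := EGA4.openCompl A J) this
      exact Module.IsNoetherian.finite A _
  have h2 : Module.Finite A (Sec (A := A) N' (EGA4.openCompl A J)) ↔
      Module.Finite A ((ModuleCat.restrictScalars φ.hom).obj (ModuleCat.of (CommRingCat.of B)
        (Sec (A := B) N ((Spec.map φ) ⁻¹ᵁ (EGA4.openCompl A J))))) := by
    have e := (pushSecIso φ NN (EGA4.openCompl A J)).toLinearEquiv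
    exact ⟨fun h => Module.Finite.equiv e, fun h => Module.Finite.equiv e.symm⟩
  have h3 : Module.Finite A ((ModuleCat.restrictScalars φ.hom).obj (ModuleCat.of (CommRingCat.of B)
        (Sec (A := B) N ((Spec.map φ) ⁻¹ᵁ (EGA4.openCompl A J))))) ↔
      Module.Finite B (Sec (A := B) N ((Spec.map φ) ⁻¹ᵁ (EGA4.openCompl A J))) :=
    (finite_compHom_iff f hf).symm
  rw [h1, h2, h3, preimage_openCompl f J]

theorem secNoeth_iff_finite {A : Type u} [CommRing A] [IsNoetherianRing A] (M : Type u) [AddCommGroup M]
    [Module A M] (U : Opens (PrimeSpectrum.Top A)) : SecNoeth M U ↔ Module.Finite A (Sec M U) :=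
  ⟨fun h => by
    haveI : IsNoetherian A (Sec M U) := h
    exact Module.IsNoetherian.finite A _,
   fun h => isNoetherian_of_isNoetherianRing_of_finite A _⟩

/-- `IsCoherentPushCompl` for the quotient ring `A ⧸ p`, in terms of sections over `Spec A` -/
theorem isCoherentPushCompl_quot_iff {A : Type u} [CommRing A] [IsNoetherianRing A] (J p : Ideal A) :
    EGA4.IsCoherentPushCompl (A ⧸ p) (J.map (Ideal.Quotient.mk p)) (A ⧸ p) ↔
      SecNoeth (A ⧸ p) (EGA4.openCompl A J) := by
  rw [isCoherentPushCompl_iff, secNoeth_iff_finite]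
  exact (finite_sec_iff_of_surjective (Ideal.Quotient.mk p) Ideal.Quotient.mk_surjective J (A ⧸ p)
    (fun a n => by rw [Algebra.smul_def]; rfl)).symm

/-- **EGA IV 5.11.1, a ⇔ b** -/
theorem isCoherentPushCompl_iff_components {A : Type u} [CommRing A] [IsNoetherianRing A] (J : Ideal A)
    (M : Type u) [AddCommGroup M] [Module A M] [Module.Finite A M] :
    EGA4.IsCoherentPushCompl A J M ↔
      ∀ p ∈ associatedPrimes A M, ¬ J ≤ p →
        EGA4.IsCoherentPushCompl (A ⧸ p) (J.map (Ideal.Quotient.mk p)) (A ⧸ p) := by
  rw [isCoherentPushCompl_iff, ← secNoeth_iff_finite]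
  constructor
  · intro h p hp _
    rw [isCoherentPushCompl_quot_iff]
    exact secNoeth_quot_of_mem_associatedPrimes _ h p hp
  · intro h
    refine secNoeth_of_associatedPrimes J fun p hp _ hJp => ?_
    rw [← isCoherentPushCompl_quot_iff]
    exact h p hp hJp

end Groth.Agent.Lib.Helper25.PushCompl
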