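/-
Lattice distance over a one-dimensional Noetherian domain (helper25).

Main results:
* `relLen`, `relLen_add`, `relLen_map`, `relLen_ne_top` : relative lengths of lattices;
* `dist`, `dist_add`, `dist_map` : the lattice distance and its additivity / equivariance;
* `chi`, `chi_comp`, `chi_indep` : the index `χ_M(φ) = d(M, φ M)`;
* `chi_stdLat_int` : for an integral matrix `P`, `χ(P) = ℓ(coker P)`;
* `chi_eq_ordZ_det` : `χ_M(φ) = ord (det φ)`.
-/
import Mathlib
set_option autoImplicit false
set_option linter.style.haveILetI false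
set_option linter.unusedSectionVars false
universe u v w
namespace Groth.Agent.Lib.Helper25.LatticeDist
variable {A : Type u} [CommRing A]

section Abstract
variable {X : Type v} [AddCommGroup X] [Module A X]

theorem length_quot_eq_add (Q N : Submodule A X) (h : Q ≤ N) :
    Module.length A (X ⧸ Q) =
      Module.length A (↥N ⧸ Q.submoduleOf N) + Module.length A (X ⧸ N) := by
  let f : (↥N ⧸ Q.submoduleOf N) →ₗ[A] X ⧸ Q :=
    Submodule.mapQ _ _ N.subtype (by intro x hx; exact hx)
  let g : (X ⧸ Q) →ₗ[A] X ⧸ N := Submodule.factor h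
  apply Module.length_eq_add_of_exact f g
  · rw [← LinearMap.ker_eq_bot, LinearMap.ker_eq_bot']
    intro x hx
    obtain ⟨x, rfl⟩ := Submodule.Quotient.mk_surjective _ x
    have : (x : X) ∈ Q := by
      have h1 : f (Submodule.Quotient.mk x) = Submodule.Quotient.mk (x : X) := rfl
      rw [h1, Submodule.Quotient.mk_eq_zero] at hx
      exact hx
    rw [Submodule.Quotient.mk_eq_zero]
    exact this
  · exact Submodule.factor_surjective h
  · intro y
    constructor
    · intro hy
      obtain ⟨y, rfl⟩ := Submodule.Quotient.mk_surjective _ y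
      have hy' : Submodule.Quotient.mk (p := N) y = 0 := hy
      rw [Submodule.Quotient.mk_eq_zero] at hy'
      exact ⟨Submodule.Quotient.mk ⟨y, hy'⟩, rfl⟩
    · rintro ⟨x, rfl⟩
      obtain ⟨x, rfl⟩ := Submodule.Quotient.mk_surjective _ x
      show Submodule.Quotient.mk (p := N) (x : X) = 0
      rw [Submodule.Quotient.mk_eq_zero]
      exact x.2

end Abstract

section Rel
variable {V : Type v} [AddCommGroup V] [Module A V]

/-- relative length `ℓ(M / (N ∩ M))`. -/
noncomputable def relLen (N M : Submodule A V) : ℕ∞ :=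
  Module.length A (↥M ⧸ N.submoduleOf M)

theorem relLen_self (M : Submodule A V) : relLen M M = 0 := by
  unfold relLen
  rw [Module.length_eq_zero_iff, Submodule.submoduleOf_self]
  infer_instance

theorem relLen_add {Q N M : Submodule A V} (hQN : Q ≤ N) (hNM : N ≤ M) :
    relLen Q M = relLen Q N + relLen N M := by
  unfold relLen
  have h1 : Q.submoduleOf M ≤ N.submoduleOf M := by
    intro x hx
    exact hQN hx
  rw [length_quot_eq_add (Q.submoduleOf M) (N.submoduleOf M) h1]
  congr 1
  apply LinearEquiv.length_eq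
  refine Submodule.Quotient.equiv _ _ (Submodule.submoduleOfEquivOfLe hNM) ?_
  ext x
  constructor
  · rintro ⟨y, hy, rfl⟩
    exact hy
  · intro hx
    refine ⟨(Submodule.submoduleOfEquivOfLe hNM).symm x, ?_, by simp⟩
    show ((((Submodule.submoduleOfEquivOfLe hNM).symm x : ↥(N.submoduleOf M)) : ↥M) : V) ∈ Q
    have : ((((Submodule.submoduleOfEquivOfLe hNM).symm x : ↥(N.submoduleOf M)) : ↥M) : V) = x := by
      conv_rhs => rw [← (Submodule.submoduleOfEquivOfLe hNM).apply_symm_apply x]
      rfl
    rw [this]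
    exact hx

theorem relLen_map (φ : V ≃ₗ[A] V) (N M : Submodule A V) :
    relLen (N.map (φ : V →ₗ[A] V)) (M.map (φ : V →ₗ[A] V)) = relLen N M := by
  unfold relLen
  symm
  apply LinearEquiv.length_eq
  refine Submodule.Quotient.equiv _ _ (φ.submoduleMap M) ?_
  ext x
  constructor
  · rintro ⟨y, hy, rfl⟩
    exact ⟨y, hy, rfl⟩
  · rintro ⟨z, hz, hzx⟩
    obtain ⟨⟨y, hyM⟩, rfl⟩ := (φ.submoduleMap M).surjective x
    refine ⟨⟨y, hyM⟩, ?_, rfl⟩
    have : φ z = φ y := hzx
    have hzy : z = y := φ.injective this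
    show y ∈ N
    rw [← hzy]; exact hz

end Rel

theorem length_ne_top_of_torsion [IsNoetherianRing A] [Ring.KrullDimLE 1 A]
    {X : Type v} [AddCommGroup X] [Module A X] [Module.Finite A X] (a : A)
    (ha : a ∈ nonZeroDivisors A) (h : ∀ x : X, a • x = 0) : Module.length A X ≠ ⊤ := by
  have hT : Module.IsTorsionBy A X a := fun x => h x
  letI : Module (A ⧸ Ideal.span {a}) X := hT.module
  haveI : IsScalarTower A (A ⧸ Ideal.span {a}) X :=
    Module.IsTorsionBySet.isScalarTower _
  have hfl := isFiniteLength_quotient_span_singleton A ha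
  rw [isFiniteLength_iff_isNoetherian_isArtinian] at hfl
  haveI : IsArtinianRing (A ⧸ Ideal.span {a}) := by
    have := hfl.2
    exact isArtinian_of_tower A this
  haveI : Module.Finite (A ⧸ Ideal.span {a}) X := Module.Finite.of_restrictScalars_finite A _ _
  rw [Module.length_eq_of_surjective (R := A ⧸ Ideal.span {a}) (S := A) Ideal.Quotient.mk_surjective]
  exact Module.length_ne_top

section Lattice
variable [IsDomain A] [IsNoetherianRing A] [Ring.KrullDimLE 1 A]
variable {K : Type w} [Field K] [Algebra A K] [IsFractionRing A K]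
variable {V : Type v} [AddCommGroup V] [Module K V] [Module A V] [IsScalarTower A K V]

omit [IsNoetherianRing A] [Ring.KrullDimLE 1 A] in
theorem exists_smul_mem (N : Submodule A V) (hN : Submodule.span K (N : Set V) = ⊤) (x : V) :
    ∃ a : A, a ≠ 0 ∧ a • x ∈ N := by
  have hx : x ∈ Submodule.span K (N : Set V) := by rw [hN]; trivial
  induction hx using Submodule.span_induction with
  | mem x hx => exact ⟨1, one_ne_zero, by simpa using hx⟩
  | zero => exact ⟨1, one_ne_zero, by simp⟩
  | add x y _ _ hx hy =>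
    obtain ⟨a, ha, hax⟩ := hx
    obtain ⟨b, hb, hby⟩ := hy
    refine ⟨a * b, mul_ne_zero ha hb, ?_⟩
    rw [smul_add]
    refine N.add_mem ?_ ?_
    · rw [mul_comm, mul_smul]; exact N.smul_mem b hax
    · rw [mul_smul]; exact N.smul_mem a hby
  | smul c x _ hx =>
    obtain ⟨a, ha, hax⟩ := hx
    obtain ⟨r, s, hs, rfl⟩ := IsFractionRing.div_surjective (A := A) c
    refine ⟨s * a, mul_ne_zero (nonZeroDivisors.ne_zero hs) ha, ?_⟩
    have hs0 : algebraMap A K s ≠ 0 := by
      simpa using (nonZeroDivisors.ne_zero hs)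
    have : (s * a) • ((algebraMap A K r / algebraMap A K s) • x) = r • (a • x) := by
      rw [← algebraMap_smul K (s * a), ← algebraMap_smul K r, ← algebraMap_smul K a,
        smul_smul, smul_smul]
      congr 1
      rw [map_mul]; field_simp
    rw [this]; exact N.smul_mem r hax

omit [IsNoetherianRing A] [Ring.KrullDimLE 1 A] in
theorem exists_smul_le (M N : Submodule A V) (hM : M.FG)
    (hN : Submodule.span K (N : Set V) = ⊤) :
    ∃ a : A, a ≠ 0 ∧ ∀ x ∈ M, a • x ∈ N := by
  refine Submodule.fg_induction (R := A) (M := V)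
    (motive := fun M _ => ∃ a : A, a ≠ 0 ∧ ∀ x ∈ M, a • x ∈ N) ?_ ?_ M hM
  · intro x
    obtain ⟨a, ha, hax⟩ := exists_smul_mem (K := K) N hN x
    refine ⟨a, ha, ?_⟩
    intro y hy
    obtain ⟨c, rfl⟩ := Submodule.mem_span_singleton.1 hy
    rw [smul_comm]; exact N.smul_mem c hax
  · rintro M₁ M₂ _ _ ⟨a, ha, h1⟩ ⟨b, hb, h2⟩
    refine ⟨a * b, mul_ne_zero ha hb, ?_⟩
    intro x hx
    obtain ⟨y, hy, z, hz, rfl⟩ := Submodule.mem_sup.1 hx
    rw [smul_add]
    refine N.add_mem ?_ ?_
    · rw [mul_comm, mul_smul]; exact N.smul_mem b (h1 y hy)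
    · rw [mul_smul]; exact N.smul_mem a (h2 z hz)

omit [Ring.KrullDimLE 1 A] in
theorem isLattice_inf (M N : Submodule A V) (hM : Submodule.IsLattice K M)
    (hN : Submodule.IsLattice K N) : Submodule.IsLattice K (M ⊓ N) where
  fg := by
    have : Module.Finite A ↥M := Module.Finite.iff_fg.2 hM.fg
    have : IsNoetherian A ↥M := inferInstance
    have : IsNoetherian A ↥(M ⊓ N) := isNoetherian_of_le inf_le_left
    rw [← Module.Finite.iff_fg]
    infer_instance
  span_eq_top := by
    obtain ⟨a, ha, h⟩ := exists_smul_le (K := K) M N hM.fg hN.span_eq_top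
    rw [eq_top_iff, ← hM.span_eq_top]
    apply Submodule.span_le.2
    intro x hx
    have hmem : a • x ∈ M ⊓ N := ⟨M.smul_mem a hx, h x hx⟩
    have ha0 : algebraMap A K a ≠ 0 := by
      simpa using ha
    have : x = (algebraMap A K a)⁻¹ • (a • x) := by
      rw [← algebraMap_smul K a, smul_smul, inv_mul_cancel₀ ha0, one_smul]
    rw [this]
    exact Submodule.smul_mem _ _ (Submodule.subset_span hmem)

theorem relLen_ne_top {Q M : Submodule A V} (hQ : Submodule.IsLattice K Q)
    (hM : Submodule.IsLattice K M) : relLen Q M ≠ ⊤ := by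
  obtain ⟨a, ha, h⟩ := exists_smul_le (K := K) M Q hM.fg hQ.span_eq_top
  have : Module.Finite A ↥M := Module.Finite.iff_fg.2 hM.fg
  refine length_ne_top_of_torsion a (mem_nonZeroDivisors_of_ne_zero ha) ?_
  intro x
  obtain ⟨m, rfl⟩ := Submodule.Quotient.mk_surjective _ x
  rw [← Submodule.Quotient.mk_smul, Submodule.Quotient.mk_eq_zero]
  exact h m m.2

/-- lattice distance -/
noncomputable def dist (M N : Submodule A V) : ℤ :=
  ((relLen (M ⊓ N) M).toNat : ℤ) - ((relLen (M ⊓ N) N).toNat : ℤ)

theorem dist_eq_of_le {M N Q : Submodule A V} (hM : Submodule.IsLattice K M)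
    (hN : Submodule.IsLattice K N) (hQ : Submodule.IsLattice K Q) (hQM : Q ≤ M) (hQN : Q ≤ N) :
    dist M N = ((relLen Q M).toNat : ℤ) - ((relLen Q N).toNat : ℤ) := by
  have hI := isLattice_inf M N hM hN
  have hle : Q ≤ M ⊓ N := le_inf hQM hQN
  rw [relLen_add hle inf_le_left, relLen_add hle inf_le_right,
    ENat.toNat_add (relLen_ne_top (K := K) hQ hI) (relLen_ne_top (K := K) hI hM),
    ENat.toNat_add (relLen_ne_top (K := K) hQ hI) (relLen_ne_top (K := K) hI hN)]
  unfold dist
  push_cast
  ring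

theorem dist_add {M₁ M₂ M₃ : Submodule A V} (h₁ : Submodule.IsLattice K M₁)
    (h₂ : Submodule.IsLattice K M₂) (h₃ : Submodule.IsLattice K M₃) :
    dist M₁ M₃ = dist M₁ M₂ + dist M₂ M₃ := by
  have hQ : Submodule.IsLattice K (M₁ ⊓ M₂ ⊓ M₃) :=
    isLattice_inf _ _ (isLattice_inf _ _ h₁ h₂) h₃
  have l1 : M₁ ⊓ M₂ ⊓ M₃ ≤ M₁ := inf_le_left.trans inf_le_left
  have l2 : M₁ ⊓ M₂ ⊓ M₃ ≤ M₂ := inf_le_left.trans inf_le_right
  have l3 : M₁ ⊓ M₂ ⊓ M₃ ≤ M₃ := inf_le_right
  rw [dist_eq_of_le h₁ h₃ hQ l1 l3, dist_eq_of_le h₁ h₂ hQ l1 l2, dist_eq_of_le h₂ h₃ hQ l2 l3]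
  ring

omit [IsDomain A] [IsNoetherianRing A] [Ring.KrullDimLE 1 A] [IsFractionRing A K] in
theorem dist_self (M : Submodule A V) : dist M M = 0 := by
  unfold dist; simp

omit [IsDomain A] [IsNoetherianRing A] [Ring.KrullDimLE 1 A] [IsFractionRing A K] in
theorem dist_comm (M N : Submodule A V) : dist M N = - dist N M := by
  unfold dist; rw [inf_comm]; ring

omit [IsDomain A] [IsNoetherianRing A] [Ring.KrullDimLE 1 A] [IsFractionRing A K] in
theorem dist_map (φ : V ≃ₗ[K] V) (M N : Submodule A V) :
    dist (M.map (φ.toLinearMap.restrictScalars A)) (N.map (φ.toLinearMap.restrictScalars A)) =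
      dist M N := by
  unfold dist
  have h : M.map (φ.toLinearMap.restrictScalars A) ⊓ N.map (φ.toLinearMap.restrictScalars A) =
      (M ⊓ N).map (φ.toLinearMap.restrictScalars A) :=
    (Submodule.map_inf (φ.toLinearMap.restrictScalars A) φ.injective).symm
  rw [h]
  have e1 := relLen_map (φ.restrictScalars A) (M ⊓ N) M
  have e2 := relLen_map (φ.restrictScalars A) (M ⊓ N) N
  have hc : ((φ.restrictScalars A : V ≃ₗ[A] V) : V →ₗ[A] V) = φ.toLinearMap.restrictScalars A := rfl
  rw [hc] at e1 e2
  rw [e1, e2]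

omit [IsDomain A] [IsNoetherianRing A] [Ring.KrullDimLE 1 A] [IsFractionRing A K] in
theorem isLattice_map (φ : V ≃ₗ[K] V) (M : Submodule A V) (hM : Submodule.IsLattice K M) :
    Submodule.IsLattice K (M.map (φ.toLinearMap.restrictScalars A)) where
  fg := hM.fg.map _
  span_eq_top := by
    have : ((M.map (φ.toLinearMap.restrictScalars A) : Submodule A V) : Set V) =
        φ.toLinearMap '' (M : Set V) := by
      ext x; simp
    rw [this, ← Submodule.map_span, hM.span_eq_top, Submodule.map_top, LinearMap.range_eq_top]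
    exact φ.surjective


/-- The index `χ_M(f) = d(M, f M)`. -/
noncomputable def chi (M : Submodule A V) (f : V →ₗ[K] V) : ℤ :=
  dist M (M.map (f.restrictScalars A))

theorem chi_indep {M M' : Submodule A V} (hM : Submodule.IsLattice K M)
    (hM' : Submodule.IsLattice K M') (φ : V ≃ₗ[K] V) :
    chi M φ.toLinearMap = chi M' φ.toLinearMap := by
  unfold chi
  have hφM := isLattice_map φ M hM
  have hφM' := isLattice_map φ M' hM'
  have e1 := dist_add hM' hM hφM'
  have e2 := dist_add hM hφM hφM'
  have e3 := dist_map φ M M'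
  have e4 := dist_comm M' M
  rw [e1, e2, e3, e4]; ring

theorem chi_comp {M : Submodule A V} (hM : Submodule.IsLattice K M) (φ ψ : V ≃ₗ[K] V) :
    chi M (φ.toLinearMap ∘ₗ ψ.toLinearMap) = chi M φ.toLinearMap + chi M ψ.toLinearMap := by
  unfold chi
  have hφM := isLattice_map φ M hM
  have hψM := isLattice_map ψ M hM
  have hφψM := isLattice_map φ _ hψM
  have hmap : M.map ((φ.toLinearMap ∘ₗ ψ.toLinearMap).restrictScalars A) =
      (M.map (ψ.toLinearMap.restrictScalars A)).map (φ.toLinearMap.restrictScalars A) := by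
    rw [← Submodule.map_comp]; rfl
  rw [hmap, dist_add hM hφM hφψM, dist_map]

/-- integer-valued order function on `K`. -/
noncomputable def ordZ (A : Type u) [CommRing A] [IsDomain A] [IsNoetherianRing A]
    [Ring.KrullDimLE 1 A] {K : Type w} [Field K] [Algebra A K] [IsFractionRing A K] (x : K) : ℤ :=
  WithZero.recZeroCoe (motive := fun _ => ℤ) 0 (fun z => Multiplicative.toAdd z)
    (Ring.ordFrac A x)

theorem ordZ_mul {x y : K} (hx : x ≠ 0) (hy : y ≠ 0) :
    ordZ A (x * y) = ordZ A x + ordZ A y := by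
  unfold ordZ
  rw [map_mul]
  have h1 : Ring.ordFrac A x ≠ 0 := (map_ne_zero _).2 hx
  have h2 : Ring.ordFrac A y ≠ 0 := (map_ne_zero _).2 hy
  obtain ⟨u, hu⟩ := WithZero.ne_zero_iff_exists.1 h1
  obtain ⟨v, hv⟩ := WithZero.ne_zero_iff_exists.1 h2
  rw [← hu, ← hv, ← WithZero.coe_mul]
  simp only [WithZero.recZeroCoe_coe, toAdd_mul]

theorem ordZ_one : ordZ A (1 : K) = 0 := by
  unfold ordZ
  rw [map_one, ← WithZero.coe_one]
  simp only [WithZero.recZeroCoe_coe, toAdd_one]

theorem ordZ_algebraMap {a : A} (ha : a ≠ 0) :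
    ordZ A (algebraMap A K a) = ((Ring.ord A a).toNat : ℤ) := by
  unfold ordZ
  have hnz : a ∈ nonZeroDivisors A := mem_nonZeroDivisors_of_ne_zero ha
  have hfin : Ring.ord A a ≠ ⊤ := Ring.ord_ne_top hnz
  obtain ⟨n, hn⟩ := ENat.ne_top_iff_exists.1 hfin
  rw [Ring.ordFrac_eq_ord A ha, Ring.ordMonoidWithZeroHom_eq_coe A hnz hn.symm, ← hn]
  simp


section Coord
variable {ι : Type} [Fintype ι] [DecidableEq ι] (b : Module.Basis ι K V)

/-- the standard lattice spanned by a basis -/
abbrev stdLat : Submodule A V := Submodule.span A (Set.range b)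

omit [IsDomain A] [IsNoetherianRing A] [Ring.KrullDimLE 1 A] [IsFractionRing A K] [DecidableEq ι] in
theorem isLattice_stdLat : Submodule.IsLattice K (stdLat (A := A) b) where
  fg := Submodule.fg_span (Set.finite_range b)
  span_eq_top := by
    rw [Submodule.span_span_of_tower, b.span_eq]

/-- the coordinate isomorphism `A^ι ≃ stdLat b`. -/
noncomputable def stdEquiv : (ι → A) ≃ₗ[A] ↥(stdLat (A := A) b) :=
  (b.restrictScalars A).equivFun.symm

theorem stdEquiv_coe (x : ι → A) : ((stdEquiv b x : ↥(stdLat (A := A) b)) : V) = ∑ i, x i • b i := by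
  unfold stdEquiv
  rw [Module.Basis.equivFun_symm_apply]
  simp [Module.Basis.restrictScalars_apply]

theorem stdEquiv_toLin (P : Matrix ι ι A) (x : ι → A) :
    ((stdEquiv b (Matrix.toLin' P x) : ↥(stdLat (A := A) b)) : V) =
      Matrix.toLin b b (P.map (algebraMap A K)) ((stdEquiv b x : ↥(stdLat (A := A) b)) : V) := by
  rw [stdEquiv_coe, stdEquiv_coe, map_sum]
  simp only [Matrix.toLin'_apply, Matrix.mulVec, dotProduct]
  have : ∀ j, Matrix.toLin b b (P.map (algebraMap A K)) (x j • b j) =
      ∑ i, (x j * P i j) • b i := by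
    intro j
    rw [LinearMap.map_smul_of_tower, Matrix.toLin_self, Finset.smul_sum]
    refine Finset.sum_congr rfl fun i _ => ?_
    rw [Matrix.map_apply, algebraMap_smul, smul_smul]
  simp only [this]
  rw [Finset.sum_comm]
  refine Finset.sum_congr rfl fun i _ => ?_
  rw [Finset.sum_smul]
  refine Finset.sum_congr rfl fun j _ => ?_
  rw [mul_comm]

theorem chi_stdLat_int (P : Matrix ι ι A) :
    chi (stdLat (A := A) b) (Matrix.toLin b b (P.map (algebraMap A K))) =
      ((Module.length A ((ι → A) ⧸ LinearMap.range (Matrix.toLin' P))).toNat : ℤ) := by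
  set f := Matrix.toLin b b (P.map (algebraMap A K)) with hf
  set M₀ := stdLat (A := A) b with hM₀
  have hle : M₀.map (f.restrictScalars A) ≤ M₀ := by
    rintro _ ⟨y, hy, rfl⟩
    have : y = ((stdEquiv b ((stdEquiv b).symm ⟨y, hy⟩) : ↥(stdLat (A := A) b)) : V) := by
      rw [LinearEquiv.apply_symm_apply]
    rw [this]
    show f _ ∈ M₀
    rw [hf, ← stdEquiv_toLin]
    exact Subtype.property _
  unfold chi dist
  rw [inf_eq_right.2 hle, relLen_self]
  simp only [ENat.toNat_zero, Nat.cast_zero, sub_zero]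
  congr 2
  unfold relLen
  symm
  apply LinearEquiv.length_eq
  refine Submodule.Quotient.equiv _ _ (stdEquiv b) ?_
  ext y
  constructor
  · rintro ⟨_, ⟨x, rfl⟩, rfl⟩
    show ((stdEquiv b (Matrix.toLin' P x) : ↥(stdLat (A := A) b)) : V) ∈ M₀.map (f.restrictScalars A)
    rw [stdEquiv_toLin]
    exact ⟨_, Subtype.property _, rfl⟩
  · rintro ⟨z, hz, hzy⟩
    refine ⟨Matrix.toLin' P ((stdEquiv b).symm ⟨z, hz⟩), ⟨_, rfl⟩, ?_⟩
    apply Subtype.ext
    rw [LinearEquiv.coe_coe, stdEquiv_toLin, LinearEquiv.apply_symm_apply]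
    exact hzy


omit [IsDomain A] [IsNoetherianRing A] [Ring.KrullDimLE 1 A] in
theorem length_coker_diagonal (a : ι → A) :
    Module.length A ((ι → A) ⧸ LinearMap.range (Matrix.toLin' (Matrix.diagonal a))) =
      ∑ i, Ring.ord A (a i) := by
  have hr : LinearMap.range (Matrix.toLin' (Matrix.diagonal a)) =
      Submodule.pi Set.univ (fun i => (Ideal.span {a i} : Submodule A A)) := by
    ext x
    simp only [LinearMap.mem_range, Matrix.toLin'_apply,
      Submodule.mem_pi, Set.mem_univ, forall_true_left]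
    constructor
    · rintro ⟨y, rfl⟩ i
      exact Ideal.mem_span_singleton.2 ⟨y i, Matrix.mulVec_diagonal a y i⟩
    · intro h
      choose y hy using fun i => Ideal.mem_span_singleton.1 (h i)
      exact ⟨y, funext fun i => (Matrix.mulVec_diagonal a y i).trans (hy i).symm⟩
  rw [hr, (Submodule.quotientPi (fun i => (Ideal.span {a i} : Submodule A A))).length_eq,
    Module.length_pi_of_fintype]
  rfl

omit [IsDomain A] [IsNoetherianRing A] [Ring.KrullDimLE 1 A] in
theorem length_coker_of_isUnit_det (P : Matrix ι ι A) (hP : IsUnit P.det) :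
    Module.length A ((ι → A) ⧸ LinearMap.range (Matrix.toLin' P)) = 0 := by
  rw [Module.length_eq_zero_iff, Submodule.Quotient.subsingleton_iff, LinearMap.range_eq_top]
  have hu : IsUnit P := (Matrix.isUnit_iff_isUnit_det P).2 hP
  obtain ⟨u, rfl⟩ := hu
  intro y
  refine ⟨Matrix.toLin' (↑u⁻¹ : Matrix ι ι A) y, ?_⟩
  rw [← LinearMap.comp_apply, ← Matrix.toLin'_mul, Units.mul_inv, Matrix.toLin'_one]
  rfl

omit [Ring.KrullDimLE 1 A] [IsNoetherianRing A] in
theorem ord_prod (s : Finset ι) (a : ι → A) (ha : ∀ i ∈ s, a i ≠ 0) :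
    Ring.ord A (∏ i ∈ s, a i) = ∑ i ∈ s, Ring.ord A (a i) := by
  classical
  induction s using Finset.induction_on with
  | empty => simp
  | insert i s his ih =>
    rw [Finset.prod_insert his, Finset.sum_insert his, Ring.ord_mul', ih]
    · intro j hj; exact ha j (Finset.mem_insert_of_mem hj)
    · exact mem_nonZeroDivisors_of_ne_zero (ha i (Finset.mem_insert_self i s))


/-- the linear equivalence attached to a matrix with nonzero determinant -/
noncomputable def eqOf (N : Matrix ι ι K) (hN : N.det ≠ 0) : V ≃ₗ[K] V :=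
  LinearEquiv.ofIsUnitDet (f := Matrix.toLin b b N) (v := b) (v' := b)
    (by rw [LinearMap.toMatrix_toLin]; exact isUnit_iff_ne_zero.2 hN)

omit [IsDomain A] [IsNoetherianRing A] [Ring.KrullDimLE 1 A] [IsFractionRing A K] [Module A V] [IsScalarTower A K V] [Algebra A K] in
theorem eqOf_toLinearMap (N : Matrix ι ι K) (hN : N.det ≠ 0) :
    (eqOf b N hN).toLinearMap = Matrix.toLin b b N := by
  ext x; rfl

theorem chi_mul {M : Submodule A V} (hM : Submodule.IsLattice K M) (N₁ N₂ : Matrix ι ι K)
    (h₁ : N₁.det ≠ 0) (h₂ : N₂.det ≠ 0) :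
    chi M (Matrix.toLin b b (N₁ * N₂)) =
      chi M (Matrix.toLin b b N₁) + chi M (Matrix.toLin b b N₂) := by
  rw [Matrix.toLin_mul b b b, ← eqOf_toLinearMap b N₁ h₁, ← eqOf_toLinearMap b N₂ h₂]
  exact chi_comp hM _ _

theorem chi_int_diagonal (a : ι → A) (ha : ∀ i, a i ≠ 0) :
    chi (stdLat (A := A) b) (Matrix.toLin b b (Matrix.diagonal fun i => algebraMap A K (a i))) =
      ordZ A (Matrix.diagonal fun i => algebraMap A K (a i)).det := by
  have hmap : (Matrix.diagonal fun i => algebraMap A K (a i)) =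
      (Matrix.diagonal a).map (algebraMap A K) := by
    rw [Matrix.diagonal_map (map_zero _)]
  rw [Matrix.det_diagonal, hmap, chi_stdLat_int, length_coker_diagonal,
    ← ord_prod Finset.univ a (fun i _ => ha i), ← map_prod, ordZ_algebraMap]
  exact Finset.prod_ne_zero_iff.2 fun i _ => ha i

theorem chi_diagonal (D : ι → K) (hD : (Matrix.diagonal D).det ≠ 0) :
    chi (stdLat (A := A) b) (Matrix.toLin b b (Matrix.diagonal D)) =
      ordZ A (Matrix.diagonal D).det := by
  classical
  have hDi : ∀ i, D i ≠ 0 := by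
    rw [Matrix.det_diagonal] at hD
    exact fun i => (Finset.prod_ne_zero_iff.1 hD) i (Finset.mem_univ i)
  obtain ⟨s, hs⟩ := IsLocalization.exist_integer_multiples_of_finset (nonZeroDivisors A)
    (Finset.univ.image D)
  have hs0 : (s : A) ≠ 0 := nonZeroDivisors.ne_zero s.2
  have hsK : algebraMap A K (s : A) ≠ 0 := by simp [hs0]
  have hex : ∀ i, ∃ a : A, algebraMap A K a = (s : A) • D i := fun i =>
    hs (D i) (Finset.mem_image_of_mem D (Finset.mem_univ i))
  choose a ha using hex
  have ha' : ∀ i, algebraMap A K (a i) = D i * algebraMap A K (s : A) := by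
    intro i; rw [ha i, Algebra.smul_def, mul_comm]
  have ha0 : ∀ i, a i ≠ 0 := by
    intro i h0
    have := ha' i
    rw [h0, map_zero] at this
    exact mul_ne_zero (hDi i) hsK this.symm
  have hmul : Matrix.diagonal D * Matrix.diagonal (fun _ : ι => algebraMap A K (s : A)) =
      Matrix.diagonal fun i => algebraMap A K (a i) := by
    rw [Matrix.diagonal_mul_diagonal]
    congr 1
    funext i
    exact (ha' i).symm
  have hdetS : (Matrix.diagonal (fun _ : ι => algebraMap A K (s : A))).det ≠ 0 := by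
    rw [Matrix.det_diagonal]
    exact Finset.prod_ne_zero_iff.2 fun i _ => hsK
  have e1 := chi_mul b (isLattice_stdLat (A := A) b) _ _ hD hdetS
  rw [hmul, chi_int_diagonal b a ha0, chi_int_diagonal b (fun _ => (s : A)) (fun _ => hs0),
    ← hmul, Matrix.det_mul, ordZ_mul hD hdetS] at e1
  linarith


omit [IsDomain A] [IsNoetherianRing A] [Ring.KrullDimLE 1 A] [IsFractionRing A K] [Module A V] [IsScalarTower A K V] [Algebra A K] in
theorem toLin_transvection_apply (i j : ι) (c : K) (k : ι) :
    Matrix.toLin b b (Matrix.transvection i j c) (b k) =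
      b k + (if j = k then c else 0) • b i := by
  rw [Matrix.toLin_self]
  simp only [Matrix.transvection, Matrix.add_apply, Matrix.one_apply, Matrix.single_apply,
    add_smul, Finset.sum_add_distrib, ite_smul, one_smul, zero_smul]
  congr 1
  · simp
  · by_cases hjk : j = k
    · simp [hjk]
    · simp [hjk]

theorem transvection_map_le (i j : ι) (hij : i ≠ j) (r s : A) (hs : s ≠ 0) :
    let u : ι → Kˣ := fun k => if k = i then
      Units.mk0 (algebraMap A K s)⁻¹ (inv_ne_zero (by simpa using hs)) else 1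
    (stdLat (A := A) (b.unitsSMul u)).map ((Matrix.toLin b b (Matrix.transvection i j
      (algebraMap A K r / algebraMap A K s))).restrictScalars A) ≤ stdLat (A := A) (b.unitsSMul u) := by
  intro u
  have hsK : algebraMap A K s ≠ 0 := by simpa using hs
  rw [Submodule.map_span_le]
  rintro _ ⟨k, rfl⟩
  show Matrix.toLin b b _ ((b.unitsSMul u) k) ∈ _
  rw [Module.Basis.unitsSMul_apply, Units.smul_def, map_smul, toLin_transvection_apply, smul_add]
  refine Submodule.add_mem _ ?_ ?_
  · have : (u k : K) • b k = (b.unitsSMul u) k := by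
      rw [Module.Basis.unitsSMul_apply, Units.smul_def]
    rw [this]
    exact Submodule.subset_span ⟨k, rfl⟩
  · by_cases hjk : j = k
    · subst hjk
      have huj : (u j : K) = 1 := by
        simp only [u]; rw [if_neg (Ne.symm hij)]; rfl
      have hui : (u i : K) = (algebraMap A K s)⁻¹ := by
        simp only [u, if_true]; rfl
      have : (u j : K) • (if j = j then algebraMap A K r / algebraMap A K s else 0) • b i =
          r • (b.unitsSMul u) i := by
        rw [if_pos rfl, huj, one_smul, Module.Basis.unitsSMul_apply, Units.smul_def, hui,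
          ← algebraMap_smul K r, smul_smul, div_eq_mul_inv]
      rw [this]
      exact Submodule.smul_mem _ _ (Submodule.subset_span ⟨i, rfl⟩)
    · rw [if_neg hjk, zero_smul, smul_zero]
      exact Submodule.zero_mem _

theorem chi_transvection (t : Matrix.TransvectionStruct ι K) :
    chi (stdLat (A := A) b) (Matrix.toLin b b t.toMatrix) = 0 := by
  obtain ⟨r, s, hs, hc⟩ := IsFractionRing.div_surjective (A := A) t.c
  have hs0 : s ≠ 0 := nonZeroDivisors.ne_zero hs
  have hdet : t.toMatrix.det ≠ 0 := by rw [t.det]; exact one_ne_zero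
  set u : ι → Kˣ := fun k => if k = t.i then
      Units.mk0 (algebraMap A K s)⁻¹ (inv_ne_zero (by simpa using hs0)) else 1 with hu
  have hlat := isLattice_stdLat (A := A) (b.unitsSMul u)
  rw [← eqOf_toLinearMap b _ hdet, chi_indep (isLattice_stdLat (A := A) b) hlat,
    eqOf_toLinearMap]
  have h1 := transvection_map_le b t.i t.j t.hij r s hs0
  have h2 := transvection_map_le b t.i t.j t.hij (-r) s hs0
  simp only at h1 h2
  rw [← hu] at h1 h2
  have hneg : algebraMap A K (-r) / algebraMap A K s = -t.c := by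
    rw [map_neg, neg_div, hc]
  rw [hc] at h1
  rw [hneg] at h2
  have hcomp : Matrix.toLin b b (Matrix.transvection t.i t.j t.c) ∘ₗ
      Matrix.toLin b b (Matrix.transvection t.i t.j (-t.c)) = LinearMap.id := by
    rw [← Matrix.toLin_mul b b b, Matrix.transvection_mul_transvection_same (h := t.hij),
      add_neg_cancel, Matrix.transvection_zero, Matrix.toLin_one]
  have heq : (stdLat (A := A) (b.unitsSMul u)).map ((Matrix.toLin b b t.toMatrix).restrictScalars A) =
      stdLat (A := A) (b.unitsSMul u) := by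
    apply le_antisymm h1
    intro y hy
    refine ⟨Matrix.toLin b b (Matrix.transvection t.i t.j (-t.c)) y, h2 ⟨y, hy, rfl⟩, ?_⟩
    show Matrix.toLin b b (Matrix.transvection t.i t.j t.c)
      (Matrix.toLin b b (Matrix.transvection t.i t.j (-t.c)) y) = y
    rw [← LinearMap.comp_apply, hcomp]; rfl
  unfold chi
  rw [heq, dist_self]

/-- main computation in coordinates -/
theorem chi_toLin (N : Matrix ι ι K) (hN : N.det ≠ 0) :
    chi (stdLat (A := A) b) (Matrix.toLin b b N) = ordZ A N.det := by
  refine Matrix.diagonal_transvection_induction_of_det_ne_zero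
    (fun N => chi (stdLat (A := A) b) (Matrix.toLin b b N) = ordZ A N.det) N hN ?_ ?_ ?_
  · intro D hD
    exact chi_diagonal b D hD
  · intro t
    show chi _ _ = _
    rw [chi_transvection, t.det, ordZ_one]
  · intro N₁ N₂ h₁ h₂ e₁ e₂
    show chi _ _ = _
    rw [chi_mul b (isLattice_stdLat (A := A) b) _ _ h₁ h₂, e₁, e₂, Matrix.det_mul, ordZ_mul h₁ h₂]

end Coord

/-- **Main theorem**: the lattice index of an automorphism is the order of its determinant. -/
theorem chi_eq_ordZ_det [FiniteDimensional K V] {M : Submodule A V}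
    (hM : Submodule.IsLattice K M) (φ : V ≃ₗ[K] V) :
    chi M φ.toLinearMap = ordZ A (LinearMap.det φ.toLinearMap) := by
  classical
  let b := Module.finBasis K V
  rw [chi_indep hM (isLattice_stdLat (A := A) b)]
  have hdet : (LinearMap.toMatrix b b φ.toLinearMap).det ≠ 0 := by
    rw [LinearMap.det_toMatrix]
    exact (LinearEquiv.isUnit_det' φ).ne_zero
  have := chi_toLin (A := A) b (LinearMap.toMatrix b b φ.toLinearMap) hdet
  rw [Matrix.toLin_toMatrix, LinearMap.det_toMatrix] at this
  exact this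

end Lattice
end Groth.Agent.Lib.Helper25.LatticeDist
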