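/-
Length of the cokernel of a square matrix vs. order of its determinant (helper25).

* `snake_length` : additivity of the Euler characteristic `ℓ(coker) - ℓ(ker)` (six-term sequence);
* `matAct` : action of a matrix on `N^ι`;
* `length_coker_eq_ord_of_domain` : domain case via `LatticeDist`;
* `mot_all` : dévissage over a Noetherian ring of dimension `≤ 1`;
* `length_coker_eq_ord_of_krullDimLE_one` : `ℓ(coker P) = ord (det P)` in dimension `≤ 1`.
-/
import Mathlib
import Groth.Agent.Lib.Helper25.LatticeDist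
set_option autoImplicit false
set_option linter.style.haveILetI false
set_option linter.deprecated false
set_option linter.unusedSectionVars false
universe u v
namespace Groth.Agent.Lib.Helper25.CokerDet
open Function
open Groth.Agent.Lib.Helper25.LatticeDist

variable {R : Type u} [CommRing R]

/-- `ℓ(Y) = ℓ(range u) + ℓ(range v)` for an exact pair `u, v`. -/
theorem length_eq_range_add_range {X Y Z : Type*} [AddCommGroup X] [Module R X]
    [AddCommGroup Y] [Module R Y] [AddCommGroup Z] [Module R Z]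
    (u : X →ₗ[R] Y) (v : Y →ₗ[R] Z) (h : Exact u v) :
    Module.length R Y = Module.length R (LinearMap.range u) + Module.length R (LinearMap.range v) := by
  apply Module.length_eq_add_of_exact (LinearMap.range u).subtype v.rangeRestrict
  · exact Submodule.injective_subtype _
  · exact LinearMap.surjective_rangeRestrict v
  · intro y
    constructor
    · intro hy
      have : v y = 0 := congrArg Subtype.val hy
      obtain ⟨x, hx⟩ := (h y).1 this
      exact ⟨⟨y, ⟨x, hx⟩⟩, rfl⟩
    · rintro ⟨⟨_, ⟨x, rfl⟩⟩, rfl⟩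
      apply Subtype.ext
      exact (h (u x)).2 ⟨x, rfl⟩

theorem length_range_of_injective {X Y : Type*} [AddCommGroup X] [Module R X]
    [AddCommGroup Y] [Module R Y] (u : X →ₗ[R] Y) (hu : Injective u) :
    Module.length R (LinearMap.range u) = Module.length R X :=
  (LinearEquiv.ofInjective u hu).length_eq.symm

theorem length_range_of_surjective {X Y : Type*} [AddCommGroup X] [Module R X]
    [AddCommGroup Y] [Module R Y] (u : X →ₗ[R] Y) (hu : Surjective u) :
    Module.length R (LinearMap.range u) = Module.length R Y := by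
  rw [LinearMap.range_eq_top.2 hu, Module.length_top]

/-- alternating sum of lengths in a six-term exact sequence -/
theorem six_term {K₁ K₂ K₃ C₁ C₂ C₃ : Type*}
    [AddCommGroup K₁] [Module R K₁] [AddCommGroup K₂] [Module R K₂] [AddCommGroup K₃] [Module R K₃]
    [AddCommGroup C₁] [Module R C₁] [AddCommGroup C₂] [Module R C₂] [AddCommGroup C₃] [Module R C₃]
    (a₁ : K₁ →ₗ[R] K₂) (a₂ : K₂ →ₗ[R] K₃) (a₃ : K₃ →ₗ[R] C₁) (a₄ : C₁ →ₗ[R] C₂)
    (a₅ : C₂ →ₗ[R] C₃) (h₁ : Injective a₁) (h₁₂ : Exact a₁ a₂) (h₂₃ : Exact a₂ a₃)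
    (h₃₄ : Exact a₃ a₄) (h₄₅ : Exact a₄ a₅) (h₅ : Surjective a₅) :
    Module.length R K₁ + Module.length R K₃ + Module.length R C₂ =
      Module.length R K₂ + Module.length R C₁ + Module.length R C₃ := by
  rw [length_eq_range_add_range a₁ a₂ h₁₂, length_eq_range_add_range a₂ a₃ h₂₃,
    length_eq_range_add_range a₃ a₄ h₃₄, length_eq_range_add_range a₄ a₅ h₄₅,
    length_range_of_injective a₁ h₁, length_range_of_surjective a₅ h₅]
  ring

/-- rank-nullity for lengths: kernel and cokernel of an endomorphism of a finite length module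
have the same length. -/
theorem length_ker_eq_length_coker {X : Type*} [AddCommGroup X] [Module R X]
    (T : X →ₗ[R] X) (hX : Module.length R X ≠ ⊤) :
    Module.length R (LinearMap.ker T) = Module.length R (X ⧸ LinearMap.range T) := by
  have e1 := length_eq_range_add_range (LinearMap.ker T).subtype T (LinearMap.exact_subtype_ker_map T)
  have e2 := length_eq_range_add_range T (LinearMap.range T).mkQ (LinearMap.exact_map_mkQ_range T)
  rw [length_range_of_injective _ (Submodule.injective_subtype _)] at e1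
  rw [length_range_of_surjective _ (Submodule.mkQ_surjective _)] at e2
  have hr : Module.length R (LinearMap.range T) ≠ ⊤ := by
    intro h; rw [h] at e2; exact hX (by rw [e2]; simp)
  rw [e1, add_comm (Module.length R ↥(LinearMap.range T))] at e2
  exact (ENat.add_left_injective_of_ne_top hr) e2


section Snake
variable {X₁ X₂ X₃ : Type*} [AddCommGroup X₁] [Module R X₁] [AddCommGroup X₂] [Module R X₂]
  [AddCommGroup X₃] [Module R X₃]
  (f : X₁ →ₗ[R] X₂) (g : X₂ →ₗ[R] X₃) (T₁ : X₁ →ₗ[R] X₁) (T₂ : X₂ →ₗ[R] X₂) (T₃ : X₃ →ₗ[R] X₃)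

/-- Euler characteristic additivity (in `ℕ∞`, no finiteness needed). -/
theorem snake_length (hf : Injective f) (hg : Surjective g) (hfg : Exact f g)
    (h₁ : f.comp T₁ = T₂.comp f) (h₂ : g.comp T₂ = T₃.comp g) :
    Module.length R (LinearMap.ker T₁) + Module.length R (LinearMap.ker T₃) +
        Module.length R (X₂ ⧸ LinearMap.range T₂) =
      Module.length R (LinearMap.ker T₂) + Module.length R (X₁ ⧸ LinearMap.range T₁) +
        Module.length R (X₃ ⧸ LinearMap.range T₃) := by
  have c₁ : ∀ x, f (T₁ x) = T₂ (f x) := fun x => congrArg (fun φ => φ x) h₁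
  have c₂ : ∀ x, g (T₂ x) = T₃ (g x) := fun x => congrArg (fun φ => φ x) h₂
  -- induced maps on kernels
  let F₁ : LinearMap.ker T₁ →ₗ[R] LinearMap.ker T₂ :=
    f.restrict (fun x hx => by
      rw [LinearMap.mem_ker] at hx ⊢
      rw [← c₁, hx, map_zero])
  let F₂ : LinearMap.ker T₂ →ₗ[R] LinearMap.ker T₃ :=
    g.restrict (fun x hx => by
      rw [LinearMap.mem_ker] at hx ⊢
      rw [← c₂, hx, map_zero])
  -- induced maps on cokernels
  let G₁ : (X₁ ⧸ LinearMap.range T₁) →ₗ[R] (X₂ ⧸ LinearMap.range T₂) :=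
    Submodule.mapQ _ _ f (by
      rintro _ ⟨x, rfl⟩
      exact ⟨f x, (c₁ x).symm⟩)
  let G₂ : (X₂ ⧸ LinearMap.range T₂) →ₗ[R] (X₃ ⧸ LinearMap.range T₃) :=
    Submodule.mapQ _ _ g (by
      rintro _ ⟨x, rfl⟩
      exact ⟨g x, (c₂ x).symm⟩)
  let δ := SnakeLemma.δ' T₁ T₂ T₃ f g hfg f g hfg h₁ h₂ (LinearMap.ker T₃).subtype
    (LinearMap.exact_subtype_ker_map T₃) (LinearMap.range T₁).mkQ
    (LinearMap.exact_map_mkQ_range T₁) hg hf
  have e₂₃ : Exact F₂ δ :=
    SnakeLemma.exact_δ'_right T₁ T₂ T₃ f g hfg f g hfg h₁ h₂ (LinearMap.ker T₂).subtype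
      (LinearMap.exact_subtype_ker_map T₂) (LinearMap.ker T₃).subtype
      (LinearMap.exact_subtype_ker_map T₃) (LinearMap.range T₁).mkQ
      (LinearMap.exact_map_mkQ_range T₁) hg hf F₂ (by ext x; rfl)
      (Submodule.injective_subtype _)
  have e₃₄ : Exact δ G₁ :=
    SnakeLemma.exact_δ'_left T₁ T₂ T₃ f g hfg f g hfg h₁ h₂ (LinearMap.ker T₃).subtype
      (LinearMap.exact_subtype_ker_map T₃) (LinearMap.range T₁).mkQ
      (LinearMap.exact_map_mkQ_range T₁) (LinearMap.range T₂).mkQ
      (LinearMap.exact_map_mkQ_range T₂) hg hf G₁ (by ext x; rfl)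
      (Submodule.mkQ_surjective _)
  have i₁ : Injective F₁ := by
    intro x y hxy
    apply Subtype.ext
    apply hf
    exact congrArg Subtype.val hxy
  have e₁₂ : Exact F₁ F₂ := by
    intro y
    constructor
    · intro hy
      have : g (y : X₂) = 0 := congrArg Subtype.val hy
      obtain ⟨x, hx⟩ := (hfg _).1 this
      have hxk : x ∈ LinearMap.ker T₁ := by
        rw [LinearMap.mem_ker]
        apply hf
        rw [c₁, hx, map_zero]
        exact y.2
      exact ⟨⟨x, hxk⟩, Subtype.ext hx⟩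
    · rintro ⟨x, rfl⟩
      apply Subtype.ext
      exact (hfg _).2 ⟨x, rfl⟩
  have s₅ : Surjective G₂ := by
    intro z
    obtain ⟨z, rfl⟩ := Submodule.Quotient.mk_surjective _ z
    obtain ⟨y, rfl⟩ := hg z
    exact ⟨Submodule.Quotient.mk y, rfl⟩
  have e₄₅ : Exact G₁ G₂ := by
    intro y
    constructor
    · intro hy
      obtain ⟨y, rfl⟩ := Submodule.Quotient.mk_surjective _ y
      have hy' : Submodule.Quotient.mk (p := LinearMap.range T₃) (g y) = 0 := hy
      rw [Submodule.Quotient.mk_eq_zero] at hy'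
      obtain ⟨z, hz⟩ := hy'
      obtain ⟨w, rfl⟩ := hg z
      have : g (y - T₂ w) = 0 := by rw [map_sub, c₂, hz, sub_self]
      obtain ⟨x, hx⟩ := (hfg _).1 this
      refine ⟨Submodule.Quotient.mk x, ?_⟩
      show Submodule.Quotient.mk (p := LinearMap.range T₂) (f x) = Submodule.Quotient.mk y
      rw [hx, Submodule.Quotient.mk_sub, sub_eq_self, Submodule.Quotient.mk_eq_zero]
      exact ⟨w, rfl⟩
    · rintro ⟨x, rfl⟩
      obtain ⟨x, rfl⟩ := Submodule.Quotient.mk_surjective _ x
      show Submodule.Quotient.mk (p := LinearMap.range T₃) (g (f x)) = 0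
      rw [(hfg _).2 ⟨x, rfl⟩, Submodule.Quotient.mk_zero]
  exact six_term F₁ F₂ δ G₁ G₂ i₁ e₁₂ e₂₃ e₃₄ e₄₅ s₅

end Snake

section MatAct
variable {ι : Type} [Fintype ι] [DecidableEq ι]

/-- action of a matrix on `N^ι`. -/
def matAct (P : Matrix ι ι R) (N : Type v) [AddCommGroup N] [Module R N] :
    (ι → N) →ₗ[R] (ι → N) :=
  LinearMap.pi fun i => ∑ j, P i j • LinearMap.proj j

variable (P Q : Matrix ι ι R) (N : Type v) [AddCommGroup N] [Module R N]

theorem matAct_apply (x : ι → N) (i : ι) : matAct P N x i = ∑ j, P i j • x j := by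
  simp [matAct]

theorem matAct_mul : matAct (P * Q) N = (matAct P N).comp (matAct Q N) := by
  ext x i
  simp only [LinearMap.comp_apply, matAct_apply, Matrix.mul_apply, Finset.sum_smul,
    Finset.smul_sum, smul_smul]
  rw [Finset.sum_comm]

theorem matAct_smul_one (c : R) : matAct (c • (1 : Matrix ι ι R)) N = c • LinearMap.id := by
  ext x i
  simp [matAct_apply, Matrix.one_apply, ite_smul]

theorem matAct_adjugate_comp : (matAct P.adjugate N).comp (matAct P N) = P.det • LinearMap.id := by
  rw [← matAct_mul, Matrix.adjugate_mul, matAct_smul_one]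

theorem matAct_comp_adjugate : (matAct P N).comp (matAct P.adjugate N) = P.det • LinearMap.id := by
  rw [← matAct_mul, Matrix.mul_adjugate, matAct_smul_one]

theorem matAct_self : matAct P R = Matrix.toLin' P := by
  ext x i
  simp [matAct_apply, Matrix.toLin'_apply, Matrix.mulVec, dotProduct]

variable {N} in
theorem matAct_natural {N' : Type v} [AddCommGroup N'] [Module R N'] (f : N →ₗ[R] N') :
    (f.compLeft ι).comp (matAct P N) = (matAct P N').comp (f.compLeft ι) := by
  ext x i
  simp [matAct_apply]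

theorem det_smul_ker (x : ι → N) (hx : x ∈ LinearMap.ker (matAct P N)) : P.det • x = 0 := by
  have := congrArg (fun φ => φ x) (matAct_adjugate_comp P N)
  simp only [LinearMap.comp_apply, LinearMap.smul_apply, LinearMap.id_apply] at this
  rw [← this, LinearMap.mem_ker.1 hx, map_zero]

theorem det_smul_coker (y : (ι → N) ⧸ LinearMap.range (matAct P N)) : P.det • y = 0 := by
  obtain ⟨x, rfl⟩ := Submodule.Quotient.mk_surjective _ y
  rw [← Submodule.Quotient.mk_smul, Submodule.Quotient.mk_eq_zero]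
  have := congrArg (fun φ => φ x) (matAct_comp_adjugate P N)
  simp only [LinearMap.comp_apply, LinearMap.smul_apply, LinearMap.id_apply] at this
  exact ⟨_, this⟩

end MatAct

section Domain
variable {ι : Type} [Fintype ι] [DecidableEq ι]

/-- **Domain case** : over a one-dimensional Noetherian domain, `ℓ(coker P) = ord (det P)`. -/
theorem length_coker_eq_ord_of_domain [IsDomain R] [IsNoetherianRing R] [Ring.KrullDimLE 1 R]
    (P : Matrix ι ι R) (hP : P.det ≠ 0) :
    Module.length R ((ι → R) ⧸ LinearMap.range (Matrix.toLin' P)) = Ring.ord R P.det := by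
  let K := FractionRing R
  let b : Module.Basis ι K (ι → K) := Pi.basisFun K ι
  have hdetK : (P.map (algebraMap R K)).det = algebraMap R K P.det := by
    rw [RingHom.map_det]; rfl
  have hdet0 : (P.map (algebraMap R K)).det ≠ 0 := by
    rw [hdetK]; simpa using hP
  have e1 := chi_stdLat_int (A := R) b P
  have e2 := chi_toLin (A := R) b (P.map (algebraMap R K)) hdet0
  rw [hdetK, ordZ_algebraMap hP] at e2
  rw [e1] at e2
  have hnz : P.det ∈ nonZeroDivisors R := mem_nonZeroDivisors_of_ne_zero hP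
  have f1 : Module.length R ((ι → R) ⧸ LinearMap.range (Matrix.toLin' P)) ≠ ⊤ := by
    rw [← matAct_self]
    exact length_ne_top_of_torsion P.det hnz (det_smul_coker P R)
  have f2 : Ring.ord R P.det ≠ ⊤ := Ring.ord_ne_top hnz
  rw [← ENat.coe_toNat f1, ← ENat.coe_toNat f2]
  congr 1
  exact_mod_cast e2

end Domain

section Dev
variable [IsNoetherianRing R] [Ring.KrullDimLE 1 R]
variable {ι κ : Type} [Fintype ι] [DecidableEq ι] [Fintype κ] [DecidableEq κ]

/-- length of the kernel of the matrix action -/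
noncomputable def kLen (P : Matrix ι ι R) (N : Type v) [AddCommGroup N] [Module R N] : ℕ∞ :=
  Module.length R (LinearMap.ker (matAct P N))

/-- length of the cokernel of the matrix action -/
noncomputable def cLen (P : Matrix ι ι R) (N : Type v) [AddCommGroup N] [Module R N] : ℕ∞ :=
  Module.length R ((ι → N) ⧸ LinearMap.range (matAct P N))

theorem kLen_ne_top (P : Matrix ι ι R) (hd : P.det ∈ nonZeroDivisors R)
    (N : Type v) [AddCommGroup N] [Module R N] [Module.Finite R N] : kLen P N ≠ ⊤ := by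
  haveI : IsNoetherian R (ι → N) := inferInstance
  exact length_ne_top_of_torsion P.det hd (fun x => Subtype.ext (det_smul_ker P N x x.2))

theorem cLen_ne_top (P : Matrix ι ι R) (hd : P.det ∈ nonZeroDivisors R)
    (N : Type v) [AddCommGroup N] [Module R N] [Module.Finite R N] : cLen P N ≠ ⊤ :=
  length_ne_top_of_torsion P.det hd (det_smul_coker P N)

omit [IsNoetherianRing R] [Ring.KrullDimLE 1 R] in
theorem snake_matAct (P : Matrix ι ι R) {N₁ N₂ N₃ : Type v} [AddCommGroup N₁] [Module R N₁]
    [AddCommGroup N₂] [Module R N₂] [AddCommGroup N₃] [Module R N₃]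
    (f : N₁ →ₗ[R] N₂) (g : N₂ →ₗ[R] N₃) (hf : Injective f) (hg : Surjective g)
    (hfg : Exact f g) :
    kLen P N₁ + kLen P N₃ + cLen P N₂ = kLen P N₂ + cLen P N₁ + cLen P N₃ := by
  unfold kLen cLen
  refine snake_length (f.compLeft ι) (g.compLeft ι) _ _ _ ?_ ?_ ?_
    (matAct_natural P f) (matAct_natural P g)
  · exact hf.comp_left
  · exact hg.comp_left
  · intro y
    constructor
    · intro hy
      have hy' : ∀ i, g (y i) = 0 := fun i => congrFun hy i
      choose x hx using fun i => (hfg (y i)).1 (hy' i)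
      exact ⟨x, funext hx⟩
    · rintro ⟨x, rfl⟩
      funext i
      exact (hfg _).2 ⟨x i, rfl⟩

omit [IsNoetherianRing R] [Ring.KrullDimLE 1 R] in
theorem enat_arith {k1 k2 k3 c1 c2 c3 k1' k2' k3' c1' c2' c3' : ℕ∞}
    (hk1 : k1 ≠ ⊤) (hk2 : k2 ≠ ⊤) (hk3 : k3 ≠ ⊤) (hc1 : c1 ≠ ⊤) (hc2 : c2 ≠ ⊤) (hc3 : c3 ≠ ⊤)
    (hk1' : k1' ≠ ⊤) (hk2' : k2' ≠ ⊤) (hk3' : k3' ≠ ⊤) (hc1' : c1' ≠ ⊤) (hc2' : c2' ≠ ⊤)
    (hc3' : c3' ≠ ⊤)
    (hP : k1 + k3 + c2 = k2 + c1 + c3) (hQ : k1' + k3' + c2' = k2' + c1' + c3')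
    (m1 : c1 + k1' = c1' + k1) (m3 : c3 + k3' = c3' + k3) : c2 + k2' = c2' + k2 := by
  lift k1 to ℕ using hk1
  lift k2 to ℕ using hk2
  lift k3 to ℕ using hk3
  lift c1 to ℕ using hc1
  lift c2 to ℕ using hc2
  lift c3 to ℕ using hc3
  lift k1' to ℕ using hk1'
  lift k2' to ℕ using hk2'
  lift k3' to ℕ using hk3'
  lift c1' to ℕ using hc1'
  lift c2' to ℕ using hc2'
  lift c3' to ℕ using hc3'
  norm_cast at *
  omega


omit [IsNoetherianRing R] [Ring.KrullDimLE 1 R] in
theorem cLen_eq_of_surjective (T : Type u) [CommRing T] [Algebra R T]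
    (hs : Surjective (algebraMap R T)) (P : Matrix ι ι R) :
    cLen P T = Module.length T
      ((ι → T) ⧸ LinearMap.range (Matrix.toLin' (P.map (algebraMap R T)))) := by
  have hr : (LinearMap.range (Matrix.toLin' (P.map (algebraMap R T)))).restrictScalars R =
      LinearMap.range (matAct P T) := by
    ext x
    simp only [Submodule.restrictScalars_mem, LinearMap.mem_range]
    have key : ∀ y : ι → T, Matrix.toLin' (P.map (algebraMap R T)) y = matAct P T y := by
      intro y
      funext i
      rw [matAct_apply, Matrix.toLin'_apply]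
      simp only [Matrix.mulVec, dotProduct, Matrix.map_apply, Algebra.smul_def]
    constructor
    · rintro ⟨y, rfl⟩; exact ⟨y, (key y).symm⟩
    · rintro ⟨y, rfl⟩; exact ⟨y, key y⟩
  unfold cLen
  rw [← hr, (Submodule.Quotient.restrictScalarsEquiv R _).length_eq,
    Module.length_eq_of_surjective hs]

/-- the comparison statement proved by dévissage -/
def Mot (P : Matrix ι ι R) (Q : Matrix κ κ R) (N : Type v) [AddCommGroup N] [Module R N] : Prop :=
  cLen P N + kLen Q N = cLen Q N + kLen P N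

omit [IsNoetherianRing R] [Ring.KrullDimLE 1 R] in
theorem mot_subsingleton (P : Matrix ι ι R) (Q : Matrix κ κ R) (N : Type v) [AddCommGroup N]
    [Module R N] [Subsingleton N] : Mot P Q N := by
  unfold Mot cLen kLen
  rw [Module.length_eq_zero, Module.length_eq_zero, Module.length_eq_zero, Module.length_eq_zero]

theorem mot_exact (P : Matrix ι ι R) (Q : Matrix κ κ R) (hdet : P.det = Q.det)
    (hd : P.det ∈ nonZeroDivisors R) {N₁ N₂ N₃ : Type v} [AddCommGroup N₁] [Module R N₁]
    [AddCommGroup N₂] [Module R N₂] [AddCommGroup N₃] [Module R N₃]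
    [Module.Finite R N₁] [Module.Finite R N₂] [Module.Finite R N₃]
    (f : N₁ →ₗ[R] N₂) (g : N₂ →ₗ[R] N₃) (hf : Injective f) (hg : Surjective g)
    (hfg : Exact f g) (m1 : Mot P Q N₁) (m3 : Mot P Q N₃) : Mot P Q N₂ := by
  have hd' : Q.det ∈ nonZeroDivisors R := hdet ▸ hd
  exact enat_arith (kLen_ne_top P hd N₁) (kLen_ne_top P hd N₂) (kLen_ne_top P hd N₃)
    (cLen_ne_top P hd N₁) (cLen_ne_top P hd N₂) (cLen_ne_top P hd N₃)
    (kLen_ne_top Q hd' N₁) (kLen_ne_top Q hd' N₂) (kLen_ne_top Q hd' N₃)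
    (cLen_ne_top Q hd' N₁) (cLen_ne_top Q hd' N₂) (cLen_ne_top Q hd' N₃)
    (snake_matAct P f g hf hg hfg) (snake_matAct Q f g hf hg hfg) m1 m3

omit [IsNoetherianRing R] [Ring.KrullDimLE 1 R] in
theorem kLen_eq_zero_of_regular (P : Matrix ι ι R) (N : Type v) [AddCommGroup N] [Module R N]
    (h : ∀ x : N, P.det • x = 0 → x = 0) : kLen P N = 0 := by
  unfold kLen
  rw [Module.length_eq_zero_iff]
  refine ⟨fun x y => ?_⟩
  have hz : ∀ z : LinearMap.ker (matAct P N), z = 0 := by
    intro z
    apply Subtype.ext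
    funext i
    exact h _ (congrFun (det_smul_ker P N z z.2) i)
  rw [hz x, hz y]

theorem mot_quot (P : Matrix ι ι R) (Q : Matrix κ κ R) (hdet : P.det = Q.det)
    (hd : P.det ∈ nonZeroDivisors R) (p : Ideal R) [p.IsPrime] : Mot P Q (R ⧸ p) := by
  unfold Mot
  by_cases hdp : P.det ∈ p
  · have hfin : ∀ (ι' : Type) [Fintype ι'], Module.length R (ι' → R ⧸ p) ≠ ⊤ := by
      intro ι' _
      refine length_ne_top_of_torsion P.det hd (fun x => funext fun i => ?_)
      obtain ⟨a, ha⟩ := Ideal.Quotient.mk_surjective (x i)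
      show P.det • x i = 0
      rw [← ha, ← Ideal.Quotient.mk_eq_mk, ← Submodule.Quotient.mk_smul, Ideal.Quotient.mk_eq_mk,
        Ideal.Quotient.eq_zero_iff_mem]
      exact p.mul_mem_right a hdp
    have e1 : kLen P (R ⧸ p) = cLen P (R ⧸ p) := length_ker_eq_length_coker _ (hfin ι)
    have e2 : kLen Q (R ⧸ p) = cLen Q (R ⧸ p) := length_ker_eq_length_coker _ (hfin κ)
    rw [e1, e2, add_comm]
  · have hD1 : Ring.KrullDimLE 1 (R ⧸ p) :=
      Ring.krullDimLE_iff.2 ((ringKrullDim_quotient_le p).trans (Ring.krullDimLE_iff.1 inferInstance))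
    have hreg : ∀ x : R ⧸ p, P.det • x = 0 → x = 0 := by
      intro x hx
      rw [Algebra.smul_def] at hx
      rcases mul_eq_zero.1 hx with h0 | h0
      · exact absurd (Ideal.Quotient.eq_zero_iff_mem.1 h0) hdp
      · exact h0
    have hregQ : ∀ x : R ⧸ p, Q.det • x = 0 → x = 0 := hdet ▸ hreg
    rw [kLen_eq_zero_of_regular P _ hreg, kLen_eq_zero_of_regular Q _ hregQ, add_zero, add_zero,
      cLen_eq_of_surjective (R ⧸ p) Ideal.Quotient.mk_surjective P,
      cLen_eq_of_surjective (R ⧸ p) Ideal.Quotient.mk_surjective Q]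
    have hP0 : (P.map (algebraMap R (R ⧸ p))).det ≠ 0 := by
      have : (P.map (algebraMap R (R ⧸ p))).det = algebraMap R (R ⧸ p) P.det := by
        rw [RingHom.map_det]; rfl
      rw [this]
      exact fun h0 => hdp (Ideal.Quotient.eq_zero_iff_mem.1 h0)
    have hQ0 : (Q.map (algebraMap R (R ⧸ p))).det ≠ 0 := by
      have : (Q.map (algebraMap R (R ⧸ p))).det = algebraMap R (R ⧸ p) Q.det := by
        rw [RingHom.map_det]; rfl
      rw [this, ← hdet]
      exact fun h0 => hdp (Ideal.Quotient.eq_zero_iff_mem.1 h0)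
    rw [length_coker_eq_ord_of_domain _ hP0, length_coker_eq_ord_of_domain _ hQ0]
    congr 1
    have h1 : (P.map (algebraMap R (R ⧸ p))).det = algebraMap R (R ⧸ p) P.det := by
      rw [RingHom.map_det]; rfl
    have h2 : (Q.map (algebraMap R (R ⧸ p))).det = algebraMap R (R ⧸ p) Q.det := by
      rw [RingHom.map_det]; rfl
    rw [h1, h2, hdet]

theorem mot_all (P : Matrix ι ι R) (Q : Matrix κ κ R) (hdet : P.det = Q.det)
    (hd : P.det ∈ nonZeroDivisors R) (N : Type u) [AddCommGroup N] [Module R N]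
    [hN : Module.Finite R N] : Mot P Q N := by
  induction hN using IsNoetherianRing.induction_on_isQuotientEquivQuotientPrime R with
  | subsingleton N => exact mot_subsingleton P Q N
  | quotient N p e =>
    haveI := p.2
    exact mot_exact P Q hdet hd (N₁ := R ⧸ p.1) (N₂ := N) (N₃ := PUnit.{u+1})
      e.symm.toLinearMap 0 e.symm.injective (Function.surjective_to_subsingleton _)
      ((e.symm.exact_zero_iff_surjective _).2 e.symm.surjective)
      (mot_quot P Q hdet hd p.1) (mot_subsingleton P Q _)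
  | exact N₁ N₂ N₃ f g hf hg hfg h₁ h₃ =>
    exact mot_exact P Q hdet hd f g hf hg hfg h₁ h₃


omit [IsNoetherianRing R] [Ring.KrullDimLE 1 R] in
theorem cLen_self (P : Matrix ι ι R) :
    cLen P R = Module.length R ((ι → R) ⧸ LinearMap.range (Matrix.toLin' P)) := by
  unfold cLen; rw [matAct_self]

/-- Over a Noetherian ring of dimension `≤ 1`, the length of the cokernel of a matrix whose
determinant is a nonzerodivisor only depends on the determinant. -/
theorem length_coker_eq_of_det_eq (P : Matrix ι ι R) (Q : Matrix κ κ R) (hdet : P.det = Q.det)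
    (hd : P.det ∈ nonZeroDivisors R) :
    Module.length R ((ι → R) ⧸ LinearMap.range (Matrix.toLin' P)) =
      Module.length R ((κ → R) ⧸ LinearMap.range (Matrix.toLin' Q)) := by
  have h := mot_all P Q hdet hd R
  unfold Mot at h
  have hreg : ∀ x : R, P.det • x = 0 → x = 0 := by
    intro x hx
    rw [smul_eq_mul, mul_comm] at hx
    exact hd.2 x hx
  have hregQ : ∀ x : R, Q.det • x = 0 → x = 0 := hdet ▸ hreg
  rw [kLen_eq_zero_of_regular P _ hreg, kLen_eq_zero_of_regular Q _ hregQ, add_zero, add_zero,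
    cLen_self, cLen_self] at h
  exact h

/-- **dimension ≤ 1 case**: `ℓ(coker P) = ord (det P)`. -/
theorem length_coker_eq_ord_of_krullDimLE_one (P : Matrix ι ι R)
    (hd : P.det ∈ nonZeroDivisors R) :
    Module.length R ((ι → R) ⧸ LinearMap.range (Matrix.toLin' P)) = Ring.ord R P.det := by
  have hdet : P.det = (Matrix.diagonal (fun _ : Unit => P.det)).det := by
    rw [Matrix.det_diagonal]; simp
  rw [length_coker_eq_of_det_eq P (Matrix.diagonal (fun _ : Unit => P.det)) hdet hd,
    length_coker_diagonal]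
  simp

end Dev
end Groth.Agent.Lib.Helper25.CokerDet
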