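import Mathlib
import Groth.Agent.Lib.Helper7.FlatChart

/-!
# helper25 — FlatPullChart: flatness of the pullback of a quasi-coherent module to a base change
`X ×_{Spec A} Spec A'`, read on an affine chart of `X`:

`flat_chart_iff`: for `U ⊆ X` affine, the pullback of `F` is flat over `Spec A'` at all points over
`U` iff `A' ⊗_A Γ(F, U)` is `A'`-flat.
-/

set_option backward.isDefEq.respectTransparency.types false
set_option autoImplicit false
set_option linter.unusedVariables false
set_option linter.style.haveILetI false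
universe u
open AlgebraicGeometry CategoryTheory Limits TensorProduct TopologicalSpace

namespace Groth.Agent.Lib.Helper25.FlatPullChart

open Groth.Agent.Lib.Helper17.FlatDict Groth.Agent.Lib.Helper17.ModPullback
  Groth.Agent.Lib.Helper7.FlatChart

/-- flatness is invariant under a bijective change of rings -/
theorem flat_iff_of_bijective (A' R' N : Type u) [CommRing A'] [CommRing R'] [Algebra A' R']
    (h : Function.Bijective (algebraMap A' R')) [AddCommGroup N] [Module A' N] [Module R' N]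
    [IsScalarTower A' R' N] : Module.Flat R' N ↔ Module.Flat A' N := by
  haveI : IsLocalization (⊥ : Submonoid A') R' :=
    IsLocalization.of_le_isUnit_of_bijective (by
      rintro _ ⟨x, hx, rfl⟩
      rw [Submonoid.mem_bot.1 hx, map_one]
      exact isUnit_one) h
  exact Module.flat_iff_of_isLocalization R' (⊥ : Submonoid A') N

theorem SpecMap_appLE_top {R S : CommRingCat.{u}} (φ : R ⟶ S)
    (e : (⊤ : (Spec S).Opens) ≤ Spec.map φ ⁻¹ᵁ ⊤) :
    (Spec.map φ).appLE ⊤ ⊤ e = (Scheme.ΓSpecIso R).hom ≫ φ ≫ (Scheme.ΓSpecIso S).inv := by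
  rw [Scheme.ΓSpecIso_inv_naturality, Iso.hom_inv_id_assoc]
  simp [Scheme.Hom.appLE, Scheme.Hom.appTop]

variable {A : Type u} [CommRing A] {X : Scheme.{u}} (f : X ⟶ Spec (CommRingCat.of A))
  (F : X.Modules) [F.IsQuasicoherent]

/-- the structure map `A → Γ(X, U)` -/
noncomputable def secHom (U : X.Opens) : A →+* Γ(X, U) :=
  (f.appLE ⊤ U le_top).hom.comp (Scheme.ΓSpecIso (CommRingCat.of A)).inv.hom

/-- the `A`-algebra structure on sections of the structure sheaf -/
noncomputable abbrev algSec (U : X.Opens) : Algebra A Γ(X, U) := (secHom f U).toAlgebra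

/-- the `A`-module structure on sections of `F` -/
noncomputable abbrev modSec (U : X.Opens) : Module A Γ(F, U) := Module.compHom Γ(F, U) (secHom f U)

theorem flat_chart_iff {U : X.Opens} (hU : IsAffineOpen U) (A' : Type u) [CommRing A']
    [Algebra A A'] :
    letI := algSec f U
    letI := modSec f F U
    (∀ x' : ↥(pullback f (Spec.map (CommRingCat.ofHom (algebraMap A A')))),
      pullback.fst f (Spec.map (CommRingCat.ofHom (algebraMap A A'))) x' ∈ U →
      FlatMod.IsFlatOverAt (pullback.snd f (Spec.map (CommRingCat.ofHom (algebraMap A A'))))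
        ((Scheme.Modules.pullback
          (pullback.fst f (Spec.map (CommRingCat.ofHom (algebraMap A A'))))).obj F) x') ↔
    Module.Flat A' (A' ⊗[A] Γ(F, U)) := by
  letI algABu := algSec f U
  letI modAMu := modSec f F U
  set φ : CommRingCat.of A ⟶ CommRingCat.of A' := CommRingCat.ofHom (algebraMap A A') with hφ
  set g : Spec (CommRingCat.of A') ⟶ Spec (CommRingCat.of A) := Spec.map φ with hg
  set p := pullback.fst f g with hp
  set q := pullback.snd f g with hq
  have hc : IsPullback p q f g := IsPullback.of_hasPullback f g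
  have hUS : IsAffineOpen (⊤ : (Spec (CommRingCat.of A)).Opens) := isAffineOpen_top _
  have hUT : IsAffineOpen (⊤ : (Spec (CommRingCat.of A')).Opens) := isAffineOpen_top _
  have hUSX : U ≤ f ⁻¹ᵁ ⊤ := le_top
  have hUST : (⊤ : (Spec (CommRingCat.of A')).Opens) ≤ g ⁻¹ᵁ ⊤ := le_top
  obtain ⟨hW, hpo⟩ := affine_chart_of_opens hc hUS hU hUT hUSX hUST
  set W : (pullback f g).Opens := p ⁻¹ᵁ U ⊓ q ⁻¹ᵁ ⊤ with hWdef
  have key := flat_sections_iff q ((Scheme.Modules.pullback p).obj F) hW hUT
    (inf_le_right : W ≤ q ⁻¹ᵁ ⊤)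
  have hmem : ∀ x' : ↥(pullback f g), x' ∈ W ↔ p x' ∈ U := fun x' =>
    ⟨fun h => h.1, fun h => ⟨h, trivial⟩⟩
  -- algebra structures
  letI algBuC : Algebra Γ(X, U) Γ(pullback f g, W) := (p.appLE U W inf_le_left).hom.toAlgebra
  letI algA'R' : Algebra A' Γ(Spec (CommRingCat.of A'), ⊤) :=
    (Scheme.ΓSpecIso (CommRingCat.of A')).inv.hom.toAlgebra
  letI algR'C : Algebra Γ(Spec (CommRingCat.of A'), ⊤) Γ(pullback f g, W) :=
    (q.appLE ⊤ W inf_le_right).hom.toAlgebra
  letI algA'C : Algebra A' Γ(pullback f g, W) :=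
    ((algebraMap Γ(Spec (CommRingCat.of A'), ⊤) Γ(pullback f g, W)).comp
      (algebraMap A' Γ(Spec (CommRingCat.of A'), ⊤))).toAlgebra
  haveI : IsScalarTower A' Γ(Spec (CommRingCat.of A'), ⊤) Γ(pullback f g, W) :=
    IsScalarTower.of_algebraMap_eq fun _ => rfl
  letI algAC : Algebra A Γ(pullback f g, W) :=
    ((algebraMap Γ(X, U) Γ(pullback f g, W)).comp (algebraMap A Γ(X, U))).toAlgebra
  haveI : IsScalarTower A Γ(X, U) Γ(pullback f g, W) :=
    IsScalarTower.of_algebraMap_eq fun _ => rfl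
  -- compatibility
  have hgapp : g.appLE ⊤ ⊤ hUST = (Scheme.ΓSpecIso (CommRingCat.of A)).hom ≫ φ ≫
      (Scheme.ΓSpecIso (CommRingCat.of A')).inv := SpecMap_appLE_top φ hUST
  have hw' : (Scheme.ΓSpecIso (CommRingCat.of A)).inv ≫ f.appLE ⊤ U hUSX ≫
      p.appLE U W inf_le_left = φ ≫ (Scheme.ΓSpecIso (CommRingCat.of A')).inv ≫
      q.appLE ⊤ W inf_le_right := by
    rw [hpo.w, hgapp]
    simp only [Category.assoc, Iso.inv_hom_id_assoc]
    rfl
  haveI : IsScalarTower A A' Γ(pullback f g, W) :=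
    IsScalarTower.of_algebraMap_eq fun a => congr($(hw').hom a)
  have hAB : CommRingCat.ofHom (algebraMap A Γ(X, U)) =
      (Scheme.ΓSpecIso (CommRingCat.of A)).inv ≫ f.appLE ⊤ U hUSX := rfl
  have hA'C : CommRingCat.ofHom (algebraMap A' Γ(pullback f g, W)) =
      (Scheme.ΓSpecIso (CommRingCat.of A')).inv ≫ q.appLE ⊤ W inf_le_right := rfl
  have hpo2 : IsPushout φ (CommRingCat.ofHom (algebraMap A Γ(X, U)))
      (CommRingCat.ofHom (algebraMap A' Γ(pullback f g, W)))
      (CommRingCat.ofHom (algebraMap Γ(X, U) Γ(pullback f g, W))) :=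
    hpo.flip.of_iso (Scheme.ΓSpecIso (CommRingCat.of A)) (Scheme.ΓSpecIso (CommRingCat.of A'))
      (Iso.refl _) (Iso.refl _)
      (by rw [hgapp]; simp only [Category.assoc, Iso.inv_hom_id, Category.comp_id])
      (by rw [hAB, Iso.hom_inv_id_assoc, Iso.refl_hom, Category.comp_id])
      (by rw [hA'C, Iso.hom_inv_id_assoc, Iso.refl_hom, Category.comp_id])
      (by simp only [Iso.refl_hom, Category.comp_id, Category.id_comp]; rfl)
  haveI hpush : Algebra.IsPushout A A' Γ(X, U) Γ(pullback f g, W) :=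
    CommRingCat.isPushout_iff_isPushout.mp hpo2
  -- module structures on `N = Γ(p^*F, W)`
  letI modBuN : Module Γ(X, U) Γ((Scheme.Modules.pullback p).obj F, W) :=
    Module.compHom _ (algebraMap Γ(X, U) Γ(pullback f g, W))
  haveI : IsScalarTower Γ(X, U) Γ(pullback f g, W) Γ((Scheme.Modules.pullback p).obj F, W) :=
    IsScalarTower.of_compHom _ _ _
  letI modR'N : Module Γ(Spec (CommRingCat.of A'), ⊤) Γ((Scheme.Modules.pullback p).obj F, W) :=
    Module.compHom _ (q.appLE ⊤ W inf_le_right).hom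
  haveI : IsScalarTower Γ(Spec (CommRingCat.of A'), ⊤) Γ(pullback f g, W)
      Γ((Scheme.Modules.pullback p).obj F, W) := IsScalarTower.of_compHom _ _ _
  letI modA'N : Module A' Γ((Scheme.Modules.pullback p).obj F, W) :=
    Module.compHom _ (algebraMap A' Γ(pullback f g, W))
  haveI : IsScalarTower A' Γ(pullback f g, W) Γ((Scheme.Modules.pullback p).obj F, W) :=
    IsScalarTower.of_compHom _ _ _
  haveI : IsScalarTower A' Γ(Spec (CommRingCat.of A'), ⊤)
      Γ((Scheme.Modules.pullback p).obj F, W) :=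
    IsScalarTower.of_algebraMap_smul fun _ _ => rfl
  haveI : IsScalarTower A Γ(X, U) Γ(F, U) := IsScalarTower.of_algebraMap_smul fun _ _ => rfl
  obtain ⟨ψ, hψ⟩ := exists_isBaseChange_sections p F hW hU (inf_le_left : W ≤ p ⁻¹ᵁ U) rfl
  let e₁ : Γ(pullback f g, W) ⊗[Γ(X, U)] Γ(F, U) ≃ₗ[A']
      Γ((Scheme.Modules.pullback p).obj F, W) := hψ.equiv.restrictScalars A'
  let e₂ : Γ(pullback f g, W) ⊗[Γ(X, U)] Γ(F, U) ≃ₗ[A'] A' ⊗[A] Γ(F, U) :=
    Algebra.IsPushout.cancelBaseChange A A' Γ(X, U) Γ(pullback f g, W) Γ(F, U)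
  have hbij : Function.Bijective (algebraMap A' Γ(Spec (CommRingCat.of A'), ⊤)) :=
    ConcreteCategory.bijective_of_isIso (Scheme.ΓSpecIso (CommRingCat.of A')).inv
  have h1 : Module.Flat Γ(Spec (CommRingCat.of A'), ⊤) Γ((Scheme.Modules.pullback p).obj F, W) ↔
      Module.Flat A' Γ((Scheme.Modules.pullback p).obj F, W) :=
    flat_iff_of_bijective A' _ _ hbij
  have h2 : Module.Flat A' Γ((Scheme.Modules.pullback p).obj F, W) ↔
      Module.Flat A' (A' ⊗[A] Γ(F, U)) := Module.Flat.equiv_iff (e₁.symm ≪≫ₗ e₂)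
  rw [← h2, ← h1]
  constructor
  · intro h
    exact key.2 (fun x' hx' => h x' ((hmem x').1 hx'))
  · intro h x' hx'
    exact key.1 h x' ((hmem x').2 hx')

end Groth.Agent.Lib.Helper25.FlatPullChart
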