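import Mathlib
import Groth.Agent.Lib.Helper25.FlatPullChart
import Groth.Agent.Lib.Helper7.FlatBCComp
import Groth.Agent.Lib.Helper29.FPDict

/-!
# helper25 — FlatChartGen: the chart dictionary for flatness of a pulled-back module in a general
pullback square, and stability of finite presentation under pullback.
-/

set_option backward.isDefEq.respectTransparency.types false
set_option autoImplicit false
set_option linter.unusedVariables false
set_option linter.style.haveILetI false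
universe u
open AlgebraicGeometry CategoryTheory Limits TensorProduct TopologicalSpace

namespace Groth.Agent.Lib.Helper25.FlatChartGen

open Groth.Agent.Lib.Helper17.FlatDict Groth.Agent.Lib.Helper17.ModPullback
  Groth.Agent.Lib.Helper7.FlatChart

/-- **General chart dictionary.**  In a pullback square `X' = X ×_S S'`, for affine opens
`UX ⊆ f⁻¹ US`, `UT ⊆ g⁻¹ US`: the pullback of `F` is flat over `S'` at all points of the chart
`g'⁻¹ UX ⊓ f'⁻¹ UT` iff `Γ(S', UT) ⊗_{Γ(S, US)} Γ(F, UX)` is flat over `Γ(S', UT)`. -/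
theorem flat_chart_general {X S X' S' : Scheme.{u}} {f : X ⟶ S} {f' : X' ⟶ S'} {g' : X' ⟶ X}
    {g : S' ⟶ S} (hc : IsPullback g' f' f g) (F : X.Modules) [F.IsQuasicoherent]
    {US : S.Opens} {UX : X.Opens} {UT : S'.Opens}
    (hUS : IsAffineOpen US) (hUX : IsAffineOpen UX) (hUT : IsAffineOpen UT)
    (hUSX : UX ≤ f ⁻¹ᵁ US) (hUST : UT ≤ g ⁻¹ᵁ US) :
    letI : Algebra Γ(S, US) Γ(X, UX) := (f.appLE US UX hUSX).hom.toAlgebra
    letI : Algebra Γ(S, US) Γ(S', UT) := (g.appLE US UT hUST).hom.toAlgebra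
    letI : Module Γ(S, US) Γ(F, UX) := Module.compHom Γ(F, UX) (f.appLE US UX hUSX).hom
    (∀ x' : X', x' ∈ g' ⁻¹ᵁ UX ⊓ f' ⁻¹ᵁ UT →
      FlatMod.IsFlatOverAt f' ((Scheme.Modules.pullback g').obj F) x') ↔
    Module.Flat Γ(S', UT) (Γ(S', UT) ⊗[Γ(S, US)] Γ(F, UX)) := by
  letI algRB : Algebra Γ(S, US) Γ(X, UX) := (f.appLE US UX hUSX).hom.toAlgebra
  letI algRR' : Algebra Γ(S, US) Γ(S', UT) := (g.appLE US UT hUST).hom.toAlgebra
  letI modRM : Module Γ(S, US) Γ(F, UX) := Module.compHom Γ(F, UX) (f.appLE US UX hUSX).hom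
  obtain ⟨hW, hpo⟩ := affine_chart_of_opens hc hUS hUX hUT hUSX hUST
  set W : X'.Opens := g' ⁻¹ᵁ UX ⊓ f' ⁻¹ᵁ UT with hWdef
  have key := flat_sections_iff f' ((Scheme.Modules.pullback g').obj F) hW hUT
    (inf_le_right : W ≤ f' ⁻¹ᵁ UT)
  letI algBC : Algebra Γ(X, UX) Γ(X', W) := (g'.appLE UX W inf_le_left).hom.toAlgebra
  letI algR'C : Algebra Γ(S', UT) Γ(X', W) := (f'.appLE UT W inf_le_right).hom.toAlgebra
  letI algRC : Algebra Γ(S, US) Γ(X', W) :=
    ((algebraMap Γ(X, UX) Γ(X', W)).comp (algebraMap Γ(S, US) Γ(X, UX))).toAlgebra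
  haveI : IsScalarTower Γ(S, US) Γ(X, UX) Γ(X', W) :=
    IsScalarTower.of_algebraMap_eq fun _ => rfl
  haveI : IsScalarTower Γ(S, US) Γ(S', UT) Γ(X', W) :=
    IsScalarTower.of_algebraMap_eq fun a => congr($(hpo.w).hom a)
  haveI hpush : Algebra.IsPushout Γ(S, US) Γ(S', UT) Γ(X, UX) Γ(X', W) :=
    CommRingCat.isPushout_iff_isPushout.mp hpo.flip
  letI modBN : Module Γ(X, UX) Γ((Scheme.Modules.pullback g').obj F, W) :=
    Module.compHom _ (algebraMap Γ(X, UX) Γ(X', W))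
  haveI : IsScalarTower Γ(X, UX) Γ(X', W) Γ((Scheme.Modules.pullback g').obj F, W) :=
    IsScalarTower.of_compHom _ _ _
  letI modR'N : Module Γ(S', UT) Γ((Scheme.Modules.pullback g').obj F, W) :=
    Module.compHom _ (f'.appLE UT W inf_le_right).hom
  haveI : IsScalarTower Γ(S', UT) Γ(X', W) Γ((Scheme.Modules.pullback g').obj F, W) :=
    IsScalarTower.of_compHom _ _ _
  haveI : IsScalarTower Γ(S, US) Γ(X, UX) Γ(F, UX) :=
    IsScalarTower.of_algebraMap_smul fun _ _ => rfl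
  obtain ⟨ψ, hψ⟩ := exists_isBaseChange_sections g' F hW hUX (inf_le_left : W ≤ g' ⁻¹ᵁ UX) rfl
  let e₁ : Γ(X', W) ⊗[Γ(X, UX)] Γ(F, UX) ≃ₗ[Γ(S', UT)]
      Γ((Scheme.Modules.pullback g').obj F, W) := hψ.equiv.restrictScalars Γ(S', UT)
  let e₂ : Γ(X', W) ⊗[Γ(X, UX)] Γ(F, UX) ≃ₗ[Γ(S', UT)] Γ(S', UT) ⊗[Γ(S, US)] Γ(F, UX) :=
    Algebra.IsPushout.cancelBaseChange Γ(S, US) Γ(S', UT) Γ(X, UX) Γ(X', W) Γ(F, UX)
  have h2 : Module.Flat Γ(S', UT) Γ((Scheme.Modules.pullback g').obj F, W) ↔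
      Module.Flat Γ(S', UT) (Γ(S', UT) ⊗[Γ(S, US)] Γ(F, UX)) :=
    Module.Flat.equiv_iff (e₁.symm ≪≫ₗ e₂)
  rw [← h2]
  exact key.symm

open Groth.Agent.Lib.Helper29.FPDict in
/-- **Finite presentation is stable under pullback.** -/
theorem isFinitePresentation_pullback {X X' : Scheme.{u}} (g : X' ⟶ X) (F : X.Modules)
    [SheafOfModules.IsFinitePresentation.{u} (R := X.ringCatSheaf) F] :
    SheafOfModules.IsFinitePresentation.{u} (R := X'.ringCatSheaf)
      ((Scheme.Modules.pullback g).obj F) := by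
  haveI : F.IsQuasicoherent := isQuasicoherent_of_isFinitePresentation F
  haveI : ((Scheme.Modules.pullback g).obj F).IsQuasicoherent := isQuasicoherent_pullback g F
  have hex : ∀ x' : X', ∃ (UY : X'.Opens) (UX : X.Opens), IsAffineOpen UY ∧ IsAffineOpen UX ∧
      x' ∈ UY ∧ UY ≤ g ⁻¹ᵁ UX := by
    intro x'
    obtain ⟨UX, hUX, hxUX, -⟩ := Opens.isBasis_iff_nbhd.mp X.isBasis_affineOpens
      (show g x' ∈ (⊤ : X.Opens) from trivial)
    obtain ⟨UY, hUY, hxUY, hle⟩ := Opens.isBasis_iff_nbhd.mp X'.isBasis_affineOpens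
      (show x' ∈ g ⁻¹ᵁ UX from hxUX)
    exact ⟨UY, UX, hUY, hUX, hxUY, hle⟩
  choose UY UX hUY hUX hx hle using hex
  refine isFinitePresentation_of_fp_cover _ UY ?_ hUY (fun x' => ?_)
  · refine IsOpenCover.mk (top_le_iff.mp fun x' _ => ?_)
    exact Opens.mem_iSup.mpr ⟨x', hx x'⟩
  · letI : Algebra Γ(X, UX x') Γ(X', UY x') := (g.appLE _ _ (hle x')).hom.toAlgebra
    letI : Module Γ(X, UX x') Γ((Scheme.Modules.pullback g).obj F, UY x') :=
      Module.compHom _ (algebraMap Γ(X, UX x') Γ(X', UY x'))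
    haveI : IsScalarTower Γ(X, UX x') Γ(X', UY x') Γ((Scheme.Modules.pullback g).obj F, UY x') :=
      IsScalarTower.of_compHom _ _ _
    obtain ⟨ψ, hψ⟩ := exists_isBaseChange_sections g F (hUY x') (hUX x') (hle x') rfl
    haveI := fp_of_isAffineOpen F (hUX x')
    exact FinitePresentation.of_isBaseChange ψ hψ

end Groth.Agent.Lib.Helper25.FlatChartGen
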