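import Mathlib
import Groth.Agent.Lib.Helper17.ModPullback
import Groth.Agent.Lib.Helper7.FPKerScheme

set_option backward.isDefEq.respectTransparency.types false
set_option autoImplicit false
set_option linter.unusedVariables false
set_option linter.style.haveILetI false
universe u
open AlgebraicGeometry CategoryTheory Limits TensorProduct TopologicalSpace Opposite

namespace Groth.Agent.Lib.Helper25.SecBCNat

open Groth.Agent.Lib.Helper17.ModPullback Scheme.Modules

variable {X Y : Scheme.{u}}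

/-- naturality of `sectionsRestrictEquiv` -/
theorem sectionsRestrictEquiv_naturality {M N : X.Modules} (ψ : M ⟶ N) {U : X.Opens}
    (hU : IsAffineOpen U) (y : moduleSpecΓFunctor.obj (M.restrict hU.fromSpec)) :
    sectionsRestrictEquiv N hU
      ((moduleSpecΓFunctor.map ((restrictFunctor hU.fromSpec).map ψ)).hom y) =
      ψ.app U (sectionsRestrictEquiv M hU y) := by
  have := ψ.mapPresheaf.naturality (eqToHom (congrArg op (fromSpec_image_top hU)))
  exact congr($(this).hom y).symm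

/-- naturality of `S2265.extendIso` -/
theorem extendIso_naturality (A' A : Type u) [CommRing A'] [CommRing A] [Algebra A' A]
    {N' N'' : Type u} [AddCommGroup N'] [Module A' N'] [AddCommGroup N''] [Module A' N'']
    (α : N' →ₗ[A'] N'')
    (t : ↑((ModuleCat.extendScalars.{u, u, u} (algebraMap A' A)).obj (ModuleCat.of A' N'))) :
    (Groth.Agent.S2265.extendIso A' A N'').toLinearEquiv
      (((ModuleCat.extendScalars.{u, u, u} (algebraMap A' A)).map (ModuleCat.ofHom α)).hom t) =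
      (α.baseChange A) ((Groth.Agent.S2265.extendIso A' A N').toLinearEquiv t) := by
  obtain ⟨z, rfl⟩ := (Groth.Agent.S2265.extendIso A' A N').toLinearEquiv.symm.surjective t
  rw [LinearEquiv.apply_symm_apply]
  induction z using TensorProduct.induction_on with
  | zero => rw [map_zero, map_zero, map_zero, map_zero]
  | tmul a n => rfl
  | add x y hx hy => rw [map_add, map_add, map_add, hx, hy, map_add]

/-- naturality of `restrictIsoTilde` -/
theorem restrictIsoTilde_naturality {G₁ G₂ : Y.Modules} [G₁.IsQuasicoherent] [G₂.IsQuasicoherent]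
    (u : G₁ ⟶ G₂) {V : Y.Opens} (hV : IsAffineOpen V) :
    (restrictFunctor hV.fromSpec).map u ≫ (restrictIsoTilde G₂ hV).hom =
      (restrictIsoTilde G₁ hV).hom ≫
        tilde.map (moduleSpecΓFunctor.map ((restrictFunctor hV.fromSpec).map u)) := by
  have h := fromTildeΓNatTrans.naturality ((restrictFunctor hV.fromSpec).map u)
  refine (Iso.comp_inv_eq (asIso (G₂.restrict hV.fromSpec).fromTildeΓ)).2 ?_
  exact ((Iso.eq_inv_comp (asIso (G₁.restrict hV.fromSpec).fromTildeΓ)).2 h.symm).trans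
    (Category.assoc _ _ _).symm

theorem chain3 {C : Type*} [Category C] {A₁ A₂ B₁ B₂ C₁ C₂ D₁ D₂ : C} {a : A₁ ⟶ A₂} {b : B₁ ⟶ B₂}
    {c : C₁ ⟶ C₂} {d : D₁ ⟶ D₂} {p₁ : A₁ ⟶ B₁} {p₂ : A₂ ⟶ B₂} {q₁ : B₁ ⟶ C₁} {q₂ : B₂ ⟶ C₂}
    {r₁ : C₁ ⟶ D₁} {r₂ : C₂ ⟶ D₂} (h1 : a ≫ p₂ = p₁ ≫ b) (h2 : b ≫ q₂ = q₁ ≫ c)
    (h3 : c ≫ r₂ = r₁ ≫ d) : a ≫ (p₂ ≫ q₂ ≫ r₂) = (p₁ ≫ q₁ ≫ r₁) ≫ d := by
  rw [reassoc_of% h1, reassoc_of% h2, h3, Category.assoc, Category.assoc]

theorem chain2 {C : Type*} [Category C] {A₁ A₂ B₁ B₂ C₁ C₂ : C} {a : A₁ ⟶ A₂} {b : B₁ ⟶ B₂}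
    {c : C₁ ⟶ C₂} {p₁ : A₁ ⟶ B₁} {p₂ : A₂ ⟶ B₂} {q₁ : B₁ ⟶ C₁} {q₂ : B₂ ⟶ C₂}
    (h1 : a ≫ p₂ = p₁ ≫ b) (h2 : b ≫ q₂ = q₁ ≫ c) : a ≫ (p₂ ≫ q₂) = (p₁ ≫ q₁) ≫ c := by
  rw [reassoc_of% h1, h2, Category.assoc]

/-- naturality of `pullbackRestrictIsoTilde` -/
theorem pullbackRestrictIsoTilde_naturality (f : X ⟶ Y) {G₁ G₂ : Y.Modules}
    [G₁.IsQuasicoherent] [G₂.IsQuasicoherent] (u : G₁ ⟶ G₂)
    {U : X.Opens} (hU : IsAffineOpen U) {V : Y.Opens} (hV : IsAffineOpen V) (e : U ≤ f ⁻¹ᵁ V) :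
    (restrictFunctor hU.fromSpec).map ((Scheme.Modules.pullback f).map u) ≫
        (pullbackRestrictIsoTilde f G₂ hU hV e).hom =
      (pullbackRestrictIsoTilde f G₁ hU hV e).hom ≫
        tilde.map ((ModuleCat.extendScalars.{u, u, u} (f.appLE V U e).hom).map
          (moduleSpecΓFunctor.map ((restrictFunctor hV.fromSpec).map u))) := by
  have h1 := (pullbackFromSpecIso f hU hV e).hom.naturality u
  have h2 := congrArg (fun t => (Scheme.Modules.pullback (Spec.map (f.appLE V U e))).map t)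
    (restrictIsoTilde_naturality u hV)
  simp only [Functor.map_comp] at h2
  have h3 := (Groth.Agent.S2265.leftIso (f.appLE V U e)).hom.naturality
    (moduleSpecΓFunctor.map ((restrictFunctor hV.fromSpec).map u))
  exact chain3 h1 h2 h3

/-- naturality of `pullbackSectionsIso` -/
theorem pullbackSectionsIso_naturality (f : X ⟶ Y) {G₁ G₂ : Y.Modules}
    [G₁.IsQuasicoherent] [G₂.IsQuasicoherent] (u : G₁ ⟶ G₂)
    {U : X.Opens} (hU : IsAffineOpen U) {V : Y.Opens} (hV : IsAffineOpen V) (e : U ≤ f ⁻¹ᵁ V) :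
    moduleSpecΓFunctor.map ((restrictFunctor hU.fromSpec).map ((Scheme.Modules.pullback f).map u)) ≫
        (pullbackSectionsIso f G₂ hU hV e).hom =
      (pullbackSectionsIso f G₁ hU hV e).hom ≫
        (ModuleCat.extendScalars.{u, u, u} (f.appLE V U e).hom).map
          (moduleSpecΓFunctor.map ((restrictFunctor hV.fromSpec).map u)) := by
  have h1 := congrArg (fun t => moduleSpecΓFunctor.map t)
    (pullbackRestrictIsoTilde_naturality f u hU hV e)
  simp only [Functor.map_comp] at h1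
  have h2 := (tilde.toTildeΓNatIso (R := Γ(X, U))).inv.naturality
    ((ModuleCat.extendScalars.{u, u, u} (f.appLE V U e).hom).map
          (moduleSpecΓFunctor.map ((restrictFunctor hV.fromSpec).map u)))
  exact chain2 h1 h2

open Groth.Agent.Lib.Helper7.FPKer in
/-- the explicit base-change equivalence on sections of a pullback over affine opens
(helper17's construction, as a definition). -/
noncomputable def secEquiv (f : X ⟶ Y) (G : Y.Modules) [G.IsQuasicoherent]
    {U : X.Opens} (hU : IsAffineOpen U) {V : Y.Opens} (hV : IsAffineOpen V) (e : U ≤ f ⁻¹ᵁ V) :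
    letI := (f.appLE V U e).hom.toAlgebra
    Γ((Scheme.Modules.pullback f).obj G, U) ≃ₗ[Γ(X, U)] (Γ(X, U) ⊗[Γ(Y, V)] Γ(G, V)) :=
  letI := (f.appLE V U e).hom.toAlgebra
  (sectionsRestrictEquiv ((Scheme.Modules.pullback f).obj G) hU).symm ≪≫ₗ
    (pullbackSectionsIso f G hU hV e).toLinearEquiv ≪≫ₗ
    (Groth.Agent.S2265.extendIso Γ(Y, V) Γ(X, U)
      (moduleSpecΓFunctor.obj (G.restrict hV.fromSpec))).toLinearEquiv ≪≫ₗ
    TensorProduct.AlgebraTensorModule.congr (LinearEquiv.refl Γ(X, U) Γ(X, U))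
      (sectionsRestrictEquiv G hV)

theorem step1 (f : X ⟶ Y) {G₁ G₂ : Y.Modules} (u : G₁ ⟶ G₂)
    {U : X.Opens} (hU : IsAffineOpen U) (s : Γ((Scheme.Modules.pullback f).obj G₁, U)) :
    (sectionsRestrictEquiv ((Scheme.Modules.pullback f).obj G₂) hU).symm
      (((Scheme.Modules.pullback f).map u).app U s) =
      (moduleSpecΓFunctor.map ((restrictFunctor hU.fromSpec).map
        ((Scheme.Modules.pullback f).map u))).hom
        ((sectionsRestrictEquiv ((Scheme.Modules.pullback f).obj G₁) hU).symm s) := by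
  rw [LinearEquiv.symm_apply_eq, sectionsRestrictEquiv_naturality,
    LinearEquiv.apply_symm_apply]

set_option maxRecDepth 8000 in
theorem step2 (f : X ⟶ Y) {G₁ G₂ : Y.Modules}
    [G₁.IsQuasicoherent] [G₂.IsQuasicoherent] (u : G₁ ⟶ G₂)
    {U : X.Opens} (hU : IsAffineOpen U) {V : Y.Opens} (hV : IsAffineOpen V) (e : U ≤ f ⁻¹ᵁ V)
    (t : ↑(moduleSpecΓFunctor.obj (((Scheme.Modules.pullback f).obj G₁).restrict hU.fromSpec))) :
    (pullbackSectionsIso f G₂ hU hV e).toLinearEquiv
      ((moduleSpecΓFunctor.map ((restrictFunctor hU.fromSpec).map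
        ((Scheme.Modules.pullback f).map u))).hom t) =
      ((ModuleCat.extendScalars.{u, u, u} (f.appLE V U e).hom).map
          (moduleSpecΓFunctor.map ((restrictFunctor hV.fromSpec).map u))).hom
        ((pullbackSectionsIso f G₁ hU hV e).toLinearEquiv t) :=
  LinearMap.congr_fun (congrArg ModuleCat.Hom.hom (pullbackSectionsIso_naturality f u hU hV e)) t

open Groth.Agent.Lib.Helper7.FPKer in
set_option synthInstance.maxHeartbeats 200000 in
set_option maxHeartbeats 1000000 in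
theorem step4 (f : X ⟶ Y) {G₁ G₂ : Y.Modules} (u : G₁ ⟶ G₂)
    {U : X.Opens} {V : Y.Opens} (hV : IsAffineOpen V) (e : U ≤ f ⁻¹ᵁ V) :
    letI := (f.appLE V U e).hom.toAlgebra
    ∀ z : Γ(X, U) ⊗[Γ(Y, V)] ↑(moduleSpecΓFunctor.obj (G₁.restrict hV.fromSpec)),
      TensorProduct.AlgebraTensorModule.congr (LinearEquiv.refl Γ(X, U) Γ(X, U))
        (sectionsRestrictEquiv G₂ hV)
        (((moduleSpecΓFunctor.map ((restrictFunctor hV.fromSpec).map u)).hom.baseChange Γ(X, U)) z) =
      ((appLinear u V).baseChange Γ(X, U))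
        (TensorProduct.AlgebraTensorModule.congr (LinearEquiv.refl Γ(X, U) Γ(X, U))
          (sectionsRestrictEquiv G₁ hV) z) := by
  letI := (f.appLE V U e).hom.toAlgebra
  intro z
  induction z using TensorProduct.induction_on with
  | zero => rw [map_zero, map_zero, map_zero, map_zero]
  | tmul a n =>
    rw [LinearMap.baseChange_tmul, TensorProduct.AlgebraTensorModule.congr_tmul,
      TensorProduct.AlgebraTensorModule.congr_tmul, LinearMap.baseChange_tmul,
      sectionsRestrictEquiv_naturality]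
    rfl
  | add x y hx hy => rw [map_add, map_add, map_add, map_add, hx, hy]

set_option maxRecDepth 8000 in
set_option synthInstance.maxHeartbeats 200000 in
set_option maxHeartbeats 1000000 in
open Groth.Agent.Lib.Helper7.FPKer in
/-- **Naturality of the base-change equivalence on sections.** -/
theorem secEquiv_naturality (f : X ⟶ Y) {G₁ G₂ : Y.Modules}
    [G₁.IsQuasicoherent] [G₂.IsQuasicoherent] (u : G₁ ⟶ G₂)
    {U : X.Opens} (hU : IsAffineOpen U) {V : Y.Opens} (hV : IsAffineOpen V) (e : U ≤ f ⁻¹ᵁ V)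
    (s : Γ((Scheme.Modules.pullback f).obj G₁, U)) :
    letI := (f.appLE V U e).hom.toAlgebra
    secEquiv f G₂ hU hV e (((Scheme.Modules.pullback f).map u).app U s) =
      ((appLinear u V).baseChange Γ(X, U)) (secEquiv f G₁ hU hV e s) := by
  letI := (f.appLE V U e).hom.toAlgebra
  have s3 := extendIso_naturality Γ(Y, V) Γ(X, U)
    (moduleSpecΓFunctor.map ((restrictFunctor hV.fromSpec).map u)).hom
  simp only [secEquiv, LinearEquiv.trans_apply]
  rw [step1, step2]
  erw [s3]
  exact step4 f u hV e _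

end Groth.Agent.Lib.Helper25.SecBCNat
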