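import Mathlib
import Groth.Agent.Lib.Helper28.ModIsoCover
import Groth.Agent.Lib.Helper28.EpiAffine
import Groth.Agent.Lib.Helper25.SecBCNat

/-!
# helper25 — ModMapLocal: morphisms of quasi-coherent modules, affine-locally
* `eq_of_affine_cover`: two morphisms agreeing on the sections over an affine cover are equal;
* `compIso`, `isIso_map_comp_iff`, `epi_map_comp_iff`, `map_comp_eq_iff`: the pullback of a morphism of modules along
  a composite;
* `app_pullback_*_iff`: sections of a pulled back morphism over affine opens are the base change.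
-/

set_option backward.isDefEq.respectTransparency.types false
set_option autoImplicit false
set_option linter.unusedVariables false
set_option linter.style.haveILetI false
set_option linter.unusedSectionVars false
universe u
open AlgebraicGeometry CategoryTheory Limits TensorProduct TopologicalSpace Opposite

namespace Groth.Agent.Lib.Helper25.ModMapLocal

open Groth.Agent.Lib.Helper28.QCohLoc

section Local

variable {X : Scheme.{u}} {G₁ G₂ : X.Modules} (α β : G₁ ⟶ G₂)

/-- agreement on an affine open propagates to the opens below it -/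
theorem app_eq_of_le {U : X.Opens} (hU : IsAffineOpen U) (h₁ : IsLocOn G₁ U)
    (h : ∀ y : Γ(G₁, U), α.app U y = β.app U y) {W : X.Opens} (hW : W ≤ U) (y : Γ(G₁, W)) :
    α.app W y = β.app W y := by
  have hpt : ∀ q : W, ∃ (V : X.Opens) (hV : V ≤ W), q.1 ∈ V ∧
      res G₂ hV (α.app W y) = res G₂ hV (β.app W y) := by
    intro q
    obtain ⟨r, hr, hqr⟩ := hU.exists_basicOpen_le (V := W) ⟨q.1, q.2⟩ (hW q.2)
    obtain ⟨k, m, hkm⟩ := h₁.surj r (res G₁ hr y)
    refine ⟨X.basicOpen r, hr, hqr, ?_⟩
    rw [← app_res, ← app_res]
    have e1 : (ur r) ^ k • α.app (X.basicOpen r) (res G₁ hr y) =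
        (ur r) ^ k • β.app (X.basicOpen r) (res G₁ hr y) := by
      rw [← Scheme.Modules.Hom.app_smul, ← Scheme.Modules.Hom.app_smul, hkm, app_res, app_res, h m]
    exact ((isUnit_ur r).pow k).smul_left_cancel.1 e1
  choose V hV hqV hres using hpt
  refine eq_of_locally_eq G₂ V W hV ?_ _ _ hres
  intro q hq
  exact Opens.mem_iSup.mpr ⟨⟨q, hq⟩, hqV ⟨q, hq⟩⟩

/-- **two morphisms of modules which agree on the sections over the members of an affine cover are equal** -/
theorem eq_of_affine_cover {ι : Type*} (U : ι → X.Opens) (hU : ∀ i, IsAffineOpen (U i))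
    (hcov : ∀ x : X, ∃ i, x ∈ U i) (h₁ : ∀ i, IsLocOn G₁ (U i))
    (h : ∀ i (y : Γ(G₁, U i)), α.app (U i) y = β.app (U i) y) : α = β := by
  apply Scheme.Modules.hom_ext
  intro W
  ext y
  refine eq_of_locally_eq G₂ (fun i => W ⊓ U i) W (fun i => inf_le_left) ?_ _ _ ?_
  · intro q hq
    obtain ⟨i, hi⟩ := hcov q
    exact Opens.mem_iSup.mpr ⟨i, ⟨hq, hi⟩⟩
  · intro i
    rw [← app_res, ← app_res]
    exact app_eq_of_le α β (hU i) (h₁ i) (h i) inf_le_right _

end Local

section Comp

variable {X Y Z : Scheme.{u}} (f : X ⟶ Y) (g : Y ⟶ Z) (h : X ⟶ Z) (w : f ≫ g = h)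

/-- pullback along a composite -/
noncomputable def compIso :
    Scheme.Modules.pullback g ⋙ Scheme.Modules.pullback f ≅ Scheme.Modules.pullback h :=
  Scheme.Modules.pullbackComp f g ≪≫ Scheme.Modules.pullbackCongr w

variable {M N : Z.Modules} (u v : M ⟶ N)

theorem compIso_naturality :
    (Scheme.Modules.pullback f).map ((Scheme.Modules.pullback g).map u) ≫
        (compIso f g h w).hom.app N =
      (compIso f g h w).hom.app M ≫ (Scheme.Modules.pullback h).map u :=
  (compIso f g h w).hom.naturality u

include w in
theorem isIso_map_comp_iff :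
    IsIso ((Scheme.Modules.pullback h).map u) ↔
      IsIso ((Scheme.Modules.pullback f).map ((Scheme.Modules.pullback g).map u)) :=
  (NatIso.isIso_map_iff (compIso f g h w) u).symm

include w in
theorem epi_map_comp_iff :
    Epi ((Scheme.Modules.pullback h).map u) ↔
      Epi ((Scheme.Modules.pullback f).map ((Scheme.Modules.pullback g).map u)) := by
  have hn := compIso_naturality f g h w u
  constructor
  · intro hE
    haveI := hE
    have h1 : Epi ((Scheme.Modules.pullback f).map ((Scheme.Modules.pullback g).map u) ≫
        (compIso f g h w).hom.app N) := by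
      rw [hn]; infer_instance
    have h2 : (Scheme.Modules.pullback f).map ((Scheme.Modules.pullback g).map u) =
        ((Scheme.Modules.pullback f).map ((Scheme.Modules.pullback g).map u) ≫
        (compIso f g h w).hom.app N) ≫ (compIso f g h w).inv.app N := by
      rw [Category.assoc, Iso.hom_inv_id_app]
      exact (Category.comp_id _).symm
    rw [h2]
    infer_instance
  · intro hE
    haveI := hE
    have h1 : Epi ((compIso f g h w).hom.app M ≫ (Scheme.Modules.pullback h).map u) := by
      rw [← hn]; infer_instance
    exact epi_of_epi ((compIso f g h w).hom.app M) _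

include w in
theorem mono_map_comp_iff :
    Mono ((Scheme.Modules.pullback h).map u) ↔
      Mono ((Scheme.Modules.pullback f).map ((Scheme.Modules.pullback g).map u)) := by
  have hn := compIso_naturality f g h w u
  constructor
  · intro hE
    haveI := hE
    have h1 : Mono ((Scheme.Modules.pullback f).map ((Scheme.Modules.pullback g).map u) ≫
        (compIso f g h w).hom.app N) := by
      rw [hn]; infer_instance
    exact mono_of_mono _ ((compIso f g h w).hom.app N)
  · intro hE
    haveI := hE
    have h2 : (Scheme.Modules.pullback h).map u =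
        (compIso f g h w).inv.app M ≫ (Scheme.Modules.pullback f).map
          ((Scheme.Modules.pullback g).map u) ≫ (compIso f g h w).hom.app N := by
      rw [hn, Iso.inv_hom_id_app_assoc]
    rw [h2]
    infer_instance

include w in
theorem map_comp_eq_iff :
    (Scheme.Modules.pullback h).map u = (Scheme.Modules.pullback h).map v ↔
      (Scheme.Modules.pullback f).map ((Scheme.Modules.pullback g).map u) =
        (Scheme.Modules.pullback f).map ((Scheme.Modules.pullback g).map v) := by
  have hu := compIso_naturality f g h w u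
  have hv := compIso_naturality f g h w v
  constructor
  · intro e
    rw [e, ← hv] at hu
    exact (cancel_mono _).1 hu
  · intro e
    rw [e, hv] at hu
    exact ((cancel_epi _).1 hu).symm

include w in
/-- properties of a pulled-back morphism persist under further pullback -/
theorem epi_map_of_comp (hE : Epi ((Scheme.Modules.pullback g).map u)) :
    Epi ((Scheme.Modules.pullback h).map u) := by
  rw [epi_map_comp_iff f g h w]
  haveI := hE
  infer_instance

include w in
theorem isIso_map_of_comp (hE : IsIso ((Scheme.Modules.pullback g).map u)) :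
    IsIso ((Scheme.Modules.pullback h).map u) := by
  rw [isIso_map_comp_iff f g h w]
  haveI := hE
  infer_instance

include w in
theorem map_eq_of_comp
    (hE : (Scheme.Modules.pullback g).map u = (Scheme.Modules.pullback g).map v) :
    (Scheme.Modules.pullback h).map u = (Scheme.Modules.pullback h).map v := by
  rw [map_comp_eq_iff f g h w, hE]

end Comp

section Chart

theorem surjective_iff_of_conj {S₁ S₂ T₁ T₂ : Type*} (e₁ : S₁ ≃ T₁) (e₂ : S₂ ≃ T₂) (a : S₁ → S₂)
    (b : T₁ → T₂) (h : ∀ s, e₂ (a s) = b (e₁ s)) : Function.Surjective a ↔ Function.Surjective b := by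
  have hb : b = e₂ ∘ a ∘ e₁.symm := by
    funext t
    simp only [Function.comp_apply]
    rw [h, Equiv.apply_symm_apply]
  rw [hb]
  constructor
  · intro ha
    exact e₂.surjective.comp (ha.comp e₁.symm.surjective)
  · intro hs s₂
    obtain ⟨t, ht⟩ := hs (e₂ s₂)
    exact ⟨e₁.symm t, e₂.injective ht⟩

theorem injective_iff_of_conj {S₁ S₂ T₁ T₂ : Type*} (e₁ : S₁ ≃ T₁) (e₂ : S₂ ≃ T₂) (a : S₁ → S₂)
    (b : T₁ → T₂) (h : ∀ s, e₂ (a s) = b (e₁ s)) : Function.Injective a ↔ Function.Injective b := by
  have hb : b = e₂ ∘ a ∘ e₁.symm := by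
    funext t
    simp only [Function.comp_apply]
    rw [h, Equiv.apply_symm_apply]
  rw [hb]
  constructor
  · intro ha
    exact e₂.injective.comp (ha.comp e₁.symm.injective)
  · intro hs s s' hss'
    have := @hs (e₁ s) (e₁ s') (by
      simp only [Function.comp_apply, Equiv.symm_apply_apply]
      rw [hss'])
    exact e₁.injective this

theorem eq_iff_of_conj {S₁ S₂ T₁ T₂ : Type*} (e₁ : S₁ ≃ T₁) (e₂ : S₂ ≃ T₂) (a a' : S₁ → S₂)
    (b b' : T₁ → T₂) (h : ∀ s, e₂ (a s) = b (e₁ s)) (h' : ∀ s, e₂ (a' s) = b' (e₁ s)) :
    (∀ s, a s = a' s) ↔ (∀ t, b t = b' t) := by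
  constructor
  · intro H t
    obtain ⟨s, rfl⟩ := e₁.surjective t
    rw [← h, ← h', H]
  · intro H s
    apply e₂.injective
    rw [h, h', H]

open Groth.Agent.Lib.Helper25.SecBCNat Groth.Agent.Lib.Helper7.FPKer

variable {X Y : Scheme.{u}} (f : X ⟶ Y) {G₁ G₂ : Y.Modules} [G₁.IsQuasicoherent] [G₂.IsQuasicoherent]
  (u v : G₁ ⟶ G₂) {U : X.Opens} (hU : IsAffineOpen U) {V : Y.Opens} (hV : IsAffineOpen V)
  (e : U ≤ f ⁻¹ᵁ V)

include hU hV in
theorem app_pullback_surjective_iff :
    letI := (f.appLE V U e).hom.toAlgebra
    Function.Surjective (((Scheme.Modules.pullback f).map u).app U) ↔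
      Function.Surjective ((appLinear u V).baseChange Γ(X, U)) := by
  letI := (f.appLE V U e).hom.toAlgebra
  exact surjective_iff_of_conj (secEquiv f G₁ hU hV e).toEquiv (secEquiv f G₂ hU hV e).toEquiv _ _
    (secEquiv_naturality f u hU hV e)

include hU hV in
theorem app_pullback_injective_iff :
    letI := (f.appLE V U e).hom.toAlgebra
    Function.Injective (((Scheme.Modules.pullback f).map u).app U) ↔
      Function.Injective ((appLinear u V).baseChange Γ(X, U)) := by
  letI := (f.appLE V U e).hom.toAlgebra
  exact injective_iff_of_conj (secEquiv f G₁ hU hV e).toEquiv (secEquiv f G₂ hU hV e).toEquiv _ _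
    (secEquiv_naturality f u hU hV e)

include hU hV in
theorem app_pullback_bijective_iff :
    letI := (f.appLE V U e).hom.toAlgebra
    Function.Bijective (((Scheme.Modules.pullback f).map u).app U) ↔
      Function.Bijective ((appLinear u V).baseChange Γ(X, U)) := by
  letI := (f.appLE V U e).hom.toAlgebra
  exact and_congr (app_pullback_injective_iff f u hU hV e) (app_pullback_surjective_iff f u hU hV e)

include hU hV in
theorem app_pullback_eq_iff :
    letI := (f.appLE V U e).hom.toAlgebra
    (∀ s, ((Scheme.Modules.pullback f).map u).app U s = ((Scheme.Modules.pullback f).map v).app U s) ↔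
      (∀ t, (appLinear u V).baseChange Γ(X, U) t = (appLinear v V).baseChange Γ(X, U) t) := by
  letI := (f.appLE V U e).hom.toAlgebra
  exact eq_iff_of_conj (secEquiv f G₁ hU hV e).toEquiv (secEquiv f G₂ hU hV e).toEquiv _ _ _ _
    (secEquiv_naturality f u hU hV e) (secEquiv_naturality f v hU hV e)

end Chart

end Groth.Agent.Lib.Helper25.ModMapLocal
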