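import Mathlib
import Groth.Agent.Lib.Helper21.FlatDescJ

/-!
# helper25 — FlatStageCat: descent of flatness to a stage of a colimit indexed by a cofiltered
category (elementwise description), variant of helper21's `FlatDescJ.exists_flat_stage`.
-/

set_option autoImplicit false
set_option linter.unusedVariables false
set_option linter.style.haveILetI false
set_option linter.unusedSectionVars false
universe u
open CategoryTheory TensorProduct

namespace Groth.Agent.Lib.Helper25.FlatStageCat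

open Groth.Agent.Lib.Helper21.FlatDesc Groth.Agent.Lib.Helper17.ColimSys

attribute [local instance] MvPolynomial.algebraMvPolynomial

section Abstract

variable {ι : Type u} {A₀ : Type u} [CommRing A₀] {G : ι → Type u} [∀ i, CommRing (G i)]
  [∀ i, Algebra A₀ (G i)] {A : Type u} [CommRing A] [Algebra A₀ A]
  (hlift : ∀ (Z₀ : Subalgebra ℤ A₀) (A' : Subalgebra Z₀ A), Z₀.FG → A'.FG →
    ∃ l, Nonempty (A' →ₐ[Z₀] G l))

set_option synthInstance.maxHeartbeats 200000 in
include hlift in
theorem exists_flat_stage_pol' (n : ℕ) (M₀ : Type u) [AddCommGroup M₀]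
    [Module (MvPolynomial (Fin n) A₀) M₀] [Module A₀ M₀]
    [IsScalarTower A₀ (MvPolynomial (Fin n) A₀) M₀]
    [Module.FinitePresentation (MvPolynomial (Fin n) A₀) M₀] [Module.Flat A (A ⊗[A₀] M₀)] :
    ∃ i, Module.Flat (G i) (G i ⊗[A₀] M₀) := by
  obtain ⟨Z₀, m, b, v', hfg, -, ⟨e⟩⟩ := exists_fg_model_pol A₀ n M₀ ∅
  haveI := noetherian_of_fg_int Z₀ hfg
  haveI : Module.Flat A (St Z₀ n (PresMod v') A) :=
    Module.Flat.of_linearEquiv (stEquiv M₀ (PresMod v') e A).symm
  obtain ⟨A', hA'fg, hA'flat⟩ := exists_fg_flat_St (R₀ := Z₀) (n := n) (PresMod v') A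
  obtain ⟨l, ⟨φ⟩⟩ := hlift Z₀ A' hfg hA'fg
  refine ⟨l, ?_⟩
  letI : Algebra A' (G l) := φ.toRingHom.toAlgebra
  haveI : IsScalarTower Z₀ A' (G l) := IsScalarTower.of_algebraMap_eq fun r => (φ.commutes r).symm
  haveI : Module.Flat (G l) (St Z₀ n (PresMod v') (G l)) :=
    flat_St_baseChange (PresMod v') A' (G l)
  exact Module.Flat.of_linearEquiv (stEquiv M₀ (PresMod v') e (G l))

include hlift in
theorem exists_flat_stage' {B₀ : Type u} [CommRing B₀] [Algebra A₀ B₀]
    [Algebra.FinitePresentation A₀ B₀]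
    (M₀ : Type u) [AddCommGroup M₀] [Module B₀ M₀] [Module A₀ M₀] [IsScalarTower A₀ B₀ M₀]
    [Module.FinitePresentation B₀ M₀] [Module.Flat A (A ⊗[A₀] M₀)] :
    ∃ i, Module.Flat (G i) (G i ⊗[A₀] M₀) := by
  obtain ⟨n, f₀, hf, hkerf⟩ := Algebra.FinitePresentation.out (R := A₀) (A := B₀)
  letI : Algebra (MvPolynomial (Fin n) A₀) B₀ := f₀.toRingHom.toAlgebra
  letI : Module (MvPolynomial (Fin n) A₀) M₀ := Module.compHom M₀ f₀.toRingHom
  haveI : IsScalarTower (MvPolynomial (Fin n) A₀) B₀ M₀ :=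
    IsScalarTower.of_algebraMap_smul fun _ _ => rfl
  haveI : IsScalarTower A₀ (MvPolynomial (Fin n) A₀) B₀ :=
    IsScalarTower.of_algebraMap_eq fun r => (f₀.commutes r).symm
  haveI : IsScalarTower A₀ (MvPolynomial (Fin n) A₀) M₀ := ⟨fun r p m => by
    show f₀ (r • p) • m = r • (f₀ p • m)
    rw [map_smul, smul_assoc]⟩
  haveI : Module.FinitePresentation (MvPolynomial (Fin n) A₀) B₀ := by
    refine Module.finitePresentation_of_surjective
      (Algebra.linearMap (MvPolynomial (Fin n) A₀) B₀) hf ?_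
    have : LinearMap.ker (Algebra.linearMap (MvPolynomial (Fin n) A₀) B₀) =
        RingHom.ker f₀.toRingHom := by
      ext x; rfl
    rw [this]; exact hkerf
  haveI : Module.FinitePresentation (MvPolynomial (Fin n) A₀) M₀ :=
    Module.FinitePresentation.trans (MvPolynomial (Fin n) A₀) M₀ B₀
  exact exists_flat_stage_pol' hlift n M₀

end Abstract

section Cat

variable {K : Type u} [SmallCategory K] [IsCofiltered K]
  {A₀ : Type u} [CommRing A₀] {G : K → Type u} [∀ i, CommRing (G i)] [∀ i, Algebra A₀ (G i)]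
  {A : Type u} [CommRing A] [Algebra A₀ A]
  (τ : ∀ i, G i →ₐ[A₀] A) (σ : ∀ {i j : K}, (i ⟶ j) → (G j →ₐ[A₀] G i))
  (hστ : ∀ {i j : K} (f : i ⟶ j) (x : G j), τ i (σ f x) = τ j x)
  (hσσ : ∀ {i j k : K} (f : i ⟶ j) (g : j ⟶ k) (x : G k), σ f (σ g x) = σ (f ≫ g) x)
  (hsurj : ∀ a : A, ∃ i, ∃ x : G i, τ i x = a)
  (hker : ∀ i (x : G i), τ i x = 0 → ∃ j, ∃ f : j ⟶ i, σ f x = 0)

include hστ hσσ hker in
theorem kill_finset {α : Type*} (i : K) (s : Finset α) (x : α → G i)
    (hx : ∀ j ∈ s, τ i (x j) = 0) : ∃ (S : K) (g : S ⟶ i), ∀ j ∈ s, σ g (x j) = 0 := by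
  classical
  induction s using Finset.induction_on with
  | empty => exact ⟨i, 𝟙 i, fun j hj => absurd hj (Finset.notMem_empty j)⟩
  | insert a s ha ih =>
    obtain ⟨S, g, hg⟩ := ih (fun j hj => hx j (Finset.mem_insert_of_mem hj))
    have h0 : τ S (σ g (x a)) = 0 := by rw [hστ]; exact hx a (Finset.mem_insert_self a s)
    obtain ⟨S', h, hh⟩ := hker S _ h0
    refine ⟨S', h ≫ g, fun j hj => ?_⟩
    rw [← hσσ]
    rcases Finset.mem_insert.mp hj with rfl | hj
    · exact hh
    · rw [hg j hj, map_zero]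

include hστ hsurj in
theorem lift_finset {α : Type*} (s : Finset α) (a : α → A) :
    ∃ (S : K) (y : α → G S), ∀ k ∈ s, τ S (y k) = a k := by
  classical
  induction s using Finset.induction_on with
  | empty =>
    exact ⟨(IsCofiltered.nonempty (C := K)).some, fun _ => 0,
      fun j hj => absurd hj (Finset.notMem_empty j)⟩
  | insert b s hb ih =>
    obtain ⟨S, y, hy⟩ := ih
    obtain ⟨i', y', hy'⟩ := hsurj (a b)
    refine ⟨IsCofiltered.min S i', fun k => if k = b then σ (IsCofiltered.minToRight S i') y'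
      else σ (IsCofiltered.minToLeft S i') (y k), fun k hk => ?_⟩
    by_cases hkb : k = b
    · subst hkb
      simp only [if_true]
      rw [hστ, hy']
    · simp only [if_neg hkb]
      rw [hστ]
      exact hy k ((Finset.mem_insert.mp hk).resolve_left hkb)

include hστ hσσ hsurj hker in
/-- A finitely presented `Z₀`-algebra mapping to the colimit `A` maps to some stage. -/
theorem exists_lift (Z₀ : Type u) [CommRing Z₀] [Algebra Z₀ A₀] [∀ i, Algebra Z₀ (G i)]
    [∀ i, IsScalarTower Z₀ A₀ (G i)] [Algebra Z₀ A] [IsScalarTower Z₀ A₀ A]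
    (A' : Type u) [CommRing A'] [Algebra Z₀ A'] [Algebra.FinitePresentation Z₀ A']
    (t : A' →ₐ[Z₀] A) : ∃ l, Nonempty (A' →ₐ[Z₀] G l) := by
  classical
  let P := Algebra.Presentation.ofFinitePresentation Z₀ A'
  obtain ⟨S, y, hy⟩ := lift_finset τ σ hστ hsurj Finset.univ (fun k => t (P.val k))
  let τZ : ∀ i, G i →ₐ[Z₀] A := fun i => (τ i).restrictScalars Z₀
  let σZ : ∀ {i j : K}, (i ⟶ j) → (G j →ₐ[Z₀] G i) := fun f => (σ f).restrictScalars Z₀
  have he : ∀ j ∈ (Finset.univ : Finset _), τ S (MvPolynomial.aeval y (P.relation j)) = 0 := by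
    intro j _
    show τZ S (MvPolynomial.aeval y (P.relation j)) = 0
    rw [MvPolynomial.comp_aeval_apply]
    have : (fun k => τZ S (y k)) = fun k => t (P.val k) :=
      funext fun k => hy k (Finset.mem_univ k)
    rw [this, ← MvPolynomial.comp_aeval_apply, P.aeval_val_relation, map_zero]
  obtain ⟨S', g, hg⟩ := kill_finset τ σ hστ hσσ hker S Finset.univ
    (fun j => MvPolynomial.aeval y (P.relation j)) he
  refine ⟨S', nonempty_algHom_of_presentation Z₀ A' P (fun k => σ g (y k)) (fun j => ?_)⟩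
  show MvPolynomial.aeval (fun k => σZ g (y k)) (P.relation j) = 0
  rw [← MvPolynomial.comp_aeval_apply]
  exact hg j (Finset.mem_univ j)

include hστ hσσ hsurj hker in
/-- **Descent of flatness to a stage of a cofiltered-category-indexed colimit**. -/
theorem exists_flat_stage_cat {B₀ : Type u} [CommRing B₀] [Algebra A₀ B₀]
    [Algebra.FinitePresentation A₀ B₀]
    (M₀ : Type u) [AddCommGroup M₀] [Module B₀ M₀] [Module A₀ M₀] [IsScalarTower A₀ B₀ M₀]
    [Module.FinitePresentation B₀ M₀] [Module.Flat A (A ⊗[A₀] M₀)] :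
    ∃ i, Module.Flat (G i) (G i ⊗[A₀] M₀) := by
  refine exists_flat_stage' (G := G) (A := A) (B₀ := B₀) ?_ M₀
  intro Z₀ A' hZ hA'
  haveI := noetherian_of_fg_int Z₀ hZ
  haveI : Algebra.FiniteType Z₀ A' := (Subalgebra.fg_iff_finiteType A').1 hA'
  haveI : Algebra.FinitePresentation Z₀ A' :=
    Algebra.FinitePresentation.of_finiteType.1 inferInstance
  exact exists_lift τ σ hστ hσσ hsurj hker Z₀ A' A'.val

end Cat

end Groth.Agent.Lib.Helper25.FlatStageCat
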