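import Mathlib
import Groth.Agent.Lib.Helper25.FlatChartGen
import Groth.Agent.Lib.Helper25.FlatStageCat
import Groth.Agent.Lib.Helper22.LimBaseChange
import Groth.Agent.Lib.Helper9.LimSec
import Groth.Agent.Lib.Helper21.FlatDescL

/-!
# helper25 — LimFlatTower: pointwise flatness of a finitely presented module descends to a stage of a
cofiltered limit of schemes with affine transition maps (EGA IV 11.2.6, base = the limit).
-/

set_option backward.isDefEq.respectTransparency.types false
set_option autoImplicit false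
set_option linter.unusedVariables false
set_option linter.style.haveILetI false
set_option linter.unusedSectionVars false
universe u
open AlgebraicGeometry CategoryTheory Limits TensorProduct TopologicalSpace

namespace Groth.Agent.Lib.Helper25.LimFlatTower

open Groth.Agent.Lib.Helper22 Groth.Agent.Lib.Helper9.LimSec
  Groth.Agent.Lib.Helper25.FlatChartGen Groth.Agent.Lib.Helper25.FlatStageCat
  Groth.Agent.Lib.Helper7.FlatChart

variable {J : Type u} [SmallCategory J] [IsCofiltered J] (E : J ⥤ Scheme.{u})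
  (e : Cone E) [∀ (i j : J) (f : i ⟶ j), IsAffineHom (E.map f)]
  (k : J) {Xk : Scheme.{u}} (fk : Xk ⟶ E.obj k)

/-- projection from the limit of the `X`-tower to a stage -/
noncomputable def proj (m : Over k) : pullback (e.π.app k) fk ⟶ pullback (E.map m.hom) fk :=
  (bcCone E e k fk).π.app m

lemma proj_fst (m : Over k) : proj E e k fk m ≫ pullback.fst (E.map m.hom) fk =
    pullback.fst (e.π.app k) fk ≫ e.π.app m.left := bcCone_π_fst E e k fk m

lemma proj_snd (m : Over k) : proj E e k fk m ≫ pullback.snd (E.map m.hom) fk =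
    pullback.snd (e.π.app k) fk := bcCone_π_snd E e k fk m

lemma isPullback_proj (m : Over k) :
    IsPullback (proj E e k fk m) (pullback.fst (e.π.app k) fk) (pullback.fst (E.map m.hom) fk)
      (e.π.app m.left) := by
  refine IsPullback.of_right ?_ (proj_fst E e k fk m) (IsPullback.of_hasPullback (E.map m.hom) fk).flip
  rw [proj_snd, e.w]
  exact (IsPullback.of_hasPullback (e.π.app k) fk).flip

/-- transition map of the `X`-tower -/
noncomputable def trans {l : J} (a : l ⟶ k) {n : J} (b : n ⟶ l) :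
    pullback (E.map (b ≫ a)) fk ⟶ pullback (E.map a) fk :=
  pullback.lift (pullback.fst _ _ ≫ E.map b) (pullback.snd _ _)
    (by rw [Category.assoc, ← E.map_comp, pullback.condition])

lemma trans_fst {l : J} (a : l ⟶ k) {n : J} (b : n ⟶ l) :
    trans E k fk a b ≫ pullback.fst (E.map a) fk = pullback.fst (E.map (b ≫ a)) fk ≫ E.map b :=
  pullback.lift_fst _ _ _

lemma trans_snd {l : J} (a : l ⟶ k) {n : J} (b : n ⟶ l) :
    trans E k fk a b ≫ pullback.snd (E.map a) fk = pullback.snd (E.map (b ≫ a)) fk :=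
  pullback.lift_snd _ _ _

lemma isPullback_trans {l : J} (a : l ⟶ k) {n : J} (b : n ⟶ l) :
    IsPullback (trans E k fk a b) (pullback.fst (E.map (b ≫ a)) fk) (pullback.fst (E.map a) fk)
      (E.map b) := by
  refine IsPullback.of_right ?_ (trans_fst E k fk a b) (IsPullback.of_hasPullback (E.map a) fk).flip
  rw [trans_snd, ← E.map_comp]
  exact (IsPullback.of_hasPullback (E.map (b ≫ a)) fk).flip

lemma proj_mk_fst {l : J} (a : l ⟶ k) : proj E e k fk (Over.mk a) ≫ pullback.fst (E.map a) fk =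
    pullback.fst (e.π.app k) fk ≫ e.π.app l := proj_fst E e k fk (Over.mk a)

lemma proj_mk_snd {l : J} (a : l ⟶ k) : proj E e k fk (Over.mk a) ≫ pullback.snd (E.map a) fk =
    pullback.snd (e.π.app k) fk := proj_snd E e k fk (Over.mk a)

lemma proj_trans (m : Over k) (n : Over m.left) :
    proj E e k fk (Over.mk (n.hom ≫ m.hom)) ≫ trans E k fk m.hom n.hom = proj E e k fk m := by
  apply pullback.hom_ext
  · rw [Category.assoc, trans_fst, ← Category.assoc, proj_mk_fst, proj_fst, Category.assoc]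
    congr 1
    exact e.w n.hom
  · rw [Category.assoc, trans_snd, proj_mk_snd, proj_snd]


/-- transition maps of the tower `bcDiag E k fk`, with clean types -/
noncomputable def tmap {m' m : Over k} (φ : m' ⟶ m) :
    pullback (E.map m'.hom) fk ⟶ pullback (E.map m.hom) fk := (bcDiag E k fk).map φ

lemma tmap_fst {m' m : Over k} (φ : m' ⟶ m) : tmap E k fk φ ≫ pullback.fst (E.map m.hom) fk =
    pullback.fst (E.map m'.hom) fk ≫ E.map φ.left := bcDiag_map_fst E k fk φ

lemma tmap_snd {m' m : Over k} (φ : m' ⟶ m) : tmap E k fk φ ≫ pullback.snd (E.map m.hom) fk =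
    pullback.snd (E.map m'.hom) fk := bcDiag_map_snd E k fk φ

lemma isPullback_tmap {m' m : Over k} (φ : m' ⟶ m) :
    IsPullback (tmap E k fk φ) (pullback.fst (E.map m'.hom) fk)
      (pullback.fst (E.map m.hom) fk) (E.map φ.left) := by
  refine IsPullback.of_right ?_ (tmap_fst E k fk φ)
    (IsPullback.of_hasPullback (E.map m.hom) fk).flip
  rw [tmap_snd, ← E.map_comp, Over.w φ]
  exact (IsPullback.of_hasPullback (E.map m'.hom) fk).flip

/-- flatness passes to later stages of the tower -/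
lemma flatAt_of_map (Fk : Xk.Modules) [Fk.IsQuasicoherent] {m' m : Over k} (φ : m' ⟶ m)
    (x' : ↥(pullback (E.map m'.hom) fk))
    (h : FlatMod.IsFlatOverAt (pullback.fst (E.map m.hom) fk)
      ((Scheme.Modules.pullback (pullback.snd (E.map m.hom) fk)).obj Fk)
      (tmap E k fk φ x')) :
    FlatMod.IsFlatOverAt (pullback.fst (E.map m'.hom) fk)
      ((Scheme.Modules.pullback (pullback.snd (E.map m'.hom) fk)).obj Fk) x' := by
  have h1 := Groth.Agent.Lib.Helper17.FibreStalk.isFlatOverAt_baseChange _ _ _ _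
    (isPullback_tmap E k fk φ)
    ((Scheme.Modules.pullback (pullback.snd (E.map m.hom) fk)).obj Fk) x' h
  let eiso : (Scheme.Modules.pullback (tmap E k fk φ)).obj
      ((Scheme.Modules.pullback (pullback.snd (E.map m.hom) fk)).obj Fk) ≅
      (Scheme.Modules.pullback (pullback.snd (E.map m'.hom) fk)).obj Fk :=
    (Scheme.Modules.pullbackComp (tmap E k fk φ) (pullback.snd (E.map m.hom) fk)).app Fk ≪≫
      (Scheme.Modules.pullbackCongr (tmap_snd E k fk φ)).app Fk
  exact isFlatOverAt_of_iso _ eiso _ h1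

section Main

variable (he : IsLimit e) [LocallyOfFinitePresentation fk] (Fk : Xk.Modules)
  [SheafOfModules.IsFinitePresentation.{u} (R := Xk.ringCatSheaf) Fk]

include he in
/-- **Descent of pointwise flatness to a stage.** -/
theorem exists_stage_flatAt (x : ↥(pullback (e.π.app k) fk))
    (h : FlatMod.IsFlatOverAt (pullback.fst (e.π.app k) fk)
      ((Scheme.Modules.pullback (pullback.snd (e.π.app k) fk)).obj Fk) x) :
    ∃ (l : J) (a : l ⟶ k), FlatMod.IsFlatOverAt (pullback.fst (E.map a) fk)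
      ((Scheme.Modules.pullback (pullback.snd (E.map a) fk)).obj Fk)
      (proj E e k fk (Over.mk a) x) := by
  classical
  haveI : Fk.IsQuasicoherent :=
    Groth.Agent.Lib.Helper29.FPDict.isQuasicoherent_of_isFinitePresentation Fk
  -- the flat locus is open
  haveI : LocallyOfFinitePresentation (pullback.fst (e.π.app k) fk) :=
    MorphismProperty.pullback_fst _ _ inferInstance
  haveI := isFinitePresentation_pullback (pullback.snd (e.π.app k) fk) Fk
  have hΩ := Groth.Agent.Lib.Helper21.FlatDesc.isOpen_isFlatOverAt (pullback.fst (e.π.app k) fk)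
    ((Scheme.Modules.pullback (pullback.snd (e.π.app k) fk)).obj Fk)
  -- basis of the limit of the `X`-tower
  have hB := isBasis_preimage_isAffineOpen (bcDiag E k fk) (bcCone E e k fk) (bcIsLimit E he k fk)
  let Ω : (bcCone E e k fk).pt.Opens := ⟨_, hΩ⟩
  obtain ⟨_, ⟨m₁, U₁, hU₁, rfl⟩, hxU₁, hU₁Ω⟩ := Opens.isBasis_iff_nbhd.mp hB (show x ∈ Ω from h)
  change proj E e k fk m₁ x ∈ U₁ at hxU₁
  -- affine charts at stage `m₁`
  obtain ⟨V, hV, hyV, -⟩ := Opens.isBasis_iff_nbhd.mp (E.obj m₁.left).isBasis_affineOpens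
    (show pullback.fst (E.map m₁.hom) fk (proj E e k fk m₁ x) ∈ (⊤ : (E.obj m₁.left).Opens)
      from trivial)
  obtain ⟨U, hU, hxU, hUle⟩ := Opens.isBasis_iff_nbhd.mp
    (pullback (E.map m₁.hom) fk).isBasis_affineOpens
    (show proj E e k fk m₁ x ∈ U₁ ⊓ pullback.fst (E.map m₁.hom) fk ⁻¹ᵁ V from ⟨hxU₁, hyV⟩)
  have hUU₁ : U ≤ U₁ := hUle.trans inf_le_left
  have hUV : U ≤ pullback.fst (E.map m₁.hom) fk ⁻¹ᵁ V := hUle.trans inf_le_right
  -- the module at stage `m₁`
  haveI hF₁fp := isFinitePresentation_pullback (pullback.snd (E.map m₁.hom) fk) Fk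
  haveI : LocallyOfFinitePresentation (pullback.fst (E.map m₁.hom) fk) :=
    MorphismProperty.pullback_fst _ _ inferInstance
  -- rings
  letI algB : Algebra Γ(E.obj m₁.left, V) Γ(pullback (E.map m₁.hom) fk, U) :=
    ((pullback.fst (E.map m₁.hom) fk).appLE V U hUV).hom.toAlgebra
  letI modM : Module Γ(E.obj m₁.left, V)
      Γ((Scheme.Modules.pullback (pullback.snd (E.map m₁.hom) fk)).obj Fk, U) :=
    Module.compHom _ ((pullback.fst (E.map m₁.hom) fk).appLE V U hUV).hom
  haveI : IsScalarTower Γ(E.obj m₁.left, V) Γ(pullback (E.map m₁.hom) fk, U)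
      Γ((Scheme.Modules.pullback (pullback.snd (E.map m₁.hom) fk)).obj Fk, U) :=
    IsScalarTower.of_algebraMap_smul fun _ _ => rfl
  haveI : Algebra.FinitePresentation Γ(E.obj m₁.left, V) Γ(pullback (E.map m₁.hom) fk, U) :=
    LocallyOfFinitePresentation.finitePresentation_appLE _ hV hU hUV
  haveI : Module.FinitePresentation Γ(pullback (E.map m₁.hom) fk, U)
      Γ((Scheme.Modules.pullback (pullback.snd (E.map m₁.hom) fk)).obj Fk, U) :=
    Groth.Agent.Lib.Helper29.FPDict.fp_of_isAffineOpen _ hU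
  letI algG : ∀ n : Over m₁.left, Algebra Γ(E.obj m₁.left, V) Γ(E.obj n.left, Uo E V n) :=
    fun n => ((E.map n.hom).appLE V (Uo E V n) le_rfl).hom.toAlgebra
  letI algA : Algebra Γ(E.obj m₁.left, V) Γ(e.pt, Uinf E e V) :=
    ((e.π.app m₁.left).appLE V (Uinf E e V) le_rfl).hom.toAlgebra
  have hρτ : ∀ n : Over m₁.left, (E.map n.hom).appLE V (Uo E V n) le_rfl ≫ τ E e V n =
      (e.π.app m₁.left).appLE V (Uinf E e V) le_rfl := by
    intro n
    rw [τ, Scheme.Hom.appLE_comp_appLE, appLE_congr_hom (e.w n.hom)]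
  have hρσ : ∀ {n' n : Over m₁.left} (φ : n' ⟶ n),
      (E.map n.hom).appLE V (Uo E V n) le_rfl ≫ σ E V φ =
        (E.map n'.hom).appLE V (Uo E V n') le_rfl := by
    intro n' n φ
    rw [σ, Scheme.Hom.appLE_comp_appLE,
      appLE_congr_hom (show E.map φ.left ≫ E.map n.hom = E.map n'.hom by
        rw [← E.map_comp, Over.w φ])]
  let τA : ∀ n : Over m₁.left, Γ(E.obj n.left, Uo E V n) →ₐ[Γ(E.obj m₁.left, V)]
      Γ(e.pt, Uinf E e V) := fun n =>
    { (τ E e V n).hom with commutes' := fun a => congr($(hρτ n).hom a) }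
  let σA : ∀ {n' n : Over m₁.left}, (n' ⟶ n) → (Γ(E.obj n.left, Uo E V n) →ₐ[Γ(E.obj m₁.left, V)]
      Γ(E.obj n'.left, Uo E V n')) := fun φ =>
    { (σ E V φ).hom with commutes' := fun a => congr($(hρσ φ).hom a) }
  have hστ : ∀ {i j : Over m₁.left} (f : i ⟶ j) (y : Γ(E.obj j.left, Uo E V j)),
      τA i (σA f y) = τA j y := fun f y => congr($(σ_τ E e V f).hom y)
  have hσσ : ∀ {i j k' : Over m₁.left} (f : i ⟶ j) (g : j ⟶ k') (y : Γ(E.obj k'.left, Uo E V k')),
      σA f (σA g y) = σA (f ≫ g) y := fun f g y => congr($(σ_comp E V f g).hom y)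
  have hsurj : ∀ a : Γ(e.pt, Uinf E e V), ∃ i, ∃ y : Γ(E.obj i.left, Uo E V i), τA i y = a :=
    fun a => exists_τ_eq E e he V hV a
  have hker : ∀ i (y : Γ(E.obj i.left, Uo E V i)), τA i y = 0 → ∃ j, ∃ f : j ⟶ i, σA f y = 0 :=
    fun i y hy => exists_σ_eq_zero E e he V hV i y hy
  -- flatness over the limit ring
  haveI := isAffineHom_π_app E e he m₁.left
  have hflatA : Module.Flat Γ(e.pt, Uinf E e V) (Γ(e.pt, Uinf E e V) ⊗[Γ(E.obj m₁.left, V)]
      Γ((Scheme.Modules.pullback (pullback.snd (E.map m₁.hom) fk)).obj Fk, U)) := by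
    refine (flat_chart_general (isPullback_proj E e k fk m₁)
      ((Scheme.Modules.pullback (pullback.snd (E.map m₁.hom) fk)).obj Fk) hV hU
      (hV.preimage (e.π.app m₁.left)) hUV le_rfl).1 (fun x' hx' => ?_)
    have h1 : FlatMod.IsFlatOverAt (pullback.fst (e.π.app k) fk)
        ((Scheme.Modules.pullback (pullback.snd (e.π.app k) fk)).obj Fk) x' := hU₁Ω (hUU₁ hx'.1)
    let eiso : (Scheme.Modules.pullback (proj E e k fk m₁)).obj
        ((Scheme.Modules.pullback (pullback.snd (E.map m₁.hom) fk)).obj Fk) ≅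
        (Scheme.Modules.pullback (pullback.snd (e.π.app k) fk)).obj Fk :=
      (Scheme.Modules.pullbackComp (proj E e k fk m₁) (pullback.snd (E.map m₁.hom) fk)).app Fk ≪≫
        (Scheme.Modules.pullbackCongr (proj_snd E e k fk m₁)).app Fk
    exact isFlatOverAt_of_iso _ eiso.symm x' h1
  obtain ⟨n, hn⟩ := exists_flat_stage_cat τA σA hστ hσσ hsurj hker
    (B₀ := Γ(pullback (E.map m₁.hom) fk, U))
    Γ((Scheme.Modules.pullback (pullback.snd (E.map m₁.hom) fk)).obj Fk, U)
  refine ⟨n.left, n.hom ≫ m₁.hom, ?_⟩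
  have hpt : trans E k fk m₁.hom n.hom (proj E e k fk (Over.mk (n.hom ≫ m₁.hom)) x) =
      proj E e k fk m₁ x := by
    rw [← Scheme.Hom.comp_apply, proj_trans]
  haveI : IsAffineHom (E.map n.hom) := inferInstance
  have h2 := (flat_chart_general (isPullback_trans E k fk m₁.hom n.hom)
    ((Scheme.Modules.pullback (pullback.snd (E.map m₁.hom) fk)).obj Fk) hV hU
    (hV.preimage (E.map n.hom)) hUV le_rfl).2 hn
    (proj E e k fk (Over.mk (n.hom ≫ m₁.hom)) x) ⟨?_, ?_⟩
  · let eiso : (Scheme.Modules.pullback (trans E k fk m₁.hom n.hom)).obj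
        ((Scheme.Modules.pullback (pullback.snd (E.map m₁.hom) fk)).obj Fk) ≅
        (Scheme.Modules.pullback (pullback.snd (E.map (n.hom ≫ m₁.hom)) fk)).obj Fk :=
      (Scheme.Modules.pullbackComp (trans E k fk m₁.hom n.hom)
        (pullback.snd (E.map m₁.hom) fk)).app Fk ≪≫
        (Scheme.Modules.pullbackCongr (trans_snd E k fk m₁.hom n.hom)).app Fk
    exact isFlatOverAt_of_iso _ eiso _ h2
  · change trans E k fk m₁.hom n.hom (proj E e k fk (Over.mk (n.hom ≫ m₁.hom)) x) ∈ U
    rw [hpt]; exact hxU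
  · change E.map n.hom (pullback.fst (E.map (n.hom ≫ m₁.hom)) fk
      (proj E e k fk (Over.mk (n.hom ≫ m₁.hom)) x)) ∈ V
    rw [← Scheme.Hom.comp_apply, ← trans_fst, Scheme.Hom.comp_apply, hpt]
    exact hUV hxU

include he in
/-- **Descent of global flatness to a stage.** -/
theorem exists_stage_flat [CompactSpace Xk]
    (h : ∀ x : ↥(pullback (e.π.app k) fk), FlatMod.IsFlatOverAt (pullback.fst (e.π.app k) fk)
      ((Scheme.Modules.pullback (pullback.snd (e.π.app k) fk)).obj Fk) x) :
    ∃ (l : J) (a : l ⟶ k), ∀ x' : ↥(pullback (E.map a) fk),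
      FlatMod.IsFlatOverAt (pullback.fst (E.map a) fk)
        ((Scheme.Modules.pullback (pullback.snd (E.map a) fk)).obj Fk) x' := by
  classical
  haveI : Fk.IsQuasicoherent :=
    Groth.Agent.Lib.Helper29.FPDict.isQuasicoherent_of_isFinitePresentation Fk
  by_contra hcon
  push Not at hcon
  let Z : ∀ m : Over k, Set ↥((bcDiag E k fk).obj m) := fun m =>
    {x' | ¬ FlatMod.IsFlatOverAt (pullback.fst (E.map m.hom) fk)
      ((Scheme.Modules.pullback (pullback.snd (E.map m.hom) fk)).obj Fk) x'}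
  have hZc : ∀ m, IsClosed (Z m) := by
    intro m
    haveI : LocallyOfFinitePresentation (pullback.fst (E.map m.hom) fk) :=
      MorphismProperty.pullback_fst _ _ inferInstance
    haveI := isFinitePresentation_pullback (pullback.snd (E.map m.hom) fk) Fk
    have := Groth.Agent.Lib.Helper21.FlatDesc.isOpen_isFlatOverAt (pullback.fst (E.map m.hom) fk)
      ((Scheme.Modules.pullback (pullback.snd (E.map m.hom) fk)).obj Fk)
    exact this.isClosed_compl
  have hZne : ∀ m, (Z m).Nonempty := fun m => hcon m.left m.hom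
  have hZcpt : ∀ m, IsCompact (Z m) := fun m => (hZc m).isCompact
  obtain ⟨s, hs⟩ := exists_mem_of_isClosed_of_nonempty (bcDiag E k fk) (bcCone E e k fk)
    (bcIsLimit E he k fk) Z hZc hZne hZcpt (fun {m' m} φ x' hx' hfl =>
      hx' (flatAt_of_map E k fk Fk φ x' hfl))
  obtain ⟨l, a, hl⟩ := exists_stage_flatAt E e k fk he Fk s (h s)
  exact hs (Over.mk a) hl

end Main

end Groth.Agent.Lib.Helper25.LimFlatTower
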