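import Mathlib
import Groth.Agent.S4849
import Groth.Agent.Lib.Helper1.LocPerf2
import Groth.Agent.Lib.Helper16.RS7
import Groth.Agent.Lib.Helper16.RS6
import Groth.Agent.Lib.Helper16.RS3
import Groth.Agent.Lib.Helper25.FlatChartGen
import Groth.Agent.Lib.Helper25.ModMapLocal

/-!
# helper25 — LimLocFree: local freeness of a finitely presented module after pullback to a limit holds at a stage.
-/

set_option backward.isDefEq.respectTransparency.types false
set_option autoImplicit false
set_option linter.unusedVariables false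
set_option linter.style.haveILetI false
universe u
open AlgebraicGeometry CategoryTheory Limits

namespace Groth.Agent.Lib.Helper25.LimLocFree

open Groth.Agent.Lib.Helper25.ModMapLocal

/-- flatness over the target of an isomorphism means flat stalks -/
theorem isFlatOverAt_iff_of_isIso {X Y : Scheme.{u}} (f : X ⟶ Y) [IsIso f] (M : X.Modules) (x : X) :
    FlatMod.IsFlatOverAt f M x ↔ Module.Flat (X.presheaf.stalk x) (M.presheaf.stalk x) := by
  letI alg : Algebra (Y.presheaf.stalk (f x)) (X.presheaf.stalk x) := (f.stalkMap x).hom.toAlgebra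
  letI m : Module (Y.presheaf.stalk (f x)) (M.presheaf.stalk x) := FlatMod.moduleStalkOver f M x
  haveI : IsScalarTower (Y.presheaf.stalk (f x)) (X.presheaf.stalk x) (M.presheaf.stalk x) :=
    IsScalarTower.of_compHom _ _ _
  have hbij : Function.Bijective (algebraMap (Y.presheaf.stalk (f x)) (X.presheaf.stalk x)) := by
    haveI : IsIso (f.stalkMap x) := inferInstance
    exact (ConcreteCategory.isIso_iff_bijective (f.stalkMap x)).1 inferInstance
  haveI : IsLocalization (⊥ : Submonoid (Y.presheaf.stalk (f x))) (X.presheaf.stalk x) := by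
    refine IsLocalization.of_le_isUnit_of_bijective ?_ hbij
    rintro _ ⟨y, hy, rfl⟩
    rw [Submonoid.mem_bot.1 hy, map_one]
    exact isUnit_one
  exact (Module.flat_iff_of_isLocalization (X.presheaf.stalk x)
    (⊥ : Submonoid (Y.presheaf.stalk (f x))) (M.presheaf.stalk x)).symm

/-- local freeness is invariant under pullback along an isomorphism, in both directions -/
theorem isFinLocFree_of_pullback_iso {X Y : Scheme.{u}} (θ : X ⟶ Y) [IsIso θ] (N : Y.Modules)
    (h : FlatMod.IsFinLocFree ((Scheme.Modules.pullback θ).obj N)) : FlatMod.IsFinLocFree N := by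
  have h1 := Groth.Agent.Lib.Helper16.RS.isFinLocFree_pullback (inv θ) _ h
  have e : (Scheme.Modules.pullback (inv θ)).obj ((Scheme.Modules.pullback θ).obj N) ≅ N :=
    (compIso (inv θ) θ (𝟙 Y) (by simp)).app N ≪≫ (Scheme.Modules.pullbackId Y).app N
  exact Groth.Agent.Lib.Helper16.RS.isFinLocFree_of_iso e h1

variable {I : Type u} [SmallCategory I] [IsCofiltered I]
  (D : I ⥤ Scheme.{u}) {c : Cone D} (hc : IsLimit c)
  [∀ (i j : I) (f : i ⟶ j), IsAffineHom (D.map f)] (i₀ : I) [CompactSpace (D.obj i₀)]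

include hc in
/-- **EGA IV 8.5.5**: local freeness after pullback to the limit holds at a stage. -/
theorem isFinLocFree_pullback_iff_eventually (F₀ : (D.obj i₀).Modules)
    [SheafOfModules.IsFinitePresentation.{u} (R := (D.obj i₀).ringCatSheaf) F₀] :
    FlatMod.IsFinLocFree ((Scheme.Modules.pullback (c.π.app i₀)).obj F₀) ↔
      ∃ (j : I) (φ : j ⟶ i₀), FlatMod.IsFinLocFree ((Scheme.Modules.pullback (D.map φ)).obj F₀) := by
  constructor
  · intro h
    have hflat : FlatMod.IsFlatOver (𝟙 c.pt) ((Scheme.Modules.pullback (c.π.app i₀)).obj F₀) := fun x =>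
      (isFlatOverAt_iff_of_isIso (𝟙 c.pt) _ x).2 (Groth.Agent.Lib.Helper16.RS.isFlat_of_isFinLocFree _ h x)
    obtain ⟨j, φ, Xi, Yi, fi, gi, pY, pX, hY, hX, hfl⟩ :=
      Groth.Agent.S4849.forward D c hc i₀ (𝟙 (D.obj i₀)) (𝟙 (D.obj i₀)) F₀ (𝟙 c.pt) (𝟙 c.pt)
        (c.π.app i₀) (c.π.app i₀) (IsPullback.of_vert_isIso ⟨by simp⟩)
        (IsPullback.of_vert_isIso ⟨by simp⟩) hflat
    haveI : IsIso gi := hY.isIso_snd_of_isIso
    haveI : IsIso fi := hX.isIso_snd_of_isIso
    refine ⟨j, φ, ?_⟩
    haveI := Groth.Agent.Lib.Helper25.FlatChartGen.isFinitePresentation_pullback pX F₀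
    have hM : FlatMod.IsFinLocFree ((Scheme.Modules.pullback pX).obj F₀) :=
      Groth.Agent.Lib.Helper1.LocPerf.isFinLocFree_of_flat_stalks _
        (fun x => (isFlatOverAt_iff_of_isIso fi _ x).1 (hfl x))
    have hpX : (fi ≫ gi) ≫ D.map φ = pX := by
      rw [Category.assoc, ← hY.w, Category.comp_id, ← hX.w, Category.comp_id]
    refine isFinLocFree_of_pullback_iso (fi ≫ gi) _ ?_
    exact Groth.Agent.Lib.Helper16.RS.isFinLocFree_of_iso
      ((compIso (fi ≫ gi) (D.map φ) pX hpX).app F₀).symm hM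
  · rintro ⟨j, φ, h⟩
    have h1 := Groth.Agent.Lib.Helper16.RS.isFinLocFree_pullback (c.π.app j) _ h
    exact Groth.Agent.Lib.Helper16.RS.isFinLocFree_of_iso
      ((compIso (c.π.app j) (D.map φ) (c.π.app i₀) (c.w φ)).app F₀) h1

end Groth.Agent.Lib.Helper25.LimLocFree
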