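import Mathlib
import Groth.Agent.Lib.Helper16.LocFree5
import Groth.Agent.Lib.Helper29.FreeIso3
import Groth.Agent.Lib.Helper25.LimLocFree

/-!
# helper25 — LimLocFreeRank: local freeness of rank `n` after pullback to a limit holds at a stage.
-/

set_option backward.isDefEq.respectTransparency.types false
set_option autoImplicit false
set_option linter.unusedVariables false
set_option linter.style.haveILetI false
universe u
open AlgebraicGeometry CategoryTheory Limits

namespace Groth.Agent.Lib.Helper25.LimLocFreeRank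

open Groth.Agent.Lib.Helper25.ModMapLocal Groth.Agent.Lib.Helper25.LimLocFree
  Groth.Agent.Lib.Helper16.RS Groth.Agent.Lib.Helper16.LocFree

/-- the pullback of a module trivialised over `V₀` is trivialised over the preimage of `V₀` -/
theorem nonempty_iso_freeMod_pullback {X Y : Scheme.{u}} (f : Y ⟶ X) (M : X.Modules) (V₀ : X.Opens) (r : ℕ)
    (e : M.restrict V₀.ι ≅ FlatMod.freeMod (↑V₀) r) :
    Nonempty (((Scheme.Modules.pullback f).obj M).restrict (f ⁻¹ᵁ V₀).ι ≅ FlatMod.freeMod (↑(f ⁻¹ᵁ V₀)) r) :=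
  ⟨((pullbackRestrictIso f (f ⁻¹ᵁ V₀).ι V₀.ι (f ∣_ V₀) (morphismRestrict_ι f V₀).symm).app M) ≪≫
    (Scheme.Modules.pullback (f ∣_ V₀)).mapIso e ≪≫ pullbackFreeModIso (f ∣_ V₀) r⟩

/-- the local rank of a module is well defined -/
theorem rank_unique {X : Scheme.{u}} (M : X.Modules) (x : X) {U U' : X.Opens} {m n : ℕ} (hx : x ∈ U)
    (hx' : x ∈ U') (e : M.restrict U.ι ≅ FlatMod.freeMod (↑U) m)
    (e' : M.restrict U'.ι ≅ FlatMod.freeMod (↑U') n) : m = n := by
  obtain ⟨τ, hτ⟩ := Groth.Agent.Lib.Helper29.FreeIso.exists_isBasisOn_of_iso M U m e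
  obtain ⟨τ', hτ'⟩ := Groth.Agent.Lib.Helper29.FreeIso.exists_isBasisOn_of_iso M U' n e'
  have b := hτ.stalkBasis x hx
  have b' := hτ'.stalkBasis x hx'
  have h1 := Module.finrank_eq_card_basis b
  have h2 := Module.finrank_eq_card_basis b'
  simp only [Fintype.card_fin] at h1 h2
  omega

/-- the pullback of a module of rank `m` near `f y` to a module of rank `n` has `m = n` -/
theorem rank_eq_of_pullback {X Y : Scheme.{u}} (f : Y ⟶ X) (M : X.Modules) (y : Y) {V₀ : X.Opens} {m n : ℕ}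
    (hy : f y ∈ V₀) (e : M.restrict V₀.ι ≅ FlatMod.freeMod (↑V₀) m)
    (h : FlatMod.IsFinLocFreeOfRank n ((Scheme.Modules.pullback f).obj M)) : m = n := by
  obtain ⟨e1⟩ := nonempty_iso_freeMod_pullback f M V₀ m e
  obtain ⟨U', hyU', ⟨e2⟩⟩ := h y
  exact rank_unique _ y (show y ∈ f ⁻¹ᵁ V₀ from hy) hyU' e1 e2

variable {I : Type u} [SmallCategory I] [IsCofiltered I]
  (D : I ⥤ Scheme.{u}) {c : Cone D} (hc : IsLimit c)
  [∀ (i j : I) (f : i ⟶ j), IsAffineHom (D.map f)] (i₀ : I) [CompactSpace (D.obj i₀)]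

include hc in
/-- **EGA IV 8.5.5 (rank `n`)**: local freeness of rank `n` after pullback to the limit holds at a stage. -/
theorem isFinLocFreeOfRank_pullback_iff_eventually (F₀ : (D.obj i₀).Modules)
    [SheafOfModules.IsFinitePresentation.{u} (R := (D.obj i₀).ringCatSheaf) F₀] (n : ℕ) :
    FlatMod.IsFinLocFreeOfRank n ((Scheme.Modules.pullback (c.π.app i₀)).obj F₀) ↔
      ∃ (j : I) (φ : j ⟶ i₀),
        FlatMod.IsFinLocFreeOfRank n ((Scheme.Modules.pullback (D.map φ)).obj F₀) := by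
  constructor
  · intro h
    obtain ⟨j, φ, hN⟩ := (isFinLocFree_pullback_iff_eventually D hc i₀ F₀).1
      (isFinLocFree_of_isFinLocFreeOfRank h)
    set N := (Scheme.Modules.pullback (D.map φ)).obj F₀ with hNdef
    -- the pullback of `N` to the limit has rank `n`
    have hNS : FlatMod.IsFinLocFreeOfRank n ((Scheme.Modules.pullback (c.π.app j)).obj N) :=
      isFinLocFreeOfRank_of_iso ((compIso (c.π.app j) (D.map φ) (c.π.app i₀) (c.w φ)).app F₀).symm h
    -- the loci of rank `≠ n` and of rank `n`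
    let Z : (D.obj j).Opens := ⨆ (U : {U : (D.obj j).Opens // ∃ m : ℕ, m ≠ n ∧
      Nonempty (N.restrict U.ι ≅ FlatMod.freeMod (↑U) m)}), U.1
    let W : (D.obj j).Opens := ⨆ (U : {U : (D.obj j).Opens //
      Nonempty (N.restrict U.ι ≅ FlatMod.freeMod (↑U) n)}), U.1
    have hZW : ∀ x : D.obj j, x ∈ Z ∨ x ∈ W := by
      intro x
      obtain ⟨U, m, hxU, hU⟩ := hN x
      by_cases hm : m = n
      · subst hm
        exact Or.inr (TopologicalSpace.Opens.mem_iSup.2 ⟨⟨U, hU⟩, hxU⟩)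
      · exact Or.inl (TopologicalSpace.Opens.mem_iSup.2 ⟨⟨U, m, hm, hU⟩, hxU⟩)
    have hdisj : ∀ x : D.obj j, x ∈ Z → x ∈ W → False := by
      intro x hxZ hxW
      obtain ⟨⟨U, m, hm, ⟨e⟩⟩, hxU⟩ := TopologicalSpace.Opens.mem_iSup.1 hxZ
      obtain ⟨⟨U', ⟨e'⟩⟩, hxU'⟩ := TopologicalSpace.Opens.mem_iSup.1 hxW
      exact hm (rank_unique N x hxU hxU' e e')
    haveI : CompactSpace (D.obj j) :=
      QuasiCompact.compactSpace_of_compactSpace (D.map φ)
    have hZc : IsCompact (Z : Set (D.obj j)) := by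
      have hcl : IsClosed (Z : Set (D.obj j)) := by
        have : (Z : Set (D.obj j)) = (W : Set (D.obj j))ᶜ := by
          ext x
          constructor
          · intro hxZ hxW
            exact hdisj x hxZ hxW
          · intro hxW
            rcases hZW x with h1 | h1
            · exact h1
            · exact absurd h1 hxW
        rw [this]
        exact W.isOpen.isClosed_compl
      exact hcl.isCompact
    have hpre : c.π.app j ⁻¹ᵁ Z ≤ c.π.app j ⁻¹ᵁ ⊥ := by
      intro s hs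
      exfalso
      obtain ⟨⟨U, m, hm, ⟨e⟩⟩, hsU⟩ := TopologicalSpace.Opens.mem_iSup.1 (show c.π.app j s ∈ Z from hs)
      exact hm (rank_eq_of_pullback (c.π.app j) N s hsU e hNS)
    obtain ⟨j', ψ, hψ⟩ := exists_map_preimage_le_map_preimage D c hc hZc hpre
    refine ⟨j', ψ ≫ φ, ?_⟩
    have hN' : FlatMod.IsFinLocFreeOfRank n ((Scheme.Modules.pullback (D.map ψ)).obj N) := by
      intro x'
      have hxZ : D.map ψ x' ∉ Z := fun hx => by
        have := hψ (show x' ∈ D.map ψ ⁻¹ᵁ Z from hx)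
        exact this
      have hxW : D.map ψ x' ∈ W := (hZW _).resolve_left hxZ
      obtain ⟨⟨U, ⟨e⟩⟩, hxU⟩ := TopologicalSpace.Opens.mem_iSup.1 hxW
      exact ⟨D.map ψ ⁻¹ᵁ U, hxU, nonempty_iso_freeMod_pullback (D.map ψ) N U n e⟩
    exact isFinLocFreeOfRank_of_iso
      ((compIso (D.map ψ) (D.map φ) (D.map (ψ ≫ φ)) (D.map_comp ψ φ).symm).app F₀) hN'
  · rintro ⟨j, φ, h⟩
    have h1 := isFinLocFreeOfRank_pullback (c.π.app j) _ h
    exact isFinLocFreeOfRank_of_iso
      ((compIso (c.π.app j) (D.map φ) (c.π.app i₀) (c.w φ)).app F₀) h1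

end Groth.Agent.Lib.Helper25.LimLocFreeRank
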