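import Mathlib
import Groth.Agent.Lib.Helper25.ConsBase
import Groth.Agent.Lib.Helper25.ModMapLocal
import Groth.Agent.Lib.Helper17.FinTypePushPull
import Groth.Agent.Lib.Helper17.CohKer

/-!
# helper25 — ConsModA: (ind-)constructible properties `P(X, F, k)` of algebraic schemes with a coherent module:
base change of the locus, the Noetherian case, Noetherian models (EGA IV 9.2.3).
-/

set_option backward.isDefEq.respectTransparency.types false
set_option autoImplicit false
set_option linter.unusedSectionVars false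
set_option linter.unusedVariables false
set_option linter.style.haveILetI false
universe u

open CategoryTheory CategoryTheory.Limits AlgebraicGeometry Topology

namespace Groth.Agent.Lib.Helper25.ConsMod

open Groth.Agent.Lib.Helper25.FibLocus Groth.Agent.Lib.Helper25.ConsFib Groth.Agent.Lib.Helper25.PC
  Groth.Agent.Lib.Helper25.ConsBase Groth.Agent.Lib.Helper25.ModMapLocal

variable {P : ∀ ⦃Y T : Scheme.{u}⦄, (Y ⟶ T) → Y.Modules → Prop}

/-- the pullback of a coherent module is coherent -/
theorem isCoh_pullback {X Y : Scheme.{u}} (f : X ⟶ Y) {F : Y.Modules} (hF : Coh.IsCoh F) :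
    Coh.IsCoh ((Scheme.Modules.pullback f).obj F) := by
  haveI : F.IsQuasicoherent := hF.1
  haveI : SheafOfModules.IsFiniteType.{u} (R := Y.ringCatSheaf) F := hF.2
  exact ⟨inferInstance, Groth.Agent.Lib.Helper17.FinTypePushPull.isFiniteType_pullback f F⟩

theorem isCoh_of_iso {X : Scheme.{u}} {F G : X.Modules} (e : F ≅ G) (hF : Coh.IsCoh F) : Coh.IsCoh G := by
  haveI : F.IsQuasicoherent := hF.1
  haveI : SheafOfModules.IsFiniteType.{u} (R := X.ringCatSheaf) F := hF.2
  exact ⟨(SheafOfModules.isQuasicoherent.{u} X.ringCatSheaf).prop_of_iso e hF.1,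
    Groth.Agent.Lib.Helper17.CohKer.isFiniteType_of_epi e.hom⟩

/-- the locus of a base-changed family with module is the preimage of the locus -/
theorem mem_locusMod_iff_of_isPullback (hP : ConsProp.IsFieldStableMod P)
    {X S X' S' : Scheme.{u}} {u : X ⟶ S} {u' : X' ⟶ S'} {qX : X' ⟶ X} {b : S' ⟶ S}
    (hX : IsPullback qX u' u b) [LocallyOfFiniteType u] [QuasiCompact u]
    {F : X.Modules} (hF : Coh.IsCoh F) {F' : X'.Modules}
    (eF : F' ≅ (Scheme.Modules.pullback qX).obj F) (s' : S') :
    s' ∈ ConsProp.locusMod P u' F' ↔ b s' ∈ ConsProp.locusMod P u F := by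
  have sq := isPullback_fiberToSpecResidueField_of_isPullback hX s'
  set eX := pullback.map u' (S'.fromSpecResidueField s') u (S.fromSpecResidueField (b s')) qX
    (Spec.map (b.residueFieldMap s')) b hX.w.symm (by simp) with heX
  have eX_fst : eX ≫ u.fiberι (b s') = u'.fiberι s' ≫ qX := pullback.lift_fst _ _ _
  let iso : (Scheme.Modules.pullback (u'.fiberι s')).obj F' ≅
      (Scheme.Modules.pullback eX).obj ((Scheme.Modules.pullback (u.fiberι (b s'))).obj F) :=
    (Scheme.Modules.pullback (u'.fiberι s')).mapIso eF ≪≫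
      (compIso (u'.fiberι s') qX _ rfl).app F ≪≫
      (Scheme.Modules.pullbackCongr eX_fst.symm).app F ≪≫
      ((compIso eX (u.fiberι (b s')) _ rfl).app F).symm
  exact (hP (u.fiberToSpecResidueField (b s')) (u'.fiberToSpecResidueField s') eX
    (Spec.map (b.residueFieldMap s')) sq _ _ (isCoh_pullback _ hF) iso).symm

theorem locusMod_eq_preimage_of_isPullback (hP : ConsProp.IsFieldStableMod P)
    {X S X' S' : Scheme.{u}} {u : X ⟶ S} {u' : X' ⟶ S'} {qX : X' ⟶ X} {b : S' ⟶ S}
    (hX : IsPullback qX u' u b) [LocallyOfFiniteType u] [QuasiCompact u]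
    {F : X.Modules} (hF : Coh.IsCoh F) {F' : X'.Modules}
    (eF : F' ≅ (Scheme.Modules.pullback qX).obj F) :
    ConsProp.locusMod P u' F' = b ⁻¹' ConsProp.locusMod P u F := by
  ext s'
  exact mem_locusMod_iff_of_isPullback hP hX hF eF s'

/-- the standard base change -/
theorem locusMod_snd (hP : ConsProp.IsFieldStableMod P) {X S T : Scheme.{u}} (u : X ⟶ S)
    (b : T ⟶ S) [LocallyOfFiniteType u] [QuasiCompact u] {F : X.Modules} (hF : Coh.IsCoh F) :
    ConsProp.locusMod P (pullback.snd u b) ((Scheme.Modules.pullback (pullback.fst u b)).obj F) =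
      b ⁻¹' ConsProp.locusMod P u F :=
  locusMod_eq_preimage_of_isPullback hP (IsPullback.of_hasPullback u b) hF (Iso.refl _)

/-- a constructible property is ind-constructible -/
theorem isIndConsMod_of_isConsMod (hP : ConsProp.IsConsMod P) : ConsProp.IsIndConsMod P := by
  refine ⟨hP.1, ?_⟩
  intro X S u _ _ _ _ F hF hgen
  rcases hP.2 u F hF with h | h
  · exact h
  · exact absurd hgen (genericPoint_mem_of_interior_nonempty h)

/-- the negation of a constructible property is constructible -/
theorem isConsMod_not (hP : ConsProp.IsConsMod P) :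
    ConsProp.IsConsMod (fun Y T g F => ¬ P g F) := by
  refine ⟨?_, ?_⟩
  · intro Y Y' T T' g g' e h _ _ _ _ _ _ sq F F' hF iso
    exact not_congr (hP.1 g g' e h sq F F' hF iso)
  · intro X S u _ _ _ _ F hF
    have hc : ConsProp.locusMod (fun Y T g F => ¬ P g F) u F = (ConsProp.locusMod P u F)ᶜ := rfl
    rw [hc, compl_compl]
    exact (hP.2 u F hF).symm

theorem locusMod_not {X S : Scheme.{u}} (u : X ⟶ S) (F : X.Modules) :
    ConsProp.locusMod (fun Y T g F => ¬ P g F) u F = (ConsProp.locusMod P u F)ᶜ := rfl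

/-- EGA IV 9.2.3 over a Noetherian base: the trace condition -/
theorem indTrace_locusMod (hP : ConsProp.IsIndConsMod P) {X S : Scheme.{u}} [IsNoetherian S]
    (u : X ⟶ S) [LocallyOfFiniteType u] [QuasiCompact u] {F : X.Modules} (hF : Coh.IsCoh F) :
    IndTrace (ConsProp.locusMod P u F) := by
  intro Z' i hi hint hgen
  haveI : IsLocallyNoetherian Z' := LocallyOfFiniteType.isLocallyNoetherian i
  haveI : CompactSpace Z' := QuasiCompact.compactSpace_of_compactSpace i
  haveI : IsNoetherian Z' := {}
  have hloc := locusMod_snd hP.1 u i hF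
  rw [← hloc] at hgen ⊢
  exact hP.2 (pullback.snd u i) _ (isCoh_pullback _ hF) hgen

/-- EGA IV 9.2.3 over a Noetherian base, ind-constructible case -/
theorem indC_locusMod_noeth (hP : ConsProp.IsIndConsMod P) {X S : Scheme.{u}} [IsNoetherian S]
    (u : X ⟶ S) [LocallyOfFiniteType u] [QuasiCompact u] {F : X.Modules} (hF : Coh.IsCoh F) :
    IndC (ConsProp.locusMod P u F) :=
  indC_of_indTrace (indTrace_locusMod hP u hF)

/-- a Noetherian model of `(X ⟶ S, F)` -/
def HasNoethModelMod {X S : Scheme.{u}} (u : X ⟶ S) (F : X.Modules) : Prop :=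
  ∃ (S₀ X₀ : Scheme.{u}) (u₀ : X₀ ⟶ S₀) (F₀ : X₀.Modules) (φ : S ⟶ S₀) (qX : X ⟶ X₀),
    IsNoetherian S₀ ∧ LocallyOfFiniteType u₀ ∧ QuasiCompact u₀ ∧ Coh.IsCoh F₀ ∧
      IsPullback qX u u₀ φ ∧ Nonempty (F ≅ (Scheme.Modules.pullback qX).obj F₀)

theorem indC_locusMod_of_hasNoethModelMod (hP : ConsProp.IsIndConsMod P) {X S : Scheme.{u}}
    {u : X ⟶ S} {F : X.Modules} (h : HasNoethModelMod u F) : IndC (ConsProp.locusMod P u F) := by
  obtain ⟨S₀, X₀, u₀, F₀, φ, qX, h1, h2, h3, hF₀, hX, ⟨eF⟩⟩ := h
  haveI := h1; haveI := h2; haveI := h3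
  rw [locusMod_eq_preimage_of_isPullback hP.1 hX hF₀ eF]
  exact IndC.preimage φ (indC_locusMod_noeth hP u₀ hF₀)

/-- EGA IV 9.2.3, ind-constructible case, given Noetherian models over the affine opens -/
theorem indC_locusMod_of_forall_affine (hP : ConsProp.IsIndConsMod P) {X S : Scheme.{u}}
    (u : X ⟶ S) [LocallyOfFiniteType u] [QuasiCompact u] {F : X.Modules} (hF : Coh.IsCoh F)
    (H : ∀ U : S.Opens, IsAffineOpen U →
      HasNoethModelMod (pullback.snd u U.ι) ((Scheme.Modules.pullback (pullback.fst u U.ι)).obj F)) :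
    IndC (ConsProp.locusMod P u F) := by
  apply indC_of_forall_affine
  intro U hU
  rw [← locusMod_snd hP.1 u U.ι hF]
  exact indC_locusMod_of_hasNoethModelMod hP (H U hU)

/-- EGA IV 9.2.3, constructible case, given Noetherian models over the affine opens -/
theorem isLocallyConstructible_locusMod_of_forall_affine (hP : ConsProp.IsConsMod P)
    {X S : Scheme.{u}} (u : X ⟶ S) [LocallyOfFiniteType u] [QuasiCompact u] {F : X.Modules}
    (hF : Coh.IsCoh F)
    (H : ∀ U : S.Opens, IsAffineOpen U →
      HasNoethModelMod (pullback.snd u U.ι) ((Scheme.Modules.pullback (pullback.fst u U.ι)).obj F)) :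
    IsLocallyConstructible (ConsProp.locusMod P u F) := by
  rw [isLocallyConstructible_iff (locSpectral S), proC_iff_indC_compl, ← locusMod_not]
  exact ⟨indC_locusMod_of_forall_affine (isIndConsMod_of_isConsMod hP) u hF H,
    indC_locusMod_of_forall_affine (isIndConsMod_of_isConsMod (isConsMod_not hP)) u hF H⟩

/-- the generic point of an irreducible scheme lies in the interior of an ind-constructible set containing it -/
theorem genericPoint_mem_interior_of_indC {S : Scheme.{u}} [IrreducibleSpace S] {E : Set S}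
    (hE : IndC E) (h : genericPoint S ∈ E) : genericPoint S ∈ interior E := by
  rw [mem_interior_iff (locSpectral S) hE]
  intro x' hx'
  have : x' = genericPoint S := (hx'.antisymm (genericPoint_specializes x')).eq
  rw [this]
  exact h

end Groth.Agent.Lib.Helper25.ConsMod
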