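import Mathlib
import Groth.Prelude.Def_ProCons

/-!
# Helper library (helper25): the patch (constructible) topology on spectral spaces and
pro/ind-constructible sets

Part 1: spectral spaces. `IsPO`/`IsPCl` = open/closed for `constructibleTopology`.
-/

set_option autoImplicit false
universe u
open Topology Set
open scoped Set.Notation

namespace Groth.Agent.Lib.Helper25.PC

section Basic
variable {X : Type*} [TopologicalSpace X]

/-- patch-open: open in the constructible topology -/
def IsPO (s : Set X) : Prop := IsOpen[constructibleTopology X] s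
/-- patch-closed: closed in the constructible topology -/
def IsPCl (s : Set X) : Prop := IsClosed[constructibleTopology X] s

theorem isPCl_iff_compl {s : Set X} : IsPCl s ↔ IsPO sᶜ :=
  (@isOpen_compl_iff X s (constructibleTopology X)).symm

theorem isPO_iff_compl {s : Set X} : IsPO s ↔ IsPCl sᶜ :=
  (@isClosed_compl_iff X (constructibleTopology X) s).symm

theorem IsPO.union {s t : Set X} (hs : IsPO s) (ht : IsPO t) : IsPO (s ∪ t) :=
  @IsOpen.union X s t (constructibleTopology X) hs ht

theorem IsPO.inter {s t : Set X} (hs : IsPO s) (ht : IsPO t) : IsPO (s ∩ t) :=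
  @IsOpen.inter X (constructibleTopology X) s t hs ht

theorem IsPCl.union {s t : Set X} (hs : IsPCl s) (ht : IsPCl t) : IsPCl (s ∪ t) :=
  @IsClosed.union X s t (constructibleTopology X) hs ht

theorem IsPCl.inter {s t : Set X} (hs : IsPCl s) (ht : IsPCl t) : IsPCl (s ∩ t) :=
  @IsClosed.inter X s t (constructibleTopology X) hs ht

theorem isPO_sUnion {S : Set (Set X)} (h : ∀ s ∈ S, IsPO s) : IsPO (⋃₀ S) :=
  @isOpen_sUnion X (constructibleTopology X) S h

theorem isPO_iUnion {ι : Sort*} {f : ι → Set X} (h : ∀ i, IsPO (f i)) : IsPO (⋃ i, f i) :=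
  @isOpen_iUnion X ι (constructibleTopology X) f h

theorem isPCl_sInter {S : Set (Set X)} (h : ∀ s ∈ S, IsPCl s) : IsPCl (⋂₀ S) :=
  @isClosed_sInter X (constructibleTopology X) S h

theorem isPCl_iInter {ι : Sort*} {f : ι → Set X} (h : ∀ i, IsPCl (f i)) : IsPCl (⋂ i, f i) :=
  @isClosed_iInter X ι (constructibleTopology X) f h

theorem isPO_of_isCompact_isOpen {s : Set X} (hc : IsCompact s) (ho : IsOpen s) : IsPO s :=
  hc.isOpen_constructibleTopology_of_isOpen ho

theorem isPCl_of_isCompact_isOpen {s : Set X} (hc : IsCompact s) (ho : IsOpen s) : IsPCl s := by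
  rw [isPCl_iff_compl]
  exact IsCompact.isOpen_constructibleTopology_of_isClosed (by rwa [compl_compl])
    ho.isClosed_compl

/-- The constructible topology of a quasi-compact quasi-separated quasi-sober prespectral space
is compact. -/
theorem compactSpace_patch [CompactSpace X] [QuasiSober X] [PrespectralSpace X]
    [QuasiSeparatedSpace X] : @CompactSpace X (constructibleTopology X) :=
  @Function.Surjective.compactSpace (WithConstructibleTopology X) X _ (constructibleTopology X)
    WithTopology.ofTopology (WithTopology.continuous_ofTopology _) inferInstance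
    (WithTopology.ofTopology_surjective _)

/-- The constructible topology of a T0 prespectral space is Hausdorff. -/
theorem t2Space_patch [T0Space X] [PrespectralSpace X] : @T2Space X (constructibleTopology X) := by
  refine @T2Space.mk X (constructibleTopology X) ?_
  intro x y hxy
  obtain ⟨U, hU, hxor⟩ := exists_isOpen_xor_mem hxy
  rcases hxor with ⟨hx, hy⟩ | ⟨hy, hx⟩
  · obtain ⟨W, ⟨hWo, hWc⟩, hxW, hWU⟩ :=
      PrespectralSpace.isTopologicalBasis.mem_nhds_iff.mp (hU.mem_nhds hx)
    exact ⟨W, Wᶜ, isPO_of_isCompact_isOpen hWc hWo,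
      isPCl_iff_compl.mp (isPCl_of_isCompact_isOpen hWc hWo), hxW, fun h => hy (hWU h),
      disjoint_compl_right⟩
  · obtain ⟨W, ⟨hWo, hWc⟩, hyW, hWU⟩ :=
      PrespectralSpace.isTopologicalBasis.mem_nhds_iff.mp (hU.mem_nhds hy)
    exact ⟨Wᶜ, W, isPCl_iff_compl.mp (isPCl_of_isCompact_isOpen hWc hWo),
      isPO_of_isCompact_isOpen hWc hWo, fun h => hx (hWU h), hyW,
      disjoint_compl_left⟩

end Basic

section Constructible
variable {X : Type*} [TopologicalSpace X]

theorem _root_.Topology.IsConstructible.isPO_and_isPCl [CompactSpace X] {s : Set X}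
    (hs : IsConstructible s) : IsPO s ∧ IsPCl s := by
  induction hs using IsConstructible.empty_union_induction with
  | open_retrocompact U hUo hUc =>
    exact ⟨isPO_of_isCompact_isOpen hUc.isCompact hUo, isPCl_of_isCompact_isOpen hUc.isCompact hUo⟩
  | union s hs t ht hs' ht' => exact ⟨hs'.1.union ht'.1, hs'.2.union ht'.2⟩
  | compl s hs hs' => exact ⟨isPCl_iff_compl.mp hs'.2, isPO_iff_compl.mp hs'.1⟩

theorem _root_.Topology.IsConstructible.isPO [CompactSpace X] {s : Set X}
    (hs : IsConstructible s) : IsPO s := hs.isPO_and_isPCl.1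

theorem _root_.Topology.IsConstructible.isPCl [CompactSpace X] {s : Set X}
    (hs : IsConstructible s) : IsPCl s := hs.isPO_and_isPCl.2

theorem isConstructible_of_mem_subbasis [QuasiSeparatedSpace X] {s : Set X}
    (hs : s ∈ constructibleTopologySubbasis X) : IsConstructible s := by
  rcases hs with ⟨ho, hc⟩ | ⟨hcl, hc⟩
  · exact hc.isConstructible ho
  · have := hc.isConstructible hcl.isOpen_compl
    rwa [isConstructible_compl] at this

/-- patch-open sets are exactly the unions of constructible sets -/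
theorem isPO_iff_forall_exists [CompactSpace X] [QuasiSeparatedSpace X] {s : Set X} :
    IsPO s ↔ ∀ x ∈ s, ∃ T, IsConstructible T ∧ x ∈ T ∧ T ⊆ s := by
  constructor
  · intro hs x hx
    have hb := @TopologicalSpace.isTopologicalBasis_of_subbasis X (constructibleTopology X)
      (constructibleTopologySubbasis X) rfl
    obtain ⟨T, ⟨f, ⟨hf, hfs⟩, rfl⟩, hxT, hTs⟩ :=
      (@TopologicalSpace.IsTopologicalBasis.isOpen_iff X (constructibleTopology X) s _ hb).mp
        hs x hx
    exact ⟨⋂₀ f, IsConstructible.sInter hf (fun t ht => isConstructible_of_mem_subbasis (hfs ht)),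
      hxT, hTs⟩
  · intro h
    have : s = ⋃₀ {T | IsConstructible T ∧ T ⊆ s} := by
      ext x
      constructor
      · intro hx
        obtain ⟨T, hT, hxT, hTs⟩ := h x hx
        exact ⟨T, ⟨hT, hTs⟩, hxT⟩
      · rintro ⟨T, ⟨_, hTs⟩, hxT⟩
        exact hTs hxT
    rw [this]
    exact isPO_sUnion (fun T hT => hT.1.isPO)

theorem isPO_iff_sUnion [CompactSpace X] [QuasiSeparatedSpace X] {s : Set X} :
    IsPO s ↔ ∃ S : Set (Set X), (∀ T ∈ S, IsConstructible T) ∧ s = ⋃₀ S := by
  constructor
  · intro h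
    refine ⟨{T | IsConstructible T ∧ T ⊆ s}, fun T hT => hT.1, ?_⟩
    ext x
    constructor
    · intro hx
      obtain ⟨T, hT, hxT, hTs⟩ := isPO_iff_forall_exists.mp h x hx
      exact ⟨T, ⟨hT, hTs⟩, hxT⟩
    · rintro ⟨T, ⟨_, hTs⟩, hxT⟩
      exact hTs hxT
  · rintro ⟨S, hS, rfl⟩
    exact isPO_sUnion (fun T hT => (hS T hT).isPO)

theorem isPCl_iff_sInter [CompactSpace X] [QuasiSeparatedSpace X] {s : Set X} :
    IsPCl s ↔ ∃ S : Set (Set X), (∀ T ∈ S, IsConstructible T) ∧ s = ⋂₀ S := by
  rw [isPCl_iff_compl, isPO_iff_sUnion]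
  constructor
  · rintro ⟨S, hS, h⟩
    refine ⟨compl '' S, ?_, ?_⟩
    · rintro _ ⟨T, hT, rfl⟩
      exact (hS T hT).compl
    · rw [← compl_compl s, h, compl_sUnion]
  · rintro ⟨S, hS, rfl⟩
    refine ⟨compl '' S, ?_, ?_⟩
    · rintro _ ⟨T, hT, rfl⟩
      exact (hS T hT).compl
    · rw [compl_sInter]

/-- In a spectral space, patch-clopen sets are constructible. -/
theorem isConstructible_of_isPO_of_isPCl [CompactSpace X] [QuasiSober X] [PrespectralSpace X]
    [QuasiSeparatedSpace X] {s : Set X} (ho : IsPO s) (hc : IsPCl s) : IsConstructible s := by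
  have hcomp : @IsCompact X (constructibleTopology X) s :=
    @IsClosed.isCompact X (constructibleTopology X) s compactSpace_patch hc
  have h := isPO_iff_forall_exists.mp ho
  choose! T hT hxT hTs using h
  obtain ⟨t, hts, hcov⟩ := @IsCompact.elim_finite_subcover_image X X (constructibleTopology X) s
    s T hcomp (fun x hx => (hT x hx).isPO) (fun x hx => mem_biUnion hx (hxT x hx))
  have : s = ⋃ x ∈ t, T x := by
    apply subset_antisymm hcov.2
    exact iUnion₂_subset (fun x hx => hTs x (hts hx))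
  rw [this]
  exact IsConstructible.biUnion hcov.1 (fun x hx => hT x (hts hx))

end Constructible

section Restrict
variable {X : Type*} [TopologicalSpace X] [CompactSpace X] [QuasiSeparatedSpace X]
  {W : Type*} [TopologicalSpace W] [CompactSpace W]

theorem IsPO.preimage_of_isOpenEmbedding {j : W → X} (hj : IsOpenEmbedding j) {s : Set X}
    (hs : IsPO s) : IsPO (j ⁻¹' s) := by
  have : QuasiSeparatedSpace W := hj.quasiSeparatedSpace
  rw [isPO_iff_forall_exists]
  intro x hx
  obtain ⟨T, hT, hxT, hTs⟩ := isPO_iff_forall_exists.mp hs (j x) hx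
  exact ⟨j ⁻¹' T, hT.preimage_of_isOpenEmbedding hj, hxT, preimage_mono hTs⟩

theorem IsPO.image_of_isOpenEmbedding {j : W → X} (hj : IsOpenEmbedding j) {t : Set W}
    (ht : IsPO t) : IsPO (j '' t) := by
  have : QuasiSeparatedSpace W := hj.quasiSeparatedSpace
  rw [isPO_iff_forall_exists]
  rintro _ ⟨x, hx, rfl⟩
  obtain ⟨T, hT, hxT, hTs⟩ := isPO_iff_forall_exists.mp ht x hx
  refine ⟨j '' T, hT.image_of_isOpenEmbedding hj ?_, ⟨x, hxT, rfl⟩, image_mono hTs⟩
  exact (isCompact_range hj.continuous).isRetrocompact hj.isOpen_range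

theorem IsPCl.preimage_of_isOpenEmbedding {j : W → X} (hj : IsOpenEmbedding j) {s : Set X}
    (hs : IsPCl s) : IsPCl (j ⁻¹' s) := by
  rw [isPCl_iff_compl] at hs ⊢
  exact hs.preimage_of_isOpenEmbedding hj

/-- patch-openness is local for covers by compact opens -/
theorem isPO_iff_of_cover {ι : Type*} {W : ι → Type*} [∀ i, TopologicalSpace (W i)]
    [∀ i, CompactSpace (W i)] (j : ∀ i, W i → X) (hj : ∀ i, IsOpenEmbedding (j i))
    (hcov : ∀ x : X, ∃ i, x ∈ range (j i)) {s : Set X} :
    IsPO s ↔ ∀ i, IsPO (j i ⁻¹' s) := by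
  constructor
  · intro hs i
    exact hs.preimage_of_isOpenEmbedding (hj i)
  · intro h
    have : s = ⋃ i, j i '' (j i ⁻¹' s) := by
      ext x
      constructor
      · intro hx
        obtain ⟨i, y, rfl⟩ := hcov x
        exact mem_iUnion.mpr ⟨i, ⟨y, hx, rfl⟩⟩
      · intro hx
        obtain ⟨i, ⟨y, hy, rfl⟩⟩ := mem_iUnion.mp hx
        exact hy
    rw [this]
    exact isPO_iUnion (fun i => (h i).image_of_isOpenEmbedding (hj i))

/-- patch-closedness is local for covers by compact opens -/
theorem isPCl_iff_of_cover {ι : Type*} {W : ι → Type*} [∀ i, TopologicalSpace (W i)]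
    [∀ i, CompactSpace (W i)] (j : ∀ i, W i → X) (hj : ∀ i, IsOpenEmbedding (j i))
    (hcov : ∀ x : X, ∃ i, x ∈ range (j i)) {s : Set X} :
    IsPCl s ↔ ∀ i, IsPCl (j i ⁻¹' s) := by
  rw [isPCl_iff_compl, isPO_iff_of_cover j hj hcov]
  exact forall_congr' (fun i => isPCl_iff_compl.symm)

end Restrict

section SpectralMap
variable {X Y : Type*} [TopologicalSpace X] [TopologicalSpace Y]

theorem continuous_patch {g : X → Y} (hg : IsSpectralMap g) :
    @Continuous X Y (constructibleTopology X) (constructibleTopology Y) g := by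
  refine (continuous_generateFrom_iff (t := constructibleTopology X)
    (b := constructibleTopologySubbasis Y)).mpr ?_
  rintro s (⟨ho, hc⟩ | ⟨hcl, hc⟩)
  · exact isPO_of_isCompact_isOpen (hc.preimage_of_isOpen hg ho) (ho.preimage hg.toContinuous)
  · have h1 : IsCompact (g ⁻¹' s)ᶜ := by
      rw [← preimage_compl]
      exact hc.preimage_of_isOpen hg hcl.isOpen_compl
    exact IsCompact.isOpen_constructibleTopology_of_isClosed h1 (hcl.preimage hg.toContinuous)

theorem IsPO.preimage {g : X → Y} (hg : IsSpectralMap g) {s : Set Y} (hs : IsPO s) :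
    IsPO (g ⁻¹' s) :=
  @IsOpen.preimage X Y (constructibleTopology X) (constructibleTopology Y) g
    (continuous_patch hg) s hs

theorem IsPCl.preimage {g : X → Y} (hg : IsSpectralMap g) {s : Set Y} (hs : IsPCl s) :
    IsPCl (g ⁻¹' s) :=
  @IsClosed.preimage X Y (constructibleTopology X) (constructibleTopology Y) g
    (continuous_patch hg) s hs

/-- The image of a patch-closed set under a spectral map is patch-closed. -/
theorem IsPCl.image [CompactSpace X] [QuasiSober X] [PrespectralSpace X] [QuasiSeparatedSpace X]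
    [T0Space Y] [PrespectralSpace Y] {g : X → Y} (hg : IsSpectralMap g) {s : Set X}
    (hs : IsPCl s) : IsPCl (g '' s) := by
  have hcomp : @IsCompact X (constructibleTopology X) s :=
    @IsClosed.isCompact X (constructibleTopology X) s compactSpace_patch hs
  have himg : @IsCompact Y (constructibleTopology Y) (g '' s) :=
    @IsCompact.image X Y (constructibleTopology X) (constructibleTopology Y) s g hcomp
      (continuous_patch hg)
  exact @IsCompact.isClosed Y (constructibleTopology Y) t2Space_patch (g '' s) himg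

end SpectralMap

/-! ## Part 2: spaces with spectral charts -/

section Local
variable {Z : Type*} [TopologicalSpace Z]

/-- a spectral open: open, quasi-compact and quasi-separated -/
structure IsSpecOpen (V : Set Z) : Prop where
  isOpen : IsOpen V
  isCompact : IsCompact V
  isQS : IsQuasiSeparated V

theorem IsSpecOpen.compactSpace {V : Set Z} (hV : IsSpecOpen V) : CompactSpace V :=
  isCompact_iff_compactSpace.mp hV.isCompact

theorem IsSpecOpen.quasiSeparatedSpace {V : Set Z} (hV : IsSpecOpen V) : QuasiSeparatedSpace V :=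
  (isQuasiSeparated_iff_quasiSeparatedSpace V hV.isOpen).mp hV.isQS

theorem IsSpecOpen.quasiSober [QuasiSober Z] {V : Set Z} (hV : IsSpecOpen V) : QuasiSober V :=
  hV.isOpen.isOpenEmbedding_subtypeVal.quasiSober

theorem IsSpecOpen.prespectralSpace [PrespectralSpace Z] {V : Set Z} (hV : IsSpecOpen V) :
    PrespectralSpace V :=
  hV.isOpen.isOpenEmbedding_subtypeVal.prespectralSpace

theorem IsSpecOpen.of_subset {V W : Set Z} (hV : IsSpecOpen V) (hWo : IsOpen W)
    (hWc : IsCompact W) (hWV : W ⊆ V) : IsSpecOpen W :=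
  ⟨hWo, hWc, hV.isQS.of_subset hWV⟩

theorem isOpenEmbedding_inclusion {W V : Set Z} (hWo : IsOpen W) (hWV : W ⊆ V) :
    IsOpenEmbedding (Set.inclusion hWV) :=
  IsOpenEmbedding.inclusion hWV (hWo.preimage continuous_subtype_val)

/-- every point has a spectral open neighbourhood (e.g. schemes) -/
def LocSpectral (Z : Type*) [TopologicalSpace Z] : Prop :=
  ∀ x : Z, ∃ V : Set Z, IsSpecOpen V ∧ x ∈ V

/-- ind-constructible: patch-open in every spectral open -/
def IndC (E : Set Z) : Prop := ∀ V : Set Z, IsSpecOpen V → IsPO (V ↓∩ E)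
/-- pro-constructible: patch-closed in every spectral open -/
def ProC (E : Set Z) : Prop := ∀ V : Set Z, IsSpecOpen V → IsPCl (V ↓∩ E)

theorem indC_iff_proC_compl {E : Set Z} : IndC E ↔ ProC Eᶜ :=
  forall_congr' fun _ => forall_congr' fun _ => isPO_iff_compl

theorem proC_iff_indC_compl {E : Set Z} : ProC E ↔ IndC Eᶜ :=
  forall_congr' fun _ => forall_congr' fun _ => isPCl_iff_compl

/-- local criterion for pro-constructibility -/
theorem proC_of_forall_exists [PrespectralSpace Z] {E : Set Z}
    (h : ∀ x : Z, ∃ V, IsSpecOpen V ∧ x ∈ V ∧ IsPCl (V ↓∩ E)) : ProC E := by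
  intro V hV
  have := hV.compactSpace
  have := hV.quasiSeparatedSpace
  have key : ∀ x : V, ∃ W : Set Z, IsOpen W ∧ IsCompact W ∧ W ⊆ V ∧ x.1 ∈ W ∧
      IsPCl (W ↓∩ E) := by
    intro x
    obtain ⟨V', hV', hxV', hE⟩ := h x.1
    obtain ⟨W, ⟨hWo, hWc⟩, hxW, hWsub⟩ := PrespectralSpace.isTopologicalBasis.mem_nhds_iff.mp
      ((hV.isOpen.inter hV'.isOpen).mem_nhds ⟨x.2, hxV'⟩)
    refine ⟨W, hWo, hWc, hWsub.trans inter_subset_left, hxW, ?_⟩
    have := hV'.compactSpace
    have := hV'.quasiSeparatedSpace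
    have : CompactSpace W := isCompact_iff_compactSpace.mp hWc
    exact hE.preimage_of_isOpenEmbedding
      (isOpenEmbedding_inclusion hWo (hWsub.trans inter_subset_right))
  choose W hWo hWc hWV hxW hWE using key
  have : ∀ x : V, CompactSpace (W x) := fun x => isCompact_iff_compactSpace.mp (hWc x)
  rw [isPCl_iff_of_cover (fun x : V => Set.inclusion (hWV x))
    (fun x => isOpenEmbedding_inclusion (hWo x) (hWV x))
    (fun x => ⟨x, ⟨⟨x.1, hxW x⟩, rfl⟩⟩)]
  intro x
  exact hWE x

/-- local criterion for ind-constructibility -/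
theorem indC_of_forall_exists [PrespectralSpace Z] {E : Set Z}
    (h : ∀ x : Z, ∃ V, IsSpecOpen V ∧ x ∈ V ∧ IsPO (V ↓∩ E)) : IndC E := by
  rw [indC_iff_proC_compl]
  apply proC_of_forall_exists
  intro x
  obtain ⟨V, hV, hx, hE⟩ := h x
  exact ⟨V, hV, hx, isPO_iff_compl.mp hE⟩

end Local

section Prelude
variable {Z : Type*} [TopologicalSpace Z] [PrespectralSpace Z]

/-- The frozen definition of pro-constructible agrees with `ProC` on spaces with spectral charts. -/
theorem isProConstructible_iff (hZ : LocSpectral Z) {E : Set Z} :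
    ProCons.IsProConstructible E ↔ ProC E := by
  constructor
  · intro h
    apply proC_of_forall_exists
    intro x
    obtain ⟨U, hUo, hxU, S, hS, hES⟩ := h x
    obtain ⟨V₀, hV₀, hxV₀⟩ := hZ x
    obtain ⟨W, ⟨hWo, hWc⟩, hxW, hWsub⟩ := PrespectralSpace.isTopologicalBasis.mem_nhds_iff.mp
      ((hUo.inter hV₀.isOpen).mem_nhds ⟨hxU, hxV₀⟩)
    have hW : IsSpecOpen W := hV₀.of_subset hWo hWc (hWsub.trans inter_subset_right)
    refine ⟨W, hW, hxW, ?_⟩
    have := hW.compactSpace
    have := hW.quasiSeparatedSpace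
    have := hW.prespectralSpace
    have hincl := isOpenEmbedding_inclusion hWo (hWsub.trans inter_subset_left)
    have hEq : W ↓∩ E = ⋂₀ ((fun T => Set.inclusion (hWsub.trans inter_subset_left) ⁻¹' T) '' S) := by
      change Set.inclusion (hWsub.trans inter_subset_left) ⁻¹' (Subtype.val ⁻¹' E) = _
      rw [hES, preimage_sInter, sInter_image]
    rw [hEq]
    apply isPCl_sInter
    rintro _ ⟨T, hT, rfl⟩
    exact ((hS T hT).preimage_of_isOpenEmbedding hincl).isConstructible.isPCl
  · intro h x
    obtain ⟨V, hV, hxV⟩ := hZ x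
    have := hV.compactSpace
    have := hV.quasiSeparatedSpace
    obtain ⟨S, hS, hES⟩ := isPCl_iff_sInter.mp (h V hV)
    exact ⟨V, hV.isOpen, hxV, S, fun T hT => (hS T hT).isLocallyConstructible, hES⟩

/-- The frozen definition of ind-constructible agrees with `IndC` on spaces with spectral
charts. -/
theorem isIndConstructible_iff (hZ : LocSpectral Z) {E : Set Z} :
    ProCons.IsIndConstructible E ↔ IndC E := by
  constructor
  · intro h
    apply indC_of_forall_exists
    intro x
    obtain ⟨U, hUo, hxU, S, hS, hES⟩ := h x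
    obtain ⟨V₀, hV₀, hxV₀⟩ := hZ x
    obtain ⟨W, ⟨hWo, hWc⟩, hxW, hWsub⟩ := PrespectralSpace.isTopologicalBasis.mem_nhds_iff.mp
      ((hUo.inter hV₀.isOpen).mem_nhds ⟨hxU, hxV₀⟩)
    have hW : IsSpecOpen W := hV₀.of_subset hWo hWc (hWsub.trans inter_subset_right)
    refine ⟨W, hW, hxW, ?_⟩
    have := hW.compactSpace
    have := hW.quasiSeparatedSpace
    have := hW.prespectralSpace
    have hincl := isOpenEmbedding_inclusion hWo (hWsub.trans inter_subset_left)
    have hEq : W ↓∩ E = ⋃₀ ((fun T => Set.inclusion (hWsub.trans inter_subset_left) ⁻¹' T) '' S) := by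
      change Set.inclusion (hWsub.trans inter_subset_left) ⁻¹' (Subtype.val ⁻¹' E) = _
      rw [hES, preimage_sUnion, sUnion_image]
    rw [hEq]
    apply isPO_sUnion
    rintro _ ⟨T, hT, rfl⟩
    exact ((hS T hT).preimage_of_isOpenEmbedding hincl).isConstructible.isPO
  · intro h x
    obtain ⟨V, hV, hxV⟩ := hZ x
    have := hV.compactSpace
    have := hV.quasiSeparatedSpace
    obtain ⟨S, hS, hES⟩ := isPO_iff_sUnion.mp (h V hV)
    exact ⟨V, hV.isOpen, hxV, S, fun T hT => (hS T hT).isLocallyConstructible, hES⟩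

end Prelude

section Main
variable {Z : Type*} [TopologicalSpace Z] [PrespectralSpace Z] [QuasiSober Z]

/-- local compactness statement on one spectral chart -/
theorem exists_finset_inter_subset_chart {V : Set Z} (hV : IsSpecOpen V) {ι : Type*} {E : Set Z}
    (hE : IndC E) (F : ι → Set Z) (hF : ∀ i, ProC (F i)) (h : ⋂ i, F i ⊆ E) :
    ∃ J : Finset ι, V ∩ ⋂ i ∈ J, F i ⊆ E := by
  have := hV.compactSpace
  have := hV.quasiSeparatedSpace
  have := hV.prespectralSpace
  have := hV.quasiSober
  have hK : @IsCompact V (constructibleTopology V) (V ↓∩ E)ᶜ :=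
    @IsClosed.isCompact V (constructibleTopology V) _ compactSpace_patch
      (isPO_iff_compl.mp (hE V hV))
  have hempty : (V ↓∩ E)ᶜ ∩ ⋂ i, (V ↓∩ F i) = ∅ := by
    rw [eq_empty_iff_forall_notMem]
    rintro z ⟨hz1, hz2⟩
    apply hz1
    apply h
    rw [mem_iInter] at hz2 ⊢
    exact hz2
  obtain ⟨J, hJ⟩ := @IsCompact.elim_finite_subfamily_closed V (constructibleTopology V) _ ι hK
    (fun i => V ↓∩ F i) (fun i => hF i V hV) hempty
  refine ⟨J, ?_⟩
  rintro z ⟨hzV, hzF⟩
  by_contra hzE
  have : (⟨z, hzV⟩ : V) ∈ (V ↓∩ E)ᶜ ∩ ⋂ i ∈ J, (V ↓∩ F i) := by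
    refine ⟨hzE, ?_⟩
    rw [mem_iInter₂] at hzF ⊢
    exact hzF
  rw [hJ] at this
  exact this

/-- EGA IV 1.9.9: compactness of the constructible topology on a quasi-compact space. -/
theorem exists_finset_inter_subset [CompactSpace Z] (hZ : LocSpectral Z) {ι : Type*} {E : Set Z}
    (hE : IndC E) (F : ι → Set Z) (hF : ∀ i, ProC (F i)) (h : ⋂ i, F i ⊆ E) :
    ∃ J : Finset ι, ⋂ i ∈ J, F i ⊆ E := by
  classical
  choose V hV hxV using hZ
  obtain ⟨t, ht⟩ := isCompact_univ.elim_nhds_subcover V
    (fun x _ => (hV x).isOpen.mem_nhds (hxV x))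
  have hloc := fun x => exists_finset_inter_subset_chart (hV x) hE F hF h
  choose J hJ using hloc
  refine ⟨t.biUnion J, ?_⟩
  intro z hz
  obtain ⟨x, hxt, hzx⟩ := mem_iUnion₂.mp (ht.2 (mem_univ z))
  apply hJ x
  refine ⟨hzx, ?_⟩
  rw [mem_iInter₂] at hz ⊢
  intro i hi
  exact hz i (Finset.mem_biUnion.mpr ⟨x, hxt, hi⟩)

/-- dual form: a pro-constructible set covered by ind-constructible sets has a finite subcover -/
theorem exists_finset_subset_iUnion [CompactSpace Z] (hZ : LocSpectral Z) {ι : Type*} {F : Set Z}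
    (hF : ProC F) (E : ι → Set Z) (hE : ∀ i, IndC (E i)) (h : F ⊆ ⋃ i, E i) :
    ∃ J : Finset ι, F ⊆ ⋃ i ∈ J, E i := by
  obtain ⟨J, hJ⟩ := exists_finset_inter_subset hZ (proC_iff_indC_compl.mp hF)
    (fun i => (E i)ᶜ) (fun i => indC_iff_proC_compl.mp (hE i)) (by
      rw [← compl_iUnion]
      exact compl_subset_compl.mpr h)
  refine ⟨J, ?_⟩
  intro z hz
  by_contra hcon
  apply hJ _ hz
  rw [mem_iInter₂]
  intro i hi hzi
  exact hcon (mem_iUnion₂.mpr ⟨i, hi, hzi⟩)

/-- EGA IV 1.9.4-ish: locally constructible iff both ind- and pro-constructible -/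
theorem isLocallyConstructible_iff (hZ : LocSpectral Z) {E : Set Z} :
    IsLocallyConstructible E ↔ IndC E ∧ ProC E := by
  constructor
  · intro h
    refine ⟨fun V hV => ?_, fun V hV => ?_⟩ <;>
    · have := hV.compactSpace
      have := hV.quasiSeparatedSpace
      have := hV.prespectralSpace
      have hc := (h.preimage_of_isOpenEmbedding hV.isOpen.isOpenEmbedding_subtypeVal).isConstructible
      first | exact hc.isPO | exact hc.isPCl
  · rintro ⟨hI, hP⟩ x
    obtain ⟨V, hV, hxV⟩ := hZ x
    have := hV.compactSpace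
    have := hV.quasiSeparatedSpace
    have := hV.prespectralSpace
    have := hV.quasiSober
    exact ⟨V, hV.isOpen.mem_nhds hxV, hV.isOpen,
      isConstructible_of_isPO_of_isPCl (hI V hV) (hP V hV)⟩

/-- EGA IV 1.9.10-ish: interior points of an ind-constructible set -/
theorem mem_interior_iff (hZ : LocSpectral Z) {E : Set Z} (hE : IndC E) (x : Z) :
    x ∈ interior E ↔ ∀ x' : Z, x' ⤳ x → x' ∈ E := by
  constructor
  · intro hx x' hx'
    exact interior_subset (hx'.mem_open isOpen_interior hx)
  · intro h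
    obtain ⟨V, hV, hxV⟩ := hZ x
    have := hV.compactSpace
    have := hV.quasiSeparatedSpace
    have := hV.prespectralSpace
    have := hV.quasiSober
    have hK : @IsCompact V (constructibleTopology V) (V ↓∩ E)ᶜ :=
      @IsClosed.isCompact V (constructibleTopology V) _ compactSpace_patch
        (isPO_iff_compl.mp (hE V hV))
    have key : ∀ y ∈ (V ↓∩ E)ᶜ, ∃ W : Set Z, IsOpen W ∧ IsCompact W ∧ W ⊆ V ∧ x ∈ W ∧
        (y : Z) ∉ W := by
      intro y hy
      have hns : ¬ ((y : Z) ⤳ x) := fun hsp => hy (h _ hsp)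
      rw [specializes_iff_forall_open] at hns
      push Not at hns
      obtain ⟨O, hO, hxO, hyO⟩ := hns
      obtain ⟨W, ⟨hWo, hWc⟩, hxW, hWsub⟩ := PrespectralSpace.isTopologicalBasis.mem_nhds_iff.mp
        ((hO.inter hV.isOpen).mem_nhds ⟨hxO, hxV⟩)
      exact ⟨W, hWo, hWc, hWsub.trans inter_subset_right, hxW,
        fun hyW => hyO (hWsub hyW).1⟩
    choose! W hWo hWc hWV hxW hyW using key
    have hpo : ∀ y ∈ (V ↓∩ E)ᶜ, IsPO (V ↓∩ W y)ᶜ := by
      intro y hy
      apply isPCl_iff_compl.mp
      apply isPCl_of_isCompact_isOpen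
      · rw [hV.isOpen.isOpenEmbedding_subtypeVal.isInducing.isCompact_iff,
          Subtype.image_preimage_coe, inter_eq_right.mpr (hWV y hy)]
        exact hWc y hy
      · exact (hWo y hy).preimage continuous_subtype_val
    obtain ⟨b, hbK, hbfin, hbcov⟩ := @IsCompact.elim_finite_subcover_image V V
      (constructibleTopology V) _ _ (fun y => (V ↓∩ W y)ᶜ) hK hpo
      (fun y hy => mem_biUnion hy (hyW y hy))
    rw [mem_interior]
    refine ⟨V ∩ ⋂ y ∈ b, W y, ?_, ?_, ?_⟩
    · rintro z ⟨hzV, hzW⟩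
      by_contra hzE
      have hzK : (⟨z, hzV⟩ : V) ∈ (V ↓∩ E)ᶜ := hzE
      obtain ⟨y, hyb, hzy⟩ := mem_iUnion₂.mp (hbcov hzK)
      exact hzy (mem_iInter₂.mp hzW y hyb)
    · exact hV.isOpen.inter (hbfin.isOpen_biInter (fun y hy => hWo y (hbK hy)))
    · exact ⟨hxV, mem_iInter₂.mpr (fun y hy => hxW y (hbK hy))⟩

end Main

end Groth.Agent.Lib.Helper25.PC
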