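import Mathlib
import Groth.Agent.Lib.Helper25.FlatStageCat
import Groth.Agent.Lib.Helper17.ColimSys
import Groth.Agent.Lib.Helper7.FPKer

/-!
# helper25 — InjStage: for a map `α : M₀ → N₀` of finitely presented modules over a finitely
presented `A₀`-algebra with `A₀`-flat cokernel, injectivity of the base change to a colimit `A`
descends to a stage.
-/

set_option autoImplicit false
set_option linter.unusedVariables false
set_option linter.style.haveILetI false
set_option linter.unusedSectionVars false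
universe u
open CategoryTheory TensorProduct

namespace Groth.Agent.Lib.Helper25.InjStage

open Groth.Agent.Lib.Helper17.ColimSys

section Alg

variable {A₀ B₀ : Type u} [CommRing A₀] [CommRing B₀] [Algebra A₀ B₀]
  {M₀ N₀ : Type u} [AddCommGroup M₀] [Module B₀ M₀] [Module A₀ M₀] [IsScalarTower A₀ B₀ M₀]
  [AddCommGroup N₀] [Module B₀ N₀] [Module A₀ N₀] [IsScalarTower A₀ B₀ N₀]
  (α : M₀ →ₗ[B₀] N₀)

/-- multiplication by `b`, as an `A₀`-linear endomorphism -/
def lmul (b : B₀) : M₀ →ₗ[A₀] M₀ where
  toFun m := b • m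
  map_add' := smul_add b
  map_smul' a m := by
    simp only [RingHom.id_apply]
    rw [← algebraMap_smul B₀ a m, ← algebraMap_smul B₀ a (b • m), smul_smul, smul_smul, mul_comm]

/-- if the generators of `ker α` die in `A' ⊗ M₀` and `Coker α` is flat, then `A' ⊗ α` is injective -/
theorem baseChange_injective_of_gens [Module.Flat A₀ (N₀ ⧸ LinearMap.range α)]
    (t : Set M₀) (ht : Submodule.span B₀ t = LinearMap.ker α)
    (A' : Type u) [CommRing A'] [Algebra A₀ A']
    (h : ∀ κ ∈ t, (1 : A') ⊗ₜ[A₀] κ = 0) :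
    Function.Injective ((α.restrictScalars A₀).baseChange A') := by
  -- every `a ⊗ k`, `k ∈ ker α`, vanishes
  have hk : ∀ k ∈ LinearMap.ker α, ∀ a : A', a ⊗ₜ[A₀] k = 0 := by
    intro k hk
    rw [← ht] at hk
    refine Submodule.span_induction (p := fun k _ => ∀ a : A', a ⊗ₜ[A₀] k = 0) ?_ ?_ ?_ ?_ hk
    · intro κ hκ a
      have : a ⊗ₜ[A₀] κ = a • ((1 : A') ⊗ₜ[A₀] κ) := by
        rw [TensorProduct.smul_tmul', smul_eq_mul, mul_one]
      rw [this, h κ hκ, smul_zero]
    · intro a; exact TensorProduct.tmul_zero _ a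
    · intro x y _ _ hx hy a
      rw [TensorProduct.tmul_add, hx, hy, add_zero]
    · intro b x _ hx a
      have : a ⊗ₜ[A₀] (b • x) = (lmul (A₀ := A₀) b).lTensor A' (a ⊗ₜ[A₀] x) := rfl
      rw [this, hx, map_zero]
  -- factor through the range
  let ι : LinearMap.range α →ₗ[A₀] N₀ := (LinearMap.range α).subtype.restrictScalars A₀
  let α' : M₀ →ₗ[A₀] LinearMap.range α := α.rangeRestrict.restrictScalars A₀
  have hι : Function.Injective (ι.lTensor A') :=
    LinearMap.lTensor_injective_of_exact_of_flat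
      ((LinearMap.range α).mkQ.restrictScalars A₀) (LinearMap.range α).mkQ_surjective ι
      (LinearMap.range α).injective_subtype
      (by
        intro y
        rw [LinearMap.restrictScalars_apply, Submodule.mkQ_apply, Submodule.Quotient.mk_eq_zero]
        constructor
        · intro hy; exact ⟨⟨y, hy⟩, rfl⟩
        · rintro ⟨z, rfl⟩; exact z.2) A'
  have hex : Function.Exact ((LinearMap.ker α).subtype.restrictScalars A₀) α' := by
    intro m
    constructor
    · intro hm
      refine ⟨⟨m, ?_⟩, rfl⟩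
      have := congrArg Subtype.val hm
      exact this
    · rintro ⟨z, rfl⟩
      exact Subtype.ext z.2
  have hsurj : Function.Surjective α' := α.surjective_rangeRestrict
  have hex' := lTensor_exact A' hex hsurj
  have hw : ∀ w : A' ⊗[A₀] LinearMap.ker α,
      ((LinearMap.ker α).subtype.restrictScalars A₀).lTensor A' w = 0 := by
    intro w
    induction w using TensorProduct.induction_on with
    | zero => rw [map_zero]
    | tmul a k =>
      rw [LinearMap.lTensor_tmul]
      exact hk k.1 k.2 a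
    | add x y hx hy => rw [map_add, hx, hy, add_zero]
  rw [injective_iff_map_eq_zero]
  intro z hz
  have hcomp : (α.restrictScalars A₀).baseChange A' z = ι.lTensor A' (α'.lTensor A' z) := by
    rw [LinearMap.baseChange_eq_ltensor, ← LinearMap.comp_apply, ← LinearMap.lTensor_comp]
    rfl
  rw [hcomp] at hz
  have hz' : α'.lTensor A' z = 0 := hι (hz.trans (map_zero _).symm)
  obtain ⟨w, rfl⟩ := (hex' z).1 hz'
  exact hw w

end Alg

section Cat

variable {K : Type u} [SmallCategory K] [IsCofiltered K]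
  {A₀ : Type u} [CommRing A₀] {G : K → Type u} [∀ i, CommRing (G i)] [∀ i, Algebra A₀ (G i)]
  {A : Type u} [CommRing A] [Algebra A₀ A]
  (τ : ∀ i, G i →ₐ[A₀] A) (σ : ∀ {i j : K}, (i ⟶ j) → (G j →ₐ[A₀] G i))
  (hστ : ∀ {i j : K} (f : i ⟶ j) (x : G j), τ i (σ f x) = τ j x)
  (hσσ : ∀ {i j k : K} (f : i ⟶ j) (g : j ⟶ k) (x : G k), σ f (σ g x) = σ (f ≫ g) x)
  (hsurj : ∀ a : A, ∃ i, ∃ x : G i, τ i x = a)
  (hker : ∀ i (x : G i), τ i x = 0 → ∃ j, ∃ f : j ⟶ i, σ f x = 0)

include hστ hσσ hsurj hker in
theorem isSys : IsSys (Hom := fun (i l : K) => (l ⟶ i)) (fun i j l F F' => F' ≫ F)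
    (fun i => (τ i).toLinearMap) (fun i l F => (σ F).toLinearMap) where
  compat F x := hστ F x
  comp_apply F F' x := (hσσ F' F x).symm
  surj i m := by
    obtain ⟨i', x', hx'⟩ := hsurj m
    refine ⟨IsCofiltered.min i i', IsCofiltered.minToLeft i i',
      σ (IsCofiltered.minToRight i i') x', ?_⟩
    show τ _ (σ _ x') = m
    rw [hστ, hx']
  kill i x hx := hker i x hx

include hστ hσσ hsurj hker in
/-- **Descent of injectivity to a stage**, for a map with flat cokernel. -/
theorem exists_stage_injective {B₀ : Type u} [CommRing B₀] [Algebra A₀ B₀]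
    [Algebra.FinitePresentation A₀ B₀]
    {M₀ N₀ : Type u} [AddCommGroup M₀] [Module B₀ M₀] [Module A₀ M₀] [IsScalarTower A₀ B₀ M₀]
    [AddCommGroup N₀] [Module B₀ N₀] [Module A₀ N₀] [IsScalarTower A₀ B₀ N₀]
    [Module.FinitePresentation B₀ M₀] [Module.FinitePresentation B₀ N₀]
    (α : M₀ →ₗ[B₀] N₀) [Module.Flat A₀ (N₀ ⧸ LinearMap.range α)]
    (hinj : Function.Injective ((α.restrictScalars A₀).baseChange A)) :
    ∃ n, Function.Injective ((α.restrictScalars A₀).baseChange (G n)) := by
  classical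
  haveI : Module.FinitePresentation B₀ (N₀ ⧸ LinearMap.range α) :=
    Module.finitePresentation_of_surjective (LinearMap.range α).mkQ
      (LinearMap.range α).mkQ_surjective (by
        rw [Submodule.ker_mkQ]
        exact Submodule.fg_range α)
  have hkerfp : Module.FinitePresentation B₀ (LinearMap.ker (LinearMap.range α).mkQ) :=
    Groth.Agent.Lib.Helper7.FPKer.fp_ker_of_flat A₀ B₀ (N₀ ⧸ LinearMap.range α)
      (LinearMap.range α).mkQ (LinearMap.range α).mkQ_surjective
  haveI : Module.FinitePresentation B₀ (LinearMap.range α) :=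
    Module.FinitePresentation.of_equiv (LinearEquiv.ofEq _ _ (Submodule.ker_mkQ _))
  have hfg : (LinearMap.ker α.rangeRestrict).FG :=
    Module.FinitePresentation.fg_ker α.rangeRestrict α.surjective_rangeRestrict
  rw [LinearMap.ker_rangeRestrict] at hfg
  obtain ⟨t, ht⟩ := hfg
  have h0 : ∀ κ ∈ t, (1 : A) ⊗ₜ[A₀] κ = 0 := by
    intro κ hκ
    apply hinj
    have hκ0 : α κ = 0 := by
      have : κ ∈ LinearMap.ker α := by rw [← ht]; exact Submodule.subset_span hκ
      exact this
    rw [LinearMap.baseChange_tmul, LinearMap.restrictScalars_apply, hκ0, TensorProduct.tmul_zero,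
      map_zero]
  have sys := (isSys τ σ hστ hσσ hsurj hker).rTensor M₀
  obtain ⟨i₀⟩ := IsCofiltered.nonempty (C := K)
  obtain ⟨l, F, hl⟩ := sys.kill_family i₀ (fun κ : ↥t => (1 : G i₀) ⊗ₜ[A₀] κ.1) (fun κ => by
    show (τ i₀).toLinearMap.rTensor M₀ ((1 : G i₀) ⊗ₜ[A₀] κ.1) = 0
    rw [LinearMap.rTensor_tmul, AlgHom.toLinearMap_apply, map_one]
    exact h0 κ.1 κ.2)
  refine ⟨l, baseChange_injective_of_gens α (t : Set M₀) ht (G l) (fun κ hκ => ?_)⟩
  have := hl ⟨κ, hκ⟩
  change (σ F).toLinearMap.rTensor M₀ ((1 : G i₀) ⊗ₜ[A₀] κ) = 0 at this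
  rwa [LinearMap.rTensor_tmul, AlgHom.toLinearMap_apply, map_one] at this

end Cat

section BaseChange

variable {A₀ : Type u} [CommRing A₀]
  {M₀ N₀ : Type u} [AddCommGroup M₀] [Module A₀ M₀] [AddCommGroup N₀] [Module A₀ N₀]
  (α : M₀ →ₗ[A₀] N₀) (A' : Type u) [CommRing A'] [Algebra A₀ A']

/-- the cokernel of a base change is the base change of the cokernel -/
noncomputable def cokerBaseChangeEquiv :
    ((A' ⊗[A₀] N₀) ⧸ LinearMap.range (α.baseChange A')) ≃ₗ[A'] A' ⊗[A₀] (N₀ ⧸ LinearMap.range α) :=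
  Function.Exact.linearEquivOfSurjective (f := α.baseChange A')
    (g := (LinearMap.range α).mkQ.baseChange A')
    (by
      have hex : Function.Exact α (LinearMap.range α).mkQ := by
        intro y
        rw [Submodule.mkQ_apply, Submodule.Quotient.mk_eq_zero]
        rfl
      have := lTensor_exact A' hex (LinearMap.range α).mkQ_surjective
      intro y
      have h := this y
      simp only [LinearMap.baseChange_eq_ltensor] at h ⊢
      exact h)
    (by
      have := LinearMap.lTensor_surjective A' (LinearMap.range α).mkQ_surjective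
      intro y
      obtain ⟨z, hz⟩ := this y
      exact ⟨z, by rw [LinearMap.baseChange_eq_ltensor]; exact hz⟩)

theorem flat_coker_baseChange [Module.Flat A₀ (N₀ ⧸ LinearMap.range α)] :
    Module.Flat A' ((A' ⊗[A₀] N₀) ⧸ LinearMap.range (α.baseChange A')) :=
  Module.Flat.of_linearEquiv (cokerBaseChangeEquiv α A')

theorem injective_baseChange [Module.Flat A₀ (N₀ ⧸ LinearMap.range α)]
    (hα : Function.Injective α) : Function.Injective (α.baseChange A') := by
  have hex : Function.Exact α (LinearMap.range α).mkQ := by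
    intro y
    rw [Submodule.mkQ_apply, Submodule.Quotient.mk_eq_zero]
    rfl
  have := LinearMap.lTensor_injective_of_exact_of_flat (LinearMap.range α).mkQ
    (LinearMap.range α).mkQ_surjective α hα hex A'
  intro x y hxy
  apply this
  simpa only [LinearMap.baseChange_eq_ltensor] using hxy

end BaseChange

section Bridge

variable {A₀ B₀ : Type u} [CommRing A₀] [CommRing B₀] [Algebra A₀ B₀]
  {M₀ N₀ : Type u} [AddCommGroup M₀] [Module B₀ M₀] [Module A₀ M₀] [IsScalarTower A₀ B₀ M₀]
  [AddCommGroup N₀] [Module B₀ N₀] [Module A₀ N₀] [IsScalarTower A₀ B₀ N₀]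
  (α : M₀ →ₗ[B₀] N₀)

/-- the quotient by the range, over the small ring and over the big ring -/
noncomputable def quotRangeEquiv :
    (N₀ ⧸ LinearMap.range (α.restrictScalars A₀)) ≃ₗ[A₀] (N₀ ⧸ LinearMap.range α) :=
  Submodule.quotEquivOfEq _ _ (LinearMap.range_restrictScalars (R := A₀) α) ≪≫ₗ
    Submodule.Quotient.restrictScalarsEquiv A₀ (LinearMap.range α)

theorem flat_quot_restrictScalars_iff :
    Module.Flat A₀ (N₀ ⧸ LinearMap.range (α.restrictScalars A₀)) ↔
      Module.Flat A₀ (N₀ ⧸ LinearMap.range α) :=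
  Module.Flat.equiv_iff (quotRangeEquiv α)

end Bridge

end Groth.Agent.Lib.Helper25.InjStage
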