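import Mathlib
import Groth.Agent.Lib.Helper25.InjStage

/-!
# helper25 — ColimMapAlg: equality / surjectivity / bijectivity of a base-changed linear map descends
from a filtered colimit of algebras to a stage (the algebra behind EGA IV 8.5.2).
-/

set_option autoImplicit false
set_option linter.unusedVariables false
set_option linter.style.haveILetI false
set_option linter.unusedSectionVars false
universe u
open CategoryTheory TensorProduct

namespace Groth.Agent.Lib.Helper25.ColimMapAlg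

open Groth.Agent.Lib.Helper17.ColimSys Groth.Agent.Lib.Helper25.InjStage

section Basic

variable {A₀ : Type u} [CommRing A₀]
  {M₀ N₀ : Type u} [AddCommGroup M₀] [Module A₀ M₀] [AddCommGroup N₀] [Module A₀ N₀]

/-- if `1 ⊗ m = 0` for `m` in a spanning family, then `A' ⊗ M₀` vanishes identically -/
theorem tmul_eq_zero_of_gens (A' : Type u) [CommRing A'] [Algebra A₀ A'] {r : ℕ} (m : Fin r → M₀)
    (hm : Submodule.span A₀ (Set.range m) = ⊤) (h : ∀ k, (1 : A') ⊗ₜ[A₀] m k = 0)
    (a : A') (x : M₀) : a ⊗ₜ[A₀] x = 0 := by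
  have h0 : TensorProduct.mk A₀ A' M₀ 1 = 0 := by
    apply LinearMap.ext_on_range hm
    intro k
    rw [TensorProduct.mk_apply, h k, LinearMap.zero_apply]
  have h1 : (1 : A') ⊗ₜ[A₀] x = 0 := by
    have := LinearMap.congr_fun h0 x
    rwa [TensorProduct.mk_apply, LinearMap.zero_apply] at this
  have : a ⊗ₜ[A₀] x = a • ((1 : A') ⊗ₜ[A₀] x) := by
    rw [TensorProduct.smul_tmul', smul_eq_mul, mul_one]
  rw [this, h1, smul_zero]

/-- two base-changed maps agree as soon as `1 ⊗ (u m - v m) = 0` on a spanning family -/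
theorem baseChange_eq_of_gens (A' : Type u) [CommRing A'] [Algebra A₀ A'] (u v : M₀ →ₗ[A₀] N₀)
    {r : ℕ} (m : Fin r → M₀) (hm : Submodule.span A₀ (Set.range m) = ⊤)
    (h : ∀ k, (1 : A') ⊗ₜ[A₀] (u (m k) - v (m k)) = 0) :
    u.baseChange A' = v.baseChange A' := by
  have h0 : (TensorProduct.mk A₀ A' N₀ 1) ∘ₗ (u - v) = 0 := by
    apply LinearMap.ext_on_range hm
    intro k
    rw [LinearMap.comp_apply, LinearMap.sub_apply, TensorProduct.mk_apply, h k,
      LinearMap.zero_apply]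
  apply TensorProduct.AlgebraTensorModule.ext
  intro a x
  rw [LinearMap.baseChange_tmul, LinearMap.baseChange_tmul]
  have h1 : (1 : A') ⊗ₜ[A₀] (u x - v x) = 0 := by
    have := LinearMap.congr_fun h0 x
    rwa [LinearMap.comp_apply, LinearMap.sub_apply, TensorProduct.mk_apply,
      LinearMap.zero_apply] at this
  have h2 : a ⊗ₜ[A₀] (u x - v x) = 0 := by
    have : a ⊗ₜ[A₀] (u x - v x) = a • ((1 : A') ⊗ₜ[A₀] (u x - v x)) := by
      rw [TensorProduct.smul_tmul', smul_eq_mul, mul_one]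
    rw [this, h1, smul_zero]
  rw [TensorProduct.tmul_sub] at h2
  exact sub_eq_zero.1 h2

/-- surjectivity of a base change in terms of the cokernel -/
theorem surjective_baseChange_iff (A' : Type u) [CommRing A'] [Algebra A₀ A'] (u : M₀ →ₗ[A₀] N₀) :
    Function.Surjective (u.baseChange A') ↔
      ∀ z : A' ⊗[A₀] (N₀ ⧸ LinearMap.range u), z = 0 := by
  rw [← LinearMap.range_eq_top]
  constructor
  · intro h z
    obtain ⟨w, rfl⟩ := (cokerBaseChangeEquiv u A').surjective z
    obtain ⟨y, rfl⟩ := Submodule.Quotient.mk_surjective _ w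
    have : y ∈ LinearMap.range (u.baseChange A') := by rw [h]; trivial
    rw [(Submodule.Quotient.mk_eq_zero _).2 this, map_zero]
  · intro h
    rw [eq_top_iff]
    intro y _
    have := h (cokerBaseChangeEquiv u A' (Submodule.Quotient.mk y))
    have h2 : (Submodule.Quotient.mk y : (A' ⊗[A₀] N₀) ⧸ LinearMap.range (u.baseChange A')) = 0 :=
      (cokerBaseChangeEquiv u A').injective (this.trans (map_zero _).symm)
    exact (Submodule.Quotient.mk_eq_zero _).1 h2

end Basic

section Step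

variable {A₀ A₁ A₂ : Type u} [CommRing A₀] [CommRing A₁] [CommRing A₂] [Algebra A₀ A₁] [Algebra A₀ A₂]
  [Algebra A₁ A₂] [IsScalarTower A₀ A₁ A₂]
  {M₀ N₀ : Type u} [AddCommGroup M₀] [Module A₀ M₀] [AddCommGroup N₀] [Module A₀ N₀]

/-- the cancellation isomorphism `A₂ ⊗[A₁] (A₁ ⊗[A₀] M₀) ≃ A₂ ⊗[A₀] M₀` sends `1 ⊗ κ` to the image of `κ` -/
theorem cancel_one_tmul (κ : A₁ ⊗[A₀] M₀) :
    TensorProduct.AlgebraTensorModule.cancelBaseChange A₀ A₁ A₂ A₂ M₀ ((1 : A₂) ⊗ₜ[A₁] κ) =
      (IsScalarTower.toAlgHom A₀ A₁ A₂).toLinearMap.rTensor M₀ κ := by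
  induction κ using TensorProduct.induction_on with
  | zero => rw [TensorProduct.tmul_zero, map_zero, map_zero]
  | tmul a m =>
    rw [TensorProduct.AlgebraTensorModule.cancelBaseChange_tmul, LinearMap.rTensor_tmul,
      AlgHom.toLinearMap_apply, IsScalarTower.coe_toAlgHom', Algebra.smul_def, mul_one]
  | add x y hx hy => rw [TensorProduct.tmul_add, map_add, map_add, hx, hy]

/-- naturality of the cancellation isomorphism -/
theorem cancel_naturality (u : M₀ →ₗ[A₀] N₀) (z : A₂ ⊗[A₁] (A₁ ⊗[A₀] M₀)) :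
    TensorProduct.AlgebraTensorModule.cancelBaseChange A₀ A₁ A₂ A₂ N₀
      (((u.baseChange A₁).baseChange A₂) z) =
      (u.baseChange A₂) (TensorProduct.AlgebraTensorModule.cancelBaseChange A₀ A₁ A₂ A₂ M₀ z) := by
  induction z using TensorProduct.induction_on with
  | zero => rw [map_zero, map_zero, map_zero, map_zero]
  | tmul b κ =>
    induction κ using TensorProduct.induction_on with
    | zero => rw [TensorProduct.tmul_zero, map_zero, map_zero, map_zero, map_zero]
    | tmul a m =>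
      rw [LinearMap.baseChange_tmul, LinearMap.baseChange_tmul,
        TensorProduct.AlgebraTensorModule.cancelBaseChange_tmul,
        TensorProduct.AlgebraTensorModule.cancelBaseChange_tmul, LinearMap.baseChange_tmul]
    | add x y hx hy =>
      rw [TensorProduct.tmul_add, map_add, map_add, map_add, map_add, hx, hy]
  | add x y hx hy => rw [map_add, map_add, map_add, map_add, hx, hy]

/-- if `A₁ ⊗ u` is surjective and generators of its kernel die in `A₂ ⊗ M₀`, then `A₂ ⊗ u` is injective -/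
theorem injective_baseChange_of_kill (u : M₀ →ₗ[A₀] N₀)
    (hsurj : Function.Surjective (u.baseChange A₁)) (t : Set (A₁ ⊗[A₀] M₀))
    (ht : Submodule.span A₁ t = LinearMap.ker (u.baseChange A₁))
    (hkill : ∀ κ ∈ t, (IsScalarTower.toAlgHom A₀ A₁ A₂).toLinearMap.rTensor M₀ κ = 0) :
    Function.Injective (u.baseChange A₂) := by
  haveI : Subsingleton ((A₁ ⊗[A₀] N₀) ⧸ LinearMap.range (u.baseChange A₁)) := by
    rw [LinearMap.range_eq_top.2 hsurj]
    infer_instance
  haveI : Module.Flat A₁ ((A₁ ⊗[A₀] N₀) ⧸ LinearMap.range (u.baseChange A₁)) :=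
    inferInstance
  have h1 := baseChange_injective_of_gens (A₀ := A₁) (B₀ := A₁) (u.baseChange A₁) t ht A₂
    (fun κ hκ => by
      apply (TensorProduct.AlgebraTensorModule.cancelBaseChange A₀ A₁ A₂ A₂ M₀).injective
      rw [cancel_one_tmul, hkill κ hκ, map_zero])
  intro x y hxy
  obtain ⟨x', rfl⟩ :=
    (TensorProduct.AlgebraTensorModule.cancelBaseChange A₀ A₁ A₂ A₂ M₀).surjective x
  obtain ⟨y', rfl⟩ :=
    (TensorProduct.AlgebraTensorModule.cancelBaseChange A₀ A₁ A₂ A₂ M₀).surjective y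
  rw [← cancel_naturality, ← cancel_naturality] at hxy
  have h2 := (TensorProduct.AlgebraTensorModule.cancelBaseChange A₀ A₁ A₂ A₂ N₀).injective hxy
  rw [h1 h2]

end Step

section Cat

variable {K : Type u} [SmallCategory K] [IsCofiltered K]
  {A₀ : Type u} [CommRing A₀] {G : K → Type u} [∀ i, CommRing (G i)] [∀ i, Algebra A₀ (G i)]
  {A : Type u} [CommRing A] [Algebra A₀ A]
  (τ : ∀ i, G i →ₐ[A₀] A) (σ : ∀ {i j : K}, (i ⟶ j) → (G j →ₐ[A₀] G i))
  (hστ : ∀ {i j : K} (f : i ⟶ j) (x : G j), τ i (σ f x) = τ j x)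
  (hσσ : ∀ {i j k : K} (f : i ⟶ j) (g : j ⟶ k) (x : G k), σ f (σ g x) = σ (f ≫ g) x)
  (hsurj : ∀ a : A, ∃ i, ∃ x : G i, τ i x = a)
  (hker : ∀ i (x : G i), τ i x = 0 → ∃ j, ∃ f : j ⟶ i, σ f x = 0)
  {M₀ N₀ : Type u} [AddCommGroup M₀] [Module A₀ M₀] [AddCommGroup N₀] [Module A₀ N₀]

include hστ hσσ hsurj hker in
/-- finitely many elements `1 ⊗ x` vanishing in `A ⊗ N₀` vanish at a stage (and at all later stages) -/
theorem exists_stage_one_tmul_eq_zero {r : ℕ} (x : Fin r → N₀) (h : ∀ k, (1 : A) ⊗ₜ[A₀] x k = 0) :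
    ∃ n : K, ∀ (n' : K) (g : n' ⟶ n) (k : Fin r), (1 : G n') ⊗ₜ[A₀] x k = 0 := by
  have sys := (isSys τ σ hστ hσσ hsurj hker).rTensor N₀
  obtain ⟨i₀⟩ := IsCofiltered.nonempty (C := K)
  obtain ⟨l, F, hl⟩ := sys.kill_family i₀ (fun k : Fin r => (1 : G i₀) ⊗ₜ[A₀] x k) (fun k => by
    show (τ i₀).toLinearMap.rTensor N₀ ((1 : G i₀) ⊗ₜ[A₀] x k) = 0
    rw [LinearMap.rTensor_tmul, AlgHom.toLinearMap_apply, map_one]
    exact h k)
  refine ⟨l, fun n' g k => ?_⟩
  have h1 := hl k
  change (σ F).toLinearMap.rTensor N₀ ((1 : G i₀) ⊗ₜ[A₀] x k) = 0 at h1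
  rw [LinearMap.rTensor_tmul, AlgHom.toLinearMap_apply, map_one] at h1
  have h2 := congrArg ((σ g).toLinearMap.rTensor N₀) h1
  rwa [LinearMap.rTensor_tmul, AlgHom.toLinearMap_apply, map_one, map_zero] at h2

include hστ hσσ hsurj hker in
/-- **Equality descends to a stage.** -/
theorem exists_stage_eq [Module.Finite A₀ M₀] (u v : M₀ →ₗ[A₀] N₀)
    (h : u.baseChange A = v.baseChange A) :
    ∃ n : K, ∀ (n' : K) (g : n' ⟶ n), u.baseChange (G n') = v.baseChange (G n') := by
  obtain ⟨r, m, hm⟩ := Module.Finite.exists_fin (R := A₀) (M := M₀)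
  obtain ⟨n, hn⟩ := exists_stage_one_tmul_eq_zero τ σ hστ hσσ hsurj hker
    (fun k => u (m k) - v (m k)) (fun k => by
      have := LinearMap.congr_fun h ((1 : A) ⊗ₜ[A₀] m k)
      rw [LinearMap.baseChange_tmul, LinearMap.baseChange_tmul] at this
      rw [TensorProduct.tmul_sub, this, sub_self])
  exact ⟨n, fun n' g => baseChange_eq_of_gens (G n') u v m hm (hn n' g)⟩

include hστ hσσ hsurj hker in
/-- **Surjectivity descends to a stage.** -/
theorem exists_stage_surjective [Module.Finite A₀ N₀] (u : M₀ →ₗ[A₀] N₀)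
    (h : Function.Surjective (u.baseChange A)) :
    ∃ n : K, ∀ (n' : K) (g : n' ⟶ n), Function.Surjective (u.baseChange (G n')) := by
  obtain ⟨r, c, hc⟩ := Module.Finite.exists_fin (R := A₀) (M := N₀ ⧸ LinearMap.range u)
  obtain ⟨n, hn⟩ := exists_stage_one_tmul_eq_zero τ σ hστ hσσ hsurj hker c
    (fun k => (surjective_baseChange_iff A u).1 h _)
  refine ⟨n, fun n' g => (surjective_baseChange_iff (G n') u).2 fun z => ?_⟩
  induction z using TensorProduct.induction_on with
  | zero => rfl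
  | tmul a x => exact tmul_eq_zero_of_gens (G n') c hc (hn n' g) a x
  | add x y hx hy => rw [hx, hy, add_zero]

theorem τ_rTensor_baseChange (u : M₀ →ₗ[A₀] N₀) (i : K) (z : G i ⊗[A₀] M₀) :
    (τ i).toLinearMap.rTensor N₀ ((u.baseChange (G i)) z) =
      (u.baseChange A) ((τ i).toLinearMap.rTensor M₀ z) := by
  induction z using TensorProduct.induction_on with
  | zero => rw [map_zero, map_zero, map_zero, map_zero]
  | tmul a m =>
    rw [LinearMap.baseChange_tmul, LinearMap.rTensor_tmul, LinearMap.rTensor_tmul,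
      LinearMap.baseChange_tmul]
  | add x y hx hy => rw [map_add, map_add, map_add, map_add, hx, hy]

include hστ hσσ hsurj hker in
/-- **Bijectivity descends to a stage.** -/
theorem exists_stage_bijective [Module.Finite A₀ M₀] [Module.FinitePresentation A₀ N₀]
    (u : M₀ →ₗ[A₀] N₀) (h : Function.Bijective (u.baseChange A)) :
    ∃ n : K, ∀ (n' : K) (g : n' ⟶ n), Function.Bijective (u.baseChange (G n')) := by
  classical
  obtain ⟨l₁, hl₁⟩ := exists_stage_surjective τ σ hστ hσσ hsurj hker u h.2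
  have hs₁ : Function.Surjective (u.baseChange (G l₁)) := hl₁ l₁ (𝟙 l₁)
  have hfg : (LinearMap.ker (u.baseChange (G l₁))).FG :=
    Module.FinitePresentation.fg_ker (u.baseChange (G l₁)) hs₁
  obtain ⟨t, ht⟩ := hfg
  have sys := (isSys τ σ hστ hσσ hsurj hker).rTensor M₀
  obtain ⟨l₂, F₂, h₂⟩ := sys.kill_family l₁ (fun κ : ↥t => κ.1) (fun κ => by
    apply h.1
    have hκ : (u.baseChange (G l₁)) κ.1 = 0 := by
      have : κ.1 ∈ LinearMap.ker (u.baseChange (G l₁)) := by
        rw [← ht]; exact Submodule.subset_span κ.2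
      exact this
    show (u.baseChange A) ((τ l₁).toLinearMap.rTensor M₀ κ.1) = (u.baseChange A) 0
    rw [← τ_rTensor_baseChange τ u, hκ, map_zero, map_zero])
  refine ⟨l₂, fun n' g => ⟨?_, hl₁ n' (g ≫ F₂)⟩⟩
  letI : Algebra (G l₁) (G n') := (σ (g ≫ F₂)).toRingHom.toAlgebra
  haveI : IsScalarTower A₀ (G l₁) (G n') :=
    IsScalarTower.of_algebraMap_eq fun a => ((σ (g ≫ F₂)).commutes a).symm
  refine injective_baseChange_of_kill (A₁ := G l₁) (A₂ := G n') u hs₁ (t : Set _) ht
    (fun κ hκ => ?_)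
  have h3 := h₂ ⟨κ, hκ⟩
  change (σ F₂).toLinearMap.rTensor M₀ κ = 0 at h3
  have h4 := congrArg ((σ g).toLinearMap.rTensor M₀) h3
  rw [map_zero, ← LinearMap.comp_apply, ← LinearMap.rTensor_comp] at h4
  have h5 : (σ g).toLinearMap ∘ₗ (σ F₂).toLinearMap =
      (IsScalarTower.toAlgHom A₀ (G l₁) (G n')).toLinearMap := by
    ext x
    exact hσσ g F₂ x
  rwa [h5] at h4

end Cat

end Groth.Agent.Lib.Helper25.ColimMapAlg
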