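import Mathlib
import Groth.Agent.Lib.Helper25.ColimMapAlg
import Groth.Agent.Lib.Helper25.ModMapLocal
import Groth.Agent.Lib.Helper9.LimSec
import Groth.Agent.Lib.Helper28.FinType
import Groth.Agent.Lib.Helper29.FPDict
import Groth.Agent.Lib.Helper17.ModPullback

/-!
# helper25 — LimModMap: morphisms of quasi-coherent modules over a cofiltered limit of schemes with affine
transition maps (EGA IV 8.5.2): equality, surjectivity and bijectivity of the pullback to the limit descend to a
stage.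
-/

set_option backward.isDefEq.respectTransparency.types false
set_option autoImplicit false
set_option linter.unusedVariables false
set_option linter.style.haveILetI false
set_option linter.unusedSectionVars false
universe u
open AlgebraicGeometry CategoryTheory Limits TensorProduct TopologicalSpace Opposite

namespace Groth.Agent.Lib.Helper25.LimModMap

open Groth.Agent.Lib.Helper9.LimSec Groth.Agent.Lib.Helper25.ColimMapAlg
  Groth.Agent.Lib.Helper25.ModMapLocal Groth.Agent.Lib.Helper28.QCohLoc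
  Groth.Agent.Lib.Helper7.FPKer

variable {I : Type u} [SmallCategory I] [IsCofiltered I]
  (D : I ⥤ Scheme.{u}) (c : Cone D)
  [∀ (i j : I) (f : i ⟶ j), IsAffineHom (D.map f)] {i₀ : I}

section System

variable (V : (D.obj i₀).Opens)

/-- sections at the stage `n`, as an algebra over the sections at `i₀` -/
@[reducible] noncomputable def algG (n : Over i₀) :
    Algebra Γ(D.obj i₀, V) Γ(D.obj n.left, Uo D V n) :=
  ((D.map n.hom).appLE V (Uo D V n) le_rfl).hom.toAlgebra

/-- sections at the limit, as an algebra over the sections at `i₀` -/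
@[reducible] noncomputable def algA : Algebra Γ(D.obj i₀, V) Γ(c.pt, Uinf D c V) :=
  ((c.π.app i₀).appLE V (Uinf D c V) le_rfl).hom.toAlgebra

attribute [local instance] algG algA

theorem hρτ (n : Over i₀) : (D.map n.hom).appLE V (Uo D V n) le_rfl ≫ τ D c V n =
    (c.π.app i₀).appLE V (Uinf D c V) le_rfl := by
  rw [τ, Scheme.Hom.appLE_comp_appLE, appLE_congr_hom (c.w n.hom)]

theorem hρσ {n' n : Over i₀} (φ : n' ⟶ n) :
    (D.map n.hom).appLE V (Uo D V n) le_rfl ≫ σ D V φ =
      (D.map n'.hom).appLE V (Uo D V n') le_rfl := by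
  rw [σ, Scheme.Hom.appLE_comp_appLE,
    appLE_congr_hom (show D.map φ.left ≫ D.map n.hom = D.map n'.hom by
      rw [← D.map_comp, Over.w φ])]

/-- the map to the limit, as an algebra map -/
noncomputable def τA (n : Over i₀) :
    Γ(D.obj n.left, Uo D V n) →ₐ[Γ(D.obj i₀, V)] Γ(c.pt, Uinf D c V) :=
  { (τ D c V n).hom with commutes' := fun a => congr($(hρτ D c V n).hom a) }

/-- the transition maps, as algebra maps -/
noncomputable def σA {n' n : Over i₀} (φ : n' ⟶ n) :
    Γ(D.obj n.left, Uo D V n) →ₐ[Γ(D.obj i₀, V)] Γ(D.obj n'.left, Uo D V n') :=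
  { (σ D V φ).hom with commutes' := fun a => congr($(hρσ D V φ).hom a) }

theorem hστ {i j : Over i₀} (f : i ⟶ j) (y : Γ(D.obj j.left, Uo D V j)) :
    τA D c V i (σA D V f y) = τA D c V j y := congr($(σ_τ D c V f).hom y)

theorem hσσ {i j k' : Over i₀} (f : i ⟶ j) (g : j ⟶ k') (y : Γ(D.obj k'.left, Uo D V k')) :
    σA D V f (σA D V g y) = σA D V (f ≫ g) y := congr($(σ_comp D V f g).hom y)

variable {c} in
theorem hsurj (hc : IsLimit c) {V : (D.obj i₀).Opens} (hV : IsAffineOpen V)
    (a : Γ(c.pt, Uinf D c V)) : ∃ i, ∃ y : Γ(D.obj i.left, Uo D V i), τA D c V i y = a :=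
  exists_τ_eq D c hc V hV a

variable {c} in
theorem hker (hc : IsLimit c) {V : (D.obj i₀).Opens} (hV : IsAffineOpen V) (i : Over i₀)
    (y : Γ(D.obj i.left, Uo D V i)) (hy : τA D c V i y = 0) : ∃ j, ∃ f : j ⟶ i, σA D V f y = 0 :=
  exists_σ_eq_zero D c hc V hV i y hy

end System

section Chart

attribute [local instance] algG algA

variable {c} (hc : IsLimit c) {V : (D.obj i₀).Opens} (hV : IsAffineOpen V)
  {F₀ G₀ : (D.obj i₀).Modules} [F₀.IsQuasicoherent] [G₀.IsQuasicoherent]

include hc hV in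
theorem isAffineOpen_Uinf : IsAffineOpen (Uinf D c V) := by
  haveI := isAffineHom_π_app D c hc i₀
  exact hV.preimage (c.π.app i₀)

include hV in
theorem isAffineOpen_Uo (n : Over i₀) : IsAffineOpen (Uo D V n) := hV.preimage (D.map n.hom)

include hc hV in
/-- **Equality on a chart descends to a stage.** -/
theorem exists_stage_app_eq [Module.Finite Γ(D.obj i₀, V) Γ(F₀, V)] (φ₀ ψ₀ : F₀ ⟶ G₀)
    (h : ∀ s, ((Scheme.Modules.pullback (c.π.app i₀)).map φ₀).app (Uinf D c V) s =
      ((Scheme.Modules.pullback (c.π.app i₀)).map ψ₀).app (Uinf D c V) s) :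
    ∃ n : Over i₀, ∀ (n' : Over i₀) (g : n' ⟶ n) (s),
      ((Scheme.Modules.pullback (D.map n'.hom)).map φ₀).app (Uo D V n') s =
        ((Scheme.Modules.pullback (D.map n'.hom)).map ψ₀).app (Uo D V n') s := by
  have h1 := (app_pullback_eq_iff (c.π.app i₀) φ₀ ψ₀ (isAffineOpen_Uinf D hc hV) hV le_rfl).1 h
  obtain ⟨n, hn⟩ := exists_stage_eq (τA D c V) (σA D V) (hστ D c V) (hσσ D V) (hsurj D hc hV)
    (hker D hc hV) (appLinear φ₀ V) (appLinear ψ₀ V) (LinearMap.ext h1)
  refine ⟨n, fun n' g => ?_⟩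
  refine (app_pullback_eq_iff (D.map n'.hom) φ₀ ψ₀ (isAffineOpen_Uo D hV n') hV le_rfl).2 ?_
  intro t
  rw [hn n' g]

include hc hV in
/-- **Surjectivity on a chart descends to a stage.** -/
theorem exists_stage_app_surjective [Module.Finite Γ(D.obj i₀, V) Γ(G₀, V)] (f₀ : F₀ ⟶ G₀)
    (h : Function.Surjective
      (((Scheme.Modules.pullback (c.π.app i₀)).map f₀).app (Uinf D c V))) :
    ∃ n : Over i₀, ∀ (n' : Over i₀) (g : n' ⟶ n), Function.Surjective
      (((Scheme.Modules.pullback (D.map n'.hom)).map f₀).app (Uo D V n')) := by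
  have h1 := (app_pullback_surjective_iff (c.π.app i₀) f₀ (isAffineOpen_Uinf D hc hV) hV le_rfl).1 h
  obtain ⟨n, hn⟩ := exists_stage_surjective (τA D c V) (σA D V) (hστ D c V) (hσσ D V)
    (hsurj D hc hV) (hker D hc hV) (appLinear f₀ V) h1
  exact ⟨n, fun n' g =>
    (app_pullback_surjective_iff (D.map n'.hom) f₀ (isAffineOpen_Uo D hV n') hV le_rfl).2 (hn n' g)⟩

include hc hV in
/-- **Bijectivity on a chart descends to a stage.** -/
theorem exists_stage_app_bijective [Module.Finite Γ(D.obj i₀, V) Γ(F₀, V)]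
    [Module.FinitePresentation Γ(D.obj i₀, V) Γ(G₀, V)] (f₀ : F₀ ⟶ G₀)
    (h : Function.Bijective
      (((Scheme.Modules.pullback (c.π.app i₀)).map f₀).app (Uinf D c V))) :
    ∃ n : Over i₀, ∀ (n' : Over i₀) (g : n' ⟶ n), Function.Bijective
      (((Scheme.Modules.pullback (D.map n'.hom)).map f₀).app (Uo D V n')) := by
  have h1 := (app_pullback_bijective_iff (c.π.app i₀) f₀ (isAffineOpen_Uinf D hc hV) hV le_rfl).1 h
  obtain ⟨n, hn⟩ := exists_stage_bijective (τA D c V) (σA D V) (hστ D c V) (hσσ D V)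
    (hsurj D hc hV) (hker D hc hV) (appLinear f₀ V) h1
  exact ⟨n, fun n' g =>
    (app_pullback_bijective_iff (D.map n'.hom) f₀ (isAffineOpen_Uo D hV n') hV le_rfl).2 (hn n' g)⟩

end Chart

section Global

open Groth.Agent.Lib.Helper17.ModPullback

omit [∀ (i j : I) (f : i ⟶ j), IsAffineHom (D.map f)] in
/-- finitely many eventually valid conditions are valid at a common stage -/
theorem exists_common_stage {J : Type*} [Finite J] (P : J → Over i₀ → Prop)
    (h : ∀ j, ∃ n, ∀ (n' : Over i₀) (g : n' ⟶ n), P j n') : ∃ n, ∀ j, P j n := by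
  classical
  cases nonempty_fintype J
  choose n hn using h
  obtain ⟨S, hS⟩ := IsCofiltered.inf_objs_exists (Finset.univ.image n)
  exact ⟨S, fun j => hn j S (hS (Finset.mem_image_of_mem n (Finset.mem_univ j))).some⟩

variable {c} (hc : IsLimit c) [CompactSpace (D.obj i₀)]
  {F₀ G₀ : (D.obj i₀).Modules} [F₀.IsQuasicoherent] [G₀.IsQuasicoherent]

include hc in
/-- **EGA IV 8.5.2 (i), injectivity**: equality of two morphisms after pullback to the limit holds at a stage. -/
theorem pullback_map_eq_iff_eventually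
    [SheafOfModules.IsFiniteType.{u} (R := (D.obj i₀).ringCatSheaf) F₀] (φ₀ ψ₀ : F₀ ⟶ G₀) :
    (Scheme.Modules.pullback (c.π.app i₀)).map φ₀ = (Scheme.Modules.pullback (c.π.app i₀)).map ψ₀ ↔
      ∃ (j : I) (φ : j ⟶ i₀),
        (Scheme.Modules.pullback (D.map φ)).map φ₀ = (Scheme.Modules.pullback (D.map φ)).map ψ₀ := by
  constructor
  · intro h
    let 𝒰 := (D.obj i₀).affineCover.finiteSubcover
    haveI : ∀ t, IsAffine (𝒰.X t) := fun t => by
      change IsAffine ((D.obj i₀).affineCover.X _)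
      infer_instance
    have hV : ∀ t, IsAffineOpen (𝒰.f t).opensRange := fun t => isAffineOpen_opensRange (𝒰.f t)
    obtain ⟨n, hn⟩ := exists_common_stage (i₀ := i₀)
      (fun (t : 𝒰.I₀) (n' : Over i₀) => ∀ s,
        ((Scheme.Modules.pullback (D.map n'.hom)).map φ₀).app (Uo D (𝒰.f t).opensRange n') s =
        ((Scheme.Modules.pullback (D.map n'.hom)).map ψ₀).app (Uo D (𝒰.f t).opensRange n') s)
      (fun t => by
        haveI : Module.Finite Γ(D.obj i₀, (𝒰.f t).opensRange) Γ(F₀, (𝒰.f t).opensRange) :=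
          Groth.Agent.Lib.Helper28.FinType.finite_of_isAffineOpen F₀ (hV t)
        exact exists_stage_app_eq D hc (hV t) φ₀ ψ₀ (fun s => by rw [h]))
    refine ⟨n.left, n.hom, ?_⟩
    refine eq_of_affine_cover _ _ (fun t : 𝒰.I₀ => Uo D (𝒰.f t).opensRange n)
      (fun t => isAffineOpen_Uo D (hV t) n) (fun x => ?_)
      (fun t => isLocOn_of_isQuasicoherent _ (isAffineOpen_Uo D (hV t) n)) hn
    obtain ⟨t, ht⟩ := 𝒰.exists_eq (D.map n.hom x)
    exact ⟨t, ht⟩
  · rintro ⟨j, φ, h⟩
    exact map_eq_of_comp (c.π.app j) (D.map φ) (c.π.app i₀) (c.w φ) φ₀ ψ₀ h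

include hc in
/-- **EGA IV 8.5.2.4-type statement**: surjectivity after pullback to the limit holds at a stage. -/
theorem epi_pullback_map_iff_eventually
    [SheafOfModules.IsFiniteType.{u} (R := (D.obj i₀).ringCatSheaf) G₀] (f₀ : F₀ ⟶ G₀) :
    Epi ((Scheme.Modules.pullback (c.π.app i₀)).map f₀) ↔
      ∃ (j : I) (φ : j ⟶ i₀), Epi ((Scheme.Modules.pullback (D.map φ)).map f₀) := by
  constructor
  · intro h
    haveI := h
    let 𝒰 := (D.obj i₀).affineCover.finiteSubcover
    haveI : ∀ t, IsAffine (𝒰.X t) := fun t => by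
      change IsAffine ((D.obj i₀).affineCover.X _)
      infer_instance
    have hV : ∀ t, IsAffineOpen (𝒰.f t).opensRange := fun t => isAffineOpen_opensRange (𝒰.f t)
    obtain ⟨n, hn⟩ := exists_common_stage (i₀ := i₀)
      (fun (t : 𝒰.I₀) (n' : Over i₀) => Function.Surjective
        (((Scheme.Modules.pullback (D.map n'.hom)).map f₀).app (Uo D (𝒰.f t).opensRange n')))
      (fun t => by
        haveI : Module.Finite Γ(D.obj i₀, (𝒰.f t).opensRange) Γ(G₀, (𝒰.f t).opensRange) :=
          Groth.Agent.Lib.Helper28.FinType.finite_of_isAffineOpen G₀ (hV t)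
        have hU := isAffineOpen_Uinf D hc (hV t)
        exact exists_stage_app_surjective D hc (hV t) f₀
          (surjective_app_of_epi _ hU (isLocOn_of_isQuasicoherent _ hU)
            (isLocOn_of_isQuasicoherent _ hU)))
    refine ⟨n.left, n.hom, ?_⟩
    refine epi_of_affine_cover _ (fun t : 𝒰.I₀ => Uo D (𝒰.f t).opensRange n)
      (fun t => isAffineOpen_Uo D (hV t) n) (fun x => ?_)
      (fun t => isLocOn_of_isQuasicoherent _ (isAffineOpen_Uo D (hV t) n)) hn
    obtain ⟨t, ht⟩ := 𝒰.exists_eq (D.map n.hom x)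
    exact ⟨t, ht⟩
  · rintro ⟨j, φ, h⟩
    exact epi_map_of_comp (c.π.app j) (D.map φ) (c.π.app i₀) (c.w φ) f₀ h

include hc in
/-- **EGA IV 8.5.2.4**: bijectivity after pullback to the limit holds at a stage. -/
theorem isIso_pullback_map_iff_eventually
    [SheafOfModules.IsFiniteType.{u} (R := (D.obj i₀).ringCatSheaf) F₀]
    [SheafOfModules.IsFinitePresentation.{u} (R := (D.obj i₀).ringCatSheaf) G₀] (f₀ : F₀ ⟶ G₀) :
    IsIso ((Scheme.Modules.pullback (c.π.app i₀)).map f₀) ↔
      ∃ (j : I) (φ : j ⟶ i₀), IsIso ((Scheme.Modules.pullback (D.map φ)).map f₀) := by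
  constructor
  · intro h
    haveI := h
    let 𝒰 := (D.obj i₀).affineCover.finiteSubcover
    haveI : ∀ t, IsAffine (𝒰.X t) := fun t => by
      change IsAffine ((D.obj i₀).affineCover.X _)
      infer_instance
    have hV : ∀ t, IsAffineOpen (𝒰.f t).opensRange := fun t => isAffineOpen_opensRange (𝒰.f t)
    obtain ⟨n, hn⟩ := exists_common_stage (i₀ := i₀)
      (fun (t : 𝒰.I₀) (n' : Over i₀) => Function.Bijective
        (((Scheme.Modules.pullback (D.map n'.hom)).map f₀).app (Uo D (𝒰.f t).opensRange n')))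
      (fun t => by
        haveI : Module.Finite Γ(D.obj i₀, (𝒰.f t).opensRange) Γ(F₀, (𝒰.f t).opensRange) :=
          Groth.Agent.Lib.Helper28.FinType.finite_of_isAffineOpen F₀ (hV t)
        haveI : Module.FinitePresentation Γ(D.obj i₀, (𝒰.f t).opensRange)
            Γ(G₀, (𝒰.f t).opensRange) :=
          Groth.Agent.Lib.Helper29.FPDict.fp_of_isAffineOpen G₀ (hV t)
        exact exists_stage_app_bijective D hc (hV t) f₀
          (ConcreteCategory.bijective_of_isIso
            (((Scheme.Modules.pullback (c.π.app i₀)).map f₀).app (Uinf D c (𝒰.f t).opensRange))))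
    refine ⟨n.left, n.hom, ?_⟩
    refine isIso_of_affine_cover _ (fun t : 𝒰.I₀ => Uo D (𝒰.f t).opensRange n)
      (fun t => isAffineOpen_Uo D (hV t) n) (fun x => ?_)
      (fun t => isLocOn_of_isQuasicoherent _ (isAffineOpen_Uo D (hV t) n))
      (fun t => isLocOn_of_isQuasicoherent _ (isAffineOpen_Uo D (hV t) n)) hn
    obtain ⟨t, ht⟩ := 𝒰.exists_eq (D.map n.hom x)
    exact ⟨t, ht⟩
  · rintro ⟨j, φ, h⟩
    exact isIso_map_of_comp (c.π.app j) (D.map φ) (c.π.app i₀) (c.w φ) f₀ h

end Global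

end Groth.Agent.Lib.Helper25.LimModMap
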