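import Mathlib
import Groth.Agent.Lib.Helper7.FPKerScheme
import Groth.Agent.Lib.Helper17.FinTypeConv
import Groth.Agent.Lib.Helper28.FinType
import Groth.Agent.Lib.Helper25.LimModMap

/-!
# helper25 — QuotFactor: a quotient factors through another one after pullback to a limit iff it does at a
stage (EGA IV 8.5.2-type).
-/

set_option backward.isDefEq.respectTransparency.types false
set_option autoImplicit false
set_option linter.unusedVariables false
set_option linter.style.haveILetI false
universe u v w
open AlgebraicGeometry CategoryTheory Limits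

namespace Groth.Agent.Lib.Helper25.QuotFactor

section Abstract

variable {C : Type u} [Category.{v} C] [Abelian C] {D : Type w} [Category.{v} D] [Abelian D]
  (P : C ⥤ D) [P.Additive] [PreservesFiniteColimits P]

/-- for an epimorphism `p₁` and a right exact functor `P`: `P p₂` factors through `P p₁` iff `P` kills
`ker p₁ → G₂`. -/
theorem exists_factor_iff {F G₁ G₂ : C} (p₁ : F ⟶ G₁) [Epi p₁] (p₂ : F ⟶ G₂) :
    (∃ k : P.obj G₁ ⟶ P.obj G₂, P.map p₁ ≫ k = P.map p₂) ↔ P.map (kernel.ι p₁ ≫ p₂) = 0 := by
  constructor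
  · rintro ⟨k, hk⟩
    rw [P.map_comp, ← hk, ← Category.assoc, ← P.map_comp, kernel.condition, P.map_zero, zero_comp]
  · intro h
    have hcol : IsColimit (CokernelCofork.ofπ p₁ (kernel.condition p₁)) :=
      Abelian.epiIsCokernelOfKernel (KernelFork.ofι (kernel.ι p₁) (kernel.condition p₁)) (kernelIsKernel p₁)
    have hcol' := CokernelCofork.mapIsColimit _ hcol P
    rw [P.map_comp] at h
    obtain ⟨l, hl⟩ := CokernelCofork.IsColimit.desc' hcol' (P.map p₂) h
    exact ⟨l, hl⟩

end Abstract

open Groth.Agent.Lib.Helper7.FPKer Groth.Agent.Lib.Helper17.CohKer in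
/-- the kernel of an epimorphism from a finite type module onto a finitely presented module is of finite type -/
theorem isFiniteType_kernel_of_fp {X : Scheme.{u}} {F G : X.Modules} [F.IsQuasicoherent]
    [SheafOfModules.IsFiniteType.{u} (R := X.ringCatSheaf) F]
    [SheafOfModules.IsFinitePresentation.{u} (R := X.ringCatSheaf) G] (p : F ⟶ G) [Epi p] :
    SheafOfModules.IsFiniteType.{u} (R := X.ringCatSheaf) (kernel p : X.Modules) := by
  haveI : G.IsQuasicoherent := Groth.Agent.Lib.Helper29.FPDict.isQuasicoherent_of_isFinitePresentation G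
  haveI hK : (kernel p).IsQuasicoherent := isQuasicoherent_kernel p
  refine Groth.Agent.Lib.Helper17.FinTypeConv.isFiniteType_of_forall_finite_sections (M := kernel p) ?_
  rintro ⟨U, hU⟩
  haveI : Module.Finite Γ(X, U) Γ(F, U) := Groth.Agent.Lib.Helper28.FinType.finite_of_isAffineOpen F hU
  haveI : Module.FinitePresentation Γ(X, U) Γ(G, U) :=
    Groth.Agent.Lib.Helper29.FPDict.fp_of_isAffineOpen G hU
  have hfg : (LinearMap.ker (appLinear p U)).FG :=
    Module.FinitePresentation.fg_ker (appLinear p U) (app_surjective_of_epi p hU)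
  haveI : Module.Finite Γ(X, U) (LinearMap.ker (appLinear p U)) := Module.Finite.iff_fg.2 hfg
  exact Module.Finite.equiv (kernelSectionsEquiv p U).symm

open Groth.Agent.Lib.Helper25.LimModMap in
/-- **EGA IV 8.5.2-type**: a quotient `p₂` factors through a finitely presented quotient `p₁` after pullback to the
limit iff it does at some stage. -/
theorem exists_factor_iff_eventually {I : Type u} [SmallCategory I] [IsCofiltered I]
    (D : I ⥤ Scheme.{u}) {c : Cone D} (hc : IsLimit c)
    [∀ (i j : I) (f : i ⟶ j), IsAffineHom (D.map f)] (i₀ : I) [CompactSpace (D.obj i₀)]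
    {F₀ G₁ G₂ : (D.obj i₀).Modules} [F₀.IsQuasicoherent] [G₂.IsQuasicoherent]
    [SheafOfModules.IsFiniteType.{u} (R := (D.obj i₀).ringCatSheaf) F₀]
    [SheafOfModules.IsFinitePresentation.{u} (R := (D.obj i₀).ringCatSheaf) G₁]
    (p₁ : F₀ ⟶ G₁) (p₂ : F₀ ⟶ G₂) [Epi p₁] :
    (∃ k : (Scheme.Modules.pullback (c.π.app i₀)).obj G₁ ⟶ (Scheme.Modules.pullback (c.π.app i₀)).obj G₂,
        (Scheme.Modules.pullback (c.π.app i₀)).map p₁ ≫ k = (Scheme.Modules.pullback (c.π.app i₀)).map p₂) ↔
      ∃ (j : I) (φ : j ⟶ i₀) (k : (Scheme.Modules.pullback (D.map φ)).obj G₁ ⟶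
          (Scheme.Modules.pullback (D.map φ)).obj G₂),
        (Scheme.Modules.pullback (D.map φ)).map p₁ ≫ k = (Scheme.Modules.pullback (D.map φ)).map p₂ := by
  haveI : G₁.IsQuasicoherent := Groth.Agent.Lib.Helper29.FPDict.isQuasicoherent_of_isFinitePresentation G₁
  haveI : (kernel p₁).IsQuasicoherent := Groth.Agent.Lib.Helper17.CohKer.isQuasicoherent_kernel p₁
  haveI : SheafOfModules.IsFiniteType.{u} (R := (D.obj i₀).ringCatSheaf)
      (kernel p₁ : (D.obj i₀).Modules) := isFiniteType_kernel_of_fp p₁
  rw [exists_factor_iff (Scheme.Modules.pullback (c.π.app i₀)) p₁ p₂]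
  have key := pullback_map_eq_iff_eventually D hc (kernel.ι p₁ ≫ p₂) 0
  simp only [Functor.map_zero] at key
  rw [key]
  refine exists_congr fun j => exists_congr fun φ => ?_
  exact (exists_factor_iff (Scheme.Modules.pullback (D.map φ)) p₁ p₂).symm

end Groth.Agent.Lib.Helper25.QuotFactor
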