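import Mathlib
import Groth.Agent.Lib.Helper12.SerreNormalC

set_option autoImplicit false
set_option linter.style.haveILetI false
universe u
open TensorProduct IsLocalRing Pointwise

namespace Groth.Agent.Lib.Helper25.RedLoc

section dvr
variable (A : Type u) [CommRing A] [IsDomain A] [IsNoetherianRing A] [IsIntegrallyClosed A]

theorem isDVR_atPrime (P : Ideal A) [P.IsPrime] (hP : P.height = 1) :
    IsDiscreteValuationRing (Localization.AtPrime P) := by
  let V := Localization.AtPrime P
  have hle : P.primeCompl ≤ nonZeroDivisors A := P.primeCompl_le_nonZeroDivisors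
  have : IsIntegrallyClosed V := isIntegrallyClosed_of_isLocalization V P.primeCompl hle
  have hdim : ringKrullDim V = 1 := by
    rw [IsLocalization.AtPrime.ringKrullDim_eq_height P V, hP]; rfl
  have : Ring.KrullDimLE 1 V := Ring.krullDimLE_iff.2 (by rw [hdim]; rfl)
  have htfae : (IsIntegrallyClosed V ∧
      ∀ Q : Ideal V, Q ≠ ⊥ → Q.IsPrime → Q = maximalIdeal V) ↔ IsPrincipalIdealRing V :=
    (tfae_of_isNoetherianRing_of_isLocalRing_of_isDomain V).out 3 0
  have : IsPrincipalIdealRing V := htfae.1 ⟨inferInstance, fun Q hQ hQ' =>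
    IsLocalRing.eq_maximalIdeal (hQ'.isMaximal_of_ne_bot hQ)⟩
  refine { not_a_field' := ?_ }
  intro hbot
  have : ringKrullDim V = 0 :=
    ringKrullDim_eq_zero_of_isField (IsLocalRing.isField_iff_maximalIdeal_eq.2 hbot)
  rw [hdim] at this
  exact one_ne_zero this

end dvr

section lemmaD
variable {A : Type u} [CommRing A] [IsDomain A] [IsNoetherianRing A] [IsIntegrallyClosed A]
  {B : Type u} [CommRing B] [Algebra A B] [Module.Flat A B]

set_option maxHeartbeats 800000 in
/-- DVR lifting at a height one prime: a nilpotent of `B` lies in `x B` after multiplying with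
an element outside `P`, when the fibre over `P` is reduced. -/
theorem exists_notMem_mul_mem_span (P : Ideal A) [P.IsPrime] (hP : P.height = 1) (x : A)
    (hx : x ≠ 0) [IsReduced (P.ResidueField ⊗[A] B)] (b : B) (hb : IsNilpotent b) :
    ∃ s : A, s ∉ P ∧ algebraMap A B s * b ∈ Ideal.span {algebraMap A B x} := by
  let V := Localization.AtPrime P
  have hle : P.primeCompl ≤ nonZeroDivisors A := P.primeCompl_le_nonZeroDivisors
  have := isDVR_atPrime A P hP
  obtain ⟨π, hπ⟩ := IsDiscreteValuationRing.exists_irreducible V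
  let W := V ⊗[A] B
  let res : V →ₐ[A] P.ResidueField := IsScalarTower.toAlgHom A V P.ResidueField
  let φ : W →ₐ[A] P.ResidueField ⊗[A] B := Algebra.TensorProduct.map res (AlgHom.id A B)
  have hres : Function.Surjective res := IsLocalRing.residue_surjective
  have hkres : RingHom.ker res = Ideal.span {π} := by
    rw [← hπ.maximalIdeal_eq]
    exact IsLocalRing.ker_residue
  have hker : RingHom.ker φ = Ideal.span {π ⊗ₜ[A] (1 : B)} := by
    rw [Algebra.TensorProduct.rTensor_ker res hres, hkres, Ideal.map_span, Set.image_singleton]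
    rfl
  have hπ0 : π ≠ 0 := hπ.ne_zero
  have hreg1 : IsSMulRegular W (π ⊗ₜ[A] (1 : B)) := by
    have h1 : IsSMulRegular V π := fun a c hac => mul_left_cancel₀ hπ0 hac
    have h2 := IsSMulRegular.of_flat (S := W) h1
    rwa [Algebra.TensorProduct.algebraMap_apply, Algebra.algebraMap_self, RingHom.id_apply] at h2
  have key : ∀ (n : ℕ) (w : W), IsNilpotent w → ∃ w' : W, w = (π ⊗ₜ[A] (1 : B)) ^ n * w' := by
    intro n
    induction n with
    | zero => intro w _; exact ⟨w, by simp⟩
    | succ n ih =>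
      intro w hw
      have hφ : φ w = 0 := (hw.map φ).eq_zero
      have hmem : w ∈ Ideal.span {π ⊗ₜ[A] (1 : B)} := by rw [← hker]; exact hφ
      obtain ⟨a, ha⟩ := Ideal.mem_span_singleton'.1 hmem
      have han : IsNilpotent a := by
        obtain ⟨k, hk⟩ := hw
        refine ⟨k, ?_⟩
        have hregk : IsSMulRegular W ((π ⊗ₜ[A] (1 : B)) ^ k) := hreg1.pow k
        apply hregk
        show (π ⊗ₜ[A] (1 : B)) ^ k • a ^ k = (π ⊗ₜ[A] (1 : B)) ^ k • (0 : W)
        rw [smul_eq_mul, smul_zero, mul_comm, ← mul_pow, ha, hk]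
      obtain ⟨w', hw'⟩ := ih a han
      exact ⟨w', by rw [← ha, hw']; ring⟩
  have hx' : algebraMap A V x ≠ 0 := by
    rw [Ne, IsLocalization.to_map_eq_zero_iff V hle]; exact hx
  obtain ⟨n, u, hu⟩ := IsDiscreteValuationRing.eq_unit_mul_pow_irreducible hx' hπ
  obtain ⟨w', hw'⟩ := key n ((1 : V) ⊗ₜ[A] b) (hb.map (Algebra.TensorProduct.includeRight :
    B →ₐ[A] V ⊗[A] B))
  -- `1 ⊗ b = x • w''`
  let w'' : W := (((u⁻¹ : Vˣ) : V) ⊗ₜ[A] (1 : B)) * w'
  have h1 : (1 : V) ⊗ₜ[A] b = x • w'' := by
    have hpow : (π ⊗ₜ[A] (1 : B)) ^ n = x • (((u⁻¹ : Vˣ) : V) ⊗ₜ[A] (1 : B)) := by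
      rw [Algebra.TensorProduct.tmul_pow, one_pow, TensorProduct.smul_tmul', Algebra.smul_def, hu]
      congr 1
      rw [mul_comm (u : V), mul_assoc, Units.mul_inv, mul_one]
    rw [hw', hpow, smul_mul_assoc]
  -- localisation
  let f : B →ₗ[A] W := TensorProduct.mk A V B 1
  have : IsLocalizedModule P.primeCompl f :=
    (isLocalizedModule_iff_isBaseChange P.primeCompl V f).mpr (TensorProduct.isBaseChange A B V)
  obtain ⟨⟨b2, t⟩, ht⟩ := IsLocalizedModule.surj P.primeCompl f w''
  have h2 : f ((t : A) • b) = f (x • b2) := by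
    rw [map_smul, map_smul]
    show (t : A) • ((1 : V) ⊗ₜ[A] b) = x • f b2
    rw [h1, ← ht, smul_comm]
    rfl
  obtain ⟨c, hc⟩ := (IsLocalizedModule.eq_iff_exists P.primeCompl f).1 h2
  refine ⟨(c : A) * (t : A), ?_, ?_⟩
  · exact (c * t).2
  · rw [Ideal.mem_span_singleton']
    refine ⟨(c : A) • b2, ?_⟩
    have : ((c : A) * (t : A)) • b = x • ((c : A) • b2) := by
      rw [mul_smul, smul_comm x]
      exact hc
    rw [Algebra.smul_def, Algebra.smul_def] at this
    rw [this, mul_comm]

end lemmaD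

section KL
variable {A : Type u} [CommRing A] [IsDomain A] [IsNoetherianRing A] [IsIntegrallyClosed A]
  {B : Type u} [CommRing B] [Algebra A B] [Module.Flat A B]

omit [IsNoetherianRing A] [IsIntegrallyClosed A] in
open RingTheory.Sequence in
/-- flatness: if `s` is regular on `A/xA` then `s b ∈ xB` implies `b ∈ xB`. -/
theorem mem_span_of_mul_mem_span {x s : A} (hx : x ≠ 0)
    (hs : IsSMulRegular (A ⧸ Ideal.span {x}) s) {b : B}
    (hb : algebraMap A B s * b ∈ Ideal.span {algebraMap A B x}) :
    b ∈ Ideal.span {algebraMap A B x} := by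
  have hsub : (x • (⊤ : Submodule A A)) = Ideal.span {x} := by
    ext a
    rw [Submodule.mem_smul_pointwise_iff_exists, Ideal.mem_span_singleton']
    constructor
    · rintro ⟨c, -, rfl⟩; exact ⟨c, by rw [smul_eq_mul, mul_comm]⟩
    · rintro ⟨c, rfl⟩; exact ⟨c, trivial, by rw [smul_eq_mul, mul_comm]⟩
  have hs' : IsSMulRegular (QuotSMulTop x A) s :=
    ((Submodule.quotEquivOfEq _ _ hsub).isSMulRegular_congr s).2 hs
  have hxreg : IsSMulRegular A x := fun a c hac => mul_left_cancel₀ hx hac
  have hw : IsWeaklyRegular A [x, s] := by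
    rw [isWeaklyRegular_cons_iff, isWeaklyRegular_cons_iff]
    exact ⟨hxreg, hs', IsWeaklyRegular.nil _ _⟩
  have hwB := hw.of_flat (S := B)
  simp only [List.map_cons, List.map_nil] at hwB
  rw [isWeaklyRegular_cons_iff, isWeaklyRegular_cons_iff] at hwB
  have hreg := hwB.2.1
  have h0 : (Submodule.Quotient.mk b : QuotSMulTop (algebraMap A B x) B) = 0 := by
    apply hreg
    show algebraMap A B s • (Submodule.Quotient.mk b : QuotSMulTop (algebraMap A B x) B) =
      algebraMap A B s • 0
    rw [smul_zero, ← Submodule.Quotient.mk_smul, Submodule.Quotient.mk_eq_zero,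
      Submodule.mem_smul_pointwise_iff_exists]
    obtain ⟨c, hc⟩ := Ideal.mem_span_singleton'.1 hb
    exact ⟨c, trivial, by rw [smul_eq_mul, smul_eq_mul, mul_comm, hc]⟩
  rw [Submodule.Quotient.mk_eq_zero, Submodule.mem_smul_pointwise_iff_exists] at h0
  obtain ⟨c, -, hc⟩ := h0
  exact Ideal.mem_span_singleton'.2 ⟨c, by rw [← hc, smul_eq_mul, mul_comm]⟩

/-- nilpotents of `B` lie in `x B`. -/
theorem nilpotent_mem_span [IsNoetherianRing B] (x : A) (hx : x ≠ 0)
    (hfib : ∀ (P : Ideal A) [P.IsPrime], P.height = 1 → x ∈ P →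
      IsReduced (P.ResidueField ⊗[A] B)) (b : B) (hb : IsNilpotent b) :
    b ∈ Ideal.span {algebraMap A B x} := by
  classical
  -- the ideal of multipliers
  let J : Ideal A := Ideal.comap (algebraMap A B)
    (Submodule.colon (Ideal.span {algebraMap A B x}) ({b} : Set B))
  have hJ : ∀ a : A, a ∈ J ↔ algebraMap A B a * b ∈ Ideal.span {algebraMap A B x} := by
    intro a
    show algebraMap A B a ∈ Submodule.colon (Ideal.span {algebraMap A B x}) ({b} : Set B) ↔ _
    rw [Submodule.mem_colon_singleton]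
    rfl
  have hfin := associatedPrimes.finite A (A ⧸ Ideal.span {x})
  have hass : ∀ P ∈ associatedPrimes A (A ⧸ Ideal.span {x}), ¬ J ≤ P := by
    intro P hP hle
    have : P.IsPrime := hP.isPrime
    have hht : P.height = 1 :=
      Groth.Agent.Lib.Helper12.SerreNormal.height_eq_one_of_mem_associatedPrimes A x hx P hP
    have hxP : x ∈ P := by
      have := hP.annihilator_le
      apply this
      rw [Submodule.mem_annihilator]
      intro m _
      obtain ⟨a, rfl⟩ := Ideal.Quotient.mk_surjective m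
      rw [← Ideal.Quotient.mk_eq_mk, ← Submodule.Quotient.mk_smul]
      exact (Submodule.Quotient.mk_eq_zero _).2 (Ideal.mul_mem_right a _
        (Ideal.mem_span_singleton_self x))
    have := hfib P hht hxP
    obtain ⟨s, hsP, hs⟩ := exists_notMem_mul_mem_span P hht x hx b hb
    exact hsP (hle ((hJ s).2 hs))
  have hnot : ¬ ((J : Set A) ⊆ ⋃ P ∈ (hfin.toFinset : Set (Ideal A)), (P : Set A)) := by
    rw [Ideal.subset_union_prime (⊥ : Ideal A) ⊥]
    · rintro ⟨P, hP, hle⟩
      exact hass P (hfin.mem_toFinset.1 hP) hle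
    · intro P hP _ _
      exact (hfin.mem_toFinset.1 hP).isPrime
  rw [Set.not_subset] at hnot
  obtain ⟨s, hsJ, hsn⟩ := hnot
  have hsreg : IsSMulRegular (A ⧸ Ideal.span {x}) s := by
    have h := biUnion_associatedPrimes_eq_compl_regular A (A ⧸ Ideal.span {x})
    by_contra hcon
    have : s ∈ ({r : A | IsSMulRegular (A ⧸ Ideal.span {x}) r})ᶜ := hcon
    rw [← h] at this
    apply hsn
    simp only [Set.mem_iUnion] at this ⊢
    obtain ⟨P, hP, hsP⟩ := this
    exact ⟨P, hfin.mem_toFinset.2 hP, hsP⟩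
  exact mem_span_of_mul_mem_span hx hsreg ((hJ s).1 hsJ)

/-- **Key lemma**: a Noetherian flat algebra over a normal Noetherian domain, with `x ≠ 0` in
its Jacobson radical, whose fibres over height one primes containing `x` are reduced, is
reduced. -/
theorem isReduced_of_fibres [IsNoetherianRing B] (x : A) (hx : x ≠ 0)
    (hxJ : algebraMap A B x ∈ Ideal.jacobson (⊥ : Ideal B))
    (hfib : ∀ (P : Ideal A) [P.IsPrime], P.height = 1 → x ∈ P →
      IsReduced (P.ResidueField ⊗[A] B)) : IsReduced B := by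
  have hxreg : IsSMulRegular B (algebraMap A B x) :=
    IsSMulRegular.of_flat (S := B) (fun a c hac => mul_left_cancel₀ hx hac)
  have hle : (nilradical B : Submodule B B) ≤
      (Ideal.span {algebraMap A B x}) • (nilradical B : Submodule B B) := by
    intro b hb
    have hbn : IsNilpotent b := mem_nilradical.1 hb
    obtain ⟨c, hc⟩ := Ideal.mem_span_singleton'.1 (nilpotent_mem_span x hx hfib b hbn)
    have hcn : IsNilpotent c := by
      obtain ⟨k, hk⟩ := hbn
      refine ⟨k, ?_⟩
      apply hxreg.pow k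
      show (algebraMap A B x) ^ k • c ^ k = (algebraMap A B x) ^ k • (0 : B)
      rw [smul_eq_mul, smul_zero, mul_comm, ← mul_pow, hc, hk]
    rw [← hc, mul_comm, ← smul_eq_mul]
    exact Submodule.smul_mem_smul (Ideal.mem_span_singleton_self _) (mem_nilradical.2 hcn)
  have hbot := Submodule.eq_bot_of_le_smul_of_le_jacobson_bot (Ideal.span {algebraMap A B x})
    (nilradical B : Submodule B B) (IsNoetherian.noetherian _) hle
    ((Ideal.span_singleton_le_iff_mem _).2 hxJ)
  exact nilradical_eq_bot_iff.1 hbot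

end KL

end Groth.Agent.Lib.Helper25.RedLoc
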