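import Mathlib
import Groth.Prelude.Def_Found
import Groth.Agent.Lib.Helper25.RedLocA
import Groth.Agent.Lib.Helper22.GeomRed
import Groth.Agent.Lib.Helper22.GeomRed2
import Groth.Agent.Lib.Helper22.GeomRedLoc

set_option autoImplicit false
set_option linter.style.haveILetI false
universe u
open TensorProduct IsLocalRing

namespace Groth.Agent.Lib.Helper25.RedLoc

/-- fibrewise (geometric) reducedness at a prime, in flexible form: every field over `A` with
kernel `p` gives a reduced base change. -/
def FR (A B : Type u) [CommRing A] [CommRing B] [Algebra A B] (p : Ideal A) : Prop :=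
  ∀ (L : Type u) [Field L] [Algebra A L], RingHom.ker (algebraMap A L) = p → IsReduced (L ⊗[A] B)

section G
variable (A1 : Type u) [CommRing A1] [IsDomain A1] [IsNoetherianRing A1]
  (B1 : Type u) [CommRing B1] [IsNoetherianRing B1] [Algebra A1 B1] [Module.Flat A1 B1]

attribute [local instance] Algebra.TensorProduct.rightAlgebra in
set_option maxHeartbeats 1600000 in
theorem isReduced_tensor_of_finite (hN2 : CAlg.IsN2 A1) (x : A1) (hx : x ≠ 0)
    (hxJ : algebraMap A1 B1 x ∈ Ideal.jacobson (⊥ : Ideal B1))
    (hfib : ∀ (p1 : Ideal A1) [p1.IsPrime], p1 ≠ ⊥ → FR A1 B1 p1)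
    (K' : Type u) [Field K'] [Algebra A1 K'] [Algebra (FractionRing A1) K']
    [IsScalarTower A1 (FractionRing A1) K'] [FiniteDimensional (FractionRing A1) K'] :
    IsReduced (K' ⊗[A1] B1) := by
  let A' := integralClosure A1 K'
  haveI hfin : Module.Finite A1 A' := hN2 K' inferInstance
  haveI : IsNoetherianRing A' :=
    isNoetherian_of_tower A1 (isNoetherian_of_isNoetherianRing_of_finite A1 A')
  haveI : IsIntegrallyClosed A' :=
    integralClosure.isIntegrallyClosedOfFiniteExtension (FractionRing A1)
  haveI : IsFractionRing A' K' :=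
    integralClosure.isFractionRing_of_finite_extension (FractionRing A1) K'
  let B' := A' ⊗[A1] B1
  -- Noetherian
  haveI : IsNoetherianRing (B1 ⊗[A1] A') :=
    isNoetherian_of_tower B1 (isNoetherian_of_isNoetherianRing_of_finite B1 (B1 ⊗[A1] A'))
  haveI : IsNoetherianRing B' :=
    isNoetherianRing_of_ringEquiv (B1 ⊗[A1] A')
      (Algebra.TensorProduct.comm A1 B1 A').toRingEquiv
  -- the element
  have hinj : Function.Injective (algebraMap A1 A') := by
    have h1 : Function.Injective (algebraMap A1 K') := by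
      rw [IsScalarTower.algebraMap_eq A1 (FractionRing A1) K']
      exact (algebraMap (FractionRing A1) K').injective.comp (IsFractionRing.injective A1 _)
    intro a c hac
    apply h1
    have := congrArg (algebraMap A' K') hac
    rwa [← IsScalarTower.algebraMap_apply, ← IsScalarTower.algebraMap_apply] at this
  let x' : A' := algebraMap A1 A' x
  have hx' : x' ≠ 0 := fun h => hx (hinj (by rw [map_zero]; exact h))
  -- Jacobson radical
  have hx'J : algebraMap A' B' x' ∈ Ideal.jacobson (⊥ : Ideal B') := by
    rw [Ideal.jacobson, Ideal.mem_sInf]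
    rintro M ⟨-, hM⟩
    let e : B' ≃+* (B1 ⊗[A1] A') := (Algebra.TensorProduct.comm A1 A' B1).toRingEquiv
    let M' : Ideal (B1 ⊗[A1] A') := M.comap e.symm.toRingHom
    haveI : M'.IsMaximal := Ideal.comap_isMaximal_of_equiv e.symm
    have hmax : (M'.comap (algebraMap B1 (B1 ⊗[A1] A'))).IsMaximal :=
      Ideal.isMaximal_comap_of_isIntegral_of_isMaximal M'
    have h1 : algebraMap A1 B1 x ∈ M'.comap (algebraMap B1 (B1 ⊗[A1] A')) := by
      have : Ideal.jacobson (⊥ : Ideal B1) ≤ M'.comap (algebraMap B1 (B1 ⊗[A1] A')) :=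
        sInf_le ⟨bot_le, hmax⟩
      exact this hxJ
    have h2 : e.symm (algebraMap B1 (B1 ⊗[A1] A') (algebraMap A1 B1 x)) ∈ M := h1
    have h3 : e.symm (algebraMap B1 (B1 ⊗[A1] A') (algebraMap A1 B1 x)) = algebraMap A' B' x' := by
      rw [Algebra.TensorProduct.algebraMap_apply, Algebra.TensorProduct.algebraMap_apply]
      show (Algebra.TensorProduct.comm A1 A' B1).symm _ = _
      rw [Algebra.TensorProduct.comm_symm_tmul]
      show (1 : A') ⊗ₜ[A1] (algebraMap A1 B1 x) = (algebraMap A1 A' x) ⊗ₜ[A1] (1 : B1)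
      rw [Algebra.algebraMap_eq_smul_one, Algebra.algebraMap_eq_smul_one, TensorProduct.smul_tmul]
    rwa [h3] at h2
  -- fibres
  have hfib' : ∀ (P : Ideal A') [P.IsPrime], P.height = 1 → x' ∈ P →
      IsReduced (P.ResidueField ⊗[A'] B') := by
    intro P _ _ hxP
    let p1 : Ideal A1 := P.comap (algebraMap A1 A')
    haveI : p1.IsPrime := Ideal.comap_isPrime _ _
    have hp1 : p1 ≠ ⊥ := by
      intro hbot
      have : x ∈ p1 := hxP
      rw [hbot, Ideal.mem_bot] at this
      exact hx this
    have hker : RingHom.ker (algebraMap A1 P.ResidueField) = p1 := by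
      rw [IsScalarTower.algebraMap_eq A1 A' P.ResidueField, ← RingHom.comap_ker,
        Ideal.ker_algebraMap_residueField]
    haveI := hfib p1 hp1 P.ResidueField hker
    exact isReduced_of_injective
      (Algebra.TensorProduct.cancelBaseChange A1 A' A' P.ResidueField B1)
      (Algebra.TensorProduct.cancelBaseChange A1 A' A' P.ResidueField B1).injective
  haveI hB' : IsReduced B' := isReduced_of_fibres x' hx' hx'J hfib'
  -- localisation
  haveI : IsReduced (K' ⊗[A'] B') :=
    Groth.Agent.Lib.Helper22.GeomRedLoc.isReduced_of_isLocalization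
      (Algebra.algebraMapSubmonoid B' (nonZeroDivisors A')) (K' ⊗[A'] B')
  exact isReduced_of_injective
    (Algebra.TensorProduct.cancelBaseChange A1 A' A' K' B1).symm
    (Algebra.TensorProduct.cancelBaseChange A1 A' A' K' B1).symm.injective

set_option maxHeartbeats 800000 in
/-- generic fibre: geometric reducedness over the fraction field. -/
theorem isGeometricallyReduced_generic (hN2 : CAlg.IsN2 A1) (x : A1) (hx : x ≠ 0)
    (hxJ : algebraMap A1 B1 x ∈ Ideal.jacobson (⊥ : Ideal B1))
    (hfib : ∀ (p1 : Ideal A1) [p1.IsPrime], p1 ≠ ⊥ → FR A1 B1 p1) :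
    Algebra.IsGeometricallyReduced (FractionRing A1) (FractionRing A1 ⊗[A1] B1) := by
  apply Groth.Agent.Lib.Helper22.GeomRed2.isGeometricallyReduced_of_forall_purelyInseparable
  intro k' _ _ _ _
  letI : Algebra A1 k' := ((algebraMap (FractionRing A1) k').comp
    (algebraMap A1 (FractionRing A1))).toAlgebra
  haveI : IsScalarTower A1 (FractionRing A1) k' := IsScalarTower.of_algebraMap_eq (fun _ => rfl)
  haveI := isReduced_tensor_of_finite A1 B1 hN2 x hx hxJ hfib k'
  exact isReduced_of_injective
    (Algebra.TensorProduct.cancelBaseChange A1 (FractionRing A1) (FractionRing A1) k' B1)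
    (Algebra.TensorProduct.cancelBaseChange A1 (FractionRing A1) (FractionRing A1) k' B1).injective

set_option maxHeartbeats 800000 in
/-- generic fibre, flexible form -/
theorem FR_bot (hN2 : CAlg.IsN2 A1) (x : A1) (hx : x ≠ 0)
    (hxJ : algebraMap A1 B1 x ∈ Ideal.jacobson (⊥ : Ideal B1))
    (hfib : ∀ (p1 : Ideal A1) [p1.IsPrime], p1 ≠ ⊥ → FR A1 B1 p1) : FR A1 B1 ⊥ := by
  intro L _ _ hL
  have hinj : Function.Injective (algebraMap A1 L) := (RingHom.injective_iff_ker_eq_bot _).2 hL
  letI : Algebra (FractionRing A1) L := (IsFractionRing.lift hinj).toAlgebra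
  haveI : IsScalarTower A1 (FractionRing A1) L :=
    IsScalarTower.of_algebraMap_eq (fun a => (IsFractionRing.lift_algebraMap hinj a).symm)
  haveI := isGeometricallyReduced_generic A1 B1 hN2 x hx hxJ hfib
  haveI : IsReduced (L ⊗[FractionRing A1] (FractionRing A1 ⊗[A1] B1)) :=
    Groth.Agent.Lib.Helper22.GeomRed.isReduced_tensor_of_isGeometricallyReduced
  exact isReduced_of_injective
    (Algebra.TensorProduct.cancelBaseChange A1 (FractionRing A1) (FractionRing A1) L B1).symm
    (Algebra.TensorProduct.cancelBaseChange A1 (FractionRing A1) (FractionRing A1) L B1).symm.injective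

end G

end Groth.Agent.Lib.Helper25.RedLoc
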