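import Mathlib
import Groth.Prelude.Def_Found
import Groth.Agent.Lib.Helper25.RedLocB

set_option autoImplicit false
set_option linter.style.haveILetI false
universe u
open TensorProduct IsLocalRing

namespace Groth.Agent.Lib.Helper25.RedLoc

section conv
variable {A : Type u} [CommRing A] {B : Type u} [CommRing B] [Algebra A B]

/-- from Mathlib's geometric reducedness of the fibre to the flexible form -/
theorem FR_of_isGeometricallyReduced (p : Ideal A) [p.IsPrime]
    [Algebra.IsGeometricallyReduced p.ResidueField (p.Fiber B)] : FR A B p := by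
  intro L _ _ hL
  let g : p.ResidueField →+* L := Ideal.ResidueField.lift p (algebraMap A L) hL.ge (by
    intro a ha
    show IsUnit (algebraMap A L a)
    rw [isUnit_iff_ne_zero]
    intro h0
    exact ha (hL ▸ (RingHom.mem_ker.2 h0)))
  letI : Algebra p.ResidueField L := g.toAlgebra
  haveI : IsScalarTower A p.ResidueField L := IsScalarTower.of_algebraMap_eq (fun a =>
    (Ideal.ResidueField.lift_algebraMap p (algebraMap A L) _ _ a).symm)
  haveI : IsReduced (L ⊗[p.ResidueField] (p.Fiber B)) :=
    Groth.Agent.Lib.Helper22.GeomRed.isReduced_tensor_of_isGeometricallyReduced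
  exact isReduced_of_injective
    (Algebra.TensorProduct.cancelBaseChange A p.ResidueField p.ResidueField L B).symm
    (Algebra.TensorProduct.cancelBaseChange A p.ResidueField p.ResidueField L B).symm.injective

/-- back to Mathlib's geometric reducedness -/
theorem isGeometricallyReduced_of_FR (p : Ideal A) [p.IsPrime] (h : FR A B p) :
    Algebra.IsGeometricallyReduced p.ResidueField (p.Fiber B) := by
  apply Groth.Agent.Lib.Helper22.GeomRed2.isGeometricallyReduced_of_forall_purelyInseparable
  intro k' _ _ _ _
  letI : Algebra A k' := ((algebraMap p.ResidueField k').comp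
    (algebraMap A p.ResidueField)).toAlgebra
  haveI : IsScalarTower A p.ResidueField k' := IsScalarTower.of_algebraMap_eq (fun _ => rfl)
  have hker : RingHom.ker (algebraMap A k') = p := by
    rw [IsScalarTower.algebraMap_eq A p.ResidueField k', ← RingHom.comap_ker,
      (RingHom.injective_iff_ker_eq_bot _).1 (algebraMap p.ResidueField k').injective,
      ← RingHom.ker_eq_comap_bot, Ideal.ker_algebraMap_residueField]
  haveI := h k' hker
  exact isReduced_of_injective
    (Algebra.TensorProduct.cancelBaseChange A p.ResidueField p.ResidueField k' B)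
    (Algebra.TensorProduct.cancelBaseChange A p.ResidueField p.ResidueField k' B).injective

end conv

section main
variable (A : Type u) [CommRing A] [IsNoetherianRing A] [IsLocalRing A]
  (B : Type u) [CommRing B] [IsNoetherianRing B] [IsLocalRing B] [Algebra A B]
  [IsLocalHom (algebraMap A B)] [Module.Flat A B]

set_option maxHeartbeats 1600000 in
/-- the induction step: reducedness of the fibres over all strictly larger primes gives it
at `p`. -/
theorem FR_step (hNag : CAlg.IsNagata A) (p : Ideal A) [hp : p.IsPrime]
    (hpm : p ≠ maximalIdeal A)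
    (ih : ∀ q : Ideal A, p < q → q.IsPrime → FR A B q) : FR A B p := by
  let A1 := A ⧸ p
  let B1 := A1 ⊗[A] B
  have hN2 : CAlg.IsN2 A1 := hNag.2 p
  -- Noetherian
  have hsurj : Function.Surjective (Algebra.TensorProduct.includeRight : B →ₐ[A] B1) :=
    TensorProduct.mk_surjective A B A1 Ideal.Quotient.mk_surjective
  haveI : IsNoetherianRing B1 :=
    isNoetherianRing_of_surjective B B1 (Algebra.TensorProduct.includeRight : B →ₐ[A] B1).toRingHom
      hsurj
  -- the element
  obtain ⟨x, hxm, hxp⟩ : ∃ x ∈ maximalIdeal A, x ∉ p := by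
    by_contra hcon
    push Not at hcon
    exact hpm (le_antisymm (IsLocalRing.le_maximalIdeal hp.ne_top) hcon)
  let x1 : A1 := Ideal.Quotient.mk p x
  have hx1 : x1 ≠ 0 := fun h => hxp (Ideal.Quotient.eq_zero_iff_mem.1 h)
  have hx1J : algebraMap A1 B1 x1 ∈ Ideal.jacobson (⊥ : Ideal B1) := by
    rw [Ideal.mem_jacobson_bot]
    intro z
    obtain ⟨c, rfl⟩ := hsurj z
    have h1 : algebraMap A1 B1 x1 =
        (Algebra.TensorProduct.includeRight : B →ₐ[A] B1) (algebraMap A B x) := by
      rw [Algebra.TensorProduct.algebraMap_apply, Algebra.TensorProduct.includeRight_apply]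
      show (Ideal.Quotient.mk p x) ⊗ₜ[A] (1 : B) = (1 : A1) ⊗ₜ[A] (algebraMap A B x)
      rw [Algebra.algebraMap_eq_smul_one, ← TensorProduct.smul_tmul]
      congr 1
      rw [Algebra.smul_def, mul_one]
      rfl
    rw [h1, ← map_mul, ← map_one (Algebra.TensorProduct.includeRight : B →ₐ[A] B1), ← map_add]
    apply IsUnit.map
    have hmem : algebraMap A B x * c ∈ maximalIdeal B :=
      Ideal.mul_mem_right _ _ ((IsLocalRing.mem_maximalIdeal _).2 (fun hu =>
        (IsLocalRing.mem_maximalIdeal x).1 hxm (isUnit_of_map_unit (algebraMap A B) x hu)))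
    by_contra hnu
    have h2 : algebraMap A B x * c + 1 ∈ maximalIdeal B := hnu
    have h3 : (1 : B) ∈ maximalIdeal B := by
      have := Ideal.sub_mem _ h2 hmem
      simp at this
    exact (Ideal.ne_top_iff_one _).1 (IsLocalRing.maximalIdeal.isMaximal B).ne_top h3
  -- fibres over nonzero primes
  have hfib : ∀ (p1 : Ideal A1) [p1.IsPrime], p1 ≠ ⊥ → FR A1 B1 p1 := by
    intro p1 _ hp1 L _ _ hL
    letI : Algebra A L := ((algebraMap A1 L).comp (algebraMap A A1)).toAlgebra
    haveI : IsScalarTower A A1 L := IsScalarTower.of_algebraMap_eq (fun _ => rfl)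
    let q : Ideal A := p1.comap (Ideal.Quotient.mk p)
    have hq : RingHom.ker (algebraMap A L) = q := by
      rw [IsScalarTower.algebraMap_eq A A1 L, ← RingHom.comap_ker, hL]
      rfl
    have hpq : p < q := by
      refine lt_of_le_of_ne ?_ ?_
      · intro a ha
        show Ideal.Quotient.mk p a ∈ p1
        rw [Ideal.Quotient.eq_zero_iff_mem.2 ha]
        exact zero_mem _
      · intro heq
        apply hp1
        rw [eq_bot_iff]
        intro a1 ha1
        obtain ⟨a, rfl⟩ := Ideal.Quotient.mk_surjective a1
        have : a ∈ q := ha1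
        rw [← heq] at this
        exact Ideal.Quotient.eq_zero_iff_mem.2 this
    haveI := ih q hpq (Ideal.comap_isPrime _ _) L hq
    exact isReduced_of_injective
      (Algebra.TensorProduct.cancelBaseChange A A1 A1 L B)
      (Algebra.TensorProduct.cancelBaseChange A A1 A1 L B).injective
  have hbot := FR_bot A1 B1 hN2 x1 hx1 hx1J hfib
  -- conclusion
  intro L _ _ hL
  letI : Algebra A1 L := (Ideal.Quotient.lift p (algebraMap A L) (fun a ha => by
    rw [← RingHom.mem_ker, hL]; exact ha)).toAlgebra
  haveI : IsScalarTower A A1 L := IsScalarTower.of_algebraMap_eq (fun _ => rfl)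
  have hL1 : RingHom.ker (algebraMap A1 L) = ⊥ := by
    rw [eq_bot_iff]
    intro a1 ha1
    obtain ⟨a, rfl⟩ := Ideal.Quotient.mk_surjective a1
    have : algebraMap A L a = 0 := ha1
    rw [← RingHom.mem_ker, hL] at this
    exact Ideal.Quotient.eq_zero_iff_mem.2 this
  haveI := hbot L hL1
  exact isReduced_of_injective
    (Algebra.TensorProduct.cancelBaseChange A A1 A1 L B).symm
    (Algebra.TensorProduct.cancelBaseChange A A1 A1 L B).symm.injective

/-- **Localisation theorem for geometric reducedness**: for a flat local homomorphism of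
Noetherian local rings `A → B` with `A` Nagata, if the closed fibre is geometrically reduced
then so are all fibres. -/
theorem FR_of_closed (hNag : CAlg.IsNagata A) (h : FR A B (maximalIdeal A))
    (p : Ideal A) [hp : p.IsPrime] : FR A B p := by
  have key : ∀ q : Ideal A, q.IsPrime → FR A B q := by
    intro q
    induction q using WellFoundedGT.induction with
    | ind q ih =>
      intro hq
      by_cases hqm : q = maximalIdeal A
      · rw [hqm]; exact h
      · exact FR_step A B hNag q hqm (fun q' hlt hq' => ih q' hlt hq')
  exact key p hp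

end main

end Groth.Agent.Lib.Helper25.RedLoc
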