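import Mathlib

/-!
# Cauchy–Binet formula (helper25)
-/

namespace Groth.Agent.Lib.Helper25.CauchyBinet

open Finset Matrix

variable {m N R : Type*} [Fintype m] [DecidableEq m] [Fintype N] [DecidableEq N] [CommRing R]

/-- Expansion of `det (A * B)` by multilinearity in the rows. -/
theorem det_mul_eq_sum (A : Matrix m N R) (B : Matrix N m R) :
    (A * B).det = ∑ f : m → N, (∏ i, A i (f i)) * (Matrix.of fun i j => B (f i) j).det := by
  have h1 : A * B = Matrix.of (fun i => ∑ k, A i k • B k) := by
    ext i j
    simp [Matrix.mul_apply, Finset.sum_apply]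
  rw [h1]
  have h2 := (Matrix.detRowAlternating (n := m) (R := R)).toMultilinearMap.map_sum
    (fun i k => A i k • B k)
  have h3 : (Matrix.of (fun i => ∑ k, A i k • B k)).det =
      (Matrix.detRowAlternating (n := m) (R := R)).toMultilinearMap
        (fun i => ∑ k, A i k • B k) := rfl
  rw [h3, h2]
  refine Finset.sum_congr rfl fun f _ => ?_
  rw [MultilinearMap.map_smul_univ]
  rfl

omit [DecidableEq N] in
theorem det_rows_eq_zero_of_not_injective (B : Matrix N m R) (f : m → N)
    (hf : ¬ Function.Injective f) : (Matrix.of fun i j => B (f i) j).det = 0 := by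
  rw [Function.Injective] at hf
  push Not at hf
  obtain ⟨i, j, hij, hne⟩ := hf
  refine Matrix.det_zero_of_row_eq hne ?_
  ext k
  simp [hij]

/-- a chosen enumeration of a finset of the right cardinality -/
noncomputable def enumS (S : {S : Finset N // S.card = Fintype.card m}) : m ≃ S.1 :=
  Fintype.equivOfCardEq (by rw [Fintype.card_coe, S.2])

/-- the parametrisation of injective functions by (image, permutation) -/
noncomputable def param (x : {S : Finset N // S.card = Fintype.card m} × Equiv.Perm m) :
    {f : m → N // Function.Injective f} :=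
  ⟨fun i => ((enumS x.1 (x.2 i) : x.1.1) : N), by
    intro i j hij
    have h1 : enumS x.1 (x.2 i) = enumS x.1 (x.2 j) := Subtype.ext hij
    exact x.2.injective ((enumS x.1).injective h1)⟩

theorem image_param (x : {S : Finset N // S.card = Fintype.card m} × Equiv.Perm m) :
    Finset.univ.image (param x).1 = x.1.1 := by
  ext a
  simp only [Finset.mem_image, Finset.mem_univ, true_and, param]
  constructor
  · rintro ⟨i, rfl⟩
    exact (enumS x.1 (x.2 i)).2
  · intro ha
    refine ⟨x.2.symm ((enumS x.1).symm ⟨a, ha⟩), ?_⟩
    simp

theorem param_bijective : Function.Bijective (param (m := m) (N := N)) := by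
  constructor
  · rintro ⟨S, τ⟩ ⟨S', τ'⟩ h
    have hS : S = S' := by
      apply Subtype.ext
      rw [← image_param (S, τ), ← image_param (S', τ'), h]
    subst hS
    have hτ : τ = τ' := by
      ext i
      have := congrFun (congrArg Subtype.val h) i
      simp only [param] at this
      exact (enumS S).injective (Subtype.ext this)
    rw [hτ]
  · rintro ⟨f, hf⟩
    let S : {S : Finset N // S.card = Fintype.card m} :=
      ⟨Finset.univ.image f, by rw [Finset.card_image_of_injective _ hf, Finset.card_univ]⟩
    have hmem : ∀ i, f i ∈ S.1 := fun i => Finset.mem_image_of_mem f (Finset.mem_univ i)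
    let g : m → m := fun i => (enumS S).symm ⟨f i, hmem i⟩
    have hg : Function.Injective g := by
      intro i j hij
      have := (enumS S).symm.injective hij
      exact hf (congrArg Subtype.val this)
    let τ : Equiv.Perm m := Equiv.ofBijective g (Finite.injective_iff_bijective.mp hg)
    refine ⟨(S, τ), ?_⟩
    apply Subtype.ext
    funext i
    simp [param, τ, g]

theorem det_eq_sum_perm (M : Matrix m m R) :
    M.det = ∑ τ : Equiv.Perm m, (Equiv.Perm.sign τ : ℤ) • ∏ i, M i (τ i) := by
  rw [← Matrix.det_transpose, Matrix.det_apply]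
  refine Finset.sum_congr rfl fun τ _ => ?_
  simp [Matrix.transpose_apply, Units.smul_def]

/-- **Cauchy–Binet**. -/
theorem cauchyBinet (A : Matrix m N R) (B : Matrix N m R) :
    (A * B).det = ∑ S : {S : Finset N // S.card = Fintype.card m},
      (Matrix.of fun i j => A i (enumS S j)).det * (Matrix.of fun i j => B (enumS S i) j).det := by
  classical
  rw [det_mul_eq_sum]
  have hsplit : ∑ f : m → N, (∏ i, A i (f i)) * (Matrix.of fun i j => B (f i) j).det =
      ∑ f : {f : m → N // Function.Injective f},
        (∏ i, A i (f.1 i)) * (Matrix.of fun i j => B (f.1 i) j).det := by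
    have h1 := Finset.sum_subtype (F := inferInstance)
      (Finset.univ.filter fun f : m → N => Function.Injective f)
      (p := fun f : m → N => Function.Injective f) (fun f => by simp)
      (fun f => (∏ i, A i (f i)) * (Matrix.of fun i j => B (f i) j).det)
    have h2 : ∑ f ∈ Finset.univ.filter (fun f : m → N => Function.Injective f),
        (∏ i, A i (f i)) * (Matrix.of fun i j => B (f i) j).det =
        ∑ f : m → N, (∏ i, A i (f i)) * (Matrix.of fun i j => B (f i) j).det := by
      apply Finset.sum_subset (Finset.filter_subset _ _)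
      intro f _ hf
      rw [Finset.mem_filter] at hf
      rw [det_rows_eq_zero_of_not_injective B f (fun h => hf ⟨Finset.mem_univ _, h⟩), mul_zero]
    rw [← h2, h1]
  rw [hsplit, ← param_bijective.sum_comp, Fintype.sum_prod_type]
  refine Finset.sum_congr rfl fun S _ => ?_
  have hB : ∀ τ : Equiv.Perm m, (Matrix.of fun i j => B ((param (S, τ)).1 i) j).det =
      (Equiv.Perm.sign τ : ℤ) • (Matrix.of fun i j => B (enumS S i) j).det := by
    intro τ
    have : (Matrix.of fun i j => B ((param (S, τ)).1 i) j) =
        (Matrix.of fun i j => B (enumS S i) j).submatrix τ id := by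
      ext i j
      simp [param]
    rw [this, Matrix.det_permute]
    simp [Units.smul_def]
  simp only [hB]
  rw [det_eq_sum_perm (Matrix.of fun i j => A i (enumS S j)), Finset.sum_mul]
  refine Finset.sum_congr rfl fun τ _ => ?_
  simp only [param, Matrix.of_apply]
  rw [smul_mul_assoc, mul_smul_comm]

/-- Cauchy–Binet for `A X Aᵀ` with `X` diagonal. -/
theorem det_mul_diagonal_mul_transpose (A : Matrix m N R) (x : N → R) :
    (A * (Matrix.diagonal x * A.transpose)).det =
      ∑ S : {S : Finset N // S.card = Fintype.card m},
        (∏ e ∈ S.1, x e) * (Matrix.of fun i j => A i (enumS S j)).det ^ 2 := by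
  rw [cauchyBinet]
  refine Finset.sum_congr rfl fun S _ => ?_
  have h1 : (Matrix.of fun i j => (Matrix.diagonal x * A.transpose) (enumS S i) j) =
      Matrix.of fun i j => x (enumS S i) * (Matrix.of fun i j => A i (enumS S j)).transpose i j := by
    ext i j
    simp [Matrix.diagonal_mul]
  rw [h1, Matrix.det_mul_column, Matrix.det_transpose]
  have h2 : ∏ i, x (enumS S i) = ∏ e ∈ S.1, x e := by
    rw [← Finset.prod_coe_sort S.1 x]
    exact Equiv.prod_comp (enumS S) (fun s : S.1 => x s)
  rw [h2]
  ring

end Groth.Agent.Lib.Helper25.CauchyBinet
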