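import Groth.Agent.Lib.Helper25.Chevalley

/-! Chevalley's theorem with trivial character on the line: eigenvectors, tensor products of
lines and their stabilizers. -/

set_option autoImplicit false
universe u v v' w w'
open TensorProduct

namespace Groth.Agent.Lib.Helper25.ChevalleyChar
open Groth.Agent.Lib.Helper25.TensorStab Groth.Agent.Lib.Helper25.WedgeR

section Eigen
variable {k : Type u} [Field k] {B : Type v} [AddCommGroup B] [Module k B] [Coalgebra k B]
  {V : Type w} [AddCommGroup V] [Module k V]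

theorem exists_dual_eq_one' {v : V} (hv : v ≠ 0) : ∃ m : Module.Dual k V, m v = 1 :=
  exists_dual_eq_one (k := k) hv

theorem tmul_left_injective {N : Type*} [AddCommGroup N] [Module k N] {v : V} (hv : v ≠ 0)
    {x y : N} (h : v ⊗ₜ[k] x = v ⊗ₜ[k] y) : x = y := by
  obtain ⟨m, hm⟩ := exists_dual_eq_one' (k := k) hv
  have := congrArg ((TensorProduct.lid k N).toLinearMap ∘ₗ m.rTensor N) h
  simpa [hm] using this

/-- the character of an eigenvector is group-like -/
theorem isGroupLikeElem_of_eigen (c : HopfRep.Comod k B V) {v : V} (hv : v ≠ 0) {χ : B}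
    (h : c.coact v = v ⊗ₜ[k] χ) : IsGroupLikeElem k χ := by
  constructor
  · have h1 := LinearMap.congr_fun c.counit_comp v
    simp only [LinearMap.comp_apply, LinearMap.flip_apply, TensorProduct.mk_apply, h,
      LinearMap.lTensor_tmul] at h1
    exact tmul_left_injective hv h1
  · have h1 := LinearMap.congr_fun c.coassoc v
    simp only [LinearMap.comp_apply, LinearEquiv.coe_coe, h, LinearMap.rTensor_tmul,
      TensorProduct.assoc_tmul, LinearMap.lTensor_tmul] at h1
    exact (tmul_left_injective hv h1).symm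

end Eigen

section Line
variable {k : Type u} [Field k] {V : Type w} [AddCommGroup V] [Module k V]
  {R : Type v'} [CommRing R] [Algebra k R]

theorem mem_range_span_singleton (v : V) (y : V ⊗[k] R) :
    y ∈ LinearMap.range ((Submodule.span k {v}).subtype.rTensor R) ↔ ∃ c : R, y = v ⊗ₜ[k] c := by
  constructor
  · rintro ⟨z, rfl⟩
    induction z using TensorProduct.induction_on with
    | zero => exact ⟨0, by simp⟩
    | tmul x r =>
      obtain ⟨a, ha⟩ := Submodule.mem_span_singleton.mp x.2
      exact ⟨a • r, by rw [LinearMap.rTensor_tmul, Submodule.subtype_apply, ← ha,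
        TensorProduct.smul_tmul]⟩
    | add z₁ z₂ h₁ h₂ =>
      obtain ⟨c₁, h₁⟩ := h₁
      obtain ⟨c₂, h₂⟩ := h₂
      exact ⟨c₁ + c₂, by rw [map_add, h₁, h₂, TensorProduct.tmul_add]⟩
  · rintro ⟨c, rfl⟩
    exact ⟨(⟨v, Submodule.mem_span_singleton_self v⟩ : Submodule.span k {v}) ⊗ₜ[k] c, by simp⟩

theorem tmul_ne_zero {V' : Type w'} [AddCommGroup V'] [Module k V'] {v : V} {v' : V'} (hv : v ≠ 0)
    (hv' : v' ≠ 0) : v ⊗ₜ[k] v' ≠ 0 := by
  intro h
  have : v ⊗ₜ[k] v' = v ⊗ₜ[k] (0 : V') := by rw [h, TensorProduct.tmul_zero]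
  exact hv' (tmul_left_injective hv this)

theorem range_mapIncl_span {V' : Type w'} [AddCommGroup V'] [Module k V'] (v : V) (v' : V') :
    LinearMap.range (TensorProduct.mapIncl (Submodule.span k {v}) (Submodule.span k {v'})) =
      Submodule.span k {v ⊗ₜ[k] v'} := by
  apply le_antisymm
  · rintro _ ⟨z, rfl⟩
    induction z using TensorProduct.induction_on with
    | zero => simp
    | tmul x x' =>
      obtain ⟨a, ha⟩ := Submodule.mem_span_singleton.mp x.2
      obtain ⟨a', ha'⟩ := Submodule.mem_span_singleton.mp x'.2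
      have : TensorProduct.mapIncl (Submodule.span k {v}) (Submodule.span k {v'}) (x ⊗ₜ[k] x') =
          (x : V) ⊗ₜ[k] (x' : V') := rfl
      rw [this, ← ha, ← ha', TensorProduct.smul_tmul_smul]
      exact Submodule.smul_mem _ _ (Submodule.mem_span_singleton_self _)
    | add z₁ z₂ h₁ h₂ => rw [map_add]; exact Submodule.add_mem _ h₁ h₂
  · rw [Submodule.span_singleton_le_iff_mem]
    exact ⟨(⟨v, Submodule.mem_span_singleton_self v⟩ : Submodule.span k {v}) ⊗ₜ[k]
      (⟨v', Submodule.mem_span_singleton_self v'⟩ : Submodule.span k {v'}), rfl⟩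

end Line

section Stab
variable {k : Type u} [Field k] {A : Type v} [CommRing A] [HopfAlgebra k A]
  {V : Type w} [AddCommGroup V] [Module k V] {V' : Type w'} [AddCommGroup V'] [Module k V']
  {R : Type v'} [CommRing R] [Algebra k R]

/-- "the point `g` stabilizes the line through `v`", with explicit comodule structure -/
def Stab (c : HopfRep.Comod k A V) (v : V) (g : A →ₐ[k] R) : Prop :=
  ∃ c₀ : R, LinearMap.lTensor V g.toLinearMap (c.coact v) = v ⊗ₜ[k] c₀

theorem stab_span_iff (c : HopfRep.Comod k A V) (v : V) (g : A →ₐ[k] R) :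
    (∀ x ∈ Submodule.span k {v}, LinearMap.lTensor V g.toLinearMap (c.coact x) ∈
      LinearMap.range ((Submodule.span k {v}).subtype.rTensor R)) ↔ Stab c v g := by
  constructor
  · intro h
    exact (mem_range_span_singleton v _).mp (h v (Submodule.mem_span_singleton_self v))
  · rintro ⟨c₀, hc₀⟩ x hx
    obtain ⟨a, rfl⟩ := Submodule.mem_span_singleton.mp hx
    rw [map_smul, map_smul, hc₀]
    exact Submodule.smul_mem _ _ ((mem_range_span_singleton v _).mpr ⟨c₀, rfl⟩)

theorem stab_tensor (c : HopfRep.Comod k A V) (c' : HopfRep.Comod k A V') {v : V} {v' : V'}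
    (hv : v ≠ 0) (hv' : v' ≠ 0) (g : A →ₐ[k] R)
    (h : Stab (ComodTens.Comod.tensor c c') (v ⊗ₜ[k] v') g) : Stab c v g ∧ Stab c' v' g := by
  rw [← stab_span_iff, ← stab_span_iff]
  rw [← stab_span_iff, ← range_mapIncl_span] at h
  refine (TensorStab.main c c' _ _ ?_ ?_ g).mp h
  · intro h0
    have : v ∈ (⊥ : Submodule k V) := h0 ▸ Submodule.mem_span_singleton_self v
    exact hv ((Submodule.mem_bot k).mp this)
  · intro h0
    have : v' ∈ (⊥ : Submodule k V') := h0 ▸ Submodule.mem_span_singleton_self v'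
    exact hv' ((Submodule.mem_bot k).mp this)

/-- characters multiply under tensor products -/
theorem eigen_tensor (c : HopfRep.Comod k A V) (c' : HopfRep.Comod k A V') (g : A →ₐ[k] R)
    {v : V} {v' : V'} {χ χ' : R}
    (h : LinearMap.lTensor V g.toLinearMap (c.coact v) = v ⊗ₜ[k] χ)
    (h' : LinearMap.lTensor V' g.toLinearMap (c'.coact v') = v' ⊗ₜ[k] χ') :
    LinearMap.lTensor (V ⊗[k] V') g.toLinearMap
      ((ComodTens.Comod.tensor c c').coact (v ⊗ₜ[k] v')) = (v ⊗ₜ[k] v') ⊗ₜ[k] (χ * χ') := by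
  rw [lTensor_tensor_coact, h, h', MR_tmul]

end Stab

section Ker
variable {k : Type u} [Field k] {A : Type v} [CommRing A] [HopfAlgebra k A]
  {B : Type v'} [CommRing B] [HopfAlgebra k B] (π : A →ₐc[k] B)

theorem isCoideal_ker : ((RingHom.ker (π : A →+* B)).restrictScalars k).IsCoideal := by
  set I' := (RingHom.ker (π : A →+* B)).restrictScalars k with hI'
  have hmem : ∀ x : A, x ∈ I' ↔ π x = 0 := fun x => Iff.rfl
  have hle : I' ≤ LinearMap.ker (π : A →ₗ[k] B) := fun x hx => (hmem x).mp hx
  have hge : LinearMap.ker (π : A →ₗ[k] B) ≤ I' := fun x hx => (hmem x).mpr hx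
  let πbar : A ⧸ I' →ₗ[k] B := I'.liftQ (π : A →ₗ[k] B) hle
  have hinj : Function.Injective πbar :=
    LinearMap.ker_eq_bot.mp (Submodule.ker_liftQ_eq_bot I' (π : A →ₗ[k] B) hle hge)
  have hcomp : πbar ∘ₗ I'.mkQ = (π : A →ₗ[k] B) := Submodule.liftQ_mkQ _ _ _
  constructor
  · intro x hx
    rw [← CoalgHomClass.counit_comp_apply π x, (hmem x).mp hx, map_zero]
  · intro x hx
    apply TensorProduct.map_injective_of_flat_flat πbar πbar hinj hinj
    rw [map_zero, ← LinearMap.comp_apply, ← TensorProduct.map_comp, hcomp]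
    have := CoalgHomClass.map_comp_comul_apply π x
    rw [(hmem x).mp hx, map_zero] at this
    exact this

end Ker

section Power
variable {k : Type u} [Field k] {A : Type u} [CommRing A] [HopfAlgebra k A]
  {B : Type u} [CommRing B] [Algebra k B] (π : A →ₐ[k] B)
  {V : Type u} [AddCommGroup V] [Module k V] [Module.Finite k V] (c : HopfRep.Comod k A V)

/-- tensor powers of an eigenline: same stabilizer, character raised to the power -/
theorem exists_power {v : V} (hv : v ≠ 0) {χ : B}
    (h : LinearMap.lTensor V π.toLinearMap (c.coact v) = v ⊗ₜ[k] χ) (m : ℕ) :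
    ∃ (Vm : Type u) (_ : AddCommGroup Vm) (_ : Module k Vm) (cm : HopfRep.Comod k A Vm)
      (_ : Module.Finite k Vm) (vm : Vm), vm ≠ 0 ∧
      LinearMap.lTensor Vm π.toLinearMap (cm.coact vm) = vm ⊗ₜ[k] (χ ^ (m + 1)) ∧
      ∀ (R : Type u) [CommRing R] [Algebra k R] (g : A →ₐ[k] R), Stab cm vm g → Stab c v g := by
  induction m with
  | zero =>
    exact ⟨V, inferInstance, inferInstance, c, inferInstance, v, hv, by simpa using h,
      fun R _ _ g hg => hg⟩
  | succ m ih =>
    obtain ⟨Vm, _, _, cm, _, vm, hvm, hm, hstab⟩ := ih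
    refine ⟨Vm ⊗[k] V, inferInstance, inferInstance, ComodTens.Comod.tensor cm c, inferInstance,
      vm ⊗ₜ[k] v, tmul_ne_zero hvm hv, ?_, ?_⟩
    · rw [eigen_tensor cm c π hm h, pow_succ χ (m + 1)]
    · intro R _ _ g hg
      exact (stab_tensor cm c hvm hv g hg).2

end Power

end Groth.Agent.Lib.Helper25.ChevalleyChar
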