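import Groth.Prelude.Def_HopfRep
import Groth.Prelude.Def_Hoch
import Groth.Agent.Lib.Helper20.ComodBasis
import Groth.Agent.Lib.Helper20.ComodDual
import Groth.Agent.Lib.Helper5.ComodBasic
import Mathlib

/-!
# Helper library (helper25): foundations for comodules over a coalgebra over a field

* `Comod.ofInjective`, `Comod.ofSurjective`: transfer of comodule structures
* `subComod`, `quotComod`: sub- and quotient comodules as comodules
* `exists_fg_subcomod`: local finiteness (fundamental theorem of comodules)
* `act`: action of points, multiplicativity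
-/

set_option autoImplicit false
universe u v w w'
open TensorProduct

namespace Groth.Agent.Lib.Helper25.Comod

open HopfRep

section Transfer

variable {k : Type u} [Field k] {C : Type v} [AddCommGroup C] [Module k C] [Coalgebra k C]
  {V : Type w} [AddCommGroup V] [Module k V] [HopfRep.Comod k C V]
  {W : Type w'} [AddCommGroup W] [Module k W]

local notation "ρ" => HopfRep.Comod.coact (k := k) (A := C) (V := V)

theorem rTensor_injective (i : W →ₗ[k] V) (hi : Function.Injective i) (N : Type*) [AddCommGroup N]
    [Module k N] : Function.Injective (i.rTensor N) :=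
  Module.Flat.rTensor_preserves_injective_linearMap i hi

/-- the coaction induced on the source of an injective linear map whose image is a subcomodule -/
noncomputable def coactOfInjective (i : W →ₗ[k] V) (hi : Function.Injective i)
    (h : ∀ w : W, ρ (i w) ∈ LinearMap.range (i.rTensor C)) : W →ₗ[k] W ⊗[k] C :=
  (LinearEquiv.ofInjective _ (rTensor_injective i hi C)).symm.toLinearMap ∘ₗ
    ((ρ ∘ₗ i).codRestrict (LinearMap.range (i.rTensor C)) h)

theorem rTensor_coactOfInjective (i : W →ₗ[k] V) (hi : Function.Injective i)
    (h : ∀ w : W, ρ (i w) ∈ LinearMap.range (i.rTensor C)) (w : W) :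
    i.rTensor C (coactOfInjective i hi h w) = ρ (i w) := by
  have := LinearEquiv.apply_symm_apply (LinearEquiv.ofInjective _ (rTensor_injective i hi C))
    ((ρ ∘ₗ i).codRestrict (LinearMap.range (i.rTensor C)) h w)
  exact congrArg Subtype.val this

theorem rTensor_comp_coactOfInjective (i : W →ₗ[k] V) (hi : Function.Injective i)
    (h : ∀ w : W, ρ (i w) ∈ LinearMap.range (i.rTensor C)) :
    i.rTensor C ∘ₗ coactOfInjective i hi h = ρ ∘ₗ i :=
  LinearMap.ext (rTensor_coactOfInjective i hi h)

omit [HopfRep.Comod k C V] in
theorem assoc_rTensor_rTensor (i : W →ₗ[k] V) (t : (W ⊗[k] C) ⊗[k] C) :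
    TensorProduct.assoc k V C C ((i.rTensor C).rTensor C t) =
      i.rTensor (C ⊗[k] C) (TensorProduct.assoc k W C C t) := by
  induction t using TensorProduct.induction_on with
  | zero => simp
  | tmul x c =>
    induction x using TensorProduct.induction_on with
    | zero => simp
    | tmul w c' => simp
    | add x y hx hy => simp only [TensorProduct.add_tmul, map_add, hx, hy]
  | add x y hx hy => simp only [map_add, hx, hy]

omit [HopfRep.Comod k C V] in
theorem lTensor_rTensor_comm {N N' : Type*} [AddCommGroup N] [Module k N] [AddCommGroup N']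
    [Module k N'] (i : W →ₗ[k] V) (g : N →ₗ[k] N') (t : W ⊗[k] N) :
    i.rTensor N' (g.lTensor W t) = g.lTensor V (i.rTensor N t) := by
  induction t using TensorProduct.induction_on with
  | zero => simp
  | tmul x c => simp
  | add x y hx hy => simp only [map_add, hx, hy]

/-- Transfer of a comodule structure along an injective linear map whose image is a subcomodule. -/
@[reducible] noncomputable def ofInjective (i : W →ₗ[k] V) (hi : Function.Injective i)
    (h : ∀ w : W, ρ (i w) ∈ LinearMap.range (i.rTensor C)) : HopfRep.Comod k C W where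
  coact := coactOfInjective i hi h
  coassoc := by
    ext w
    apply rTensor_injective i hi (C ⊗[k] C)
    simp only [LinearMap.comp_apply, LinearEquiv.coe_coe]
    rw [← assoc_rTensor_rTensor, ← LinearMap.comp_apply (LinearMap.rTensor C _),
      ← LinearMap.rTensor_comp, rTensor_comp_coactOfInjective, LinearMap.rTensor_comp,
      LinearMap.comp_apply, rTensor_coactOfInjective, lTensor_rTensor_comm,
      rTensor_coactOfInjective]
    have := LinearMap.congr_fun (HopfRep.Comod.coassoc (k := k) (A := C) (V := V)) (i w)
    simpa using this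
  counit_comp := by
    ext w
    apply rTensor_injective i hi k
    simp only [LinearMap.comp_apply, LinearMap.flip_apply, TensorProduct.mk_apply]
    rw [lTensor_rTensor_comm, rTensor_coactOfInjective]
    have := LinearMap.congr_fun (HopfRep.Comod.counit_comp (k := k) (A := C) (V := V)) (i w)
    simpa using this

theorem isComodHom_ofInjective (i : W →ₗ[k] V) (hi : Function.Injective i)
    (h : ∀ w : W, ρ (i w) ∈ LinearMap.range (i.rTensor C)) :
    @Hoch.IsComodHom k _ C _ _ _ W _ _ (ofInjective i hi h) V _ _ _ i :=
  (rTensor_comp_coactOfInjective i hi h).symm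

/-- A subcomodule as a comodule. -/
@[reducible] noncomputable def subComod (W : Submodule k V) (hW : IsSubcomod (k := k) (A := C) W) :
    HopfRep.Comod k C W :=
  ofInjective W.subtype W.subtype_injective (fun w => hW w w.2)

theorem isComodHom_subtype (W : Submodule k V) (hW : IsSubcomod (k := k) (A := C) W) :
    @Hoch.IsComodHom k _ C _ _ _ W _ _ (subComod W hW) V _ _ _ W.subtype :=
  isComodHom_ofInjective _ _ _

theorem subComod_coact (W : Submodule k V) (hW : IsSubcomod (k := k) (A := C) W) (w : W) :
    W.subtype.rTensor C ((subComod W hW).coact w) = ρ (w : V) :=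
  rTensor_coactOfInjective _ _ _ w

end Transfer

section Quotient

variable {k : Type u} [CommRing k] {C : Type v} [AddCommGroup C] [Module k C] [Coalgebra k C]
  {V : Type w} [AddCommGroup V] [Module k V] [HopfRep.Comod k C V]

local notation "ρ" => HopfRep.Comod.coact (k := k) (A := C) (V := V)

/-- the coaction on the quotient by a subcomodule -/
noncomputable def quotCoact (W : Submodule k V) (hW : IsSubcomod (k := k) (A := C) W) :
    (V ⧸ W) →ₗ[k] (V ⧸ W) ⊗[k] C :=
  W.liftQ (W.mkQ.rTensor C ∘ₗ ρ) (by
    intro w hw
    obtain ⟨t, ht⟩ := hW w hw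
    rw [LinearMap.mem_ker, LinearMap.comp_apply, ← ht, ← LinearMap.comp_apply,
      ← LinearMap.rTensor_comp]
    have : W.mkQ ∘ₗ W.subtype = 0 := by
      ext x; simp
    rw [this, LinearMap.rTensor_zero, LinearMap.zero_apply])

theorem quotCoact_mk (W : Submodule k V) (hW : IsSubcomod (k := k) (A := C) W) (v : V) :
    quotCoact W hW (W.mkQ v) = W.mkQ.rTensor C (ρ v) := rfl

theorem quotCoact_comp_mkQ (W : Submodule k V) (hW : IsSubcomod (k := k) (A := C) W) :
    quotCoact W hW ∘ₗ W.mkQ = W.mkQ.rTensor C ∘ₗ ρ := rfl

omit [HopfRep.Comod k C V] [Coalgebra k C] in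
theorem assoc_rTensor_rTensor' {Q : Type*} [AddCommGroup Q] [Module k Q] (p : V →ₗ[k] Q)
    (t : (V ⊗[k] C) ⊗[k] C) :
    TensorProduct.assoc k Q C C ((p.rTensor C).rTensor C t) =
      p.rTensor (C ⊗[k] C) (TensorProduct.assoc k V C C t) := by
  induction t using TensorProduct.induction_on with
  | zero => simp
  | tmul x c =>
    induction x using TensorProduct.induction_on with
    | zero => simp
    | tmul w c' => simp
    | add x y hx hy => simp only [TensorProduct.add_tmul, map_add, hx, hy]
  | add x y hx hy => simp only [map_add, hx, hy]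

omit [HopfRep.Comod k C V] [Coalgebra k C] in
theorem lTensor_rTensor_comm' {Q N N' : Type*} [AddCommGroup Q] [Module k Q]
    [AddCommGroup N] [Module k N] [AddCommGroup N']
    [Module k N'] (p : V →ₗ[k] Q) (g : N →ₗ[k] N') (t : V ⊗[k] N) :
    p.rTensor N' (g.lTensor V t) = g.lTensor Q (p.rTensor N t) := by
  induction t using TensorProduct.induction_on with
  | zero => simp
  | tmul x c => simp
  | add x y hx hy => simp only [map_add, hx, hy]

/-- The quotient by a subcomodule as a comodule. -/
@[reducible] noncomputable def quotComod (W : Submodule k V) (hW : IsSubcomod (k := k) (A := C) W) :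
    HopfRep.Comod k C (V ⧸ W) where
  coact := quotCoact W hW
  coassoc := by
    apply Submodule.linearMap_qext
    ext v
    simp only [LinearMap.comp_apply, LinearEquiv.coe_coe, Submodule.mkQ_apply]
    change (TensorProduct.assoc k (V ⧸ W) C C)
      ((quotCoact W hW).rTensor C (quotCoact W hW (W.mkQ v))) =
        (CoalgebraStruct.comul (R := k) (A := C)).lTensor (V ⧸ W) (quotCoact W hW (W.mkQ v))
    rw [quotCoact_mk, ← LinearMap.comp_apply (LinearMap.rTensor C _), ← LinearMap.rTensor_comp,
      quotCoact_comp_mkQ, LinearMap.rTensor_comp, LinearMap.comp_apply, assoc_rTensor_rTensor',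
      ← lTensor_rTensor_comm']
    have := LinearMap.congr_fun (HopfRep.Comod.coassoc (k := k) (A := C) (V := V)) v
    simp only [LinearMap.comp_apply, LinearEquiv.coe_coe] at this
    rw [this]
  counit_comp := by
    apply Submodule.linearMap_qext
    ext v
    simp only [LinearMap.comp_apply, Submodule.mkQ_apply, LinearMap.flip_apply,
      TensorProduct.mk_apply]
    change (CoalgebraStruct.counit (R := k) (A := C)).lTensor (V ⧸ W)
      (quotCoact W hW (W.mkQ v)) = _
    rw [quotCoact_mk, ← lTensor_rTensor_comm']
    have := LinearMap.congr_fun (HopfRep.Comod.counit_comp (k := k) (A := C) (V := V)) v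
    simp only [LinearMap.comp_apply, LinearMap.flip_apply, TensorProduct.mk_apply] at this
    rw [this, LinearMap.rTensor_tmul]
    rfl

theorem isComodHom_mkQ (W : Submodule k V) (hW : IsSubcomod (k := k) (A := C) W) :
    @Hoch.IsComodHom k _ C _ _ _ V _ _ _ (V ⧸ W) _ _ (quotComod W hW) W.mkQ :=
  quotCoact_comp_mkQ W hW

end Quotient

section LocallyFinite

variable {k : Type u} [Field k] {C : Type v} [AddCommGroup C] [Module k C] [Coalgebra k C]
  {V : Type w} [AddCommGroup V] [Module k V] [HopfRep.Comod k C V]

local notation "ρ" => HopfRep.Comod.coact (k := k) (A := C) (V := V)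

open Groth.Agent.Lib.Helper20.CB in
/-- Fundamental theorem of comodules: every element lies in a finitely generated subcomodule. -/
theorem exists_fg_subcomod (v : V) :
    ∃ W : Submodule k V, IsSubcomod (k := k) (A := C) W ∧ W.FG ∧ v ∈ W := by
  classical
  let b := Module.Basis.ofVectorSpace k C
  let S := (TensorProduct.equivFinsuppOfBasisRight b (ρ v)).support
  let W : Submodule k V := Submodule.span k ((S.image (fun l => coef b l (ρ v)) : Finset V) : Set V)
  have hgen : ∀ l ∈ S, coef b l (ρ v) ∈ W := fun l hl =>
    Submodule.subset_span (Finset.mem_coe.mpr (Finset.mem_image_of_mem _ hl))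
  refine ⟨W, ?_, ⟨_, rfl⟩, ?_⟩
  · intro w hw
    induction hw using Submodule.span_induction with
    | mem x hx =>
      obtain ⟨l, hl, rfl⟩ := Finset.mem_image.mp (Finset.mem_coe.mp hx)
      rw [key b l v]
      nth_rewrite 1 [expand b (ρ v)]
      rw [map_sum]
      refine Submodule.sum_mem _ (fun l' hl' => ?_)
      rw [LinearMap.lTensor_tmul]
      exact ⟨(⟨coef b l' (ρ v), hgen l' hl'⟩ : W) ⊗ₜ[k] gmap b l (b l'), by simp⟩
    | zero => rw [map_zero]; exact Submodule.zero_mem _
    | add x y _ _ hx hy => rw [map_add]; exact Submodule.add_mem _ hx hy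
    | smul a x _ hx => rw [map_smul]; exact Submodule.smul_mem _ _ hx
  · have hcounit := LinearMap.congr_fun (HopfRep.Comod.counit_comp (k := k) (A := C) (V := V)) v
    simp only [LinearMap.comp_apply, LinearMap.flip_apply, TensorProduct.mk_apply] at hcounit
    have hv : v = (TensorProduct.rid k V)
        ((CoalgebraStruct.counit (R := k) (A := C)).lTensor V (ρ v)) := by
      rw [hcounit, TensorProduct.rid_tmul, one_smul]
    rw [hv]
    nth_rewrite 1 [expand b (ρ v)]
    rw [map_sum, map_sum]
    refine Submodule.sum_mem _ (fun l hl => ?_)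
    rw [LinearMap.lTensor_tmul, TensorProduct.rid_tmul]
    exact Submodule.smul_mem _ _ (hgen l hl)

end LocallyFinite

section Act

variable {k : Type u} [CommRing k] {A : Type v} [CommRing A] [Bialgebra k A]
  {V : Type w} [AddCommGroup V] [Module k V] [HopfRep.Comod k A V]
  {W : Type w'} [AddCommGroup W] [Module k W] [HopfRep.Comod k A W]

local notation "ρ" => HopfRep.Comod.coact (k := k) (A := A) (V := V)

theorem act_apply (g : A →ₐ[k] k) (v : V) :
    HopfRep.Comod.act k A V g v = TensorProduct.rid k V (LinearMap.lTensor V g.toLinearMap (ρ v)) :=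
  rfl

theorem act_eq_CB (g : A →ₐ[k] k) :
    HopfRep.Comod.act k A V g = Groth.Agent.Lib.Helper20.CB.act (V := V) g.toLinearMap := rfl

/-- The action of a point commutes with comodule homomorphisms. -/
theorem act_comodHom (g : A →ₐ[k] k) (f : V →ₗ[k] W) (hf : Hoch.IsComodHom A f) (v : V) :
    HopfRep.Comod.act k A W g (f v) = f (HopfRep.Comod.act k A V g v) := by
  have h := LinearMap.congr_fun hf v
  simp only [LinearMap.comp_apply] at h
  rw [act_apply, act_apply, h]
  generalize ρ v = t
  induction t using TensorProduct.induction_on with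
  | zero => simp
  | tmul x a => simp
  | add x y hx hy => simp only [map_add, hx, hy]

/-- Points act trivially on fixed vectors. -/
theorem act_of_mem_fixedPts (g : A →ₐ[k] k) (v : V) (hv : v ∈ HopfRep.fixedPts k A V) :
    HopfRep.Comod.act k A V g v = v := by
  have hv' : ρ v = v ⊗ₜ[k] (1 : A) := hv
  rw [act_apply, hv']
  simp

theorem act_one : HopfRep.Comod.act k A V (1 : WithConv (A →ₐ[k] k)).ofConv = LinearMap.id := by
  ext v
  have h := LinearMap.congr_fun (HopfRep.Comod.counit_comp (k := k) (A := A) (V := V)) v
  simp only [LinearMap.comp_apply, LinearMap.flip_apply, TensorProduct.mk_apply] at h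
  rw [act_apply]
  have e : ((1 : WithConv (A →ₐ[k] k)).ofConv).toLinearMap =
      (CoalgebraStruct.counit (R := k) (A := A)) := by
    ext a
    simp [AlgHom.convOne_def]
  rw [e, h]
  simp

theorem act_mul (g h : WithConv (A →ₐ[k] k)) :
    HopfRep.Comod.act k A V (g * h).ofConv =
      HopfRep.Comod.act k A V g.ofConv ∘ₗ HopfRep.Comod.act k A V h.ofConv := by
  ext v
  rw [LinearMap.comp_apply, act_eq_CB, act_eq_CB, act_eq_CB,
    Groth.Agent.Lib.Helper20.CB.act_act]
  rw [Groth.Agent.Lib.Helper20.CB.act_apply]
  congr 2

theorem act_pow (g : WithConv (A →ₐ[k] k)) (n : ℕ) :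
    HopfRep.Comod.act k A V (g ^ n).ofConv = (HopfRep.Comod.act k A V g.ofConv) ^ n := by
  induction n with
  | zero => rw [pow_zero, pow_zero, act_one]; rfl
  | succ n ih => rw [pow_succ, pow_succ, act_mul, ih]; rfl

/-- fixed vectors form a subcomodule -/
theorem isSubcomod_fixedPts :
    HopfRep.IsSubcomod (k := k) (A := A) (HopfRep.fixedPts k A V) := by
  intro v hv
  have hv' : ρ v = v ⊗ₜ[k] (1 : A) := hv
  rw [hv']
  exact ⟨(⟨v, hv⟩ : HopfRep.fixedPts k A V) ⊗ₜ[k] (1 : A), by simp⟩

end Act

section Unipotent

variable {k : Type u} [Field k] {A : Type v} [CommRing A] [Bialgebra k A]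

theorem semiconj_pow {V Q : Type*} [AddCommGroup V] [Module k V] [AddCommGroup Q] [Module k Q]
    (p : V →ₗ[k] Q) (S : Module.End k V) (T : Module.End k Q) (h : ∀ v, p (S v) = T (p v))
    (n : ℕ) (v : V) : p ((S ^ n) v) = (T ^ n) (p v) := by
  induction n generalizing v with
  | zero => simp
  | succ n ih => rw [pow_succ, pow_succ, Module.End.mul_apply, Module.End.mul_apply, ih, h]

/-- On a finite-dimensional comodule of a unipotent group, every point acts unipotently:
`(act g - 1) ^ n = 0` as soon as `finrank V ≤ n`. -/
theorem act_sub_one_pow_eq_zero (hU : HopfRep.IsUnipotent k A) (g : A →ₐ[k] k) (n : ℕ) :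
    ∀ (V : Type v) [AddCommGroup V] [Module k V] [HopfRep.Comod k A V] [Module.Finite k V],
      Module.finrank k V ≤ n → (HopfRep.Comod.act k A V g - 1) ^ n = 0 := by
  induction n with
  | zero =>
    intro V _ _ _ _ h
    have h0 : Module.finrank k V = 0 := Nat.le_zero.mp h
    have : Subsingleton V := Module.finrank_zero_iff.mp h0
    exact Subsingleton.elim _ _
  | succ n ih =>
    intro V _ _ _ _ h
    by_cases hV : Subsingleton V
    · exact Subsingleton.elim _ _
    · rw [not_subsingleton_iff_nontrivial] at hV
      have hF : HopfRep.fixedPts k A V ≠ ⊥ := hU V inferInstance hV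
      have hFsub := isSubcomod_fixedPts (k := k) (A := A) (V := V)
      letI : HopfRep.Comod k A (V ⧸ HopfRep.fixedPts k A V) := quotComod _ hFsub
      have hrank : Module.finrank k (V ⧸ HopfRep.fixedPts k A V) ≤ n := by
        have h1 := Submodule.finrank_quotient_add_finrank (HopfRep.fixedPts k A V)
        have h2 : 0 < Module.finrank k (HopfRep.fixedPts k A V) := by
          rw [Module.finrank_pos_iff]
          exact Submodule.nontrivial_iff_ne_bot.mpr hF
        omega
      have hQ := ih (V ⧸ HopfRep.fixedPts k A V) hrank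
      ext v
      rw [pow_succ', Module.End.mul_apply, LinearMap.zero_apply]
      have hmem : ((HopfRep.Comod.act k A V g - 1) ^ n) v ∈ HopfRep.fixedPts k A V := by
        rw [← Submodule.Quotient.mk_eq_zero, ← Submodule.mkQ_apply]
        rw [semiconj_pow (HopfRep.fixedPts k A V).mkQ (HopfRep.Comod.act k A V g - 1)
          (HopfRep.Comod.act k A (V ⧸ HopfRep.fixedPts k A V) g - 1) _ n v, hQ,
          LinearMap.zero_apply]
        intro x
        rw [LinearMap.sub_apply, LinearMap.sub_apply, map_sub, Module.End.one_apply,
          Module.End.one_apply,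
          act_comodHom g _ (isComodHom_mkQ (HopfRep.fixedPts k A V) hFsub) x]
      rw [LinearMap.sub_apply, Module.End.one_apply, act_of_mem_fixedPts g _ hmem, sub_self]

theorem isNilpotent_act_sub_one (hU : HopfRep.IsUnipotent k A) (g : A →ₐ[k] k)
    (V : Type v) [AddCommGroup V] [Module k V] [HopfRep.Comod k A V] [Module.Finite k V] :
    IsNilpotent (HopfRep.Comod.act k A V g - 1) :=
  ⟨_, act_sub_one_pow_eq_zero hU g _ V le_rfl⟩

end Unipotent

end Groth.Agent.Lib.Helper25.Comod
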