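import Groth.Agent.Lib.Helper25.Comod
import Groth.Agent.S19479

/-!
# Helper library (helper25): comodules over a coalgebra over a field, part 2
morphisms and subcomodules (map/comap), projections, simple subcomodules
-/

set_option autoImplicit false
universe u v w w' w''
open TensorProduct

namespace Groth.Agent.Lib.Helper25.Comod

open HopfRep
open Groth.Agent.Lib.Helper20.CB

section Homs
variable {k : Type u} [Field k] {C : Type v} [AddCommGroup C] [Module k C] [Coalgebra k C]
  {V : Type w} [AddCommGroup V] [Module k V] [HopfRep.Comod k C V]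
  {V' : Type w'} [AddCommGroup V'] [Module k V'] [HopfRep.Comod k C V']
  {V'' : Type w''} [AddCommGroup V''] [Module k V''] [HopfRep.Comod k C V'']

theorem isComodHom_apply {f : V →ₗ[k] V'} (hf : Hoch.IsComodHom C f) (v : V) :
    HopfRep.Comod.coact (k := k) (A := C) (f v) =
      f.rTensor C (HopfRep.Comod.coact (k := k) (A := C) v) :=
  LinearMap.congr_fun hf v

theorem isComodHom_id : Hoch.IsComodHom C (LinearMap.id : V →ₗ[k] V) := by
  unfold Hoch.IsComodHom
  rw [LinearMap.rTensor_id, LinearMap.comp_id, LinearMap.id_comp]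

theorem isComodHom_zero : Hoch.IsComodHom C (0 : V →ₗ[k] V') := by
  unfold Hoch.IsComodHom
  rw [LinearMap.rTensor_zero, LinearMap.comp_zero, LinearMap.zero_comp]

theorem IsComodHom.comp {g : V' →ₗ[k] V''} {f : V →ₗ[k] V'} (hg : Hoch.IsComodHom C g)
    (hf : Hoch.IsComodHom C f) : Hoch.IsComodHom C (g ∘ₗ f) := by
  unfold Hoch.IsComodHom at hf hg ⊢
  rw [← LinearMap.comp_assoc, hg, LinearMap.comp_assoc, hf, ← LinearMap.comp_assoc,
    LinearMap.rTensor_comp]

/-- if `j` is an injective comodule map and `j ∘ g` is a comodule map, so is `g` -/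
theorem isComodHom_of_comp_injective {j : V' →ₗ[k] V''} (hj : Hoch.IsComodHom C j)
    (hinj : Function.Injective j) {g : V →ₗ[k] V'} (hjg : Hoch.IsComodHom C (j ∘ₗ g)) :
    Hoch.IsComodHom C g := by
  apply LinearMap.ext
  intro v
  apply rTensor_injective j hinj C
  have h1 := isComodHom_apply hjg v
  have h2 := isComodHom_apply hj (g v)
  rw [LinearMap.comp_apply, LinearMap.comp_apply, ← h2]
  rw [LinearMap.comp_apply] at h1
  rw [h1, LinearMap.rTensor_comp, LinearMap.comp_apply]

theorem isComodHom_symm (e : V ≃ₗ[k] V') (he : Hoch.IsComodHom C (e : V →ₗ[k] V')) :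
    Hoch.IsComodHom C (e.symm : V' →ₗ[k] V) := by
  apply isComodHom_of_comp_injective he e.injective
  have : (e : V →ₗ[k] V') ∘ₗ (e.symm : V' →ₗ[k] V) = LinearMap.id := by
    ext x; simp
  rw [this]
  exact isComodHom_id

/-- functionals act compatibly with comodule maps -/
theorem act_comodHom' {f : V →ₗ[k] V'} (hf : Hoch.IsComodHom C f) (φ : C →ₗ[k] k) (v : V) :
    act φ (f v) = f (act φ v) := by
  rw [Groth.Agent.Lib.Helper20.CB.act_apply, Groth.Agent.Lib.Helper20.CB.act_apply,
    isComodHom_apply hf]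
  generalize HopfRep.Comod.coact (k := k) (A := C) v = t
  induction t using TensorProduct.induction_on with
  | zero => simp
  | tmul x c => simp
  | add t₁ t₂ h₁ h₂ => simp only [map_add, h₁, h₂]

theorem isSubcomod_map {f : V →ₗ[k] V'} (hf : Hoch.IsComodHom C f) {W : Submodule k V}
    (hW : IsSubcomod (k := k) (A := C) W) : IsSubcomod (k := k) (A := C) (W.map f) := by
  rw [Groth.Agent.S19479.isSubcomod_iff] at hW ⊢
  intro φ
  rintro _ ⟨w, hw, rfl⟩
  rw [Submodule.mem_comap, act_comodHom' hf]
  exact ⟨_, hW φ hw, rfl⟩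

theorem isSubcomod_comap {f : V →ₗ[k] V'} (hf : Hoch.IsComodHom C f) {W : Submodule k V'}
    (hW : IsSubcomod (k := k) (A := C) W) : IsSubcomod (k := k) (A := C) (W.comap f) := by
  rw [Groth.Agent.S19479.isSubcomod_iff] at hW ⊢
  intro φ v hv
  rw [Submodule.mem_comap, Submodule.mem_comap, ← act_comodHom' hf]
  exact hW φ hv

theorem isSubcomod_bot : IsSubcomod (k := k) (A := C) (⊥ : Submodule k V) :=
  (Groth.Agent.S19479.L k C V).bot_mem

theorem isSubcomod_top : IsSubcomod (k := k) (A := C) (⊤ : Submodule k V) :=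
  (Groth.Agent.S19479.L k C V).top_mem

theorem isSubcomod_inf {W₁ W₂ : Submodule k V} (h₁ : IsSubcomod (k := k) (A := C) W₁)
    (h₂ : IsSubcomod (k := k) (A := C) W₂) : IsSubcomod (k := k) (A := C) (W₁ ⊓ W₂) :=
  (Groth.Agent.S19479.L k C V).infClosed' h₁ h₂

theorem isSubcomod_sup {W₁ W₂ : Submodule k V} (h₁ : IsSubcomod (k := k) (A := C) W₁)
    (h₂ : IsSubcomod (k := k) (A := C) W₂) : IsSubcomod (k := k) (A := C) (W₁ ⊔ W₂) :=
  (Groth.Agent.S19479.L k C V).supClosed' h₁ h₂

theorem isSubcomod_iSup {ι : Sort*} {W : ι → Submodule k V}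
    (h : ∀ i, IsSubcomod (k := k) (A := C) (W i)) : IsSubcomod (k := k) (A := C) (⨆ i, W i) := by
  have := (Groth.Agent.S19479.L k C V).sSupClosed' (s := Set.range W) (by
    rintro _ ⟨i, rfl⟩; exact h i)
  rwa [sSup_range] at this

theorem isSubcomod_iInf {ι : Sort*} {W : ι → Submodule k V}
    (h : ∀ i, IsSubcomod (k := k) (A := C) (W i)) : IsSubcomod (k := k) (A := C) (⨅ i, W i) := by
  have := (Groth.Agent.S19479.L k C V).sInfClosed' (s := Set.range W) (by
    rintro _ ⟨i, rfl⟩; exact h i)
  rwa [sInf_range] at this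

theorem isSubcomod_range' {f : V →ₗ[k] V'} (hf : Hoch.IsComodHom C f) :
    IsSubcomod (k := k) (A := C) (LinearMap.range f) := by
  rw [← Submodule.map_top]
  exact isSubcomod_map hf isSubcomod_top

theorem isSubcomod_ker' {f : V →ₗ[k] V'} (hf : Hoch.IsComodHom C f) :
    IsSubcomod (k := k) (A := C) (LinearMap.ker f) := by
  rw [← Submodule.comap_bot]
  exact isSubcomod_comap hf isSubcomod_bot

/-- a linear map which is a comodule map on each of two subcomodules spanning `V` -/
theorem isComodHom_of_sup_eq_top {f : V →ₗ[k] V'} {P Q : Submodule k V} (hPQ : P ⊔ Q = ⊤)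
    (hP : ∀ v ∈ P, HopfRep.Comod.coact (k := k) (A := C) (f v) =
      f.rTensor C (HopfRep.Comod.coact (k := k) (A := C) v))
    (hQ : ∀ v ∈ Q, HopfRep.Comod.coact (k := k) (A := C) (f v) =
      f.rTensor C (HopfRep.Comod.coact (k := k) (A := C) v)) : Hoch.IsComodHom C f := by
  apply LinearMap.ext
  intro v
  have hv : v ∈ P ⊔ Q := hPQ ▸ Submodule.mem_top
  obtain ⟨p, hp, q, hq, rfl⟩ := Submodule.mem_sup.mp hv
  simp only [LinearMap.comp_apply, map_add]
  rw [hP p hp, hQ q hq]

omit [Coalgebra k C] [Comod k C V] [Comod k C V'] in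
/-- `(f ⊗ id)` on the image of `W ⊗ C` is determined by `f` on `W` -/
theorem rTensor_eq_of_eqOn {f g : V →ₗ[k] V'} {W : Submodule k V} (h : ∀ w ∈ W, f w = g w)
    {t : V ⊗[k] C} (ht : t ∈ LinearMap.range (W.subtype.rTensor C)) :
    f.rTensor C t = g.rTensor C t := by
  obtain ⟨s, rfl⟩ := ht
  induction s using TensorProduct.induction_on with
  | zero => simp
  | tmul w c => simp [h w.1 w.2]
  | add s₁ s₂ h₁ h₂ => simp only [map_add, h₁, h₂]

/-- the projection onto `P` along `Q`, for complementary subcomodules, is a comodule map -/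
theorem isComodHom_proj {P Q : Submodule k V} (h : IsCompl P Q)
    (hP : IsSubcomod (k := k) (A := C) P) (hQ : IsSubcomod (k := k) (A := C) Q) :
    Hoch.IsComodHom C (P.projection Q h) := by
  apply isComodHom_of_sup_eq_top h.sup_eq_top
  · intro v hv
    rw [Submodule.projection_apply_of_mem_left h hv]
    have := rTensor_eq_of_eqOn (C := C) (f := P.projection Q h)
      (g := LinearMap.id) (W := P) (fun w hw => by
        rw [Submodule.projection_apply_of_mem_left h hw, LinearMap.id_apply]) (hP v hv)
    rw [this, LinearMap.rTensor_id, LinearMap.id_apply]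
  · intro v hv
    rw [Submodule.projection_apply_of_mem_right h hv, map_zero]
    have := rTensor_eq_of_eqOn (C := C) (f := P.projection Q h)
      (g := 0) (W := Q) (fun w hw => by
        rw [Submodule.projection_apply_of_mem_right h hw, LinearMap.zero_apply]) (hQ v hv)
    rw [this, LinearMap.rTensor_zero, LinearMap.zero_apply]

end Homs

section Simple
variable {k : Type u} [Field k] {C : Type v} [AddCommGroup C] [Module k C] [Coalgebra k C]
  {V : Type w} [AddCommGroup V] [Module k V] [HopfRep.Comod k C V]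

variable (C) in
/-- a simple subcomodule -/
def IsSimpleSub (T : Submodule k V) : Prop :=
  IsSubcomod (k := k) (A := C) T ∧ T ≠ ⊥ ∧
    ∀ W' : Submodule k V, IsSubcomod (k := k) (A := C) W' → W' ≤ T → W' = ⊥ ∨ W' = T

theorem IsSimpleSub.isAtom {T : Submodule k V} (hT : IsSimpleSub C T) :
    IsAtom (⟨T, hT.1⟩ : Groth.Agent.S19479.L k C V) := by
  refine ⟨fun h => hT.2.1 (congrArg Subtype.val h), fun b hb => ?_⟩
  rcases hT.2.2 b.1 b.2 hb.le with h | h
  · exact Subtype.ext h
  · exact absurd (Subtype.ext h) hb.ne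

theorem isSimpleSub_of_isAtom {T : Groth.Agent.S19479.L k C V} (hT : IsAtom T) :
    IsSimpleSub C (T : Submodule k V) := by
  refine ⟨T.2, fun h => hT.1 (Subtype.ext h), fun W' hW' hle => ?_⟩
  have hle' : (⟨W', hW'⟩ : Groth.Agent.S19479.L k C V) ≤ T := hle
  rcases hle'.eq_or_lt with h | h
  · right; exact congrArg Subtype.val h
  · left; exact congrArg Subtype.val (hT.2 _ h)

variable {K : Type w'} [AddCommGroup K] [Module k K] [HopfRep.Comod k C K]

theorem injective_of_isSimpleComod (hK : IsSimpleComod k C K) {g : K →ₗ[k] V}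
    (hg : Hoch.IsComodHom C g) (hg0 : g ≠ 0) : Function.Injective g := by
  rcases hK.2 _ (isSubcomod_ker' hg) with h | h
  · exact LinearMap.ker_eq_bot.mp h
  · exact absurd (LinearMap.ker_eq_top.mp h) hg0

theorem isSimpleSub_range (hK : IsSimpleComod k C K) {g : K →ₗ[k] V}
    (hg : Hoch.IsComodHom C g) (hg0 : g ≠ 0) : IsSimpleSub C (LinearMap.range g) := by
  refine ⟨isSubcomod_range' hg, fun h => hg0 (LinearMap.range_eq_bot.mp h), fun W' hW' hle => ?_⟩
  have hmc : (W'.comap g).map g = W' := Submodule.map_comap_eq_of_le hle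
  rcases hK.2 _ (isSubcomod_comap hg hW') with h | h
  · left
    rw [← hmc, h, Submodule.map_bot]
  · right
    rw [← hmc, h, Submodule.map_top]

/-- every nonzero subcomodule contains a simple subcomodule -/
theorem exists_isSimpleSub_le {N : Submodule k V} (hN : IsSubcomod (k := k) (A := C) N)
    (hN0 : N ≠ ⊥) : ∃ T, T ≤ N ∧ IsSimpleSub C T := by
  obtain ⟨v, hvN, hv0⟩ := (Submodule.ne_bot_iff N).mp hN0
  obtain ⟨U, hU, hUfg, hvU⟩ := exists_fg_subcomod (k := k) (C := C) v
  have : Module.Finite k U := Module.Finite.iff_fg.mpr hUfg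
  let P : ℕ → Prop := fun n => ∃ T : Submodule k V, IsSubcomod (k := k) (A := C) T ∧ T ≠ ⊥ ∧
    T ≤ U ⊓ N ∧ Module.finrank k T = n
  have hex : ∃ n, P n := ⟨_, U ⊓ N, isSubcomod_inf hU hN,
    fun h => hv0 ((Submodule.mem_bot k).mp (h ▸ ⟨hvU, hvN⟩)), le_rfl, rfl⟩
  classical
  obtain ⟨T, hT, hT0, hTle, hTn⟩ := Nat.find_spec hex
  have hTfin : Module.Finite k T :=
    Submodule.finiteDimensional_of_le (hTle.trans inf_le_left)
  refine ⟨T, hTle.trans inf_le_right, hT, hT0, fun W' hW' hle => ?_⟩
  by_cases hW'0 : W' = ⊥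
  · exact Or.inl hW'0
  · right
    have h1 : Nat.find hex ≤ Module.finrank k W' :=
      Nat.find_min' hex ⟨W', hW', hW'0, hle.trans hTle, rfl⟩
    have h2 : Module.finrank k W' ≤ Module.finrank k T := Submodule.finrank_mono hle
    exact Submodule.eq_of_le_of_finrank_eq hle (le_antisymm h2 (hTn ▸ h1))

/-- two injective comodule maps with the same range differ by a comodule isomorphism -/
theorem exists_equiv_of_range_eq {S : Type w''} [AddCommGroup S] [Module k S]
    [HopfRep.Comod k C S] {f : S →ₗ[k] V} {u : K →ₗ[k] V} (hf : Hoch.IsComodHom C f)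
    (hu : Hoch.IsComodHom C u) (hfi : Function.Injective f) (hui : Function.Injective u)
    (hr : LinearMap.range f = LinearMap.range u) :
    ∃ e : S ≃ₗ[k] K, Hoch.IsComodHom C (e : S →ₗ[k] K) := by
  let e : S ≃ₗ[k] K := (LinearEquiv.ofInjective f hfi).trans
    ((LinearEquiv.ofEq _ _ hr).trans (LinearEquiv.ofInjective u hui).symm)
  refine ⟨e, ?_⟩
  apply isComodHom_of_comp_injective hu hui
  have : u ∘ₗ (e : S →ₗ[k] K) = f := by
    ext s
    simp only [LinearMap.comp_apply, LinearEquiv.coe_coe, e, LinearEquiv.trans_apply]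
    have := LinearEquiv.apply_symm_apply (LinearEquiv.ofInjective u hui)
      ((LinearEquiv.ofEq _ _ hr) ((LinearEquiv.ofInjective f hfi) s))
    have h2 := congrArg Subtype.val this
    rw [LinearEquiv.ofInjective_apply] at h2
    rw [h2]
    rfl
  rw [this]
  exact hf

end Simple

section Isotypic
variable {k : Type u} [Field k] {C : Type v} [AddCommGroup C] [Module k C] [Coalgebra k C]
  {V : Type w} [AddCommGroup V] [Module k V] [HopfRep.Comod k C V]

/-- a comodule which is a sum of images of simple comodules is semisimple (lattice form) -/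
theorem complementedLattice_of_iSup_range_eq_top {ι : Sort*} {K : ι → Type w'}
    [∀ i, AddCommGroup (K i)] [∀ i, Module k (K i)] [∀ i, HopfRep.Comod k C (K i)]
    (hK : ∀ i, IsSimpleComod k C (K i)) (g : ∀ i, K i →ₗ[k] V) (hg : ∀ i, Hoch.IsComodHom C (g i))
    (hsup : (⨆ i, LinearMap.range (g i)) = ⊤) :
    ComplementedLattice (Groth.Agent.S19479.L k C V) := by
  apply complementedLattice_of_sSup_atoms_eq_top
  rw [eq_top_iff]
  have : (⊤ : Groth.Agent.S19479.L k C V) =
      ⨆ i, (⟨LinearMap.range (g i), isSubcomod_range' (hg i)⟩ : Groth.Agent.S19479.L k C V) := by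
    apply Subtype.ext
    rw [CompleteSublattice.coe_iSup, CompleteSublattice.coe_top, ← hsup]
  rw [this]
  refine iSup_le (fun i => ?_)
  by_cases h0 : g i = 0
  · have : (⟨LinearMap.range (g i), isSubcomod_range' (hg i)⟩ : Groth.Agent.S19479.L k C V) = ⊥ := by
      apply Subtype.ext
      rw [CompleteSublattice.coe_bot]
      exact LinearMap.range_eq_bot.mpr h0
    rw [this]
    exact bot_le
  · exact le_sSup (isSimpleSub_range (hK i) (hg i) h0).isAtom

/-- Key lemma: a simple subcomodule contained in a sum of images of simple comodules is the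
isomorphic image of one of them. -/
theorem exists_injective_hom_range_eq {ι : Sort*} {K : ι → Type w'}
    [∀ i, AddCommGroup (K i)] [∀ i, Module k (K i)] [∀ i, HopfRep.Comod k C (K i)]
    (hK : ∀ i, IsSimpleComod k C (K i)) (g : ∀ i, K i →ₗ[k] V) (hg : ∀ i, Hoch.IsComodHom C (g i))
    {T : Submodule k V} (hT : IsSimpleSub C T) (hle : T ≤ ⨆ i, LinearMap.range (g i)) :
    ∃ (i : ι) (u : K i →ₗ[k] V), Hoch.IsComodHom C u ∧ Function.Injective u ∧
      LinearMap.range u = T := by
  set W : Submodule k V := ⨆ i, LinearMap.range (g i) with hWdef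
  have hW : IsSubcomod (k := k) (A := C) W := isSubcomod_iSup (fun i => isSubcomod_range' (hg i))
  let _ : HopfRep.Comod k C W := subComod W hW
  have hsub : Hoch.IsComodHom C W.subtype := isComodHom_subtype W hW
  -- corestrictions
  let g' : ∀ i, K i →ₗ[k] W := fun i =>
    LinearMap.codRestrict W (g i) (fun x => (le_iSup (fun i => LinearMap.range (g i)) i)
      (LinearMap.mem_range_self _ x))
  have hg'sub : ∀ i, W.subtype ∘ₗ g' i = g i := fun i => LinearMap.subtype_comp_codRestrict _ _ _
  have hg' : ∀ i, Hoch.IsComodHom C (g' i) := fun i =>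
    isComodHom_of_comp_injective hsub W.injective_subtype (by rw [hg'sub]; exact hg i)
  have hsup' : (⨆ i, LinearMap.range (g' i)) = ⊤ := by
    apply Submodule.map_injective_of_injective W.injective_subtype
    rw [Submodule.map_iSup, Submodule.map_top, Submodule.range_subtype]
    simp_rw [← LinearMap.range_comp, hg'sub]
    rfl
  have hcl := complementedLattice_of_iSup_range_eq_top hK g' hg' hsup'
  -- T' = T inside W
  let T' : Submodule k W := T.comap W.subtype
  have hT' : IsSubcomod (k := k) (A := C) T' := isSubcomod_comap hsub hT.1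
  have hmapT' : T'.map W.subtype = T := by
    rw [Submodule.map_comap_eq_of_le]
    rw [Submodule.range_subtype]
    exact hle
  have hT'atom : IsAtom (⟨T', hT'⟩ : Groth.Agent.S19479.L k C W) := by
    refine ⟨fun h => ?_, fun b hb => ?_⟩
    · apply hT.2.1
      rw [← hmapT', show T' = ⊥ from congrArg Subtype.val h, Submodule.map_bot]
    · have hb' : b.1.map W.subtype ≤ T := by
        rw [← hmapT']; exact Submodule.map_mono hb.le
      rcases hT.2.2 _ (isSubcomod_map hsub b.2) hb' with h | h
      · apply Subtype.ext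
        rw [CompleteSublattice.coe_bot]
        apply Submodule.map_injective_of_injective W.injective_subtype
        rw [h, Submodule.map_bot]
      · exfalso
        apply hb.ne
        apply Subtype.ext
        apply Submodule.map_injective_of_injective W.injective_subtype
        rw [h, hmapT']
  obtain ⟨⟨T'', hT''⟩, hcompl⟩ := hcl.exists_isCompl ⟨T', hT'⟩
  have hcoatom : IsCoatom (⟨T'', hT''⟩ : Groth.Agent.S19479.L k C W) :=
    hcompl.isAtom_iff_isCoatom.mp hT'atom
  have hc : IsCompl T' T'' := CompleteSublattice.isCompl_iff.mp hcompl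
  -- some range g' i is not inside T''
  have hex : ∃ i, ¬ LinearMap.range (g' i) ≤ T'' := by
    by_contra hall
    push Not at hall
    have : (⊤ : Submodule k W) ≤ T'' := hsup' ▸ iSup_le hall
    apply hcoatom.1
    apply Subtype.ext
    rw [CompleteSublattice.coe_top]
    exact top_le_iff.mp this
  obtain ⟨i, hi⟩ := hex
  have hg'0 : g' i ≠ 0 := by
    intro h
    apply hi
    rw [h, LinearMap.range_zero]
    exact bot_le
  have hg'inj : Function.Injective (g' i) := injective_of_isSimpleComod (hK i) (hg' i) hg'0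
  have hRatom := (isSimpleSub_range (hK i) (hg' i) hg'0)
  have hdisj : LinearMap.range (g' i) ⊓ T'' = ⊥ := by
    rcases hRatom.2.2 _ (isSubcomod_inf hRatom.1 hT'') inf_le_left with h | h
    · exact h
    · exact absurd (h ▸ inf_le_right) hi
  have hsupR : T'' ⊔ LinearMap.range (g' i) = ⊤ := by
    have hlt : (⟨T'', hT''⟩ : Groth.Agent.S19479.L k C W) <
        ⟨T'', hT''⟩ ⊔ ⟨LinearMap.range (g' i), hRatom.1⟩ := by
      apply lt_of_le_of_ne le_sup_left
      intro h
      apply hi
      have : (⟨LinearMap.range (g' i), hRatom.1⟩ : Groth.Agent.S19479.L k C W) ≤ ⟨T'', hT''⟩ := by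
        rw [h]; exact le_sup_right
      exact this
    have := hcoatom.2 _ hlt
    exact congrArg Subtype.val this
  let π : W →ₗ[k] W := T'.projection T'' hc
  have hπ : Hoch.IsComodHom C π := isComodHom_proj hc hT' hT''
  refine ⟨i, W.subtype ∘ₗ π ∘ₗ g' i, IsComodHom.comp hsub (IsComodHom.comp hπ (hg' i)), ?_, ?_⟩
  · intro x y hxy
    apply hg'inj
    have h1 : π (g' i x - g' i y) = 0 := by
      rw [map_sub, sub_eq_zero]
      exact W.injective_subtype hxy
    have h2 : g' i x - g' i y ∈ LinearMap.range (g' i) ⊓ T'' :=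
      ⟨⟨x - y, by rw [map_sub]⟩, (Submodule.projection_apply_eq_zero_iff hc).mp h1⟩
    rw [hdisj, Submodule.mem_bot] at h2
    exact sub_eq_zero.mp h2
  · rw [LinearMap.range_comp, LinearMap.range_comp]
    have : (LinearMap.range (g' i)).map π = T' := by
      apply le_antisymm
      · rintro _ ⟨x, -, rfl⟩
        exact Submodule.projection_apply_mem hc x
      · intro t ht
        have htop : t ∈ T'' ⊔ LinearMap.range (g' i) := hsupR ▸ Submodule.mem_top
        obtain ⟨q, hq, r, hr, rfl⟩ := Submodule.mem_sup.mp htop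
        refine ⟨r, hr, ?_⟩
        have h1 : π (q + r) = q + r := Submodule.projection_apply_of_mem_left hc ht
        have h2 : π q = 0 := Submodule.projection_apply_of_mem_right hc hq
        rw [map_add, h2, zero_add] at h1
        exact h1
    rw [this, hmapT']

end Isotypic

end Groth.Agent.Lib.Helper25.Comod
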