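import Groth.Agent.Lib.Helper25.HopfInt
import Groth.Prelude.Def_ComodTens

/-! Stabilizers of tensor products of subspaces: linear algebra over a base algebra `R`. -/

set_option autoImplicit false
universe u v v' w

open TensorProduct

namespace Groth.Agent.Lib.Helper25.TensorStab

section Lin
variable {k : Type u} [CommRing k] {R : Type w} [CommRing R] [Algebra k R]
  {V : Type v} [AddCommGroup V] [Module k V] {V' : Type v'} [AddCommGroup V'] [Module k V']

variable (k R V V') in
/-- `(v ⊗ r) ⊗ (v' ⊗ r') ↦ (v ⊗ v') ⊗ r r'` -/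
noncomputable def MR : (V ⊗[k] R) ⊗[k] (V' ⊗[k] R) →ₗ[k] (V ⊗[k] V') ⊗[k] R :=
  TensorProduct.map LinearMap.id (LinearMap.mul' k R) ∘ₗ
    (AlgebraTensorModule.tensorTensorTensorComm k k k k V R V' R).toLinearMap

@[simp] theorem MR_tmul (v : V) (r : R) (v' : V') (r' : R) :
    MR k R V V' ((v ⊗ₜ[k] r) ⊗ₜ[k] (v' ⊗ₜ[k] r')) = (v ⊗ₜ[k] v') ⊗ₜ[k] (r * r') := by
  simp [MR]

variable (k V) in
/-- right multiplication by `r₀` on the `R`-factor -/
noncomputable def rmul (r₀ : R) : V ⊗[k] R →ₗ[k] V ⊗[k] R :=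
  LinearMap.lTensor V (LinearMap.mulRight k r₀)

@[simp] theorem rmul_tmul (r₀ : R) (v : V) (r : R) :
    rmul k V r₀ (v ⊗ₜ[k] r) = v ⊗ₜ[k] (r * r₀) := by
  simp [rmul]

theorem rmul_one (y : V ⊗[k] R) : rmul k V (1 : R) y = y := by
  induction y using TensorProduct.induction_on with
  | zero => simp
  | tmul v r => simp
  | add y₁ y₂ h₁ h₂ => rw [map_add, h₁, h₂]

/-- extraction of the first factor along a functional on the second -/
noncomputable def Lam1 (lam : V' ⊗[k] R →ₗ[k] R) : (V ⊗[k] V') ⊗[k] R →ₗ[k] V ⊗[k] R :=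
  LinearMap.lTensor V lam ∘ₗ (TensorProduct.assoc k V V' R).toLinearMap

/-- extraction of the second factor along a functional on the first -/
noncomputable def Lam2 (lam : V ⊗[k] R →ₗ[k] R) : (V ⊗[k] V') ⊗[k] R →ₗ[k] V' ⊗[k] R :=
  LinearMap.lTensor V' lam ∘ₗ (TensorProduct.assoc k V' V R).toLinearMap ∘ₗ
    LinearMap.rTensor R (TensorProduct.comm k V V').toLinearMap

theorem Lam1_MR (lam : V' ⊗[k] R →ₗ[k] R)
    (hlam : ∀ (r₀ : R) (y' : V' ⊗[k] R), lam (rmul k V' r₀ y') = lam y' * r₀)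
    (y : V ⊗[k] R) (y' : V' ⊗[k] R) :
    Lam1 lam (MR k R V V' (y ⊗ₜ[k] y')) = rmul k V (lam y') y := by
  induction y using TensorProduct.induction_on with
  | zero => simp
  | tmul v r =>
    induction y' using TensorProduct.induction_on with
    | zero => simp
    | tmul v' r' =>
      have h1 : lam (v' ⊗ₜ[k] (r * r')) = lam (v' ⊗ₜ[k] r') * r := by
        rw [mul_comm r r', ← hlam, rmul_tmul]
      simp [Lam1, h1, mul_comm]
    | add y₁ y₂ h₁ h₂ =>
      rw [TensorProduct.tmul_add, map_add, map_add, h₁, h₂, map_add]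
      simp only [rmul_tmul]
      rw [← TensorProduct.tmul_add, mul_add]
  | add y₁ y₂ h₁ h₂ => rw [TensorProduct.add_tmul, map_add, map_add, h₁, h₂, map_add]

theorem Lam2_MR (lam : V ⊗[k] R →ₗ[k] R)
    (hlam : ∀ (r₀ : R) (y : V ⊗[k] R), lam (rmul k V r₀ y) = lam y * r₀)
    (y : V ⊗[k] R) (y' : V' ⊗[k] R) :
    Lam2 (V' := V') lam (MR k R V V' (y ⊗ₜ[k] y')) = rmul k V' (lam y) y' := by
  induction y' using TensorProduct.induction_on with
  | zero => simp
  | tmul v' r' =>
    induction y using TensorProduct.induction_on with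
    | zero => simp
    | tmul v r =>
      have h1 : lam (v ⊗ₜ[k] (r * r')) = r' * lam (v ⊗ₜ[k] r) := by
        rw [mul_comm r' (lam _), ← hlam, rmul_tmul]
      simp [Lam2, h1]
    | add y₁ y₂ h₁ h₂ =>
      rw [TensorProduct.add_tmul, map_add, map_add, h₁, h₂, map_add]
      simp only [rmul_tmul]
      rw [← TensorProduct.tmul_add, mul_add]
  | add y₁ y₂ h₁ h₂ => rw [TensorProduct.tmul_add, map_add, map_add, h₁, h₂, map_add]

theorem Lam1_mem_range (W : Submodule k V) (W' : Submodule k V') (lam : V' ⊗[k] R →ₗ[k] R)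
    (x : (V ⊗[k] V') ⊗[k] R)
    (hx : x ∈ LinearMap.range ((LinearMap.range (TensorProduct.mapIncl W W')).subtype.rTensor R)) :
    Lam1 lam x ∈ LinearMap.range (W.subtype.rTensor R) := by
  have key : ∀ (u : W ⊗[k] W') (r : R),
      Lam1 lam ((TensorProduct.mapIncl W W' u) ⊗ₜ[k] r) ∈ LinearMap.range (W.subtype.rTensor R) := by
    intro u r
    induction u using TensorProduct.induction_on with
    | zero => simp
    | tmul w w' =>
      refine ⟨w ⊗ₜ[k] lam ((w' : V') ⊗ₜ[k] r), ?_⟩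
      simp [Lam1, TensorProduct.mapIncl]
    | add u₁ u₂ h₁ h₂ =>
      rw [map_add, TensorProduct.add_tmul, map_add]
      exact Submodule.add_mem _ h₁ h₂
  obtain ⟨z, rfl⟩ := hx
  induction z using TensorProduct.induction_on with
  | zero => simp
  | tmul y r =>
    obtain ⟨u, hu⟩ := y.2
    rw [LinearMap.rTensor_tmul, Submodule.subtype_apply, ← hu]
    exact key u r
  | add z₁ z₂ h₁ h₂ =>
    rw [map_add, map_add]
    exact Submodule.add_mem _ h₁ h₂

theorem Lam2_mem_range (W : Submodule k V) (W' : Submodule k V') (lam : V ⊗[k] R →ₗ[k] R)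
    (x : (V ⊗[k] V') ⊗[k] R)
    (hx : x ∈ LinearMap.range ((LinearMap.range (TensorProduct.mapIncl W W')).subtype.rTensor R)) :
    Lam2 (V' := V') lam x ∈ LinearMap.range (W'.subtype.rTensor R) := by
  have key : ∀ (u : W ⊗[k] W') (r : R),
      Lam2 (V' := V') lam ((TensorProduct.mapIncl W W' u) ⊗ₜ[k] r) ∈
        LinearMap.range (W'.subtype.rTensor R) := by
    intro u r
    induction u using TensorProduct.induction_on with
    | zero => simp
    | tmul w w' =>
      refine ⟨w' ⊗ₜ[k] lam ((w : V) ⊗ₜ[k] r), ?_⟩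
      simp [Lam2, TensorProduct.mapIncl]
    | add u₁ u₂ h₁ h₂ =>
      rw [map_add, TensorProduct.add_tmul, map_add]
      exact Submodule.add_mem _ h₁ h₂
  obtain ⟨z, rfl⟩ := hx
  induction z using TensorProduct.induction_on with
  | zero => simp
  | tmul y r =>
    obtain ⟨u, hu⟩ := y.2
    rw [LinearMap.rTensor_tmul, Submodule.subtype_apply, ← hu]
    exact key u r
  | add z₁ z₂ h₁ h₂ =>
    rw [map_add, map_add]
    exact Submodule.add_mem _ h₁ h₂

theorem MR_natural {V₁ : Type*} [AddCommGroup V₁] [Module k V₁] {V₁' : Type*} [AddCommGroup V₁']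
    [Module k V₁'] (f : V₁ →ₗ[k] V) (f' : V₁' →ₗ[k] V') :
    MR k R V V' ∘ₗ TensorProduct.map (f.rTensor R) (f'.rTensor R) =
      (TensorProduct.map f f').rTensor R ∘ₗ MR k R V₁ V₁' := by
  apply TensorProduct.ext_fourfold'
  intro a b c d
  simp

theorem MR_mem_range (W : Submodule k V) (W' : Submodule k V') {y : V ⊗[k] R} {y' : V' ⊗[k] R}
    (hy : y ∈ LinearMap.range (W.subtype.rTensor R))
    (hy' : y' ∈ LinearMap.range (W'.subtype.rTensor R)) :
    MR k R V V' (y ⊗ₜ[k] y') ∈
      LinearMap.range ((LinearMap.range (TensorProduct.mapIncl W W')).subtype.rTensor R) := by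
  obtain ⟨u, rfl⟩ := hy
  obtain ⟨u', rfl⟩ := hy'
  have h1 := LinearMap.congr_fun (MR_natural (R := R) W.subtype W'.subtype) (u ⊗ₜ[k] u')
  simp only [LinearMap.comp_apply, TensorProduct.map_tmul] at h1
  rw [h1]
  have h2 : TensorProduct.map W.subtype W'.subtype =
      (LinearMap.range (TensorProduct.mapIncl W W')).subtype ∘ₗ
        (TensorProduct.mapIncl W W').rangeRestrict := rfl
  rw [h2, LinearMap.rTensor_comp, LinearMap.comp_apply]
  exact ⟨_, rfl⟩

end Lin

section Hopf
variable {k : Type u} [CommRing k] {A : Type v} [CommRing A] [HopfAlgebra k A]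
  {R : Type w} [CommRing R] [Algebra k R]
  {V : Type v'} [AddCommGroup V] [Module k V] [HopfRep.Comod k A V]

local notation "ρ" => HopfRep.Comod.coact (k := k) (A := A) (V := V)

variable (V) in
/-- `v ⊗ r ↦ Σ v₀ ⊗ f(v₁) r` -/
noncomputable def twR (f : A →ₗ[k] R) : V ⊗[k] R →ₗ[k] V ⊗[k] R :=
  (LinearMap.mul' k R ∘ₗ f.rTensor R).lTensor V ∘ₗ (TensorProduct.assoc k V A R).toLinearMap ∘ₗ
    LinearMap.rTensor R ρ

theorem twR_tmul (f : A →ₗ[k] R) (v : V) (r : R) :
    twR V f (v ⊗ₜ[k] r) = (LinearMap.mul' k R ∘ₗ f.rTensor R).lTensor V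
      (TensorProduct.assoc k V A R (ρ v ⊗ₜ[k] r)) := by
  simp [twR]

theorem twR_rmul (f : A →ₗ[k] R) (r₀ : R) (y : V ⊗[k] R) :
    twR V f (rmul k V r₀ y) = rmul k V r₀ (twR V f y) := by
  induction y using TensorProduct.induction_on with
  | zero => simp
  | tmul v r =>
    rw [rmul_tmul, twR_tmul, twR_tmul]
    generalize ρ v = z
    induction z using TensorProduct.induction_on with
    | zero => simp
    | tmul x a => simp [mul_assoc]
    | add z₁ z₂ h₁ h₂ => simp only [TensorProduct.add_tmul, map_add, h₁, h₂]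
  | add y₁ y₂ h₁ h₂ => simp only [map_add, h₁, h₂]

theorem twR_comp_lTensor (g : A →ₐ[k] R) (h : A →ₗ[k] A) (z : V ⊗[k] A) :
    twR V (g.toLinearMap ∘ₗ h) (LinearMap.lTensor V g.toLinearMap z) =
      LinearMap.lTensor V g.toLinearMap (HopfInt.twist V h z) := by
  induction z using TensorProduct.induction_on with
  | zero => simp
  | tmul v a =>
    rw [LinearMap.lTensor_tmul, twR_tmul, HopfInt.twist_tmul]
    generalize ρ v = y
    induction y using TensorProduct.induction_on with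
    | zero => simp
    | tmul x b => simp
    | add y₁ y₂ h₁ h₂ => simp only [TensorProduct.add_tmul, map_add, h₁, h₂]
  | add z₁ z₂ h₁ h₂ => simp only [map_add, h₁, h₂]

theorem twR_antipode_apply (g : A →ₐ[k] R) (v : V) :
    twR V (g.toLinearMap ∘ₗ HopfAlgebra.antipode k (A := A))
      (LinearMap.lTensor V g.toLinearMap (ρ v)) = v ⊗ₜ[k] (1 : R) := by
  rw [twR_comp_lTensor]
  have h1 : ρ v = HopfInt.twist V LinearMap.id (v ⊗ₜ[k] (1 : A)) := by
    rw [HopfInt.twist_tmul']
    have : LinearMap.mulRight k (1 : A) ∘ₗ LinearMap.id = LinearMap.id := by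
      ext a; simp
    rw [this, LinearMap.lTensor_id, LinearMap.id_apply]
  rw [h1, ← LinearMap.comp_apply (HopfInt.twist V _), HopfInt.twist_antipode_twist_id,
    LinearMap.id_apply, LinearMap.lTensor_tmul]
  simp

/-- the `R`-linear functional on `V ⊗ R` attached to a functional on `V` and the inverse of a
point `g` -/
noncomputable def lamOf (m : V →ₗ[k] k) (g : A →ₐ[k] R) : V ⊗[k] R →ₗ[k] R :=
  (TensorProduct.lid k R).toLinearMap ∘ₗ LinearMap.rTensor R m ∘ₗ
    twR V (g.toLinearMap ∘ₗ HopfAlgebra.antipode k (A := A))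

theorem lamOf_rmul (m : V →ₗ[k] k) (g : A →ₐ[k] R) (r₀ : R) (y : V ⊗[k] R) :
    lamOf m g (rmul k V r₀ y) = lamOf m g y * r₀ := by
  unfold lamOf
  simp only [LinearMap.comp_apply]
  rw [twR_rmul]
  generalize twR V (g.toLinearMap ∘ₗ HopfAlgebra.antipode k (A := A)) y = z
  induction z using TensorProduct.induction_on with
  | zero => simp
  | tmul x r => simp
  | add z₁ z₂ h₁ h₂ => simp only [map_add, h₁, h₂, add_mul]

theorem lamOf_apply (m : V →ₗ[k] k) (g : A →ₐ[k] R) (v : V) :
    lamOf m g (LinearMap.lTensor V g.toLinearMap (ρ v)) = algebraMap k R (m v) := by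
  unfold lamOf
  simp only [LinearMap.comp_apply]
  rw [twR_antipode_apply]
  simp [Algebra.algebraMap_eq_smul_one]

end Hopf

section Main
variable {k : Type u} [Field k] {A : Type v} [CommRing A] [HopfAlgebra k A]
  {R : Type w} [CommRing R] [Algebra k R]
  {V : Type v'} [AddCommGroup V] [Module k V] {V' : Type*} [AddCommGroup V'] [Module k V']

theorem lTensor_tensor_coact (c : HopfRep.Comod k A V) (c' : HopfRep.Comod k A V')
    (g : A →ₐ[k] R) (v : V) (v' : V') :
    LinearMap.lTensor (V ⊗[k] V') g.toLinearMap ((ComodTens.Comod.tensor c c').coact (v ⊗ₜ[k] v')) =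
      MR k R V V' ((LinearMap.lTensor V g.toLinearMap (c.coact v)) ⊗ₜ[k]
        (LinearMap.lTensor V' g.toLinearMap (c'.coact v'))) := by
  rw [ComodTens.tensor_coact_tmul]
  have key : LinearMap.lTensor (V ⊗[k] V') g.toLinearMap ∘ₗ
      TensorProduct.map LinearMap.id (LinearMap.mul' k A) ∘ₗ
        (AlgebraTensorModule.tensorTensorTensorComm k k k k V A V' A).toLinearMap =
      MR k R V V' ∘ₗ TensorProduct.map (LinearMap.lTensor V g.toLinearMap)
        (LinearMap.lTensor V' g.toLinearMap) := by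
    apply TensorProduct.ext_fourfold'
    intro a b c d
    simp
  have := LinearMap.congr_fun key (c.coact v ⊗ₜ[k] c'.coact v')
  simpa only [LinearMap.comp_apply, LinearEquiv.coe_coe, TensorProduct.map_tmul] using this

theorem exists_dual_eq_one {v : V} (hv : v ≠ 0) : ∃ m : V →ₗ[k] k, m v = 1 := by
  obtain ⟨φ, hφ⟩ : ∃ φ : Module.Dual k V, φ v ≠ 0 := by
    by_contra h
    push Not at h
    exact hv ((Module.forall_dual_apply_eq_zero_iff k v).mp h)
  exact ⟨(φ v)⁻¹ • φ, by simp [hφ]⟩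

theorem main (c : HopfRep.Comod k A V) (c' : HopfRep.Comod k A V')
    (W : Submodule k V) (W' : Submodule k V') (hW : W ≠ ⊥) (hW' : W' ≠ ⊥) (g : A →ₐ[k] R) :
    (∀ x ∈ LinearMap.range (TensorProduct.mapIncl W W'),
      LinearMap.lTensor (V ⊗[k] V') g.toLinearMap ((ComodTens.Comod.tensor c c').coact x) ∈
        LinearMap.range ((LinearMap.range (TensorProduct.mapIncl W W')).subtype.rTensor R)) ↔
      (∀ x ∈ W, LinearMap.lTensor V g.toLinearMap ((c).coact x) ∈
        LinearMap.range ((W).subtype.rTensor R)) ∧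
      (∀ x ∈ W', LinearMap.lTensor V' g.toLinearMap ((c').coact x) ∈
        LinearMap.range ((W').subtype.rTensor R)) := by
  let _ := c
  let _ := c'
  constructor
  · intro H
    constructor
    · intro w hw
      obtain ⟨w', hw', hw'0⟩ := (Submodule.ne_bot_iff _).mp hW'
      obtain ⟨m', hm'⟩ := exists_dual_eq_one (k := k) hw'0
      have hx : w ⊗ₜ[k] w' ∈ LinearMap.range (TensorProduct.mapIncl W W') :=
        ⟨(⟨w, hw⟩ : W) ⊗ₜ[k] (⟨w', hw'⟩ : W'), rfl⟩
      have h1 := H _ hx
      rw [lTensor_tensor_coact] at h1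
      have h2 := Lam1_mem_range W W' (lamOf m' g) _ h1
      rw [Lam1_MR _ (lamOf_rmul m' g), lamOf_apply, hm', map_one, rmul_one] at h2
      exact h2
    · intro w' hw'
      obtain ⟨w, hw, hw0⟩ := (Submodule.ne_bot_iff _).mp hW
      obtain ⟨m, hm⟩ := exists_dual_eq_one (k := k) hw0
      have hx : w ⊗ₜ[k] w' ∈ LinearMap.range (TensorProduct.mapIncl W W') :=
        ⟨(⟨w, hw⟩ : W) ⊗ₜ[k] (⟨w', hw'⟩ : W'), rfl⟩
      have h1 := H _ hx
      rw [lTensor_tensor_coact] at h1
      have h2 := Lam2_mem_range W W' (lamOf m g) _ h1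
      rw [Lam2_MR _ (lamOf_rmul m g), lamOf_apply, hm, map_one, rmul_one] at h2
      exact h2
  · rintro ⟨H1, H2⟩ x ⟨u, rfl⟩
    induction u using TensorProduct.induction_on with
    | zero => simp
    | tmul w w' =>
      have : TensorProduct.mapIncl W W' (w ⊗ₜ[k] w') = (w : V) ⊗ₜ[k] (w' : V') := rfl
      rw [this, lTensor_tensor_coact]
      exact MR_mem_range W W' (H1 _ w.2) (H2 _ w'.2)
    | add u₁ u₂ h₁ h₂ =>
      rw [map_add, map_add, map_add]
      exact Submodule.add_mem _ h₁ h₂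

end Main

end Groth.Agent.Lib.Helper25.TensorStab
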