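import Groth.Agent.Lib.Helper25.WedgeR
import Groth.Agent.Lib.Helper25.TensorStab
import Groth.Agent.Lib.Helper25.Comod2
import Groth.Prelude.Def_SGA3
import Groth.Prelude.Def_Dyn

/-! Chevalley's theorem: a closed subgroup scheme of an affine algebraic group is the stabilizer
of a line in a finite-dimensional representation. -/

set_option autoImplicit false
universe u v v' w
open TensorProduct

namespace Groth.Agent.Lib.Helper25.Chevalley
open Groth.Agent.Lib.Helper25.ExtComod Groth.Agent.Lib.Helper25.Wedge
  Groth.Agent.Lib.Helper25.WedgeR Groth.Agent.Lib.Helper25.TensorStab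

section ClaimB
variable {k : Type u} [Field k] {A : Type v} [CommRing A] [HopfAlgebra k A]
  {W : Type w} [AddCommGroup W] [Module k W] [HopfRep.Comod k A W] (D : Submodule k W)
  {R : Type v'} [CommRing R] [Algebra k R]

local notation "E" => ExteriorAlgebra k W
local notation "ρW" => HopfRep.Comod.coact (k := k) (A := A) (V := W)

/-- the action of the point `g` on the exterior algebra, as an algebra map `E → E ⊗ R` -/
noncomputable def G (g : A →ₐ[k] R) : E →ₐ[k] E ⊗[k] R :=
  (Algebra.TensorProduct.map (AlgHom.id k E) g).comp (coactAlg k A W)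

theorem G_apply (g : A →ₐ[k] R) (e : E) :
    G g e = LinearMap.lTensor E g.toLinearMap (coactAlg k A W e) := by
  unfold G
  rw [AlgHom.comp_apply]
  generalize coactAlg k A W e = z
  induction z using TensorProduct.induction_on with
  | zero => simp
  | tmul x a => simp
  | add z₁ z₂ h₁ h₂ => simp only [map_add, h₁, h₂]

theorem G_ι (g : A →ₐ[k] R) (x : W) :
    G g (ExteriorAlgebra.ι k x) = jB k W R (LinearMap.lTensor W g.toLinearMap (ρW x)) := by
  rw [G_apply, coactAlg_ι]
  generalize ρW x = z
  induction z using TensorProduct.induction_on with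
  | zero => simp
  | tmul x a => simp
  | add z₁ z₂ h₁ h₂ => simp only [map_add, h₁, h₂]

theorem phiR_rmul {V : Type*} [AddCommGroup V] [Module k V] (ψ : Module.Dual k V) (c : R)
    (y : V ⊗[k] R) : phiR ψ (rmul k V c y) = phiR ψ y * c := by
  induction y using TensorProduct.induction_on with
  | zero => simp
  | tmul w r => simp
  | add y₁ y₂ h₁ h₂ => simp only [map_add, h₁, h₂, add_mul]

theorem isUnit_of_G_eq (g : A →ₐ[k] R) {v : E} (hv0 : v ≠ 0) {c : R}
    (h : G g v = v ⊗ₜ[k] c) : IsUnit c := by
  let _ := extComod k A W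
  have h1 := twR_antipode_apply (V := E) g v
  have h2 : LinearMap.lTensor E g.toLinearMap
      (HopfRep.Comod.coact (k := k) (A := A) (V := E) v) = rmul k E c (v ⊗ₜ[k] (1 : R)) := by
    rw [rmul_tmul, one_mul, ← h, G_apply]
    rfl
  rw [h2, twR_rmul] at h1
  obtain ⟨ψ, hψ⟩ : ∃ ψ : Module.Dual k E, ψ v ≠ 0 := by
    by_contra hne
    push Not at hne
    exact hv0 ((Module.forall_dual_apply_eq_zero_iff k v).mp hne)
  have h3 := congrArg (phiR (W := E) ψ) h1
  rw [phiR_rmul, phiR_tmul] at h3
  have hu : IsUnit (ψ v • (1 : R)) := by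
    rw [← Algebra.algebraMap_eq_smul_one]
    exact (IsUnit.mk0 _ hψ).map (algebraMap k R)
  rw [← h3] at hu
  exact isUnit_of_mul_isUnit_right hu

theorem stab_iff (g : A →ₐ[k] R) {d : ℕ} {v : E} (hv : v ∈ Q D d) (hv0 : v ≠ 0)
    (hspan : Q D d ≤ Submodule.span k {v}) (hsucc : Q D (d + 1) = ⊥) :
    (∀ x ∈ D, LinearMap.lTensor W g.toLinearMap (ρW x) ∈ DR D R) ↔
      ∃ c : R, LinearMap.lTensor E g.toLinearMap ((extComod k A W).coact v) = v ⊗ₜ[k] c := by
  constructor
  · intro h
    obtain ⟨c, hc⟩ := exists_smul_of_stab D R (G g)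
      (fun x hx => ⟨_, h x hx, G_ι g x⟩) hv hspan
    exact ⟨c, by rw [← hc, G_apply]; rfl⟩
  · rintro ⟨c, hc⟩ x hx
    have hc' : G g v = v ⊗ₜ[k] c := by rw [G_apply]; exact hc
    have hunit := isUnit_of_G_eq g hv0 hc'
    apply mem_DR_of_mul_eq_zero D hv hv0 hunit
    have h0 : ExteriorAlgebra.ι k x * v = 0 := by
      have := ι_mul_mem_Q D hx hv
      rw [hsucc] at this
      exact (Submodule.mem_bot k).mp this
    have := congrArg (G g) h0
    rwa [map_mul, map_zero, G_ι, hc'] at this

end ClaimB

section ClaimA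
variable {k : Type u} [Field k] {A : Type v} [CommRing A] [HopfAlgebra k A]
  (I : Ideal A) [hI : (I.restrictScalars k).IsCoideal]
  (W' : Submodule k A) (hW' : HopfRep.IsSubcomod (k := k) (A := A) W')
  {R : Type v'} [CommRing R] [Algebra k R]

/-- the part of the subcomodule `W'` lying in the ideal `I` -/
def DI : Submodule k W' := Submodule.comap W'.subtype (I.restrictScalars k)

omit hI in
theorem mem_DI (x : W') : x ∈ DI I W' ↔ (x : A) ∈ I := Iff.rfl

include hW' in
theorem stab_of_kills (g : A →ₐ[k] R) (hg : ∀ a ∈ I, g a = 0) (x : W') (hx : x ∈ DI I W') :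
    LinearMap.lTensor W' g.toLinearMap ((Comod.subComod W' hW').coact x) ∈ DR (DI I W') R := by
  set I' := I.restrictScalars k with hI'
  let q : W' →ₗ[k] A ⧸ I' := I'.mkQ ∘ₗ W'.subtype
  have hex : Function.Exact (DI I W').subtype q := by
    have : DI I W' = LinearMap.ker q := by
      ext y
      simp only [q, LinearMap.mem_ker, LinearMap.comp_apply, Submodule.mkQ_apply,
        Submodule.Quotient.mk_eq_zero]
      rfl
    rw [this]
    exact LinearMap.exact_subtype_ker_map q
  have hexR : Function.Exact ((DI I W').subtype.rTensor R) (q.rTensor R) :=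
    Module.Flat.rTensor_exact (R := k) R (N := DI I W') (N' := W') (N'' := A ⧸ I') hex
  unfold DR
  rw [← LinearMap.exact_iff.mp hexR, LinearMap.mem_ker]
  -- compute
  let gbar : A ⧸ I' →ₗ[k] R := I'.liftQ g.toLinearMap (fun a ha => by
    rw [LinearMap.mem_ker]; exact hg a ha)
  have hgbar : gbar ∘ₗ I'.mkQ = g.toLinearMap := Submodule.liftQ_mkQ _ _ _
  have h1 : q.rTensor R (LinearMap.lTensor W' g.toLinearMap ((Comod.subComod W' hW').coact x)) =
      LinearMap.lTensor (A ⧸ I') gbar
        (TensorProduct.map I'.mkQ I'.mkQ (CoalgebraStruct.comul (R := k) (x : A))) := by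
    have hsc : W'.subtype.rTensor A ((Comod.subComod W' hW').coact x) =
        CoalgebraStruct.comul (R := k) (x : A) := Comod.subComod_coact W' hW' x
    rw [← hsc]
    generalize (Comod.subComod W' hW').coact x = z
    induction z using TensorProduct.induction_on with
    | zero => simp
    | tmul y a =>
      simp only [LinearMap.lTensor_tmul, LinearMap.rTensor_tmul, TensorProduct.map_tmul,
        AlgHom.toLinearMap_apply, q, LinearMap.comp_apply, Submodule.subtype_apply]
      congr 1
    | add z₁ z₂ h₁ h₂ => simp only [map_add, h₁, h₂]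
  rw [h1, hI.map_mkQ_comul_eq_zero (show (x : A) ∈ I' from hx), map_zero]

include hW' in
theorem kills_of_stab (g : A →ₐ[k] R)
    (h : ∀ x ∈ DI I W', LinearMap.lTensor W' g.toLinearMap ((Comod.subComod W' hW').coact x) ∈
      DR (DI I W') R) (a : A) (haW : a ∈ W') (haI : a ∈ I) : g a = 0 := by
  obtain ⟨z', hz'⟩ := h ⟨a, haW⟩ haI
  -- g a = (ε ⊗ id) ((id ⊗ g) Δ a)
  have h1 : g a = (TensorProduct.lid k R) ((CoalgebraStruct.counit (R := k) (A := A)).rTensor R
      (LinearMap.lTensor A g.toLinearMap (CoalgebraStruct.comul (R := k) a))) := by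
    have h2 : (CoalgebraStruct.counit (R := k) (A := A)).rTensor R
        (LinearMap.lTensor A g.toLinearMap (CoalgebraStruct.comul (R := k) a)) =
        LinearMap.lTensor k g.toLinearMap ((CoalgebraStruct.counit (R := k) (A := A)).rTensor A
          (CoalgebraStruct.comul (R := k) a)) := by
      generalize CoalgebraStruct.comul (R := k) a = z
      induction z using TensorProduct.induction_on with
      | zero => simp
      | tmul y b => simp
      | add z₁ z₂ h₁ h₂ => simp only [map_add, h₁, h₂]
    rw [h2, Coalgebra.rTensor_counit_comul]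
    simp
  have h3 : LinearMap.lTensor A g.toLinearMap (CoalgebraStruct.comul (R := k) a) =
      (W'.subtype ∘ₗ (DI I W').subtype).rTensor R z' := by
    rw [LinearMap.rTensor_comp, LinearMap.comp_apply, hz']
    have this : W'.subtype.rTensor A ((Comod.subComod W' hW').coact ⟨a, haW⟩) =
        CoalgebraStruct.comul (R := k) a := Comod.subComod_coact W' hW' ⟨a, haW⟩
    rw [← this]
    generalize (Comod.subComod W' hW').coact ⟨a, haW⟩ = z
    induction z using TensorProduct.induction_on with
    | zero => simp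
    | tmul y b => simp
    | add z₁ z₂ h₁ h₂ => simp only [map_add, h₁, h₂]
  rw [h1, h3, ← LinearMap.comp_apply, ← LinearMap.rTensor_comp]
  have h4 : CoalgebraStruct.counit (R := k) (A := A) ∘ₗ W'.subtype ∘ₗ (DI I W').subtype = 0 := by
    ext y
    exact hI.counit_eq_zero (show ((y : W') : A) ∈ I.restrictScalars k from y.2)
  rw [h4, LinearMap.rTensor_zero, LinearMap.zero_apply, map_zero]

end ClaimA

section Main
variable (k A : Type u) [Field k] [CommRing A] [HopfAlgebra k A]

theorem exists_subcomod_finset (S : Finset A) :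
    ∃ W' : Submodule k A, HopfRep.IsSubcomod (k := k) (A := A) W' ∧ W'.FG ∧ (S : Set A) ⊆ W' := by
  classical
  induction S using Finset.induction_on with
  | empty => exact ⟨⊥, Comod.isSubcomod_bot, Submodule.fg_bot, by simp⟩
  | insert a S ha ih =>
    obtain ⟨W₁, h₁, hfg₁, hS⟩ := ih
    obtain ⟨W₂, h₂, hfg₂, ha₂⟩ := Comod.exists_fg_subcomod (k := k) (C := A) (V := A) a
    refine ⟨W₁ ⊔ W₂, Comod.isSubcomod_sup h₁ h₂, hfg₁.sup hfg₂, ?_⟩
    intro x hx
    rw [Finset.coe_insert, Set.mem_insert_iff] at hx
    rcases hx with rfl | hx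
    · exact (le_sup_right : W₂ ≤ W₁ ⊔ W₂) ha₂
    · exact (le_sup_left : W₁ ≤ W₁ ⊔ W₂) (hS hx)

variable [Algebra.FiniteType k A]

/-- Chevalley: a closed subgroup scheme (given by an ideal which is a coideal) of an affine algebraic
group is the stabilizer of a line in a finite-dimensional representation. -/
theorem chevalley (I : Ideal A) [hI : (I.restrictScalars k).IsCoideal] :
    ∃ (V : Type u) (_ : AddCommGroup V) (_ : Module k V) (_ : HopfRep.Comod k A V)
      (_ : Module.Finite k V) (v : V),
      v ≠ 0 ∧ Dyn.Represents k A I (fun R _ _ g => SGA3.StabilizesLine k A v R g) := by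
  classical
  have : IsNoetherianRing A := Algebra.FiniteType.isNoetherianRing k A
  obtain ⟨S, hS⟩ : I.FG := IsNoetherian.noetherian I
  obtain ⟨W', hW', hfg, hSW⟩ := exists_subcomod_finset k A S
  have : Module.Finite k W' := Module.Finite.iff_fg.mpr hfg
  let cW : HopfRep.Comod k A W' := Comod.subComod W' hW'
  obtain ⟨v, hv, hv0, hspan⟩ := exists_top (DI I W')
  have hsucc := Q_succ_finrank (DI I W')
  have : Module.Finite k (ExteriorAlgebra k W') :=
    Module.Finite.of_basis (Module.finBasis k W').ExteriorAlgebra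
  refine ⟨ExteriorAlgebra k W', inferInstance, inferInstance, extComod k A W', inferInstance, v,
    hv0, ?_⟩
  intro R _ _ g
  show (∀ a ∈ I, g a = 0) ↔ ∃ c : R, LinearMap.lTensor (ExteriorAlgebra k W') g.toLinearMap
    ((extComod k A W').coact v) = v ⊗ₜ[k] c
  rw [← stab_iff (DI I W') g hv hv0 hspan hsucc]
  constructor
  · intro hg x hx
    exact stab_of_kills I W' hW' g hg x hx
  · intro h a ha
    rw [← hS] at ha
    induction ha using Submodule.span_induction with
    | mem x hx =>
      exact kills_of_stab I W' hW' g h x (hSW hx) (hS ▸ Ideal.subset_span hx)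
    | zero => exact map_zero g
    | add x y _ _ hx hy => rw [map_add, hx, hy, add_zero]
    | smul r x _ hx => rw [smul_eq_mul, map_mul, hx, mul_zero]

end Main

end Groth.Agent.Lib.Helper25.Chevalley
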