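import Groth.Prelude.Def_SGA3b
import Mathlib.RingTheory.Localization.BaseChange
import Mathlib.RingTheory.Flat.FaithfullyFlat.Algebra
import Mathlib.RingTheory.Bialgebra.TensorProduct
import Mathlib.LinearAlgebra.TensorProduct.Quotient
import Mathlib.RingTheory.Bialgebra.MonoidAlgebra

/-! Rigidity of homomorphisms from groups of multiplicative type: reduction to the diagonalizable case. -/

set_option autoImplicit false
universe u v

open TensorProduct

namespace Groth.Agent.Lib.Helper25.MultDesc


section BC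
variable {R : Type u} [CommRing R] (R' : Type u) [CommRing R'] [Algebra R R']
  {A C : Type u} [CommRing A] [CommRing C] [Bialgebra R A] [Bialgebra R C]

/-- base change of a bialgebra hom -/
noncomputable def bc (φ : C →ₐc[R] A) : R' ⊗[R] C →ₐc[R'] R' ⊗[R] A :=
  Bialgebra.TensorProduct.map (BialgHom.id R' R') φ

theorem bc_tmul (φ : C →ₐc[R] A) (r : R') (c : C) : bc R' φ (r ⊗ₜ[R] c) = r ⊗ₜ[R] φ c := rfl

/-- the defect from being trivial -/
noncomputable def dfcL (φ : C →ₐc[R] A) : C →ₗ[R] A :=
  (φ : C →ₐ[R] A).toLinearMap - Algebra.linearMap R A ∘ₗ Coalgebra.counit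

omit [Algebra R R'] in
theorem dfcL_apply (φ : C →ₐc[R] A) (c : C) :
    dfcL φ c = φ c - algebraMap R A (Coalgebra.counit c) := rfl

theorem dfcL_bc (φ : C →ₐc[R] A) (x : R' ⊗[R] C) :
    dfcL (bc R' φ) x = LinearMap.lTensor R' (dfcL φ) x := by
  induction x using TensorProduct.induction_on with
  | zero => simp
  | tmul r c =>
    rw [dfcL_apply, bc_tmul, LinearMap.lTensor_tmul, dfcL_apply, TensorProduct.tmul_sub,
      TensorProduct.counit_tmul, Algebra.TensorProduct.algebraMap_apply,
      CommSemiring.counit_apply, Algebra.algebraMap_eq_smul_one (Coalgebra.counit c),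
      ← TensorProduct.smul_tmul, Algebra.algebraMap_self, RingHom.id_apply]
  | add x y hx hy => rw [map_add, map_add, hx, hy]

end BC



section Mem
variable {R : Type u} [CommRing R] (R' : Type u) [CommRing R'] [Algebra R R']
  {N : Type u} [AddCommGroup N] [Module R N]

theorem tmul_mem_smul_top (I : Ideal R) (r : R') {d : N} (hd : d ∈ (I • ⊤ : Submodule R N)) :
    r ⊗ₜ[R] d ∈ ((I.map (algebraMap R R')) • ⊤ : Submodule R' (R' ⊗[R] N)) := by
  refine Submodule.smul_induction_on hd ?_ ?_
  · intro i hi a _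
    have : r ⊗ₜ[R] (i • a) = (algebraMap R R' i) • (r ⊗ₜ[R] a) := by
      rw [TensorProduct.tmul_smul, algebraMap_smul]
    rw [this]
    exact Submodule.smul_mem_smul (Ideal.mem_map_of_mem _ hi) Submodule.mem_top
  · intro x y hx hy
    rw [TensorProduct.tmul_add]
    exact Submodule.add_mem _ hx hy

theorem lTensor_mem_smul_top {N₀ : Type u} [AddCommGroup N₀] [Module R N₀] (I : Ideal R)
    (f : N₀ →ₗ[R] N) (hf : ∀ c, f c ∈ (I • ⊤ : Submodule R N)) (x : R' ⊗[R] N₀) :
    LinearMap.lTensor R' f x ∈ ((I.map (algebraMap R R')) • ⊤ : Submodule R' (R' ⊗[R] N)) := by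
  induction x using TensorProduct.induction_on with
  | zero => rw [map_zero]; exact Submodule.zero_mem _
  | tmul r c =>
    rw [LinearMap.lTensor_tmul]
    exact tmul_mem_smul_top R' I r (hf c)
  | add x y hx hy =>
    rw [map_add]
    exact Submodule.add_mem _ hx hy

end Mem

section Cover
variable {R : Type u} [CommRing R] {N : Type u} [AddCommGroup N] [Module R N]

theorem eq_zero_of_cover (s : Set R) (hs : Ideal.span s = ⊤) (d : N)
    (h : ∀ f ∈ s, (1 : Localization.Away f) ⊗ₜ[R] d = 0) : d = 0 := by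
  have hann : ∀ f ∈ s, ∃ n : ℕ, f ^ n • d = 0 := by
    intro f hf
    have h1 := (IsLocalizedModule.eq_zero_iff (Submonoid.powers f)
      (TensorProduct.mk R (Localization.Away f) N 1) (m := d)).mp (h f hf)
    obtain ⟨⟨_, n, rfl⟩, hn⟩ := h1
    exact ⟨n, hn⟩
  choose n hn using hann
  have hmem : ∀ f : s, (f : R) ^ n f f.2 ∈ (Submodule.span R {d}).annihilator := by
    intro f
    rw [Submodule.mem_annihilator_span_singleton]
    exact hn f f.2
  have htop : Ideal.span (Set.range fun f : s => (f : R) ^ n f f.2) = ⊤ := by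
    exact Ideal.span_range_pow_eq_top s hs (fun f => n f f.2)
  have h1 : (1 : R) ∈ (Submodule.span R {d}).annihilator := by
    have hle : Ideal.span (Set.range fun f : s => (f : R) ^ n f f.2) ≤
        (Submodule.span R {d}).annihilator := by
      rw [Ideal.span_le]
      rintro _ ⟨f, rfl⟩
      exact hmem f
    exact hle (htop ▸ Submodule.mem_top)
  rw [Submodule.mem_annihilator_span_singleton, one_smul] at h1
  exact h1

end Cover



section Diag
variable {R : Type u} [CommRing R] {M : Type v} [Monoid M]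

/-- coefficient functional -/
noncomputable def cf (m : M) : MonoidAlgebra R M →ₗ[R] R :=
  Finsupp.lapply m ∘ₗ (MonoidAlgebra.coeffLinearEquiv R).toLinearMap

theorem cf_apply (m : M) (x : MonoidAlgebra R M) : cf m x = x.coeff m := rfl

theorem cf_single [DecidableEq M] (m g : M) (r : R) :
    cf m (MonoidAlgebra.single g r) = if g = m then r else 0 := by
  rw [cf_apply, MonoidAlgebra.coeff_single, Finsupp.single_apply]

theorem cf_cf_comul (m n : M) [Decidable (m = n)] (x : MonoidAlgebra R M) :
    LinearMap.mul' R R (TensorProduct.map (cf m) (cf n) (Coalgebra.comul (R := R) x)) =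
      if m = n then cf m x else 0 := by
  classical
  induction x using MonoidAlgebra.induction_linear with
  | zero => simp
  | add x y hx hy =>
    rw [map_add, map_add, map_add, hx, hy]
    split_ifs
    · rw [map_add]
    · rw [add_zero]
  | single g r =>
    rw [MonoidAlgebra.comul_single, CommSemiring.comul_apply, TensorProduct.map_tmul,
      TensorProduct.map_tmul, LinearMap.mul'_apply, MonoidAlgebra.lsingle_apply,
      MonoidAlgebra.lsingle_apply, cf_single, cf_single, cf_single]
    split_ifs <;> simp_all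

theorem ext_cf {x y : MonoidAlgebra R M} (h : ∀ m, cf m x = cf m y) : x = y := by
  apply (MonoidAlgebra.coeffLinearEquiv R).injective
  ext m
  exact h m

theorem cf_mem_of_mem_smul_top (I : Ideal R) (m : M) {x : MonoidAlgebra R M}
    (hx : x ∈ (I • ⊤ : Submodule R (MonoidAlgebra R M))) : cf m x ∈ I := by
  refine Submodule.smul_induction_on hx ?_ ?_
  · intro i hi a _
    rw [map_smul, smul_eq_mul]
    exact Ideal.mul_mem_right _ _ hi
  · intro x y hx hy
    rw [map_add]
    exact Ideal.add_mem _ hx hy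

end Diag

section Conv
variable {R : Type u} [CommRing R] {C : Type v} [AddCommGroup C] [Module R C]

theorem mul'_map_mem (I J : Ideal R) (f g : C →ₗ[R] R) (hf : ∀ c, f c ∈ I) (hg : ∀ c, g c ∈ J)
    (t : C ⊗[R] C) : LinearMap.mul' R R (TensorProduct.map f g t) ∈ I * J := by
  induction t using TensorProduct.induction_on with
  | zero => simp
  | tmul a b =>
    rw [TensorProduct.map_tmul, LinearMap.mul'_apply]
    exact Ideal.mul_mem_mul (hf a) (hg b)
  | add x y hx hy =>
    rw [map_add, map_add]
    exact Ideal.add_mem _ hx hy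

end Conv

section DiagCase
variable {R : Type u} [CommRing R] {M : Type v} [Monoid M]
  {C : Type u} [CommRing C] [Bialgebra R C]

theorem diag_case (I : Ideal R) (hI : IsNilpotent I) (ψ : C →ₐc[R] MonoidAlgebra R M)
    (h : ∀ c : C, ψ c - algebraMap R (MonoidAlgebra R M) (Coalgebra.counit c) ∈
      (I • ⊤ : Submodule R (MonoidAlgebra R M))) :
    ∀ c : C, ψ c = algebraMap R (MonoidAlgebra R M) (Coalgebra.counit c) := by
  classical
  -- coefficient functionals
  have hidem : ∀ (m : M) (c : C), LinearMap.mul' R R (TensorProduct.map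
      (cf m ∘ₗ (ψ : C →ₐ[R] MonoidAlgebra R M).toLinearMap)
      (cf m ∘ₗ (ψ : C →ₐ[R] MonoidAlgebra R M).toLinearMap) (Coalgebra.comul (R := R) c)) =
      cf m (ψ c) := by
    intro m c
    rw [TensorProduct.map_comp, LinearMap.comp_apply]
    have h1 : TensorProduct.map (ψ : C →ₐ[R] MonoidAlgebra R M).toLinearMap
        (ψ : C →ₐ[R] MonoidAlgebra R M).toLinearMap (Coalgebra.comul (R := R) c) =
        Coalgebra.comul (R := R) (ψ c) := by
      have := CoalgHomClass.map_comp_comul ψ
      exact LinearMap.congr_fun this c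
    rw [h1, cf_cf_comul, if_pos rfl]
  have halg : ∀ r : R, algebraMap R (MonoidAlgebra R M) r = MonoidAlgebra.single 1 r := fun r => by
    rw [MonoidAlgebra.coe_algebraMap, Function.comp_apply, Algebra.algebraMap_self,
      RingHom.id_apply]
  have hval : ∀ (m : M), m ≠ 1 → ∀ c : C, cf m (ψ c) ∈ I := by
    intro m hm c
    have h1 := cf_mem_of_mem_smul_top I m (h c)
    rw [map_sub, halg, cf_single, if_neg (Ne.symm hm), sub_zero] at h1
    exact h1
  have hpow : ∀ (m : M), m ≠ 1 → ∀ k : ℕ, ∀ c : C, cf m (ψ c) ∈ I ^ (k + 1) := by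
    intro m hm k
    induction k with
    | zero =>
      intro c
      rw [zero_add, pow_one]
      exact hval m hm c
    | succ k ih =>
      intro c
      rw [← hidem m c, pow_succ]
      exact mul'_map_mem _ _ _ _ (fun c => ih c) (fun c => hval m hm c) _
  have hzero : ∀ (m : M), m ≠ 1 → ∀ c : C, cf m (ψ c) = 0 := by
    intro m hm c
    obtain ⟨n, hn⟩ := hI
    have h1 := hpow m hm n c
    rw [pow_succ, hn, Ideal.zero_eq_bot, Ideal.bot_mul] at h1
    exact h1
  intro c
  have hcounit : Coalgebra.counit (R := R) (ψ c) = Coalgebra.counit (R := R) c := by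
    have := CoalgHomClass.counit_comp_apply ψ c
    exact this
  have hx : ψ c = MonoidAlgebra.single 1 (cf 1 (ψ c)) := by
    apply ext_cf
    intro m
    rw [cf_single]
    by_cases hm : m = 1
    · rw [if_pos hm.symm, hm]
    · rw [if_neg (Ne.symm hm)]
      exact hzero m hm c
  have h2 : cf 1 (ψ c) = Coalgebra.counit (R := R) c := by
    rw [← hcounit]
    conv_rhs => rw [hx]
    rw [MonoidAlgebra.counit_single, CommSemiring.counit_apply]
  rw [halg, ← h2]
  exact hx

end DiagCase


section Main
open SGA3b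

theorem map_mem_smul_top {R : Type u} [CommRing R] {N N' : Type*} [AddCommGroup N] [Module R N]
    [AddCommGroup N'] [Module R N'] (I : Ideal R) (e : N →ₗ[R] N') {d : N}
    (hd : d ∈ (I • ⊤ : Submodule R N)) : e d ∈ (I • ⊤ : Submodule R N') := by
  refine Submodule.smul_induction_on hd ?_ ?_
  · intro i hi a _
    rw [map_smul]
    exact Submodule.smul_mem_smul hi Submodule.mem_top
  · intro x y hx hy
    rw [map_add]
    exact Submodule.add_mem _ hx hy

theorem isNilpotent_map {R R' : Type u} [CommRing R] [CommRing R'] [Algebra R R'] (I : Ideal R)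
    (hI : IsNilpotent I) : IsNilpotent (I.map (algebraMap R R')) := by
  obtain ⟨n, hn⟩ := hI
  refine ⟨n, ?_⟩
  rw [← Ideal.map_pow, hn, Ideal.zero_eq_bot, Ideal.map_bot]
  rfl

theorem diag_case' {R : Type u} [CommRing R] {A C : Type u} [CommRing A] [CommRing C]
    [HopfAlgebra R A] [Bialgebra R C] (hA : IsDiag R A) (I : Ideal R) (hI : IsNilpotent I)
    (φ : C →ₐc[R] A) (h0 : ∀ c, dfcL φ c ∈ (I • ⊤ : Submodule R A)) : ∀ c, dfcL φ c = 0 := by
  obtain ⟨M, _, ⟨e⟩⟩ := hA
  let ψ : C →ₐc[R] MonoidAlgebra R M := (e : A →ₐc[R] MonoidAlgebra R M).comp φ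
  have hψ : ∀ c : C, ψ c - algebraMap R (MonoidAlgebra R M) (Coalgebra.counit c) =
      e (dfcL φ c) := by
    intro c
    rw [dfcL_apply, map_sub]
    congr 1
    exact (AlgHomClass.commutes e _).symm
  have h1 := diag_case I hI ψ (fun c => by
    rw [hψ]
    exact map_mem_smul_top I (e : A →ₗ[R] MonoidAlgebra R M) (h0 c))
  intro c
  have h2 : e (dfcL φ c) = e 0 := by
    rw [map_zero, ← hψ, h1 c, sub_self]
  exact e.injective h2

theorem trivial_of_isMultType (R : Type u) [CommRing R] (I : Ideal R) (hI : IsNilpotent I)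
    (A : Type u) [CommRing A] [HopfAlgebra R A] (hH : IsMultType R A)
    (C : Type u) [CommRing C] [Bialgebra R C] (φ : C →ₐc[R] A)
    (h0 : ∀ c, dfcL φ c ∈ (I • ⊤ : Submodule R A)) : ∀ c, dfcL φ c = 0 := by
  obtain ⟨s, hs, hloc⟩ := hH
  intro c
  apply eq_zero_of_cover s hs
  intro f hf
  obtain ⟨R2, _, _, hff, hdiag⟩ := hloc f hf
  have h1 : ∀ x, dfcL (bc (Localization.Away f) φ) x ∈
      ((I.map (algebraMap R (Localization.Away f))) • ⊤ :
        Submodule (Localization.Away f) (Localization.Away f ⊗[R] A)) := by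
    intro x
    rw [dfcL_bc]
    exact lTensor_mem_smul_top _ I (dfcL φ) h0 x
  have h2 : ∀ x, dfcL (bc R2 (bc (Localization.Away f) φ)) x ∈
      (((I.map (algebraMap R (Localization.Away f))).map (algebraMap (Localization.Away f) R2)) • ⊤ :
        Submodule R2 (R2 ⊗[Localization.Away f] (Localization.Away f ⊗[R] A))) := by
    intro x
    rw [dfcL_bc]
    exact lTensor_mem_smul_top _ _ (dfcL (bc (Localization.Away f) φ)) h1 x
  have h3 := diag_case' hdiag _ (isNilpotent_map _ (isNilpotent_map I hI))
    (bc R2 (bc (Localization.Away f) φ)) h2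
  have h4 : ∀ x, dfcL (bc (Localization.Away f) φ) x = 0 := by
    intro x
    apply Module.FaithfullyFlat.tensorProduct_mk_injective (A := Localization.Away f) (B := R2)
    rw [map_zero, TensorProduct.mk_apply]
    have := h3 ((1 : R2) ⊗ₜ[Localization.Away f] x)
    rw [dfcL_bc, LinearMap.lTensor_tmul] at this
    exact this
  have h5 := h4 ((1 : Localization.Away f) ⊗ₜ[R] c)
  rw [dfcL_bc, LinearMap.lTensor_tmul] at h5
  exact h5

theorem sub_mem_smul_top_of_tmul_eq {R : Type u} [CommRing R] {N : Type u} [AddCommGroup N]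
    [Module R N] (I : Ideal R) (x y : N)
    (h : (1 : R ⧸ I) ⊗ₜ[R] x = (1 : R ⧸ I) ⊗ₜ[R] y) : x - y ∈ (I • ⊤ : Submodule R N) := by
  have h1 := congrArg (TensorProduct.quotTensorEquivQuotSMul N I) h
  rw [TensorProduct.quotTensorEquivQuotSMul_mk_one_tmul,
    TensorProduct.quotTensorEquivQuotSMul_mk_one_tmul] at h1
  exact (Submodule.Quotient.eq _).mp h1

end Main

end Groth.Agent.Lib.Helper25.MultDesc
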