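import Groth.Agent.Lib.Helper25.MultDesc
import Groth.Agent.Lib.Helper23.Reynolds
import Mathlib.RingTheory.HopfAlgebra.Convolution

/-! Homomorphisms from a group of multiplicative type to a commutative group which agree modulo a
nilpotent ideal are equal. -/

set_option autoImplicit false
universe u v

open TensorProduct

namespace Groth.Agent.Lib.Helper25.MultDesc

section Antipode
variable (R : Type u) [CommRing R] (C : Type u) [CommRing C] [HopfAlgebra R C]
  [Coalgebra.IsCocomm R C]

/-- the antipode of a commutative cocommutative Hopf algebra as a bialgebra map -/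
noncomputable def antipodeBialgHom : C →ₐc[R] C :=
  BialgHom.ofAlgHom (HopfAlgebra.antipodeAlgHom R C)
    (AlgHom.counitAlgHom_comp_antipodeAlgHom)
    (by
      ext c
      simp only [AlgHom.coe_comp, Function.comp_apply, Bialgebra.comulAlgHom_apply]
      have h1 := Groth.Agent.Lib.Helper23.comul_antipode (k := R) c
      change _ = CoalgebraStruct.comul (R := R) (HopfAlgebra.antipode R c)
      rw [h1, Groth.Agent.Lib.Helper23.antiSwap, LinearMap.comp_apply, LinearEquiv.coe_coe,
        Coalgebra.comm_comul]
      rfl)

theorem antipodeBialgHom_apply (c : C) : antipodeBialgHom R C c = HopfAlgebra.antipode R c := rfl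

end Antipode

section Comm
open SGA3b WithConv

variable {R : Type u} [CommRing R] {A : Type u} [CommRing A] [HopfAlgebra R A]
  {C : Type u} [CommRing C] [HopfAlgebra R C]

theorem mul'_map_mem_smul_top (I : Ideal R) (f g : C →ₗ[R] A)
    (hf : ∀ c, f c ∈ (I • ⊤ : Submodule R A)) (t : C ⊗[R] C) :
    LinearMap.mul' R A (TensorProduct.map f g t) ∈ (I • ⊤ : Submodule R A) := by
  induction t using TensorProduct.induction_on with
  | zero => simp
  | tmul a b =>
    rw [TensorProduct.map_tmul, LinearMap.mul'_apply]
    refine Submodule.smul_induction_on (hf a) ?_ ?_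
    · intro i hi x _
      rw [smul_mul_assoc]
      exact Submodule.smul_mem_smul hi Submodule.mem_top
    · intro x y hx hy
      rw [add_mul]
      exact Submodule.add_mem _ hx hy
  | add x y hx hy =>
    rw [map_add, map_add]
    exact Submodule.add_mem _ hx hy

theorem mul'_map_comp_antipode (ψ : C →ₐc[R] A) (t : C ⊗[R] C) :
    LinearMap.mul' R A (TensorProduct.map (ψ : C →ₐ[R] A).toLinearMap
      ((ψ : C →ₐ[R] A).toLinearMap ∘ₗ HopfAlgebra.antipode R) t) =
      ψ (LinearMap.mul' R C (LinearMap.lTensor C (HopfAlgebra.antipode R) t)) := by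
  induction t using TensorProduct.induction_on with
  | zero => simp
  | tmul a b =>
    rw [TensorProduct.map_tmul, LinearMap.mul'_apply, LinearMap.lTensor_tmul, LinearMap.mul'_apply,
      map_mul]
    rfl
  | add x y hx hy => simp only [map_add, hx, hy]

variable [Coalgebra.IsCocomm R C]

theorem eq_of_isMultType (I : Ideal R) (hI : IsNilpotent I) (hH : IsMultType R A)
    (φ ψ : C →ₐc[R] A) (h0 : ∀ c, φ c - ψ c ∈ (I • ⊤ : Submodule R A)) : φ = ψ := by
  set ψ' : C →ₐc[R] A := ψ.comp (antipodeBialgHom R C) with hψ'
  set χ : C →ₐc[R] A := (toConv φ * toConv ψ').ofConv with hχ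
  -- linear level
  set a : WithConv (C →ₗ[R] A) := toConv (φ : C →ₐ[R] A).toLinearMap with ha
  set b : WithConv (C →ₗ[R] A) := toConv (ψ : C →ₐ[R] A).toLinearMap with hb
  set b' : WithConv (C →ₗ[R] A) :=
    toConv ((ψ : C →ₐ[R] A).toLinearMap ∘ₗ HopfAlgebra.antipode R) with hb'
  have hbb' : b * b' = 1 := by
    apply WithConv.ofConv_injective
    ext c
    change LinearMap.mul' R A (TensorProduct.map (ψ : C →ₐ[R] A).toLinearMap
      ((ψ : C →ₐ[R] A).toLinearMap ∘ₗ HopfAlgebra.antipode R) (CoalgebraStruct.comul (R := R) c)) =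
      algebraMap R A (CoalgebraStruct.counit (R := R) c)
    rw [mul'_map_comp_antipode, HopfAlgebra.mul_antipode_lTensor_comul_apply]
    exact AlgHomClass.commutes ψ _
  have hχlin : ∀ c, χ c = (a * b') c := fun c => rfl
  have hmem : ∀ c, dfcL χ c ∈ (I • ⊤ : Submodule R A) := by
    intro c
    have h1 : dfcL χ c = ((a - b) * b') c := by
      rw [sub_mul, hbb', dfcL_apply, hχlin]
      rfl
    rw [h1]
    exact mul'_map_mem_smul_top I _ _ (fun c => h0 c) _
  have htriv := trivial_of_isMultType R I hI A hH C χ hmem
  have hab' : a * b' = 1 := by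
    apply WithConv.ofConv_injective
    ext c
    have := htriv c
    rw [dfcL_apply, sub_eq_zero, hχlin] at this
    exact this
  have hab : a = b := by
    calc a = a * (b * b') := by rw [hbb', mul_one]
      _ = (a * b') * b := by ring
      _ = b := by rw [hab', one_mul]
  apply DFunLike.ext
  intro c
  have := congrArg (fun f : WithConv (C →ₗ[R] A) => f.ofConv c) hab
  exact this

end Comm

end Groth.Agent.Lib.Helper25.MultDesc
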