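import Groth.Prelude.Def_GLin2
import Groth.Prelude.Def_HopfRep
import Mathlib.LinearAlgebra.TensorProduct.RightExactness
import Mathlib.RingTheory.Flat.Basic
import Mathlib.RingTheory.Flat.FaithfullyFlat.Basic

/-! Corestriction of comodules along a bialgebra map. -/

set_option autoImplicit false
universe u v v' w

open TensorProduct

namespace Groth.Agent.Lib.Helper25.Cores

open HopfRep

section Lin
variable {k : Type u} [Field k] {A : Type v} [AddCommGroup A] [Module k A]
  {B : Type v'} [AddCommGroup B] [Module k B] {V : Type w} [AddCommGroup V] [Module k V]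

theorem mem_range_rTensor_of_lTensor (W : Submodule k V) (f : A →ₗ[k] B) (x : V ⊗[k] A)
    (hx : x ∈ LinearMap.range (W.subtype.rTensor A)) :
    LinearMap.lTensor V f x ∈ LinearMap.range (W.subtype.rTensor B) := by
  obtain ⟨y, rfl⟩ := hx
  refine ⟨LinearMap.lTensor W f y, ?_⟩
  rw [← LinearMap.comp_apply, ← LinearMap.comp_apply, LinearMap.rTensor_comp_lTensor,
    LinearMap.lTensor_comp_rTensor]

theorem mem_range_rTensor_of_lTensor_injective (W : Submodule k V) {f : A →ₗ[k] B}
    (hf : Function.Injective f) (x : V ⊗[k] A)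
    (hx : LinearMap.lTensor V f x ∈ LinearMap.range (W.subtype.rTensor B)) :
    x ∈ LinearMap.range (W.subtype.rTensor A) := by
  rw [← rTensor_mkQ, LinearMap.mem_ker] at hx ⊢
  have h1 : LinearMap.lTensor (V ⧸ W) f (LinearMap.rTensor A W.mkQ x) = 0 := by
    rw [← LinearMap.comp_apply, LinearMap.lTensor_comp_rTensor, ← LinearMap.rTensor_comp_lTensor,
      LinearMap.comp_apply, hx]
  have hinj : Function.Injective (LinearMap.lTensor (V ⧸ W) f) :=
    Module.Flat.lTensor_preserves_injective_linearMap f hf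
  exact hinj (h1.trans (map_zero _).symm)

end Lin

section Comod
variable {k : Type u} [Field k] {A : Type v} [CommRing A] [Bialgebra k A]
  {B : Type v'} [CommRing B] [Bialgebra k B] {V : Type w} [AddCommGroup V] [Module k V]

theorem comodAlong_coact (φ : A →ₐc[k] B) (c : Comod k A V) (v : V) :
    (GLin.comodAlong φ c).coact v = LinearMap.lTensor V (φ : A →ₗ[k] B) (c.coact v) := rfl

theorem isSubcomod_comodAlong (φ : A →ₐc[k] B) (c : Comod k A V) {W : Submodule k V}
    (hW : @IsSubcomod k A _ _ _ _ V _ _ c W) :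
    @IsSubcomod k B _ _ _ _ V _ _ (GLin.comodAlong φ c) W := by
  intro w hw
  exact mem_range_rTensor_of_lTensor W _ _ (hW w hw)

theorem isSubcomod_of_comodAlong (φ : A →ₐc[k] B) (hφ : Function.Injective φ) (c : Comod k A V)
    {W : Submodule k V} (hW : @IsSubcomod k B _ _ _ _ V _ _ (GLin.comodAlong φ c) W) :
    @IsSubcomod k A _ _ _ _ V _ _ c W := by
  intro w hw
  exact mem_range_rTensor_of_lTensor_injective W (f := (φ : A →ₗ[k] B)) hφ _ (hW w hw)

theorem isSimpleComod_comodAlong (φ : A →ₐc[k] B) (hφ : Function.Injective φ) (c : Comod k A V)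
    (h : @IsSimpleComod k A _ _ _ _ V _ _ c) :
    @IsSimpleComod k B _ _ _ _ V _ _ (GLin.comodAlong φ c) :=
  ⟨h.1, fun W hW => h.2 W (isSubcomod_of_comodAlong φ hφ c hW)⟩

theorem mem_fixedPts_comodAlong (φ : A →ₐc[k] B) (c : Comod k A V) {v : V}
    (hv : v ∈ @fixedPts k A _ _ _ V _ _ c) :
    v ∈ @fixedPts k B _ _ _ V _ _ (GLin.comodAlong φ c) := by
  change (GLin.comodAlong φ c).coact v = v ⊗ₜ[k] (1 : B)
  have h1 : c.coact v = v ⊗ₜ[k] (1 : A) := hv
  rw [comodAlong_coact, h1, LinearMap.lTensor_tmul]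
  congr 1
  exact map_one φ

theorem mem_fixedPts_of_comodAlong (φ : A →ₐc[k] B) (hφ : Function.Injective φ)
    (c : Comod k A V) {v : V}
    (hv : v ∈ @fixedPts k B _ _ _ V _ _ (GLin.comodAlong φ c)) :
    v ∈ @fixedPts k A _ _ _ V _ _ c := by
  change c.coact v = v ⊗ₜ[k] (1 : A)
  have h1 : (GLin.comodAlong φ c).coact v = v ⊗ₜ[k] (1 : B) := hv
  rw [comodAlong_coact] at h1
  have hinj : Function.Injective (LinearMap.lTensor V (φ : A →ₗ[k] B)) :=
    Module.Flat.lTensor_preserves_injective_linearMap _ hφ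
  apply hinj
  rw [h1, LinearMap.lTensor_tmul]
  congr 1
  exact (map_one φ).symm

end Comod

end Groth.Agent.Lib.Helper25.Cores
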