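import Groth.Agent.Lib.Helper25.Comod2
import Mathlib.LinearAlgebra.TensorProduct.RightExactness
import Mathlib.LinearAlgebra.FiniteDimensional.Lemmas
import Mathlib.LinearAlgebra.Dimension.Constructions
import Mathlib.LinearAlgebra.Dimension.Finite

/-! Flags of subcomodules built by induction on the dimension. -/

universe u v w w'

open TensorProduct

namespace Groth.Agent.Lib.Helper25.Flag

open HopfRep Groth.Agent.Lib.Helper25.Comod

section Pre
variable {k : Type u} [Field k] {A : Type v} [AddCommGroup A] [Module k A]
  {V : Type w} [AddCommGroup V] [Module k V] {Q : Type w'} [AddCommGroup Q] [Module k Q]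

theorem restrict_surjective (π : V →ₗ[k] Q) (hπ : Function.Surjective π) (G : Submodule k Q) :
    Function.Surjective (π.restrict (p := G.comap π) (q := G) (fun _ hv => hv)) := by
  rintro ⟨g, hg⟩
  obtain ⟨v, rfl⟩ := hπ g
  exact ⟨⟨v, hg⟩, rfl⟩

/-- tensor preimage lemma -/
theorem mem_range_rTensor_comap (π : V →ₗ[k] Q) (hπ : Function.Surjective π) (G : Submodule k Q)
    (x : V ⊗[k] A) (hx : π.rTensor A x ∈ LinearMap.range (G.subtype.rTensor A)) :
    x ∈ LinearMap.range ((G.comap π).subtype.rTensor A) := by
  obtain ⟨y, hy⟩ := hx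
  let πW : (G.comap π) →ₗ[k] G := π.restrict (p := G.comap π) (q := G) (fun _ hv => hv)
  have hπW : Function.Surjective πW := restrict_surjective π hπ G
  obtain ⟨w, hw⟩ := LinearMap.rTensor_surjective A hπW y
  have hcomm : G.subtype ∘ₗ πW = π ∘ₗ (G.comap π).subtype := rfl
  have h1 : π.rTensor A (x - (G.comap π).subtype.rTensor A w) = 0 := by
    rw [map_sub, ← hy, ← hw, ← LinearMap.comp_apply, ← LinearMap.comp_apply,
      ← LinearMap.rTensor_comp, ← LinearMap.rTensor_comp, hcomm, sub_self]
  have hex : Function.Exact ((LinearMap.ker π).subtype.rTensor A) (π.rTensor A) :=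
    rTensor_exact A (LinearMap.exact_subtype_ker_map π) hπ
  obtain ⟨z, hz⟩ := (hex _).mp h1
  have hle : LinearMap.ker π ≤ G.comap π := fun v hv => by
    rw [Submodule.mem_comap, LinearMap.mem_ker.mp hv]; exact G.zero_mem
  let j : LinearMap.ker π →ₗ[k] (G.comap π) := Submodule.inclusion hle
  have hj : (G.comap π).subtype ∘ₗ j = (LinearMap.ker π).subtype := rfl
  refine ⟨w + j.rTensor A z, ?_⟩
  rw [map_add, ← LinearMap.comp_apply, ← LinearMap.rTensor_comp, hj, hz]
  abel

theorem finrank_comap_of_surjective [Module.Finite k V] (π : V →ₗ[k] Q)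
    (hπ : Function.Surjective π) (G : Submodule k Q) :
    Module.finrank k (G.comap π) = Module.finrank k G + Module.finrank k (LinearMap.ker π) := by
  let πW : (G.comap π) →ₗ[k] G := π.restrict (p := G.comap π) (q := G) (fun _ hv => hv)
  have hπW : Function.Surjective πW := restrict_surjective π hπ G
  have hle : LinearMap.ker π ≤ G.comap π := fun v hv => by
    rw [Submodule.mem_comap, LinearMap.mem_ker.mp hv]; exact G.zero_mem
  have h1 := LinearMap.finrank_range_add_finrank_ker πW
  rw [LinearMap.range_eq_top.mpr hπW, finrank_top] at h1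
  have h2 : LinearMap.ker πW = (LinearMap.ker π).comap (G.comap π).subtype :=
    LinearMap.ker_restrict _
  rw [h2, (Submodule.comapSubtypeEquivOfLe hle).finrank_eq] at h1
  exact h1.symm

end Pre

section Main
variable {k : Type u} [Field k] {A : Type v} [CommRing A] [Bialgebra k A]

/-- The general flag lemma: if every nonzero finite-dimensional comodule has a one-dimensional
subcomodule (fixed pointwise when `t` holds), every finite-dimensional comodule has a full flag of
subcomodules (with trivial graded pieces when `t` holds). -/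
theorem exists_flag (t : Prop)
    (H : ∀ (X : Type v) [AddCommGroup X] [Module k X] [Comod k A X], Module.Finite k X →
      Nontrivial X → ∃ L : Submodule k X, IsSubcomod (k := k) (A := A) L ∧
        Module.finrank k L = 1 ∧ (t → L ≤ fixedPts k A X)) :
    ∀ (n : ℕ) (V : Type v) [AddCommGroup V] [Module k V] [Comod k A V] [Module.Finite k V],
      Module.finrank k V = n →
      ∃ F : ℕ → Submodule k V, Monotone F ∧ F 0 = ⊥ ∧
        (∀ i, IsSubcomod (k := k) (A := A) (F i)) ∧
        (∀ i, i ≤ n → Module.finrank k (F i) = i) ∧ (∀ i, n ≤ i → F i = ⊤) ∧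
        (t → ∀ i, ∀ v ∈ F (i + 1),
          Comod.coact (k := k) (A := A) v - v ⊗ₜ[k] (1 : A) ∈
            LinearMap.range ((F i).subtype.rTensor A)) := by
  intro n
  induction n with
  | zero =>
    intro V _ _ _ _ hV
    have hsub : Subsingleton V := Module.finrank_zero_iff.mp hV
    have htb : (⊤ : Submodule k V) = ⊥ := Subsingleton.elim _ _
    refine ⟨fun _ => ⊤, monotone_const, htb, fun _ => isSubcomod_top, ?_, fun _ _ => rfl, ?_⟩
    · intro i hi
      rw [finrank_top, hV]
      omega
    · intro _ i v _
      rw [Subsingleton.elim v 0]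
      simp
  | succ n ih =>
    intro V _ _ _ _ hV
    have hnt : Nontrivial V := Module.nontrivial_of_finrank_pos (R := k) (by omega)
    obtain ⟨L, hL, hL1, hLt⟩ := H V inferInstance hnt
    let _ : Comod k A (V ⧸ L) := quotComod L hL
    have hπ : Hoch.IsComodHom A L.mkQ := isComodHom_mkQ L hL
    have hsurj : Function.Surjective L.mkQ := L.mkQ_surjective
    have hQ : Module.finrank k (V ⧸ L) = n := by
      have := Submodule.finrank_quotient_add_finrank L
      omega
    obtain ⟨G, hGmono, hG0, hGsub, hGrank, hGtop, hGt⟩ := ih (V ⧸ L) hQ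
    let F : ℕ → Submodule k V := fun i => Nat.rec ⊥ (fun j _ => (G j).comap L.mkQ) i
    have hF0 : F 0 = ⊥ := rfl
    have hFs : ∀ j, F (j + 1) = (G j).comap L.mkQ := fun j => rfl
    have hker : LinearMap.ker L.mkQ = L := L.ker_mkQ
    refine ⟨F, ?_, hF0, ?_, ?_, ?_, ?_⟩
    · refine monotone_nat_of_le_succ fun i => ?_
      cases i with
      | zero => rw [hF0]; exact bot_le
      | succ j => rw [hFs, hFs]; exact Submodule.comap_mono (hGmono (Nat.le_succ j))
    · intro i
      cases i with
      | zero => rw [hF0]; exact isSubcomod_bot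
      | succ j => rw [hFs]; exact isSubcomod_comap hπ (hGsub j)
    · intro i hi
      cases i with
      | zero => rw [hF0]; exact finrank_bot k V
      | succ j =>
        rw [hFs, finrank_comap_of_surjective _ hsurj, hker, hL1, hGrank j (by omega)]
    · intro i hi
      cases i with
      | zero => omega
      | succ j => rw [hFs, hGtop j (by omega)]; rfl
    · intro ht i v hv
      cases i with
      | zero =>
        rw [hFs, hG0, Submodule.comap_bot, hker] at hv
        have : Comod.coact (k := k) (A := A) v = v ⊗ₜ[k] (1 : A) := hLt ht hv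
        rw [this, sub_self]
        exact Submodule.zero_mem _
      | succ j =>
        rw [hFs] at hv ⊢
        apply mem_range_rTensor_comap _ hsurj
        have h1 := hGt ht j (L.mkQ v) hv
        have h2 : Comod.coact (k := k) (A := A) (L.mkQ v) =
            L.mkQ.rTensor A (Comod.coact (k := k) (A := A) v) := isComodHom_apply hπ v
        rw [map_sub, LinearMap.rTensor_tmul, ← h2]
        exact h1

end Main

section Sources
variable {k : Type u} [Field k] {A : Type v} [CommRing A] [Bialgebra k A]

theorem isSubcomod_span_of_mem_fixedPts {V : Type w} [AddCommGroup V] [Module k V]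
    [HopfRep.Comod k A V] {t : V} (ht : t ∈ HopfRep.fixedPts k A V) :
    IsSubcomod (k := k) (A := A) (Submodule.span k {t}) := by
  intro x hx
  obtain ⟨c, rfl⟩ := Submodule.mem_span_singleton.mp hx
  have h1 : HopfRep.Comod.coact (k := k) (A := A) t = t ⊗ₜ[k] (1 : A) := ht
  refine ⟨(c • (⟨t, Submodule.mem_span_singleton_self t⟩ : Submodule.span k {t})) ⊗ₜ[k] (1 : A), ?_⟩
  rw [map_smul, h1, LinearMap.rTensor_tmul, map_smul, TensorProduct.smul_tmul']
  rfl

theorem source_of_isUnipotent (hU : IsUnipotent k A) (t : Prop) :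
    ∀ (X : Type v) [AddCommGroup X] [Module k X] [Comod k A X], Module.Finite k X →
      Nontrivial X → ∃ L : Submodule k X, IsSubcomod (k := k) (A := A) L ∧
        Module.finrank k L = 1 ∧ (t → L ≤ fixedPts k A X) := by
  intro X _ _ _ hfin hnt
  obtain ⟨l, hl, hl0⟩ := (Submodule.ne_bot_iff _).mp (hU X hfin hnt)
  refine ⟨Submodule.span k {l}, isSubcomod_span_of_mem_fixedPts hl, finrank_span_singleton hl0,
    fun _ => ?_⟩
  rw [Submodule.span_le, Set.singleton_subset_iff]
  exact hl

theorem isSimpleComod_of_isSimpleSub {V : Type w} [AddCommGroup V] [Module k V]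
    [HopfRep.Comod k A V] {T : Submodule k V} (hT : IsSimpleSub A T) :
    @IsSimpleComod k A _ _ _ _ T _ _ (subComod T hT.1) := by
  let _ : Comod k A T := subComod T hT.1
  have hι : Hoch.IsComodHom A T.subtype := isComodHom_subtype T hT.1
  refine ⟨Submodule.nontrivial_iff_ne_bot.mpr hT.2.1, fun W hW => ?_⟩
  have hmap : IsSubcomod (k := k) (A := A) (W.map T.subtype) := isSubcomod_map hι hW
  have hle : W.map T.subtype ≤ T := Submodule.map_subtype_le T W
  have hcm : (W.map T.subtype).comap T.subtype = W :=
    Submodule.comap_map_eq_of_injective T.subtype_injective W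
  rcases hT.2.2 _ hmap hle with h | h
  · left
    rw [← hcm, h, Submodule.comap_bot, Submodule.ker_subtype]
  · right
    rw [← hcm, h, Submodule.comap_subtype_self]

theorem source_of_isTrigonalizable (hT : IsTrigonalizable k A) :
    ∀ (X : Type v) [AddCommGroup X] [Module k X] [Comod k A X], Module.Finite k X →
      Nontrivial X → ∃ L : Submodule k X, IsSubcomod (k := k) (A := A) L ∧
        Module.finrank k L = 1 ∧ (False → L ≤ fixedPts k A X) := by
  intro X _ _ _ hfin hnt
  obtain ⟨T, -, hTs⟩ := exists_isSimpleSub_le (k := k) (C := A) (V := X)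
    (N := ⊤) isSubcomod_top top_ne_bot
  have h1 := @hT T _ _ (subComod T hTs.1) inferInstance (isSimpleComod_of_isSimpleSub hTs)
  exact ⟨T, hTs.1, h1, fun h => h.elim⟩

end Sources

end Groth.Agent.Lib.Helper25.Flag
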