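import Groth.Agent.Lib.Helper25.Comod2
import Groth.Agent.Lib.Helper25.Cores
import Mathlib.LinearAlgebra.TensorProduct.RightExactness
import Mathlib.RingTheory.Flat.Basic

/-! Flags with trivial graded pieces: subcomodules have fixed vectors; semisimple ones are
trivial. -/

set_option autoImplicit false
universe u v v' w

open TensorProduct

namespace Groth.Agent.Lib.Helper25.TrivFlag

open HopfRep Groth.Agent.Lib.Helper25.Comod

section Lin
variable {k : Type u} [Field k] {A : Type v} [AddCommGroup A] [Module k A]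
  {V : Type w} [AddCommGroup V] [Module k V]

theorem eq_zero_of_mem_range_of_disjoint {P Q : Submodule k V} (hPQ : P ⊓ Q = ⊥)
    {x : V ⊗[k] A} (hP : x ∈ LinearMap.range (P.subtype.rTensor A))
    (hQ : x ∈ LinearMap.range (Q.subtype.rTensor A)) : x = 0 := by
  obtain ⟨z, rfl⟩ := hQ
  rw [← rTensor_mkQ, LinearMap.mem_ker, ← LinearMap.comp_apply, ← LinearMap.rTensor_comp] at hP
  have hinj : Function.Injective (P.mkQ ∘ₗ Q.subtype) := by
    rw [← LinearMap.ker_eq_bot, eq_bot_iff]
    intro q hq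
    rw [LinearMap.mem_ker, LinearMap.comp_apply, Submodule.mkQ_apply,
      Submodule.Quotient.mk_eq_zero] at hq
    have : (q : V) ∈ P ⊓ Q := ⟨hq, q.2⟩
    rw [hPQ, Submodule.mem_bot] at this
    exact (Submodule.mem_bot k).mpr (Subtype.ext this)
  have hinj' : Function.Injective (LinearMap.rTensor A (P.mkQ ∘ₗ Q.subtype)) :=
    Module.Flat.rTensor_preserves_injective_linearMap _ hinj
  rw [hinj' (hP.trans (map_zero _).symm), map_zero]

end Lin

section Main
variable {k : Type u} [Field k] {A : Type v} [CommRing A] [Bialgebra k A]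
  {V : Type w} [AddCommGroup V] [Module k V] [Comod k A V]

local notation "ρ" => HopfRep.Comod.coact (k := k) (A := A) (V := V)

/-- a nonzero subcomodule below the top of a flag with trivial graded pieces has a nonzero fixed
vector -/
theorem exists_fixed_of_flag (m : ℕ) (F : ℕ → Submodule k V) (hF0 : F 0 = ⊥)
    (htriv : ∀ i, ∀ v ∈ F (i + 1), ρ v - v ⊗ₜ[k] (1 : A) ∈
      LinearMap.range ((F i).subtype.rTensor A))
    (W : Submodule k V) (hW : IsSubcomod (k := k) (A := A) W) (hW0 : W ≠ ⊥) (hWm : W ≤ F m) :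
    ∃ w ∈ W, w ≠ 0 ∧ w ∈ fixedPts k A V := by
  classical
  have hex : ∃ i, W ⊓ F i ≠ ⊥ := ⟨m, by rw [inf_eq_left.mpr hWm]; exact hW0⟩
  have hspec := Nat.find_spec hex
  have hmin := fun j => Nat.find_min hex (m := j)
  cases hn : Nat.find hex with
  | zero =>
    rw [hn, hF0, inf_bot_eq] at hspec
    exact absurd rfl hspec
  | succ j =>
    rw [hn] at hspec
    have hj : W ⊓ F j = ⊥ := by
      by_contra hne
      exact hmin j (by omega) hne
    obtain ⟨w, hw, hw0⟩ := (Submodule.ne_bot_iff _).mp hspec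
    refine ⟨w, hw.1, hw0, ?_⟩
    have h1 := htriv j w hw.2
    have h2 : ρ w - w ⊗ₜ[k] (1 : A) ∈ LinearMap.range (W.subtype.rTensor A) := by
      refine Submodule.sub_mem _ (hW w hw.1) ?_
      exact ⟨(⟨w, hw.1⟩ : W) ⊗ₜ[k] (1 : A), rfl⟩
    have hj' : F j ⊓ W = ⊥ := by rw [inf_comm]; exact hj
    have h3 := eq_zero_of_mem_range_of_disjoint hj' h1 h2
    exact sub_eq_zero.mp h3

/-- a semisimple comodule with a flag with trivial graded pieces is trivial -/
theorem fixedPts_eq_top_of_flag (hss : IsSemisimpleComod k A V) (m : ℕ) (F : ℕ → Submodule k V)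
    (hF0 : F 0 = ⊥) (hFm : F m = ⊤)
    (htriv : ∀ i, ∀ v ∈ F (i + 1), ρ v - v ⊗ₜ[k] (1 : A) ∈
      LinearMap.range ((F i).subtype.rTensor A)) :
    fixedPts k A V = ⊤ := by
  obtain ⟨W, hW, hcompl⟩ := hss (fixedPts k A V) isSubcomod_fixedPts
  by_cases hW0 : W = ⊥
  · rw [hW0] at hcompl
    exact eq_top_of_isCompl_bot hcompl
  · exfalso
    obtain ⟨w, hwW, hw0, hwf⟩ := exists_fixed_of_flag m F hF0 htriv W hW hW0 (hFm ▸ le_top)
    have : w ∈ fixedPts k A V ⊓ W := ⟨hwf, hwW⟩
    rw [hcompl.inf_eq_bot, Submodule.mem_bot] at this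
    exact hw0 this

end Main

end Groth.Agent.Lib.Helper25.TrivFlag
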