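import Mathlib

/-!
# helper25 — AffSpread: affineness spreads out from `X ×_R Spec R_p` to `f⁻¹ D(g)`, `g ∉ p`
-/

set_option autoImplicit false
universe u
open CategoryTheory CategoryTheory.Limits AlgebraicGeometry TopologicalSpace Opposite

namespace Groth.Agent.Lib.Helper25.AffSpread

theorem isUnit_of_basicOpen_eq_top {T : Scheme.{u}} (s : Γ(T, ⊤)) (h : T.basicOpen s = ⊤) :
    IsUnit s := by
  refine T.toRingedSpace.isUnit_of_isUnit_germ ⊤ s (fun x hx => ?_)
  have hx' : x ∈ T.basicOpen s := by rw [h]; trivial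
  exact (T.mem_basicOpen s x hx).1 hx'

variable {R : CommRingCat.{u}} {X : Scheme.{u}} (f : X ⟶ Spec R) (p : PrimeSpectrum R)

/-- the index set: elements outside `p`, ordered by divisibility -/
structure Idx where
  g : R
  hg : g ∉ p.asIdeal

instance : Preorder (Idx p) where
  le a b := b.g ∣ a.g
  le_refl a := dvd_refl _
  le_trans a b c hab hbc := dvd_trans hbc hab

def Idx.one : Idx p := ⟨1, fun h => p.isPrime.ne_top ((Ideal.eq_top_iff_one _).2 h)⟩

instance : Nonempty (Idx p) := ⟨Idx.one p⟩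

instance : IsDirected (Idx p) (· ≥ ·) :=
  ⟨fun a b => ⟨⟨a.g * b.g, fun h => (p.isPrime.mem_or_mem h).elim a.hg b.hg⟩,
    Dvd.intro _ rfl, Dvd.intro_left _ rfl⟩⟩

/-- the global section of `X` attached to `g` -/
noncomputable def sec (a : Idx p) : Γ(X, ⊤) := f.appTop ((Scheme.ΓSpecIso R).inv a.g)

noncomputable def opn (a : Idx p) : X.Opens := X.basicOpen (sec f p a)

/-- the basic open `D(g)` of `Spec R` as an open of the scheme -/
abbrev bo (g : R) : (Spec R).Opens := PrimeSpectrum.basicOpen g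

theorem opn_eq (a : Idx p) : opn f p a = f ⁻¹ᵁ (bo a.g) := by
  rw [opn, sec, bo, ← basicOpen_eq_of_affine, Scheme.preimage_basicOpen]
  rfl

theorem bo_le_of_dvd {g h : R} (hd : h ∣ g) : bo g ≤ bo h := by
  obtain ⟨c, rfl⟩ := hd
  exact PrimeSpectrum.basicOpen_mul_le_left h c

theorem opn_mono : Monotone (opn f p) := by
  intro a b hab
  rw [opn_eq, opn_eq]
  exact (Opens.map f.base).monotone (bo_le_of_dvd hab)


/-- the diagram of the open subschemes `f⁻¹ D(g)` -/
noncomputable def D : Idx p ⥤ Scheme.{u} :=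
  (opn_mono f p).functor ⋙ X.restrictFunctor ⋙ Over.forget X

/-- the inclusion of a stage in `X` -/
noncomputable def Dι (a : Idx p) : (D f p).obj a ⟶ X := (opn f p a).ι

instance (a : Idx p) : IsOpenImmersion (Dι f p a) := inferInstanceAs (IsOpenImmersion (opn f p a).ι)

theorem range_Dι (a : Idx p) : Set.range (Dι f p a) = (opn f p a : Set X) :=
  Scheme.Opens.range_ι _

theorem D_map_ι {a b : Idx p} (h : a ⟶ b) : (D f p).map h ≫ Dι f p b = Dι f p a :=
  X.homOfLE_ι (opn_mono f p (leOfHom h))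

/-- the localization map -/
noncomputable abbrev φ : R ⟶ CommRingCat.of (Localization.AtPrime p.asIdeal) :=
  CommRingCat.ofHom (algebraMap R (Localization.AtPrime p.asIdeal))

theorem specMap_φ_mem_bo (a : Idx p) (y : ↥(Spec (CommRingCat.of (Localization.AtPrime p.asIdeal)))) :
    (Spec.map (φ p)) y ∈ bo a.g := by
  show a.g ∉ (PrimeSpectrum.comap (φ p).hom (show PrimeSpectrum _ from y)).asIdeal
  rw [PrimeSpectrum.comap_asIdeal, Ideal.mem_comap]
  intro hmem
  have hu : IsUnit ((φ p).hom a.g) :=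
    IsLocalization.map_units (M := p.asIdeal.primeCompl) (Localization.AtPrime p.asIdeal)
      ⟨a.g, a.hg⟩
  exact (show PrimeSpectrum _ from y).isPrime.ne_top (Ideal.eq_top_of_isUnit_mem _ hmem hu)

theorem range_fst_subset (a : Idx p) :
    Set.range (pullback.fst f (Spec.map (φ p))) ⊆ Set.range (Dι f p a) := by
  rintro _ ⟨z, rfl⟩
  rw [range_Dι, opn_eq]
  show f (pullback.fst f (Spec.map (φ p)) z) ∈ bo a.g
  rw [← Scheme.Hom.comp_apply, pullback.condition, Scheme.Hom.comp_apply]
  exact specMap_φ_mem_bo p a _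

noncomputable def leg (a : Idx p) : pullback f (Spec.map (φ p)) ⟶ (D f p).obj a :=
  IsOpenImmersion.lift (Dι f p a) (pullback.fst f (Spec.map (φ p))) (range_fst_subset f p a)

theorem leg_ι (a : Idx p) : leg f p a ≫ Dι f p a = pullback.fst f (Spec.map (φ p)) :=
  IsOpenImmersion.lift_fac _ _ _

noncomputable def cone : Cone (D f p) where
  pt := pullback f (Spec.map (φ p))
  π :=
    { app := leg f p
      naturality := fun a b h => by
        rw [← cancel_mono (Dι f p b)]
        simp only [Functor.const_obj_obj, Functor.const_obj_map, Category.id_comp, Category.assoc]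
        rw [D_map_ι, leg_ι, leg_ι] }

theorem eq_toSpecΓ_comp {T : Scheme.{u}} (t : T ⟶ Spec R) :
    t = T.toSpecΓ ≫ Spec.map ((Scheme.ΓSpecIso R).inv ≫ t.appTop) := by
  rw [Spec.map_comp, ← Scheme.toSpecΓ_naturality_assoc, toSpecΓ_SpecMap_ΓSpecIso_inv,
    Category.comp_id]

section lift

variable (s : Cone (D f p))

noncomputable def aOf : s.pt ⟶ X := s.π.app (Idx.one p) ≫ Dι f p (Idx.one p)

theorem π_ι (a : Idx p) : s.π.app a ≫ Dι f p a = aOf f p s := by
  have hle : a ≤ Idx.one p := one_dvd _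
  have h1 := s.w (homOfLE hle)
  rw [aOf, ← h1, Category.assoc, D_map_ι]

noncomputable def ψ : R ⟶ Γ(s.pt, ⊤) := (Scheme.ΓSpecIso R).inv ≫ (aOf f p s ≫ f).appTop

theorem isUnit_ψ (a : Idx p) : IsUnit ((ψ f p s).hom a.g) := by
  apply isUnit_of_basicOpen_eq_top
  have h1 : s.pt.basicOpen ((ψ f p s).hom a.g) = (aOf f p s ≫ f) ⁻¹ᵁ (bo a.g) := by
    rw [bo, ← basicOpen_eq_of_affine, Scheme.preimage_basicOpen]
    rfl
  rw [h1]
  ext x
  simp only [Opens.coe_top, Set.mem_univ, iff_true]
  show (aOf f p s ≫ f) x ∈ bo a.g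
  rw [← π_ι f p s a, Category.assoc, Scheme.Hom.comp_apply]
  have hx : (Dι f p a) (s.π.app a x) ∈ (opn f p a : Set X) := by
    rw [← range_Dι]; exact ⟨_, rfl⟩
  have hx' : (Dι f p a) (s.π.app a x) ∈ opn f p a := hx
  rw [opn_eq] at hx'
  exact hx'

noncomputable def ψ' : Localization.AtPrime p.asIdeal →+* Γ(s.pt, ⊤) :=
  IsLocalization.lift (M := p.asIdeal.primeCompl) (g := (ψ f p s).hom)
    (fun y => isUnit_ψ f p s ⟨y.1, y.2⟩)

noncomputable def bOf : s.pt ⟶ Spec (CommRingCat.of (Localization.AtPrime p.asIdeal)) :=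
  s.pt.toSpecΓ ≫ Spec.map (CommRingCat.ofHom (ψ' f p s))

theorem w : aOf f p s ≫ f = bOf f p s ≫ Spec.map (φ p) := by
  rw [bOf, Category.assoc, ← Spec.map_comp]
  have h1 : φ p ≫ CommRingCat.ofHom (ψ' f p s) = ψ f p s := by
    ext r
    exact IsLocalization.lift_eq (M := p.asIdeal.primeCompl) _ r
  rw [h1]
  exact eq_toSpecΓ_comp (aOf f p s ≫ f)

end lift

theorem fac_aux (s : Cone (D f p)) (a : Idx p) :
    pullback.lift (aOf f p s) (bOf f p s) (w f p s) ≫ leg f p a = s.π.app a := by
  rw [← cancel_mono (Dι f p a), Category.assoc, leg_ι, pullback.lift_fst, π_ι]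

theorem uniq_aux (s : Cone (D f p)) (m : s.pt ⟶ pullback f (Spec.map (φ p)))
    (hm : ∀ a, m ≫ leg f p a = s.π.app a) :
    m = pullback.lift (aOf f p s) (bOf f p s) (w f p s) := by
  have h1 : m ≫ pullback.fst f (Spec.map (φ p)) = aOf f p s := by
    rw [← leg_ι f p (Idx.one p), ← Category.assoc, hm, aOf]
  have : IsPreimmersion (Spec.map (φ p)) :=
    IsPreimmersion.of_isLocalization (M := p.asIdeal.primeCompl)
  have h2 : m ≫ pullback.snd f (Spec.map (φ p)) = bOf f p s := by
    rw [← cancel_mono (Spec.map (φ p)), Category.assoc, ← pullback.condition, ← Category.assoc,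
      h1, w]
  apply pullback.hom_ext
  · rw [h1, pullback.lift_fst]
  · rw [h2, pullback.lift_snd]

noncomputable def isLimit : IsLimit (cone f p) where
  lift s := pullback.lift (aOf f p s) (bOf f p s) (w f p s)
  fac s a := fac_aux f p s a
  uniq s m hm := uniq_aux f p s m hm


instance isAffineHom_Dι (a : Idx p) : IsAffineHom (Dι f p a) :=
  inferInstanceAs (IsAffineHom (X.basicOpen (sec f p a)).ι)

instance isAffineHom_D_map {a b : Idx p} (h : a ⟶ b) : IsAffineHom ((D f p).map h) := by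
  have : IsAffineHom ((D f p).map h ≫ Dι f p b) := by rw [D_map_ι]; infer_instance
  exact IsAffineHom.of_comp ((D f p).map h) (Dι f p b)

/-- **spreading out affineness**: if `X ×_R Spec R_p` is affine for a quasi-compact
quasi-separated `f : X ⟶ Spec R`, then `f⁻¹ D(g)` is affine for some `g ∉ p`. -/
theorem exists_isAffineOpen_preimage [QuasiCompact f] [QuasiSeparated f]
    [IsAffine (pullback f (Spec.map (φ p)))] :
    ∃ g : R, g ∉ p.asIdeal ∧ IsAffineOpen (f ⁻¹ᵁ (bo g)) := by
  have : CompactSpace X := QuasiCompact.compactSpace_of_compactSpace f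
  have : QuasiSeparatedSpace X := quasiSeparatedSpace_of_quasiSeparated f
  have : ∀ a : Idx p, CompactSpace ((D f p).obj a) := fun a =>
    QuasiCompact.compactSpace_of_compactSpace (Dι f p a)
  have : ∀ a : Idx p, QuasiSeparatedSpace ((D f p).obj a) := fun a =>
    quasiSeparatedSpace_of_quasiSeparated (Dι f p a)
  have : IsAffine (cone f p).pt := ‹IsAffine (pullback f (Spec.map (φ p)))›
  obtain ⟨a, ha⟩ := Scheme.exists_isAffine_of_isLimit (D f p) (cone f p) (isLimit f p)
  refine ⟨a.g, a.hg, ?_⟩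
  rw [← opn_eq]
  exact ha

end Groth.Agent.Lib.Helper25.AffSpread
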