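import Mathlib
import Groth.Agent.Lib.Helper25.AffSpread
import Groth.Agent.Lib.Helper4.AffineDescent

set_option autoImplicit false
universe u
open CategoryTheory CategoryTheory.Limits AlgebraicGeometry TopologicalSpace Opposite

namespace Groth.Agent.Lib.Helper25.AffDescLoc

open Groth.Agent.Lib.Helper25.AffSpread

/-- transport of a base-change-stable property through a "change of cover" -/
theorem prop_snd_snd {P : MorphismProperty Scheme.{u}} [P.IsStableUnderBaseChange]
    {X Y Y' U V : Scheme.{u}} (f : X ⟶ Y) (g : Y' ⟶ Y) (u : U ⟶ Y) (g' : V ⟶ U) (e : V ⟶ Y')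
    (w : g' ≫ u = e ≫ g) (H : P (pullback.snd f g)) :
    P (pullback.snd (pullback.snd f u) g') := by
  have sq1 : IsPullback (pullback.fst (pullback.snd f u) g') (pullback.snd (pullback.snd f u) g')
      (pullback.snd f u) g' := IsPullback.of_hasPullback _ _
  have sq2 : IsPullback (pullback.fst f u) (pullback.snd f u) f u := IsPullback.of_hasPullback _ _
  have big := sq1.paste_horiz sq2
  rw [w] at big
  let k : pullback (pullback.snd f u) g' ⟶ pullback f g :=
    pullback.lift (pullback.fst (pullback.snd f u) g' ≫ pullback.fst f u)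
      (pullback.snd (pullback.snd f u) g' ≫ e) (by
        rw [Category.assoc, Category.assoc, ← w, pullback.condition, pullback.condition_assoc])
  have hk1 : k ≫ pullback.fst f g = pullback.fst (pullback.snd f u) g' ≫ pullback.fst f u :=
    pullback.lift_fst _ _ _
  have hk2 : k ≫ pullback.snd f g = pullback.snd (pullback.snd f u) g' ≫ e :=
    pullback.lift_snd _ _ _
  rw [← hk1] at big
  have left := IsPullback.of_right big hk2 (IsPullback.of_hasPullback f g)
  exact MorphismProperty.of_isPullback left H

variable {R : CommRingCat.{u}} {X Y' : Scheme.{u}} (f : X ⟶ Spec R) (g : Y' ⟶ Spec R)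
  (p : PrimeSpectrum R)

theorem specMap_φ_closedPoint :
    (Spec.map (φ p)) (show PrimeSpectrum _ from
      IsLocalRing.closedPoint (Localization.AtPrime p.asIdeal)) = p := by
  show PrimeSpectrum.comap (φ p).hom (IsLocalRing.closedPoint _) = p
  ext1
  exact Localization.AtPrime.under_maximalIdeal

theorem surjective_of_flat_of_closedPoint {T : Scheme.{u}} {A : Type u} [CommRing A]
    [IsLocalRing A] (t : T ⟶ Spec (CommRingCat.of A)) [Flat t]
    (h : (show PrimeSpectrum A from IsLocalRing.closedPoint A) ∈ Set.range t) : Surjective t := by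
  refine ⟨fun q => ?_⟩
  have hs := (Flat.generalizingMap t).stableUnderGeneralization_range
  exact hs (IsLocalRing.specializes_closedPoint (show PrimeSpectrum A from q)) h

theorem isAffine_pullback_φ [Flat g] [Surjective g] [IsAffineHom (pullback.snd f g)] :
    IsAffine (pullback f (Spec.map (φ p))) := by
  obtain ⟨y', hy'⟩ := g.surjective p
  obtain ⟨W', hW, hyW'⟩ : ∃ W' : Y'.Opens, IsAffineOpen W' ∧ y' ∈ W' := by
    obtain ⟨_, ⟨W', hW', rfl⟩, hyW', -⟩ :=
      (Y'.isBasis_affineOpens).exists_subset_of_mem_open (Set.mem_univ y') isOpen_univ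
    exact ⟨W', hW', hyW'⟩
  have : IsAffine W'.toScheme := hW
  let h : W'.toScheme ⟶ Spec R := W'.ι ≫ g
  let ℓ := Spec.map (φ p)
  let t := pullback.snd h ℓ
  have : Flat t := inferInstance
  have : QuasiCompact t := inferInstance
  have : Surjective t := by
    apply surjective_of_flat_of_closedPoint
    obtain ⟨z, -, hz⟩ := Scheme.Pullback.exists_preimage_pullback (f := h) (g := ℓ)
      (⟨y', hyW'⟩ : W'.toScheme) (show PrimeSpectrum _ from
        IsLocalRing.closedPoint (Localization.AtPrime p.asIdeal)) (by
        rw [specMap_φ_closedPoint]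
        exact hy')
    exact ⟨z, hz⟩
  have w : t ≫ ℓ = (pullback.fst h ℓ ≫ W'.ι) ≫ g := by
    rw [Category.assoc]
    exact pullback.condition.symm
  have : IsAffineHom (pullback.snd (pullback.snd f ℓ) t) :=
    prop_snd_snd (P := @IsAffineHom) f g ℓ t _ w inferInstance
  have : IsAffineHom (pullback.snd f ℓ) :=
    Groth.Agent.Lib.Helper4.AffineDescent.isAffineHom_of_isPullback
      (IsPullback.of_hasPullback (pullback.snd f ℓ) t).flip
  exact isAffine_of_isAffineHom (pullback.snd f ℓ)

/-- affine base case -/
theorem isAffineHom_of_flat_surjective [Flat g] [Surjective g] [QuasiCompact f]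
    [QuasiSeparated f] [IsAffineHom (pullback.snd f g)] : IsAffineHom f := by
  apply isAffineHom_of_forall_exists_isAffineOpen
  intro x
  have := isAffine_pullback_φ f g (show PrimeSpectrum R from x)
  obtain ⟨r, hr, haff⟩ := exists_isAffineOpen_preimage f (show PrimeSpectrum R from x)
  refine ⟨bo r, hr, ?_, haff⟩
  have := (isAffineOpen_top (Spec R)).basicOpen ((Scheme.ΓSpecIso R).inv r)
  rwa [basicOpen_eq_of_affine] at this

theorem isAffineHom_of_flat_surjective_of_eq {X Y Y' : Scheme.{u}} (f : X ⟶ Y) (g : Y' ⟶ Y)
    [Flat g] [Surjective g] [QuasiCompact f] [QuasiSeparated f]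
    [IsAffineHom (pullback.snd f g)] (hY : ∃ R : CommRingCat.{u}, Y = Spec R) :
    IsAffineHom f := by
  obtain ⟨R, rfl⟩ := hY
  exact isAffineHom_of_flat_surjective f g

theorem isAffine_pullback_affineCover {X Y Y' : Scheme.{u}} (f : X ⟶ Y) (g : Y' ⟶ Y)
    [Flat g] [Surjective g] [QuasiCompact f] [QuasiSeparated f]
    [IsAffineHom (pullback.snd f g)] (i : Y.affineCover.I₀) :
    IsAffine (pullback f (Y.affineCover.f i)) := by
  have : IsAffineHom (pullback.snd (pullback.snd f (Y.affineCover.f i))
      (pullback.snd g (Y.affineCover.f i))) :=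
    prop_snd_snd (P := @IsAffineHom) f g (Y.affineCover.f i) _ (pullback.fst g (Y.affineCover.f i))
      pullback.condition.symm inferInstance
  have : IsAffineHom (pullback.snd f (Y.affineCover.f i)) :=
    isAffineHom_of_flat_surjective_of_eq (pullback.snd f (Y.affineCover.f i))
      (pullback.snd g (Y.affineCover.f i)) ⟨_, rfl⟩
  exact isAffine_of_isAffineHom (pullback.snd f (Y.affineCover.f i))

set_option backward.isDefEq.respectTransparency.types false in
/-- general base -/
theorem isAffineHom_of_flat_surjective' {X Y Y' : Scheme.{u}} (f : X ⟶ Y) (g : Y' ⟶ Y)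
    [Flat g] [Surjective g] [QuasiCompact f] [QuasiSeparated f]
    [IsAffineHom (pullback.snd f g)] : IsAffineHom f := by
  rw [HasAffineProperty.iff_of_openCover (P := @IsAffineHom) Y.affineCover]
  intro i
  exact isAffine_pullback_affineCover f g i

end Groth.Agent.Lib.Helper25.AffDescLoc
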