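import Mathlib

/-!
# helper25 — SepAlg: separating families of linear maps and base change (algebra behind EGA IV 11.9)
-/

set_option autoImplicit false
set_option linter.unusedVariables false
set_option linter.style.haveILetI false
universe u v w
open TensorProduct

namespace Groth.Agent.Lib.Helper25.SepAlg

variable {A : Type u} [CommRing A] {M : Type v} [AddCommGroup M] [Module A M] {ι : Type w}
  {N : ι → Type v} [∀ i, AddCommGroup (N i)] [∀ i, Module A (N i)]

/-- the algebraic form of the separating condition for a family of linear maps: it holds on all basic opens -/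
def SepAlg {A : Type*} [CommRing A] {M : Type*} [AddCommGroup M] [Module A M] {ι : Type*}
    {N : ι → Type*} [∀ i, AddCommGroup (N i)] [∀ i, Module A (N i)] (v : ∀ i, M →ₗ[A] N i) : Prop :=
  ∀ (f : A) (x : M), (∀ i, ∃ n : ℕ, f ^ n • v i x = 0) → ∃ n : ℕ, f ^ n • x = 0

/-- finite separating families stay separating after tensoring with a flat module -/
theorem lTensor_sep_of_finite [Finite ι] (B : Type v) [AddCommGroup B] [Module A B] [Module.Flat A B]
    (v : ∀ i, M →ₗ[A] N i) (hv : ∀ x, (∀ i, v i x = 0) → x = 0)
    (τ : B ⊗[A] M) (hτ : ∀ i, (v i).lTensor B τ = 0) : τ = 0 := by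
  classical
  haveI := Fintype.ofFinite ι
  have hinj : Function.Injective (LinearMap.pi v) := by
    rw [injective_iff_map_eq_zero]
    intro x hx
    exact hv x (fun i => congrFun hx i)
  have hinj' := Module.Flat.lTensor_preserves_injective_linearMap (M := B) (LinearMap.pi v) hinj
  apply hinj'
  rw [map_zero]
  apply (TensorProduct.piRight A A B N).injective
  rw [map_zero]
  funext i
  have : ∀ z : B ⊗[A] M, TensorProduct.piRight A A B N ((LinearMap.pi v).lTensor B z) i =
      (v i).lTensor B z := by
    intro z
    induction z using TensorProduct.induction_on with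
    | zero => simp
    | tmul b m => simp
    | add x y hx hy => simp only [map_add, Pi.add_apply, hx, hy]
  rw [this, hτ i]
  rfl

/-- over an Artinian ring, a separating family restricted to a finitely generated submodule is already separated
by a finite subfamily -/
theorem exists_finset_sep_of_artinian [IsArtinianRing A] (v : ∀ i, M →ₗ[A] N i)
    (hv : ∀ x, (∀ i, v i x = 0) → x = 0) (M₀ : Submodule A M) [Module.Finite A M₀] :
    ∃ J : Finset ι, ∀ x : M₀, (∀ i ∈ J, v i x = 0) → x = 0 := by
  classical
  haveI : IsArtinian A M₀ := inferInstance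
  let K : Finset ι → Submodule A M₀ := fun J => ⨅ i ∈ J, LinearMap.ker ((v i).comp M₀.subtype)
  obtain ⟨K₀, ⟨J₀, rfl⟩, hmin⟩ := IsArtinian.set_has_minimal (Set.range K) ⟨K ∅, ∅, rfl⟩
  refine ⟨J₀, fun x hx => ?_⟩
  by_contra hx0
  have hxM : (x : M) ≠ 0 := fun h => hx0 (Subtype.ext h)
  have : ∃ i, v i x ≠ 0 := by
    by_contra hcon
    simp only [not_exists, not_not] at hcon
    exact hxM (hv x hcon)
  obtain ⟨i, hi⟩ := this
  refine hmin (K (insert i J₀)) ⟨_, rfl⟩ ?_
  refine lt_of_le_of_ne ?_ ?_
  · intro y hy
    simp only [K, Submodule.mem_iInf] at hy ⊢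
    intro j hj
    exact hy j (Finset.mem_insert_of_mem hj)
  · intro heq
    have hxK : x ∈ K J₀ := by
      simp only [K, Submodule.mem_iInf]
      intro j hj
      exact hx j hj
    rw [← heq] at hxK
    simp only [K, Submodule.mem_iInf] at hxK
    exact hi (hxK i (Finset.mem_insert_self i J₀))

/-- **Artinian case.** Over an Artinian ring a separating family stays separating after tensoring with a flat
module. -/
theorem lTensor_sep_of_artinian [IsArtinianRing A] (B : Type v) [AddCommGroup B] [Module A B] [Module.Flat A B]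
    (v : ∀ i, M →ₗ[A] N i) (hv : ∀ x, (∀ i, v i x = 0) → x = 0)
    (τ : B ⊗[A] M) (hτ : ∀ i, (v i).lTensor B τ = 0) : τ = 0 := by
  classical
  obtain ⟨M₀, hfin, hM₀⟩ := TensorProduct.exists_finite_submodule_right_of_setFinite {τ} (Set.finite_singleton τ)
  obtain ⟨τ₀, hτ₀⟩ := hM₀ (Set.mem_singleton τ)
  haveI := hfin
  obtain ⟨J, hJ⟩ := exists_finset_sep_of_artinian v hv M₀
  have h0 : τ₀ = 0 := by
    refine lTensor_sep_of_finite (ι := J) (N := fun j => N j.1) B
      (fun j => (v j.1).comp M₀.subtype) (fun x hx => hJ x (fun i hi => hx ⟨i, hi⟩)) τ₀ (fun j => ?_)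
    rw [LinearMap.lTensor_comp, LinearMap.comp_apply, hτ₀, hτ j.1]
  rw [← hτ₀, h0, map_zero]

end Groth.Agent.Lib.Helper25.SepAlg
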