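import Mathlib
import Groth.Agent.Lib.Helper2.NilpFree2
import Groth.Agent.S9158

/-!
# helper25 — StratFree: stratification of the base by principal opens of closed subschemes over
which a flat module becomes free (EGA IV 8.9.5 / 11.?)

* `free_of_flat_of_nilpotent`: flat + free modulo a nilpotent ideal ⇒ free (via helper2's `NilpFree2`).
* `exists_free_stratum`: `R` Noetherian, `S` of finite type, `M` finite over `S` and flat over `R`,
  `I ≠ ⊤`: there is `f ∉ √I` with `M ⊗ R_f/I R_f` free (generic freeness over the reduced ring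
  `R/√I`, `S9158`, then nilpotent lifting).
* `exists_strat`: Noetherian induction: a list `l` with `I + (l) = ⊤` and all strata free.
* `freeAt_transfer`: base change of a free stratum along `R₀ → A`.
-/

set_option linter.style.haveILetI false

namespace Groth.Agent.Lib.Helper25.StratFree

open TensorProduct

universe u

theorem free_of_flat_of_nilpotent {A : Type u} [CommRing A] (M : Type u) [AddCommGroup M]
    [Module A M] (J : Ideal A) (hJ : IsNilpotent J) [Module.Flat A M]
    (hfree : Module.Free (A ⧸ J) ((A ⧸ J) ⊗[A] M)) : Module.Free A M := by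
  obtain ⟨R₀, hR₀⟩ := Groth.Agent.Lib.Helper2.NilpFree2.exists_ideal_forall_free_iff M J hJ hfree
  obtain ⟨h1, h2⟩ := hR₀ A
  haveI : Module.Flat A (A ⊗[A] M) := Module.Flat.of_linearEquiv (TensorProduct.lid A M)
  haveI : Module.Free A (A ⊗[A] M) := h1.2 (h2.1 inferInstance)
  exact Module.Free.of_equiv (TensorProduct.lid A M)

theorem free_of_tower {R : Type u} [CommRing R] (M : Type u) [AddCommGroup M] [Module R M]
    (P T : Type u) [CommRing P] [CommRing T] [Algebra R P] [Algebra R T] [Algebra P T]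
    [IsScalarTower R P T] [Module.Free P (P ⊗[R] M)] : Module.Free T (T ⊗[R] M) :=
  Module.Free.of_equiv (AlgebraTensorModule.cancelBaseChange R P T T M)

theorem free_of_localizedModule_free {R : Type u} [CommRing R] (M : Type u) [AddCommGroup M]
    [Module R M] (f : R)
    (hfree : Module.Free (Localization.Away f) (LocalizedModule (Submonoid.powers f) M))
    (T : Type u) [CommRing T] [Algebra R T] (hf : IsUnit (algebraMap R T f)) :
    Module.Free T (T ⊗[R] M) := by
  letI : Algebra (Localization.Away f) T :=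
    (IsLocalization.Away.lift (S := Localization.Away f) f (g := algebraMap R T) hf).toAlgebra
  haveI : IsScalarTower R (Localization.Away f) T := IsScalarTower.of_algebraMap_eq fun r => by
    change _ = IsLocalization.Away.lift (S := Localization.Away f) f (g := algebraMap R T) hf _
    rw [IsLocalization.Away.lift_eq]
  haveI : Module.Free (Localization.Away f) (Localization.Away f ⊗[R] M) :=
    Module.Free.of_equiv (LocalizedModule.isBaseChange (Submonoid.powers f) M).equiv.symm
  exact free_of_tower M (Localization.Away f) T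

section Key

variable {R : Type u} [CommRing R]

/-- Lifting freeness from `(R/N)_f` to an `R`-algebra `A` in which `f` is invertible and `N A` is
nilpotent, for a flat module. -/
theorem free_of_nilpotent_of_localized (M : Type u) [AddCommGroup M] [Module R M] [Module.Flat R M]
    (N : Ideal R) (f : R) (M' : Type u) [AddCommGroup M'] [Module (R ⧸ N) M']
    (e₁ : M' ≃ₗ[R ⧸ N] (R ⧸ N) ⊗[R] M)
    (hfree : Module.Free (Localization.Away (Ideal.Quotient.mk N f))
      (LocalizedModule (Submonoid.powers (Ideal.Quotient.mk N f)) M'))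
    (A : Type u) [CommRing A] [Algebra R A] (hf : IsUnit (algebraMap R A f))
    (hJ : IsNilpotent (N.map (algebraMap R A))) : Module.Free A (A ⊗[R] M) := by
  set J : Ideal A := N.map (algebraMap R A) with hJdef
  have hker : ∀ a : R, a ∈ N → algebraMap R (A ⧸ J) a = 0 := by
    intro a ha
    rw [IsScalarTower.algebraMap_apply R A (A ⧸ J), Ideal.Quotient.algebraMap_eq,
      Ideal.Quotient.eq_zero_iff_mem]
    exact Ideal.mem_map_of_mem _ ha
  letI : Algebra (R ⧸ N) (A ⧸ J) :=
    RingHom.toAlgebra (Ideal.Quotient.lift N (algebraMap R (A ⧸ J)) hker)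
  haveI : IsScalarTower R (R ⧸ N) (A ⧸ J) := IsScalarTower.of_algebraMap_eq fun r => rfl
  have hunit : IsUnit (algebraMap (R ⧸ N) (A ⧸ J) (Ideal.Quotient.mk N f)) := by
    change IsUnit (algebraMap R (A ⧸ J) f)
    rw [IsScalarTower.algebraMap_apply R A (A ⧸ J)]
    exact hf.map _
  haveI h1 : Module.Free (A ⧸ J) ((A ⧸ J) ⊗[R ⧸ N] M') :=
    free_of_localizedModule_free _ _ hfree (A ⧸ J) hunit
  let e₂ : (A ⧸ J) ⊗[R ⧸ N] M' ≃ₗ[A ⧸ J] (A ⧸ J) ⊗[R ⧸ N] ((R ⧸ N) ⊗[R] M) :=
    AlgebraTensorModule.congr (LinearEquiv.refl (A ⧸ J) (A ⧸ J)) e₁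
  let e₃ : (A ⧸ J) ⊗[R ⧸ N] ((R ⧸ N) ⊗[R] M) ≃ₗ[A ⧸ J] (A ⧸ J) ⊗[R] M :=
    AlgebraTensorModule.cancelBaseChange R (R ⧸ N) (A ⧸ J) (A ⧸ J) M
  let e₄ : (A ⧸ J) ⊗[A] (A ⊗[R] M) ≃ₗ[A ⧸ J] (A ⧸ J) ⊗[R] M :=
    AlgebraTensorModule.cancelBaseChange R A (A ⧸ J) (A ⧸ J) M
  haveI h2 : Module.Free (A ⧸ J) ((A ⧸ J) ⊗[A] (A ⊗[R] M)) :=
    Module.Free.of_equiv (e₂ ≪≫ₗ e₃ ≪≫ₗ e₄.symm)
  exact free_of_flat_of_nilpotent (A ⊗[R] M) J hJ h2

/-- the ring `R_f / I R_f` -/
abbrev Q (I : Ideal R) (f : R) : Type u :=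
  Localization.Away f ⧸ I.map (algebraMap R (Localization.Away f))

variable [IsNoetherianRing R] {S : Type u} [CommRing S] [Algebra R S]
  [Algebra.FiniteType R S] (M : Type u) [AddCommGroup M] [Module S M] [Module R M]
  [IsScalarTower R S M] [Module.Finite S M] [Module.Flat R M]

attribute [local instance] Algebra.TensorProduct.rightAlgebra

include S in
theorem exists_free_stratum (I : Ideal R) (hI : I ≠ ⊤) :
    ∃ f : R, f ∉ I.radical ∧ Module.Free (Q I f) (Q I f ⊗[R] M) := by
  set N := I.radical with hN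
  have hNtop : N ≠ ⊤ := by rwa [hN, Ne, Ideal.radical_eq_top]
  haveI : IsReduced (R ⧸ N) := (Ideal.isRadical_iff_quotient_reduced N).1 (Ideal.radical_isRadical I)
  haveI : Nontrivial (R ⧸ N) := Ideal.Quotient.nontrivial_iff.2 hNtop
  obtain ⟨U, hUo, hUd, hU⟩ := Groth.Agent.S9158.result (R ⧸ N) ((R ⧸ N) ⊗[R] S)
    (((R ⧸ N) ⊗[R] S) ⊗[S] M)
  obtain ⟨u, hu⟩ := hUd.nonempty
  obtain ⟨f', hf'u, -, hfree, -⟩ := hU u hu
  obtain ⟨f, rfl⟩ := Ideal.Quotient.mk_surjective f'
  refine ⟨f, ?_, ?_⟩
  · intro hfN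
    apply hf'u
    rw [Ideal.Quotient.eq_zero_iff_mem.2 hfN]; exact zero_mem _
  · have hJ : IsNilpotent (N.map (algebraMap R (Q I f))) := by
      obtain ⟨k, hk⟩ := I.exists_radical_pow_le_of_fg (IsNoetherian.noetherian _)
      refine ⟨k, ?_⟩
      rw [Ideal.zero_eq_bot, eq_bot_iff, ← Ideal.map_pow]
      refine (Ideal.map_mono hk).trans ?_
      rw [IsScalarTower.algebraMap_eq R (Localization.Away f) (Q I f), ← Ideal.map_map]
      rw [Ideal.Quotient.algebraMap_eq, Ideal.map_quotient_self]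
    have hunit : IsUnit (algebraMap R (Q I f) f) := by
      rw [IsScalarTower.algebraMap_apply R (Localization.Away f) (Q I f)]
      exact (IsLocalization.Away.algebraMap_isUnit f).map _
    exact free_of_nilpotent_of_localized M N f (((R ⧸ N) ⊗[R] S) ⊗[S] M)
      (Algebra.IsPushout.cancelBaseChange R (R ⧸ N) S ((R ⧸ N) ⊗[R] S) M) hfree (Q I f) hunit hJ

end Key

section Strat

variable {R : Type u} [CommRing R] [IsNoetherianRing R] {S : Type u} [CommRing S] [Algebra R S]
  [Algebra.FiniteType R S] (M : Type u) [AddCommGroup M] [Module S M] [Module R M]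
  [IsScalarTower R S M] [Module.Finite S M] [Module.Flat R M]

/-- `M ⊗ R_f/K R_f` is free. -/
def FreeAt (K : Ideal R) (f : R) : Prop := Module.Free (Q K f) (Q K f ⊗[R] M)

/-- the span of the members of a list -/
def spanL (l : List R) : Ideal R := Ideal.span {a | a ∈ l}

omit [IsNoetherianRing R] in
theorem spanL_nil : spanL ([] : List R) = ⊥ := by
  simp [spanL]

omit [IsNoetherianRing R] in
theorem spanL_cons (f : R) (l : List R) : spanL (f :: l) = Ideal.span {f} ⊔ spanL l := by
  unfold spanL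
  rw [← Ideal.span_union]
  congr 1
  ext a
  simp

include S in
/-- Stratification of `Spec R` by principal opens of closed subschemes over which `M` is free,
starting from the closed subscheme `V(I)`. -/
theorem exists_strat (I : Ideal R) :
    ∃ l : List R, I ⊔ spanL l = ⊤ ∧
      ∀ (i : ℕ) (hi : i < l.length), FreeAt M (I ⊔ spanL (l.take i)) l[i] := by
  induction I using IsNoetherian.induction with
  | hgt I ih =>
    by_cases hI : I = ⊤
    · exact ⟨[], by simp [hI], fun i hi => absurd hi (by simp)⟩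
    · obtain ⟨f, hfI, hfree⟩ := exists_free_stratum (S := S) M I hI
      have hlt : I < I ⊔ Ideal.span {f} := by
        refine lt_of_le_of_ne le_sup_left fun h => hfI (Ideal.le_radical ?_)
        rw [h]
        exact Ideal.mem_sup_right (Ideal.subset_span rfl)
      obtain ⟨l', hl', hfree'⟩ := ih _ hlt
      refine ⟨f :: l', ?_, ?_⟩
      · rw [spanL_cons, ← sup_assoc]; exact hl'
      · intro i hi
        cases i with
        | zero =>
          simp only [List.take_zero, spanL_nil, sup_bot_eq, List.getElem_cons_zero]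
          exact hfree
        | succ j =>
          simp only [List.take_succ_cons, spanL_cons, List.getElem_cons_succ, ← sup_assoc]
          exact hfree' j (by simpa using hi)

end Strat

section Transfer

variable {R₀ : Type u} [CommRing R₀] (M₀ : Type u) [AddCommGroup M₀] [Module R₀ M₀]
  {A : Type u} [CommRing A] [Algebra R₀ A] (M : Type u) [AddCommGroup M] [Module A M]

/-- A free stratum gives freeness over every `R₀`-algebra in which `f₀` is invertible and `K₀`
dies. -/
theorem free_of_freeAt (K₀ : Ideal R₀) (f₀ : R₀) (h : FreeAt M₀ K₀ f₀) (T : Type u) [CommRing T]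
    [Algebra R₀ T] (hunit : IsUnit (algebraMap R₀ T f₀)) (hK : ∀ a ∈ K₀, algebraMap R₀ T a = 0) :
    Module.Free T (T ⊗[R₀] M₀) := by
  let ψ₁ : Localization.Away f₀ →+* T :=
    IsLocalization.Away.lift (S := Localization.Away f₀) f₀ (g := algebraMap R₀ T) hunit
  have hψ₁ : ∀ a ∈ K₀.map (algebraMap R₀ (Localization.Away f₀)), ψ₁ a = 0 := by
    intro a ha
    have hle : K₀.map (algebraMap R₀ (Localization.Away f₀)) ≤ RingHom.ker ψ₁ := by
      rw [Ideal.map_le_iff_le_comap]
      intro r hr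
      rw [Ideal.mem_comap, RingHom.mem_ker]
      change IsLocalization.Away.lift (S := Localization.Away f₀) f₀
        (g := algebraMap R₀ T) hunit _ = 0
      rw [IsLocalization.Away.lift_eq]
      exact hK r hr
    exact hle ha
  letI : Algebra (Q K₀ f₀) T := RingHom.toAlgebra (Ideal.Quotient.lift _ ψ₁ hψ₁)
  haveI : IsScalarTower R₀ (Q K₀ f₀) T :=
    IsScalarTower.of_algebraMap_eq fun r => by
      change _ = Ideal.Quotient.lift _ ψ₁ hψ₁ (algebraMap R₀ (Q K₀ f₀) r)
      rw [IsScalarTower.algebraMap_apply R₀ (Localization.Away f₀) (Q K₀ f₀),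
        Ideal.Quotient.algebraMap_eq, Ideal.Quotient.lift_mk]
      change _ = IsLocalization.Away.lift (S := Localization.Away f₀) f₀
        (g := algebraMap R₀ T) hunit _
      rw [IsLocalization.Away.lift_eq]
  haveI : Module.Free (Q K₀ f₀) (Q K₀ f₀ ⊗[R₀] M₀) := h
  exact free_of_tower M₀ (Q K₀ f₀) T

/-- Transfer of freeness of a stratum along a base change `R₀ → A`. -/
theorem freeAt_transfer (e : A ⊗[R₀] M₀ ≃ₗ[A] M) (K₀ : Ideal R₀) (f₀ : R₀) (K : Ideal A) (f : A)
    (hf : f = algebraMap R₀ A f₀) (hK : K₀.map (algebraMap R₀ A) ≤ K) (h : FreeAt M₀ K₀ f₀) :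
    Module.Free (Q K f) (Q K f ⊗[A] M) := by
  subst hf
  haveI : IsScalarTower R₀ A (Q K (algebraMap R₀ A f₀)) := inferInstance
  have hunit : IsUnit (algebraMap R₀ (Q K (algebraMap R₀ A f₀)) f₀) := by
    rw [IsScalarTower.algebraMap_apply R₀ A (Q K (algebraMap R₀ A f₀)),
      IsScalarTower.algebraMap_apply A (Localization.Away (algebraMap R₀ A f₀))
        (Q K (algebraMap R₀ A f₀))]
    exact (IsLocalization.Away.algebraMap_isUnit (algebraMap R₀ A f₀)).map _
  let ψ₁ : Localization.Away f₀ →+* Q K (algebraMap R₀ A f₀) :=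
    IsLocalization.Away.lift (S := Localization.Away f₀) f₀
      (g := algebraMap R₀ (Q K (algebraMap R₀ A f₀))) hunit
  have hψ₁ : ∀ a ∈ K₀.map (algebraMap R₀ (Localization.Away f₀)), ψ₁ a = 0 := by
    intro a ha
    have hle : K₀.map (algebraMap R₀ (Localization.Away f₀)) ≤ RingHom.ker ψ₁ := by
      rw [Ideal.map_le_iff_le_comap]
      intro r hr
      rw [Ideal.mem_comap, RingHom.mem_ker]
      change IsLocalization.Away.lift (S := Localization.Away f₀) f₀
        (g := algebraMap R₀ (Q K (algebraMap R₀ A f₀))) hunit _ = 0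
      rw [IsLocalization.Away.lift_eq,
        IsScalarTower.algebraMap_apply R₀ A (Q K (algebraMap R₀ A f₀)),
        IsScalarTower.algebraMap_apply A (Localization.Away (algebraMap R₀ A f₀))
          (Q K (algebraMap R₀ A f₀)), Ideal.Quotient.algebraMap_eq, Ideal.Quotient.eq_zero_iff_mem]
      exact Ideal.mem_map_of_mem _ (hK (Ideal.mem_map_of_mem _ hr))
    exact hle ha
  letI : Algebra (Q K₀ f₀) (Q K (algebraMap R₀ A f₀)) :=
    RingHom.toAlgebra (Ideal.Quotient.lift _ ψ₁ hψ₁)
  haveI : IsScalarTower R₀ (Q K₀ f₀) (Q K (algebraMap R₀ A f₀)) :=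
    IsScalarTower.of_algebraMap_eq fun r => by
      change _ = Ideal.Quotient.lift _ ψ₁ hψ₁ (algebraMap R₀ (Q K₀ f₀) r)
      rw [IsScalarTower.algebraMap_apply R₀ (Localization.Away f₀) (Q K₀ f₀),
        Ideal.Quotient.algebraMap_eq, Ideal.Quotient.lift_mk]
      change _ = IsLocalization.Away.lift (S := Localization.Away f₀) f₀
        (g := algebraMap R₀ (Q K (algebraMap R₀ A f₀))) hunit _
      rw [IsLocalization.Away.lift_eq]
  haveI : Module.Free (Q K₀ f₀) (Q K₀ f₀ ⊗[R₀] M₀) := h
  haveI h1 : Module.Free (Q K (algebraMap R₀ A f₀)) (Q K (algebraMap R₀ A f₀) ⊗[R₀] M₀) :=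
    free_of_tower M₀ (Q K₀ f₀) (Q K (algebraMap R₀ A f₀))
  let e₁ : Q K (algebraMap R₀ A f₀) ⊗[A] (A ⊗[R₀] M₀) ≃ₗ[Q K (algebraMap R₀ A f₀)]
      Q K (algebraMap R₀ A f₀) ⊗[R₀] M₀ :=
    AlgebraTensorModule.cancelBaseChange R₀ A (Q K (algebraMap R₀ A f₀))
      (Q K (algebraMap R₀ A f₀)) M₀
  let e₂ : Q K (algebraMap R₀ A f₀) ⊗[A] (A ⊗[R₀] M₀) ≃ₗ[Q K (algebraMap R₀ A f₀)]
      Q K (algebraMap R₀ A f₀) ⊗[A] M :=
    AlgebraTensorModule.congr (LinearEquiv.refl _ _) e
  exact Module.Free.of_equiv (e₁.symm ≪≫ₗ e₂)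

end Transfer

end Groth.Agent.Lib.Helper25.StratFree
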