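import Mathlib
import Groth.Agent.Lib.Helper25.StratFree
import Groth.Agent.Lib.Helper25.SepAlg
import Groth.Agent.Lib.Helper21.FlatDescQ

/-!
# helper25 — SepFlat: a family of linear maps separating on all basic opens stays separating after a flat base change
of finite presentation (EGA IV 11.9.?, algebraic core)
-/

set_option autoImplicit false
set_option linter.unusedVariables false
set_option linter.style.haveILetI false
universe u
open TensorProduct

namespace Groth.Agent.Lib.Helper25.SepFlat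

open Groth.Agent.Lib.Helper25.StratFree

section LemmaF

variable {A : Type u} [CommRing A] {X : Type u} [AddCommGroup X] [Module A X] {ι : Type u}
  {Y : ι → Type u} [∀ i, AddCommGroup (Y i)] [∀ i, Module A (Y i)]

/-- if `P` is a direct sum of copies of `Q`, separation after tensoring with `Q` implies separation after
tensoring with `P` -/
theorem lTensor_sep_of_finsupp (Q P : Type u) [AddCommGroup Q] [Module A Q] [AddCommGroup P] [Module A P]
    {T : Type u} (e : P ≃ₗ[A] (T →₀ Q)) (w : ∀ i, X →ₗ[A] Y i)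
    (hQ : ∀ z : Q ⊗[A] X, (∀ i, (w i).lTensor Q z = 0) → z = 0)
    (z : P ⊗[A] X) (hz : ∀ i, (w i).lTensor P z = 0) : z = 0 := by
  classical
  apply (TensorProduct.congr e (LinearEquiv.refl A X)).injective
  apply (TensorProduct.finsuppLeft A A Q X T).injective
  rw [map_zero, map_zero]
  ext t
  rw [TensorProduct.finsuppLeft_apply, Finsupp.zero_apply]
  refine hQ _ (fun i => ?_)
  have h1 : ∀ y : P ⊗[A] X, (w i).lTensor Q ((LinearMap.rTensor X (Finsupp.lapply t))
      ((TensorProduct.congr e (LinearEquiv.refl A X)) y)) =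
      (LinearMap.rTensor (Y i) (Finsupp.lapply t))
        ((TensorProduct.congr e (LinearEquiv.refl A (Y i))) ((w i).lTensor P y)) := by
    intro y
    induction y using TensorProduct.induction_on with
    | zero => simp
    | tmul a b => simp
    | add a b ha hb => simp only [map_add, ha, hb]
  rw [h1, hz i, map_zero, map_zero]

end LemmaF

section Qsec

variable {A : Type u} [CommRing A] (p : Ideal A) (f : A)

theorem isUnit_algebraMap_Q : IsUnit (algebraMap A (Q p f) f) := by
  rw [IsScalarTower.algebraMap_apply A (Localization.Away f) (Q p f)]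
  exact (IsLocalization.Away.algebraMap_isUnit f).map _

theorem smulQ_def (a : A) (q : Q p f) : a • q = algebraMap A (Q p f) a * q :=
  @Algebra.smul_def A (Q p f) _ _ _ a q

variable {X : Type u} [AddCommGroup X] [Module A X]

/-- (L3) -/
theorem one_tmul_eq_zero_of_pow_smul (x : X) (n : ℕ) (h : f ^ n • x = 0) : (1 : Q p f) ⊗ₜ[A] x = 0 := by
  obtain ⟨v, hv⟩ := (isUnit_algebraMap_Q p f).pow n
  have h1 : (1 : Q p f) = f ^ n • (↑v⁻¹ : Q p f) := by
    rw [smulQ_def, map_pow, ← hv, Units.mul_inv]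
  rw [h1, TensorProduct.smul_tmul, h, TensorProduct.tmul_zero]

/-- (L2) -/
theorem exists_pow_smul_eq_one_tmul (z : Q p f ⊗[A] X) : ∃ (k : ℕ) (x : X), f ^ k • z = 1 ⊗ₜ[A] x := by
  induction z using TensorProduct.induction_on with
  | zero => exact ⟨0, 0, by simp⟩
  | tmul q x =>
    obtain ⟨r, rfl⟩ := Ideal.Quotient.mk_surjective q
    obtain ⟨⟨a, s⟩, hs⟩ := IsLocalization.surj (Submonoid.powers f) r
    obtain ⟨k, hk⟩ := s.2
    refine ⟨k, a • x, ?_⟩
    rw [TensorProduct.smul_tmul', ← TensorProduct.smul_tmul]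
    congr 1
    rw [smulQ_def p f (f ^ k), smulQ_def p f a, mul_one,
      IsScalarTower.algebraMap_apply A (Localization.Away f) (Q p f),
      IsScalarTower.algebraMap_apply A (Localization.Away f) (Q p f), Ideal.Quotient.algebraMap_eq, ← map_mul]
    congr 1
    change f ^ k = ↑s at hk
    rw [hk, mul_comm]
    exact hs
  | add z₁ z₂ h₁ h₂ =>
    obtain ⟨k₁, x₁, h₁⟩ := h₁
    obtain ⟨k₂, x₂, h₂⟩ := h₂
    refine ⟨k₁ + k₂, f ^ k₂ • x₁ + f ^ k₁ • x₂, ?_⟩
    rw [smul_add, TensorProduct.tmul_add, TensorProduct.tmul_smul, TensorProduct.tmul_smul, ← h₁, ← h₂,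
      smul_smul, smul_smul, pow_add, mul_comm (f ^ k₁) (f ^ k₂)]

/-- (L1) -/
theorem exists_pow_smul_eq_zero_of_one_tmul (hX : ∀ a ∈ p, ∀ x : X, a • x = 0) (x : X)
    (h : (1 : Q p f) ⊗ₜ[A] x = 0) : ∃ n : ℕ, f ^ n • x = 0 := by
  let Xf := LocalizedModule (Submonoid.powers f) X
  have htors : Module.IsTorsionBySet (Localization.Away f) Xf
      (p.map (algebraMap A (Localization.Away f)) : Set (Localization.Away f)) := by
    rw [Ideal.map, ← Module.isTorsionBySet_iff_is_torsion_by_span]
    rintro y ⟨_, ⟨a, ha, rfl⟩⟩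
    change algebraMap A (Localization.Away f) a • y = 0
    rw [algebraMap_smul]
    induction y using LocalizedModule.induction_on with
    | h m s => rw [LocalizedModule.smul'_mk, hX a ha, LocalizedModule.zero_mk]
  letI : Module (Q p f) Xf := htors.module
  haveI : IsScalarTower A (Q p f) Xf := IsScalarTower.of_algebraMap_smul fun a y => by
    rw [IsScalarTower.algebraMap_apply A (Localization.Away f) (Q p f), Ideal.Quotient.algebraMap_eq]
    refine (Module.IsTorsionBySet.mk_smul htors _ y).trans ?_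
    rw [algebraMap_smul]
  let g : Q p f ⊗[A] X →ₗ[Q p f] Xf :=
    LinearMap.liftBaseChange (Q p f) (LocalizedModule.mkLinearMap (Submonoid.powers f) X)
  have hg : g ((1 : Q p f) ⊗ₜ[A] x) = LocalizedModule.mkLinearMap (Submonoid.powers f) X x := by
    rw [LinearMap.liftBaseChange_tmul, one_smul]
  rw [h, map_zero] at hg
  have := (IsLocalizedModule.eq_zero_iff (Submonoid.powers f)
    (LocalizedModule.mkLinearMap (Submonoid.powers f) X)).1 hg.symm
  obtain ⟨⟨_, n, rfl⟩, hn⟩ := this
  exact ⟨n, hn⟩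

/-- (SQ) a family separating on `D(f)` between modules killed by `p` is separating after tensoring with
`Q = A_f / p A_f` -/
theorem sepQ {M₁ : Type u} [AddCommGroup M₁] [Module A M₁] {ι : Type u} {N₁ : ι → Type u}
    [∀ i, AddCommGroup (N₁ i)] [∀ i, Module A (N₁ i)]
    (hN : ∀ i, ∀ a ∈ p, ∀ y : N₁ i, a • y = 0) (w : ∀ i, M₁ →ₗ[A] N₁ i)
    (hw : ∀ x : M₁, (∀ i, ∃ n : ℕ, f ^ n • w i x = 0) → ∃ n : ℕ, f ^ n • x = 0)
    (z : Q p f ⊗[A] M₁) (hz : ∀ i, (w i).lTensor (Q p f) z = 0) : z = 0 := by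
  obtain ⟨k, x, hk⟩ := exists_pow_smul_eq_one_tmul p f z
  have h1 : ∀ i, ∃ n : ℕ, f ^ n • w i x = 0 := by
    intro i
    refine exists_pow_smul_eq_zero_of_one_tmul p f (hN i) (w i x) ?_
    have := congrArg ((w i).lTensor (Q p f)) hk
    rw [map_smul, hz i, smul_zero, LinearMap.lTensor_tmul] at this
    exact this.symm
  obtain ⟨n, hn⟩ := hw x h1
  have h2 : f ^ k • z = 0 := by rw [hk]; exact one_tmul_eq_zero_of_pow_smul p f x n hn
  obtain ⟨v, hv⟩ := (isUnit_algebraMap_Q p f).pow k
  have h3 : (↑v : Q p f) • z = 0 := by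
    rw [hv, ← map_pow, algebraMap_smul]
    exact h2
  exact (v.isUnit.smul_eq_zero).1 h3

end Qsec

section Noeth

variable {A : Type u} [CommRing A] {A' : Type u} [CommRing A'] [Algebra A A']
  {M : Type u} [AddCommGroup M] [Module A M]

/-- multiplication by the members of a finite set -/
def mulPi (S : Finset A) (M : Type u) [AddCommGroup M] [Module A M] : M →ₗ[A] (S → M) :=
  LinearMap.pi (fun a => (a : A) • LinearMap.id)

theorem mem_ker_mulPi (S : Finset A) (x : M) : x ∈ LinearMap.ker (mulPi S M) ↔ ∀ a ∈ S, a • x = 0 := by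
  rw [LinearMap.mem_ker]
  constructor
  · intro h a ha
    exact congrFun h ⟨a, ha⟩
  · intro h
    funext a
    exact h a.1 a.2

theorem smul_eq_zero_of_mem_span (S : Finset A) (a : A) (ha : a ∈ Ideal.span (S : Set A))
    (x : LinearMap.ker (mulPi S M)) : a • x = 0 := by
  have hle : Ideal.span (S : Set A) ≤ Module.annihilator A (LinearMap.ker (mulPi S M)) := by
    rw [Ideal.span_le]
    intro b hb
    rw [SetLike.mem_coe, Module.mem_annihilator]
    intro y
    exact Subtype.ext ((mem_ker_mulPi S y.1).1 y.2 b hb)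
  exact Module.mem_annihilator.1 (hle ha) x

theorem mem_range_lTensor_ker [Module.Flat A A'] (S : Finset A) (x : A' ⊗[A] M) (hx : ∀ a ∈ S, a • x = 0) :
    x ∈ LinearMap.range ((LinearMap.ker (mulPi S M)).subtype.lTensor A') := by
  classical
  have hex := Module.Flat.lTensor_exact A' (LinearMap.exact_subtype_ker_map (mulPi S M))
  refine (hex x).1 ?_
  apply (TensorProduct.piRight A A A' (fun _ : S => M)).injective
  rw [map_zero]
  funext a
  have : ∀ z : A' ⊗[A] M, TensorProduct.piRight A A A' (fun _ : S => M) ((mulPi S M).lTensor A' z) a =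
      (a : A) • z := by
    intro z
    induction z using TensorProduct.induction_on with
    | zero => simp
    | tmul b m => simp [mulPi]
    | add x y hx hy => simp only [map_add, Pi.add_apply, hx, hy, smul_add]
  rw [this, hx a.1 a.2]
  rfl

variable {ι : Type u} {N : ι → Type u} [∀ i, AddCommGroup (N i)] [∀ i, Module A (N i)]

/-- an element killed (as an element of an `A'`-module) by exactly a prime ideal, extracted from a nonzero
element -/
theorem exists_smul_ann_prime [IsNoetherianRing A'] {W : Type u} [AddCommGroup W] [Module A' W] (τ : W)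
    (hτ : τ ≠ 0) : ∃ (a' : A') (q : Ideal A'), q.IsPrime ∧ ∀ b : A', b • (a' • τ) = 0 ↔ b ∈ q := by
  let W₀ := Submodule.span A' {τ}
  haveI : Nontrivial W₀ := ⟨⟨⟨τ, Submodule.mem_span_singleton_self τ⟩, 0, fun h => hτ (congrArg Subtype.val h)⟩⟩
  obtain ⟨q, hq⟩ := associatedPrimes.nonempty A' W₀
  rw [AssociatedPrimes.mem_iff, isAssociatedPrime_iff] at hq
  obtain ⟨hqp, ⟨y, hy⟩, rfl⟩ := hq
  obtain ⟨a', rfl⟩ := Submodule.mem_span_singleton.1 hy
  refine ⟨a', _, hqp, fun b => ?_⟩
  rw [Submodule.mem_colon_singleton, Submodule.mem_bot]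
  constructor
  · intro h
    exact Subtype.ext h
  · intro h
    exact congrArg Subtype.val h

set_option maxHeartbeats 1000000 in
/-- **Noetherian case.** -/
theorem lTensor_sep_of_noetherian [IsNoetherianRing A] [Algebra.FiniteType A A'] [Module.Flat A A']
    (v : ∀ i, M →ₗ[A] N i)
    (hv : ∀ (f : A) (x : M), (∀ i, ∃ n : ℕ, f ^ n • v i x = 0) → ∃ n : ℕ, f ^ n • x = 0)
    (τ : A' ⊗[A] M) (hτ : ∀ i, (v i).lTensor A' τ = 0) : τ = 0 := by
  classical
  by_contra hne
  haveI : IsNoetherianRing A' := Algebra.FiniteType.isNoetherianRing A A'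
  obtain ⟨a', q, hqp, hq⟩ := exists_smul_ann_prime (A' := A') τ hne
  set τ' := a' • τ with hτ'
  have hτ'0 : ∀ i, (v i).lTensor A' τ' = 0 := by
    intro i
    have := (v i).baseChange A' |>.map_smul a' τ
    rw [LinearMap.baseChange_eq_ltensor, hτ i, smul_zero] at this
    exact this
  let p : Ideal A := q.comap (algebraMap A A')
  haveI : p.IsPrime := Ideal.comap_isPrime _ q
  obtain ⟨S, hS⟩ := (isNoetherianRing_iff_ideal_fg A).1 inferInstance p
  let M₁ := LinearMap.ker (mulPi S M)
  let N₁ : ι → Type u := fun i => LinearMap.ker (mulPi S (N i))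
  have hpM : ∀ a ∈ p, ∀ x : M₁, a • x = 0 := fun a ha x => smul_eq_zero_of_mem_span S a (hS ▸ ha) x
  have hpN : ∀ i, ∀ a ∈ p, ∀ y : N₁ i, a • y = 0 := fun i a ha y =>
    smul_eq_zero_of_mem_span S a (hS ▸ ha) y
  -- τ' comes from M₁
  have hSτ : ∀ a ∈ S, a • τ' = 0 := by
    intro a ha
    have hap : a ∈ p := hS ▸ Ideal.subset_span ha
    have : algebraMap A A' a • τ' = 0 := (hq _).2 hap
    rwa [algebraMap_smul] at this
  obtain ⟨τ₁, hτ₁⟩ := mem_range_lTensor_ker S τ' hSτ
  -- restricted maps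
  have hvmem : ∀ i, ∀ x ∈ M₁, v i x ∈ LinearMap.ker (mulPi S (N i)) := by
    intro i x hx
    rw [mem_ker_mulPi] at hx ⊢
    intro a ha
    rw [← map_smul, hx a ha, map_zero]
  let w : ∀ i, M₁ →ₗ[A] N₁ i := fun i => (v i).restrict (hvmem i)
  have hw : ∀ (f : A) (x : M₁), (∀ i, ∃ n : ℕ, f ^ n • w i x = 0) → ∃ n : ℕ, f ^ n • x = 0 := by
    intro f x hx
    obtain ⟨n, hn⟩ := hv f x.1 (fun i => by
      obtain ⟨n, hn⟩ := hx i
      exact ⟨n, congrArg Subtype.val hn⟩)
    exact ⟨n, Subtype.ext hn⟩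
  have hwτ : ∀ i, (w i).lTensor A' τ₁ = 0 := by
    intro i
    have hinj := Module.Flat.lTensor_preserves_injective_linearMap (M := A')
      (LinearMap.ker (mulPi S (N i))).subtype (Submodule.subtype_injective _)
    apply hinj
    rw [map_zero, ← LinearMap.comp_apply, ← LinearMap.lTensor_comp]
    have hcomp : (LinearMap.ker (mulPi S (N i))).subtype ∘ₗ w i = v i ∘ₗ M₁.subtype := rfl
    rw [hcomp, LinearMap.lTensor_comp, LinearMap.comp_apply, hτ₁, hτ'0 i]
  -- the free stratum
  have hptop : p ≠ ⊤ := Ideal.IsPrime.ne_top inferInstance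
  obtain ⟨f, hfp, hfree⟩ := exists_free_stratum (S := A') A' p hptop
  haveI := hfree
  let P := Q p f ⊗[A] A'
  let b := Module.Free.chooseBasis (Q p f) P
  let e : P ≃ₗ[A] (Module.Free.ChooseBasisIndex (Q p f) P →₀ Q p f) := b.repr.restrictScalars A
  have hP := lTensor_sep_of_finsupp (Q p f) P e w (sepQ p f hpN w (hw f))
  let ψ : A' →ₗ[A] P := TensorProduct.mk A (Q p f) A' 1
  have hz : LinearMap.rTensor M₁ ψ τ₁ = 0 := by
    refine hP _ (fun i => ?_)
    rw [← LinearMap.comp_apply, LinearMap.lTensor_comp_rTensor, ← LinearMap.rTensor_comp_lTensor,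
      LinearMap.comp_apply, hwτ i, map_zero]
  have hassoc : ∀ t : A' ⊗[A] M₁, TensorProduct.assoc A (Q p f) A' M₁ (LinearMap.rTensor M₁ ψ t) =
      (1 : Q p f) ⊗ₜ[A] t := by
    intro t
    induction t using TensorProduct.induction_on with
    | zero => simp
    | tmul x y =>
      rw [LinearMap.rTensor_tmul]
      exact TensorProduct.assoc_tmul _ _ _
    | add x y hx hy => simp only [map_add, hx, hy, TensorProduct.tmul_add]
  have h1 : (1 : Q p f) ⊗ₜ[A] τ₁ = 0 := by rw [← hassoc, hz, map_zero]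
  have hpX : ∀ a ∈ p, ∀ t : A' ⊗[A] M₁, a • t = 0 := by
    intro a ha t
    induction t using TensorProduct.induction_on with
    | zero => simp
    | tmul x y => rw [TensorProduct.smul_tmul', TensorProduct.smul_tmul, hpM a ha y, TensorProduct.tmul_zero]
    | add x y hx hy => rw [smul_add, hx, hy, add_zero]
  obtain ⟨n, hn⟩ := exists_pow_smul_eq_zero_of_one_tmul p f hpX τ₁ h1
  have h2 : f ^ n • τ' = 0 := by rw [← hτ₁, ← map_smul, hn, map_zero]
  have h3 : algebraMap A A' (f ^ n) ∈ q := (hq _).1 (by rw [algebraMap_smul]; exact h2)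
  rw [map_pow] at h3
  have h4 : f ∈ p := hqp.mem_of_pow_mem n h3
  exact hfp (Ideal.le_radical h4)

end Noeth

section General

variable {A : Type u} [CommRing A] {A' : Type u} [CommRing A'] [Algebra A A']
  {M : Type u} [AddCommGroup M] [Module A M]
  {ι : Type u} {N : ι → Type u} [∀ i, AddCommGroup (N i)] [∀ i, Module A (N i)]

/-- **Core lemma.** A family of linear maps which is separating on all basic opens of `Spec A` stays separating
after base change to a flat `A`-algebra of finite presentation. -/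
theorem lTensor_sep_of_flat_fp [Algebra.FinitePresentation A A'] [Module.Flat A A']
    (v : ∀ i, M →ₗ[A] N i)
    (hv : ∀ (f : A) (x : M), (∀ i, ∃ n : ℕ, f ^ n • v i x = 0) → ∃ n : ℕ, f ^ n • x = 0)
    (τ : A' ⊗[A] M) (hτ : ∀ i, (v i).lTensor A' τ = 0) : τ = 0 := by
  obtain ⟨R₀, _, _, S₀, _, _, _, _, _, _, hft, hft', hflat, hpo⟩ :=
    Groth.Agent.Lib.Helper21.FlatDesc.exists_flat_algebra_model A A'
  haveI := hft'
  haveI := hflat
  haveI : IsNoetherianRing R₀ := Algebra.FiniteType.isNoetherianRing ℤ R₀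
  haveI : Algebra.IsPushout R₀ S₀ A A' := hpo.symm
  letI : Module R₀ M := Module.compHom M (algebraMap R₀ A)
  haveI : IsScalarTower R₀ A M := IsScalarTower.of_compHom _ _ _
  letI : ∀ i, Module R₀ (N i) := fun i => Module.compHom (N i) (algebraMap R₀ A)
  haveI : ∀ i, IsScalarTower R₀ A (N i) := fun i => IsScalarTower.of_compHom _ _ _
  let E := Algebra.IsPushout.cancelBaseChange R₀ S₀ A A' M
  let EN := fun i => Algebra.IsPushout.cancelBaseChange R₀ S₀ A A' (N i)
  have hnat : ∀ i (σ : S₀ ⊗[R₀] M), (EN i).symm (((v i).restrictScalars R₀).lTensor S₀ σ) =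
      (v i).lTensor A' (E.symm σ) := by
    intro i σ
    induction σ using TensorProduct.induction_on with
    | zero => simp
    | tmul s m =>
      rw [LinearMap.lTensor_tmul, Algebra.IsPushout.cancelBaseChange_symm_tmul,
        Algebra.IsPushout.cancelBaseChange_symm_tmul, LinearMap.lTensor_tmul]
      rfl
    | add x y hx hy => simp only [map_add, hx, hy]
  have h0 : E τ = 0 := by
    refine lTensor_sep_of_noetherian (A := R₀) (A' := S₀) (fun i => (v i).restrictScalars R₀) ?_ (E τ)
      (fun i => ?_)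
    · intro f₀ x hx
      obtain ⟨n, hn⟩ := hv (algebraMap R₀ A f₀) x (fun i => by
        obtain ⟨n, hn⟩ := hx i
        refine ⟨n, ?_⟩
        rw [← map_pow, algebraMap_smul]
        exact hn)
      refine ⟨n, ?_⟩
      rw [← map_pow, algebraMap_smul] at hn
      exact hn
    · apply (EN i).symm.injective
      rw [hnat, LinearEquiv.symm_apply_apply, hτ i, map_zero]
  exact E.injective (h0.trans (map_zero E).symm)

/-- the same, in terms of `LinearMap.baseChange` -/
theorem baseChange_sep_of_flat_fp [Algebra.FinitePresentation A A'] [Module.Flat A A']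
    (v : ∀ i, M →ₗ[A] N i)
    (hv : ∀ (f : A) (x : M), (∀ i, ∃ n : ℕ, f ^ n • v i x = 0) → ∃ n : ℕ, f ^ n • x = 0)
    (τ : A' ⊗[A] M) (hτ : ∀ i, (v i).baseChange A' τ = 0) : τ = 0 :=
  lTensor_sep_of_flat_fp v hv τ (fun i => by rw [← LinearMap.baseChange_eq_ltensor]; exact hτ i)

end General

end Groth.Agent.Lib.Helper25.SepFlat
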