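import Mathlib
import Groth.Prelude.Def_CInt
import Groth.Agent.Lib.Helper7.Hartogs
import Groth.Agent.Lib.Helper25.SepFlat

/-!
# helper25 — SchDenseFlat: the preimage of a schematically dense open under a flat morphism locally of finite
presentation is schematically dense (EGA IV 11.10.5 (ii), no Noetherian hypothesis).
-/

set_option backward.isDefEq.respectTransparency.types false
set_option autoImplicit false
set_option linter.unusedVariables false
set_option linter.style.haveILetI false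
universe u
open AlgebraicGeometry CategoryTheory Opposite TopologicalSpace TensorProduct

namespace Groth.Agent.Lib.Helper25.SchDenseFlat

open Groth.Agent.Lib.Helper7.Hartogs

variable {X : Scheme.{u}}

/-- a function killed by a power of `a` vanishes on `D(a)` -/
theorem res_basicOpen_eq_zero_iff {W : X.Opens} (hW : IsAffineOpen W) (a r : Γ(X, W)) :
    res (X.basicOpen_le a) r = 0 ↔ ∃ n : ℕ, a ^ n * r = 0 := by
  haveI := hW.isLocalization_basicOpen a
  rw [← algebraMap_eq_res, IsLocalization.map_eq_zero_iff (Submonoid.powers a)]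
  constructor
  · rintro ⟨⟨_, n, rfl⟩, hn⟩
    exact ⟨n, hn⟩
  · rintro ⟨n, hn⟩
    exact ⟨⟨a ^ n, n, rfl⟩, hn⟩

/-- the family of restrictions `O(W) → O(D(a))`, `D(a) ⊆ V`, of a schematically dense open `V` is separating on all
basic opens of the affine open `W` -/
theorem sepAlg_of_isSchematicallyDense (V : X.Opens) (hV : CInt.IsSchematicallyDense V) {W : X.Opens}
    (hW : IsAffineOpen W) (f x : Γ(X, W))
    (hx : ∀ a : {a : Γ(X, W) // X.basicOpen a ≤ V}, ∃ n : ℕ,
      f ^ n • Algebra.linearMap Γ(X, W) Γ(X, X.basicOpen a.1) x = 0) :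
    ∃ n : ℕ, f ^ n • x = 0 := by
  have h0 : res (X.basicOpen_le f) x = 0 := by
    have hinj : Function.Injective (res (inf_le_left : X.basicOpen f ⊓ V ≤ X.basicOpen f)) :=
      hV (X.basicOpen f)
    apply hinj
    rw [map_zero]
    apply TopCat.Sheaf.eq_of_locally_eq' X.sheaf
      (fun a : {a : Γ(X, W) // X.basicOpen a ≤ V} => X.basicOpen f ⊓ X.basicOpen a.1) (X.basicOpen f ⊓ V)
      (fun a => homOfLE (inf_le_inf_left _ a.2))
    · rintro y ⟨hyf, hyV⟩
      obtain ⟨a, haV, hya⟩ := hW.exists_basicOpen_le ⟨y, hyV⟩ (X.basicOpen_le f hyf)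
      exact Opens.mem_iSup.2 ⟨⟨a, haV⟩, ⟨hyf, hya⟩⟩
    · intro a
      show res (inf_le_inf_left _ a.2) (res inf_le_left (res (X.basicOpen_le f) x)) =
        res (inf_le_inf_left _ a.2) 0
      rw [map_zero, res_res, res_res]
      obtain ⟨n, hn⟩ := hx a
      have h1 : res (inf_le_right : X.basicOpen f ⊓ X.basicOpen a.1 ≤ X.basicOpen a.1)
          (f ^ n • Algebra.linearMap Γ(X, W) Γ(X, X.basicOpen a.1) x) = 0 := by rw [hn, map_zero]
      rw [Algebra.smul_def, map_mul, Algebra.linearMap_apply, algebraMap_eq_res, algebraMap_eq_res, res_res,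
        res_res, map_pow] at h1
      have hu : IsUnit (res ((inf_le_right : X.basicOpen f ⊓ X.basicOpen a.1 ≤ X.basicOpen a.1).trans
          (X.basicOpen_le a.1)) f) := by
        have h2 := RingedSpace.isUnit_res_basicOpen X.toRingedSpace f
        have h3 := h2.map (res (inf_le_left : X.basicOpen f ⊓ X.basicOpen a.1 ≤ X.basicOpen f))
        have h4 : res (inf_le_left : X.basicOpen f ⊓ X.basicOpen a.1 ≤ X.basicOpen f)
            (res (X.basicOpen_le f) f) = res ((inf_le_right : X.basicOpen f ⊓ X.basicOpen a.1 ≤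
              X.basicOpen a.1).trans (X.basicOpen_le a.1)) f := res_res _ _ _
        rw [← h4]
        exact h3
      exact ((hu.pow n).mul_right_eq_zero).1 h1
  obtain ⟨n, hn⟩ := (res_basicOpen_eq_zero_iff hW f x).1 h0
  exact ⟨n, hn⟩

/-- **EGA IV 11.10.5 (ii).** -/
theorem isSchematicallyDense_preimage_of_flat_lfp {X' : Scheme.{u}} (g : X' ⟶ X) [Flat g]
    [LocallyOfFinitePresentation g] (V : X.Opens) (hV : CInt.IsSchematicallyDense V) :
    CInt.IsSchematicallyDense (g ⁻¹ᵁ V) := by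
  intro V'
  show Function.Injective (res (inf_le_left : V' ⊓ g ⁻¹ᵁ V ≤ V'))
  rw [injective_iff_map_eq_zero]
  intro s hs
  apply TopCat.Sheaf.eq_of_locally_eq' X'.sheaf
    (fun W' : {W' : X'.affineOpens // (W'.1 : X'.Opens) ≤ V' ∧
      ∃ W : X.affineOpens, (W'.1 : X'.Opens) ≤ g ⁻¹ᵁ W.1} => (W'.1 : X'.Opens)) V'
    (fun W' => homOfLE W'.2.1)
  · intro x' hx'
    obtain ⟨W, hW, hxW, -⟩ := exists_isAffineOpen_mem_and_subset (x := g x') (U := ⊤) trivial
    obtain ⟨W', hW', hxW', hW'le⟩ :=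
      exists_isAffineOpen_mem_and_subset (x := x') (U := V' ⊓ g ⁻¹ᵁ W) ⟨hx', hxW⟩
    exact Opens.mem_iSup.2 ⟨⟨⟨W', hW'⟩, hW'le.trans inf_le_left, ⟨W, hW⟩,
      hW'le.trans inf_le_right⟩, hxW'⟩
  · rintro ⟨⟨W', hW'⟩, hW'V', ⟨W, hW⟩, hle⟩
    show res hW'V' s = res hW'V' 0
    rw [map_zero]
    set s' := res hW'V' s with hs'
    letI := (g.appLE W W' hle).hom.toAlgebra
    haveI : Module.Flat Γ(X, W) Γ(X', W') :=
      HasRingHomProperty.appLE (P := @Flat) g inferInstance ⟨W, hW⟩ ⟨W', hW'⟩ hle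
    haveI : Algebra.FinitePresentation Γ(X, W) Γ(X', W') :=
      HasRingHomProperty.appLE (P := @LocallyOfFinitePresentation) g inferInstance ⟨W, hW⟩ ⟨W', hW'⟩ hle
    have key : (s' ⊗ₜ[Γ(X, W)] (1 : Γ(X, W)) : Γ(X', W') ⊗[Γ(X, W)] Γ(X, W)) = 0 := by
      refine Groth.Agent.Lib.Helper25.SepFlat.lTensor_sep_of_flat_fp
        (ι := {a : Γ(X, W) // X.basicOpen a ≤ V})
        (N := fun a => Γ(X, X.basicOpen a.1))
        (fun a => Algebra.linearMap Γ(X, W) Γ(X, X.basicOpen a.1))
        (fun f x hx => sepAlg_of_isSchematicallyDense V hV hW f x hx) _ (fun a => ?_)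
      rw [LinearMap.lTensor_tmul, Algebra.linearMap_apply, map_one]
      -- `s'` vanishes on `D(a')`
      have hble : X'.basicOpen ((g.appLE W W' hle).hom a.1) ≤ V' ⊓ g ⁻¹ᵁ V := by
        have h1 : X'.basicOpen ((g.appLE W W' hle).hom a.1) = W' ⊓ g ⁻¹ᵁ (X.basicOpen a.1) :=
          Scheme.basicOpen_appLE g W' W hle a.1
        rw [h1]
        exact le_inf (inf_le_left.trans hW'V') (inf_le_right.trans (fun x hx => a.2 hx))
      have h2 : res (X'.basicOpen_le ((g.appLE W W' hle).hom a.1)) s' = 0 := by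
        rw [hs', res_res]
        have : res ((X'.basicOpen_le ((g.appLE W W' hle).hom a.1)).trans hW'V') s =
            res hble (res inf_le_left s) := by rw [res_res]
        rw [this, hs, map_zero]
      obtain ⟨n, hn⟩ := (res_basicOpen_eq_zero_iff hW' _ s').1 h2
      -- `a` is a unit in `O(D(a))`
      have hu : IsUnit (algebraMap Γ(X, W) Γ(X, X.basicOpen a.1) a.1) :=
        RingedSpace.isUnit_res_basicOpen X.toRingedSpace a.1
      obtain ⟨v, hv⟩ := hu.pow n
      have h3 : (1 : Γ(X, X.basicOpen a.1)) = a.1 ^ n • (↑v⁻¹ : Γ(X, X.basicOpen a.1)) := by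
        rw [Algebra.smul_def, map_pow, ← hv, Units.mul_inv]
      rw [h3, ← TensorProduct.smul_tmul, Algebra.smul_def, map_pow]
      have h4 : algebraMap Γ(X, W) Γ(X', W') a.1 ^ n * s' = 0 := hn
      rw [h4, TensorProduct.zero_tmul]
    have := congrArg (TensorProduct.rid Γ(X, W) Γ(X', W')) key
    rwa [TensorProduct.rid_tmul, one_smul, map_zero] at this

end Groth.Agent.Lib.Helper25.SchDenseFlat
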