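import Groth.Prelude.Def_AlgSpSub
import Groth.Agent.Lib.Helper25.SchDenseFlat
import Groth.Agent.Lib.Helper12.FlatKer
import Groth.Agent.Lib.Helper3.SchImChart

set_option autoImplicit false
set_option backward.isDefEq.respectTransparency.types false
set_option linter.style.haveILetI false

universe u

open CategoryTheory CategoryTheory.Limits AlgebraicGeometry

namespace Groth.Agent.Lib.Helper25.AlgSpDense

/-- Descent of schematic density along a flat surjective morphism. -/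
theorem isSchematicallyDense_of_preimage {Q V : Scheme.{u}} (f : Q ⟶ V) [Flat f] [Surjective f]
    (W : V.Opens) (hW : CInt.IsSchematicallyDense (f ⁻¹ᵁ W)) : CInt.IsSchematicallyDense W := by
  intro V'
  rw [injective_iff_map_eq_zero]
  intro s hs
  have h1 := Groth.Agent.Lib.Helper12.app_injective_of_flat_of_surjective f V'
  apply h1
  rw [map_zero]
  apply hW (f ⁻¹ᵁ V')
  rw [map_zero]
  have := f.naturality (homOfLE (inf_le_left : V' ⊓ W ≤ V')).op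
  have h2 := congrArg (fun φ => φ.hom s) this
  simp only [CommRingCat.hom_comp, RingHom.comp_apply] at h2
  rw [hs, map_zero] at h2
  exact h2.symm

/-- Intersection of two schematically dense opens. -/
theorem isSchematicallyDense_inf {V : Scheme.{u}} (W₁ W₂ : V.Opens)
    (h₁ : CInt.IsSchematicallyDense W₁) (h₂ : CInt.IsSchematicallyDense W₂) :
    CInt.IsSchematicallyDense (W₁ ⊓ W₂) := by
  intro V'
  rw [injective_iff_map_eq_zero]
  intro s hs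
  apply h₁ V'
  rw [map_zero]
  apply h₂ (V' ⊓ W₁)
  rw [map_zero, ← ConcreteCategory.comp_apply, ← Functor.map_comp]
  have hle : V' ⊓ (W₁ ⊓ W₂) ≤ V' ⊓ W₁ ⊓ W₂ := by
    rw [inf_assoc]
  have h3 := congrArg (V.presheaf.map (homOfLE (le_of_eq (inf_assoc V' W₁ W₂))).op) hs
  rw [map_zero, ← ConcreteCategory.comp_apply, ← Functor.map_comp] at h3
  exact h3

open AlgSp

variable {S : Scheme.{u}}

/-- Chart change: if two charts of `F` are compared through `Q`, the inverse images in `Q` of the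
opens representing the pullback of `j` are contained in one another. -/
theorem preimage_le_of_squares {F G : Sp S} (j : G ⟶ F) {V₁ V₂ Q : Over S}
    (φ₁ : (yon S).obj V₁ ⟶ F) (φ₂ : (yon S).obj V₂ ⟶ F)
    (W₁ : V₁.left.Opens) (W₂ : V₂.left.Opens)
    (fst₁ : (yon S).obj (Over.mk (W₁.ι ≫ V₁.hom)) ⟶ G)
    (fst₂ : (yon S).obj (Over.mk (W₂.ι ≫ V₂.hom)) ⟶ G)
    (w₁ : fst₁ ≫ j = (yon S).map (Over.homMk W₁.ι rfl : Over.mk (W₁.ι ≫ V₁.hom) ⟶ V₁) ≫ φ₁)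
    (sq₂ : IsPullback fst₂ ((yon S).map (Over.homMk W₂.ι rfl : Over.mk (W₂.ι ≫ V₂.hom) ⟶ V₂)) j φ₂)
    (q₁ : Q ⟶ V₁) (q₂ : Q ⟶ V₂) (h : (yon S).map q₁ ≫ φ₁ = (yon S).map q₂ ≫ φ₂) :
    q₁.left ⁻¹ᵁ W₁ ≤ q₂.left ⁻¹ᵁ W₂ := by
  let O : Q.left.Opens := q₁.left ⁻¹ᵁ W₁
  let T : Over S := Over.mk (O.ι ≫ Q.hom)
  let t : T ⟶ Q := Over.homMk O.ι rfl
  have hrange : Set.range (O.ι ≫ q₁.left) ⊆ Set.range W₁.ι := by
    rintro _ ⟨y, rfl⟩
    rw [Scheme.Opens.range_ι]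
    exact y.2
  let ℓ₁ : T ⟶ Over.mk (W₁.ι ≫ V₁.hom) :=
    Over.homMk (IsOpenImmersion.lift W₁.ι (O.ι ≫ q₁.left) hrange) (by
      simp only [Over.mk_left, Over.mk_hom, T]
      rw [← Category.assoc, IsOpenImmersion.lift_fac, Category.assoc, Over.w])
  have hℓ₁ : ℓ₁ ≫ (Over.homMk W₁.ι rfl : Over.mk (W₁.ι ≫ V₁.hom) ⟶ V₁) = t ≫ q₁ := by
    ext
    simp [ℓ₁, t, IsOpenImmersion.lift_fac]
  have e : ((yon S).map ℓ₁ ≫ fst₁) ≫ j = (yon S).map (t ≫ q₂) ≫ φ₂ := by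
    rw [Category.assoc, w₁, ← Category.assoc, ← Functor.map_comp, hℓ₁, Functor.map_comp,
      Category.assoc, h, ← Category.assoc, ← Functor.map_comp]
  obtain ⟨ℓ₂, hℓ₂⟩ := (yon S).map_surjective (sq₂.lift _ _ e)
  have hℓ₂' : ℓ₂ ≫ (Over.homMk W₂.ι rfl : Over.mk (W₂.ι ≫ V₂.hom) ⟶ V₂) = t ≫ q₂ := by
    apply (yon S).map_injective
    rw [Functor.map_comp, hℓ₂]
    exact sq₂.lift_snd _ _ e
  have h3 : ℓ₂.left ≫ W₂.ι = O.ι ≫ q₂.left := by
    have := congrArg (fun φ => φ.left) hℓ₂'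
    simpa [t] using this
  intro x hx
  have h4 := congrArg (fun φ : (O : Scheme.{u}) ⟶ V₂.left => φ.base ⟨x, hx⟩) h3
  simp only [Scheme.Hom.comp_base, TopCat.hom_comp, ContinuousMap.comp_apply] at h4
  show q₂.left.base x ∈ W₂
  have h5 : O.ι.base ⟨x, hx⟩ = x := rfl
  rw [h5] at h4
  rw [← h4]
  exact (ℓ₂.left.base ⟨x, hx⟩).2

/-- Density on one etale surjective chart implies density on every etale chart. -/
theorem isSchematicallyDense_chart {F G : Sp S} (j : G ⟶ F) (hj : IsSchDense j)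
    (V : Over S) (φ : (yon S).obj V ⟶ F) (hφ : RepWith @Etale φ) (W : V.left.Opens)
    (fst : (yon S).obj (Over.mk (W.ι ≫ V.hom)) ⟶ G)
    (sq : IsPullback fst ((yon S).map (Over.homMk W.ι rfl : Over.mk (W.ι ≫ V.hom) ⟶ V)) j φ) :
    CInt.IsSchematicallyDense W := by
  obtain ⟨-, V₀, φ₀, W₀, fst₀, hφ₀e, hφ₀s, sq₀, hW₀⟩ := hj
  obtain ⟨Q, q, p₀, sqQ⟩ := hφ₀e.1 φ
  have hqe : Etale q.left := hφ₀e.property φ p₀ q sqQ
  have hqs : Surjective q.left := hφ₀s.property φ p₀ q sqQ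
  obtain ⟨q₀, rfl⟩ := (yon S).map_surjective p₀
  have hq₀e : Etale q₀.left := hφ.property φ₀ ((yon S).map q) q₀ sqQ.flip
  have heq : q₀.left ⁻¹ᵁ W₀ = q.left ⁻¹ᵁ W := le_antisymm
    (preimage_le_of_squares j φ₀ φ W₀ W fst₀ fst sq₀.w sq q₀ q sqQ.w)
    (preimage_le_of_squares j φ φ₀ W W₀ fst fst₀ sq.w sq₀ q q₀ sqQ.w.symm)
  have h1 : CInt.IsSchematicallyDense (q₀.left ⁻¹ᵁ W₀) :=
    Groth.Agent.Lib.Helper25.SchDenseFlat.isSchematicallyDense_preimage_of_flat_lfp q₀.left W₀ hW₀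
  rw [heq] at h1
  exact isSchematicallyDense_of_preimage q.left W h1

/-- On any chart, a representable open immersion is represented by an open subscheme. -/
theorem exists_opens_chart {F G : Sp S} (j : G ⟶ F) (hj : RepWith @IsOpenImmersion j)
    (V : Over S) (φ : (yon S).obj V ⟶ F) :
    ∃ (W : V.left.Opens) (fst : (yon S).obj (Over.mk (W.ι ≫ V.hom)) ⟶ G),
      IsPullback fst ((yon S).map (Over.homMk W.ι rfl : Over.mk (W.ι ≫ V.hom) ⟶ V)) j φ := by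
  open Groth.Agent.Lib.Helper3.SchIm in
  obtain ⟨Wo, w, fst, sqw⟩ := hj.1 φ
  have hwo : IsOpenImmersion w.left := hj.property φ fst w sqw
  obtain ⟨ε, hε⟩ := exists_iso_opens_of_isOpenImmersion w
  refine ⟨w.left.opensRange, (AlgSp.yon S).map ε.hom ≫ fst, ?_⟩
  refine IsPullback.of_iso sqw ((AlgSp.yon S).mapIso ε).symm (Iso.refl _) (Iso.refl _)
    (Iso.refl _) ?_ ?_ ?_ ?_
  · simp
  · simp only [Iso.refl_hom, Category.comp_id, Iso.symm_hom, Functor.mapIso_inv]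
    rw [← hε, Functor.map_comp, ← Category.assoc, ← Functor.map_comp, Iso.inv_hom_id,
      CategoryTheory.Functor.map_id, Category.id_comp]
  · simp
  · simp

/-- The intersection of two scheme theoretically dense open subspaces is scheme theoretically dense. -/
theorem isSchDense_inter {F G₁ G₂ P : Sp S} (j₁ : G₁ ⟶ F) (j₂ : G₂ ⟶ F) (h₁ : IsSchDense j₁)
    (h₂ : IsSchDense j₂) (fst : P ⟶ G₁) (snd : P ⟶ G₂) (sq : IsPullback fst snd j₁ j₂) :
    IsSchDense (fst ≫ j₁) := by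
  have hfst : RepWith @IsOpenImmersion fst := MorphismProperty.of_isPullback sq.flip h₂.1
  have hj : RepWith @IsOpenImmersion (fst ≫ j₁) :=
    (RepWith @IsOpenImmersion).comp_mem _ _ hfst h₁.1
  obtain ⟨-, V, φ, W₁, fst₁, hφe, hφs, sq₁, hW₁⟩ := h₁
  obtain ⟨W₂, fst₂, sq₂⟩ := exists_opens_chart j₂ h₂.1 V φ
  have hW₂ := isSchematicallyDense_chart j₂ h₂ V φ hφe W₂ fst₂ sq₂
  obtain ⟨W, fstW, sqW⟩ := exists_opens_chart (fst ≫ j₁) hj V φ
  have hid : ∀ O : V.left.Opens, (𝟙 V : V ⟶ V).left ⁻¹ᵁ O = O := fun O => by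
    simp
  have hle₁ : W ≤ W₁ := by
    have := preimage_le_of_squares j₁ φ φ W W₁ (fstW ≫ fst) fst₁
      (by rw [Category.assoc]; exact sqW.w) sq₁ (𝟙 V) (𝟙 V) rfl
    rwa [hid, hid] at this
  have hle₂ : W ≤ W₂ := by
    have := preimage_le_of_squares j₂ φ φ W W₂ (fstW ≫ snd) fst₂
      (by rw [Category.assoc, ← sq.w]; exact sqW.w) sq₂ (𝟙 V) (𝟙 V) rfl
    rwa [hid, hid] at this
  have hge : W₁ ⊓ W₂ ≤ W := by
    let O : V.left.Opens := W₁ ⊓ W₂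
    let a₁ : Over.mk (O.ι ≫ V.hom) ⟶ Over.mk (W₁.ι ≫ V.hom) :=
      Over.homMk (V.left.homOfLE inf_le_left) (by simp)
    let a₂ : Over.mk (O.ι ≫ V.hom) ⟶ Over.mk (W₂.ι ≫ V.hom) :=
      Over.homMk (V.left.homOfLE inf_le_right) (by simp)
    have ha₁ : a₁ ≫ (Over.homMk W₁.ι rfl : Over.mk (W₁.ι ≫ V.hom) ⟶ V) =
        (Over.homMk O.ι rfl : Over.mk (O.ι ≫ V.hom) ⟶ V) := by
      ext; simp [a₁]
    have ha₂ : a₂ ≫ (Over.homMk W₂.ι rfl : Over.mk (W₂.ι ≫ V.hom) ⟶ V) =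
        (Over.homMk O.ι rfl : Over.mk (O.ι ≫ V.hom) ⟶ V) := by
      ext; simp [a₂]
    have e₁ : ((yon S).map a₁ ≫ fst₁) ≫ j₁ =
        (yon S).map (Over.homMk O.ι rfl : Over.mk (O.ι ≫ V.hom) ⟶ V) ≫ φ := by
      rw [Category.assoc, sq₁.w, ← Category.assoc, ← Functor.map_comp, ha₁]
    have e₂ : ((yon S).map a₂ ≫ fst₂) ≫ j₂ =
        (yon S).map (Over.homMk O.ι rfl : Over.mk (O.ι ≫ V.hom) ⟶ V) ≫ φ := by
      rw [Category.assoc, sq₂.w, ← Category.assoc, ← Functor.map_comp, ha₂]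
    have := preimage_le_of_squares (fst ≫ j₁) φ φ O W
      (sq.lift ((yon S).map a₁ ≫ fst₁) ((yon S).map a₂ ≫ fst₂) (e₁.trans e₂.symm)) fstW
      (by rw [← Category.assoc, sq.lift_fst]; exact e₁) sqW (𝟙 V) (𝟙 V) rfl
    rwa [hid, hid] at this
  have hWeq : W = W₁ ⊓ W₂ := le_antisymm (le_inf hle₁ hle₂) hge
  refine ⟨hj, V, φ, W, fstW, hφe, hφs, sqW, ?_⟩
  rw [hWeq]
  exact isSchematicallyDense_inf W₁ W₂ hW₁ hW₂

end Groth.Agent.Lib.Helper25.AlgSpDense
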