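import Groth.Prelude.Def_CInt
import Mathlib.AlgebraicGeometry.OpenImmersion

set_option autoImplicit false
set_option backward.isDefEq.respectTransparency.types false
set_option linter.style.haveILetI false

universe u

open CategoryTheory CategoryTheory.Limits AlgebraicGeometry TopologicalSpace

namespace Groth.Agent.Lib.Helper25.OpenImmSec

/-- For an open immersion `w`, a section pulled back along `w` vanishes iff all its germs at
points of the range vanish. -/
theorem app_eq_zero_iff {A B : Scheme.{u}} (w : A ⟶ B) [IsOpenImmersion w] (U : B.Opens)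
    (s : Γ(B, U)) :
    w.app U s = 0 ↔ ∀ (a : A) (h : w a ∈ U), B.presheaf.germ U (w a) h s = 0 := by
  constructor
  · intro hs a h
    have h1 := Scheme.Hom.germ_stalkMap_apply w U a h s
    rw [hs, map_zero] at h1
    have hinj : Function.Injective (w.stalkMap a).hom :=
      ((ConcreteCategory.isIso_iff_bijective (w.stalkMap a)).1 inferInstance).1
    apply hinj
    rw [map_zero]
    exact h1
  · intro h
    refine TopCat.Presheaf.section_ext A.sheaf (w ⁻¹ᵁ U) _ 0 fun a ha => ?_
    have h1 := Scheme.Hom.germ_stalkMap_apply w U a ha s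
    rw [h a ha, map_zero] at h1
    show A.presheaf.germ (w ⁻¹ᵁ U) a ha (w.app U s) = A.presheaf.germ (w ⁻¹ᵁ U) a ha 0
    rw [map_zero]
    exact h1.symm

theorem res_eq_zero_iff {B : Scheme.{u}} {U O : B.Opens} (hle : O ≤ U) (s : Γ(B, U)) :
    B.presheaf.map (homOfLE hle).op s = 0 ↔
      ∀ (x : B) (hx : x ∈ O), B.presheaf.germ U x (hle hx) s = 0 := by
  constructor
  · intro hs x hx
    have := TopCat.Presheaf.germ_res_apply B.presheaf (homOfLE hle) x hx s
    rw [← this, hs, map_zero]
  · intro h
    refine TopCat.Presheaf.section_ext B.sheaf O _ 0 fun x hx => ?_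
    show B.presheaf.germ O x hx (B.presheaf.map (homOfLE hle).op s) = B.presheaf.germ O x hx 0
    rw [map_zero, TopCat.Presheaf.germ_res_apply]
    exact h x hx

/-- If the range of an open immersion is schematically dense, pulling back global functions is
injective. -/
theorem injective_appTop_of_dense {A B : Scheme.{u}} (w : A ⟶ B) [IsOpenImmersion w]
    (h : CInt.IsSchematicallyDense w.opensRange) : Function.Injective w.appTop.hom := by
  rw [injective_iff_map_eq_zero]
  intro s hs
  apply h ⊤
  rw [map_zero]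
  rw [res_eq_zero_iff]
  rintro x ⟨-, ⟨a, rfl⟩⟩
  exact (app_eq_zero_iff w ⊤ s).1 hs a trivial

theorem injective_app_of_eq_top {A B : Scheme.{u}} (w : A ⟶ B) (O : B.Opens) (hO : O = ⊤)
    (h : Function.Injective w.appTop.hom) : Function.Injective (w.app O).hom := by
  subst hO
  exact h

/-- Converse direction, localised on an open `V'`. -/
theorem injective_res_of_injective_appTop {V₀ : Scheme.{u}} (V' W₀ : V₀.Opens) {A : Scheme.{u}}
    (w' : A ⟶ (V' : Scheme.{u})) [IsOpenImmersion w']
    (hr : Set.range (w' ≫ V'.ι).base ⊆ (W₀ : Set V₀))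
    (hinj : Function.Injective w'.appTop.hom) :
    Function.Injective (V₀.presheaf.map (homOfLE (inf_le_left : V' ⊓ W₀ ≤ V')).op) := by
  rw [injective_iff_map_eq_zero]
  intro t ht
  rw [res_eq_zero_iff] at ht
  have h2 : V'.ι.app V' t = 0 := by
    apply injective_app_of_eq_top w' (V'.ι ⁻¹ᵁ V') (by simp) hinj
    rw [map_zero]
    rw [app_eq_zero_iff]
    intro a ha
    have h4 := Scheme.Hom.germ_stalkMap_apply V'.ι V' (w' a) ha t
    rw [← h4, ht _ ⟨ha, hr ⟨a, rfl⟩⟩, map_zero]
  have h3 := (app_eq_zero_iff V'.ι V' t).1 h2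
  refine TopCat.Presheaf.section_ext V₀.sheaf V' _ 0 fun x hx => ?_
  show V₀.presheaf.germ V' x hx t = V₀.presheaf.germ V' x hx 0
  rw [map_zero]
  exact h3 ⟨x, hx⟩ hx

end Groth.Agent.Lib.Helper25.OpenImmSec
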