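import Groth.Prelude.Def_AlgSpOX2
import Groth.Agent.Lib.Helper25.AlgSpDense
import Groth.Agent.Lib.Helper25.OpenImmSec

set_option autoImplicit false
set_option backward.isDefEq.respectTransparency.types false
set_option linter.style.haveILetI false

universe w v u

open CategoryTheory CategoryTheory.Limits AlgebraicGeometry Opposite

namespace Groth.Agent.Lib.Helper25.AlgSpDenseMono

theorem mono_iff_injective_app {C : Type u} [Category.{v} C] (J : GrothendieckTopology C)
    {F G : Sheaf J RingCat.{w}} (f : F ⟶ G) :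
    Mono f ↔ ∀ E : Cᵒᵖ, Function.Injective (f.hom.app E).hom := by
  constructor
  · intro hf E
    have h1 : Mono ((sheafToPresheaf J RingCat.{w}).map f) := inferInstance
    have h2 : Mono (f.hom.app E) := by
      have := (NatTrans.mono_iff_mono_app _).1 h1 E
      exact this
    exact ConcreteCategory.injective_of_mono_of_preservesPullback (f.hom.app E)
  · intro h
    have : Mono f.hom := by
      rw [NatTrans.mono_iff_mono_app]
      intro E
      exact ConcreteCategory.mono_of_injective _ (h E)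
    exact Sheaf.Hom.mono_of_presheaf_mono J _ f

open AlgSp Groth.Agent.Lib.Helper25.AlgSpDense Groth.Agent.Lib.Helper25.OpenImmSec

variable {S : Scheme.{u}}

theorem range_subset_of_square {F G : Sp S} (j : G ⟶ F) {V₂ T : Over S}
    (φ₂ : (yon S).obj V₂ ⟶ F) (W₂ : V₂.left.Opens)
    (fst₂ : (yon S).obj (Over.mk (W₂.ι ≫ V₂.hom)) ⟶ G)
    (sq₂ : IsPullback fst₂ ((yon S).map (Over.homMk W₂.ι rfl : Over.mk (W₂.ι ≫ V₂.hom) ⟶ V₂)) j φ₂)
    (a : (yon S).obj T ⟶ G) (q : T ⟶ V₂) (h : a ≫ j = (yon S).map q ≫ φ₂) :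
    Set.range q.left.base ⊆ (W₂ : Set V₂.left) := by
  obtain ⟨ℓ₂, hℓ₂⟩ := (yon S).map_surjective (sq₂.lift a ((yon S).map q) h)
  have hℓ₂' : ℓ₂ ≫ (Over.homMk W₂.ι rfl : Over.mk (W₂.ι ≫ V₂.hom) ⟶ V₂) = q := by
    apply (yon S).map_injective
    rw [Functor.map_comp, hℓ₂]
    exact sq₂.lift_snd _ _ h
  have h3 : ℓ₂.left ≫ W₂.ι = q.left := by
    have := congrArg (fun φ => φ.left) hℓ₂'
    simpa using this
  rintro _ ⟨x, rfl⟩
  rw [← h3]
  exact (ℓ₂.left.base x).2

theorem isPullback_opensRange {F G : Sp S} (j : G ⟶ F) {V Wo : Over S} (φ : (yon S).obj V ⟶ F)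
    (w : Wo ⟶ V) [IsOpenImmersion w.left] (fst : (yon S).obj Wo ⟶ G)
    (sqw : IsPullback fst ((yon S).map w) j φ) :
    ∃ fst' : (yon S).obj (Over.mk (w.left.opensRange.ι ≫ V.hom)) ⟶ G,
      IsPullback fst' ((yon S).map (Over.homMk w.left.opensRange.ι rfl :
        Over.mk (w.left.opensRange.ι ≫ V.hom) ⟶ V)) j φ := by
  open Groth.Agent.Lib.Helper3.SchIm in
  obtain ⟨ε, hε⟩ := exists_iso_opens_of_isOpenImmersion w
  refine ⟨(AlgSp.yon S).map ε.hom ≫ fst, ?_⟩
  refine IsPullback.of_iso sqw ((AlgSp.yon S).mapIso ε).symm (Iso.refl _) (Iso.refl _)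
    (Iso.refl _) ?_ ?_ ?_ ?_
  · simp
  · simp only [Iso.refl_hom, Category.comp_id, Iso.symm_hom, Functor.mapIso_inv]
    rw [← hε, Functor.map_comp, ← Category.assoc, ← Functor.map_comp, Iso.inv_hom_id,
      CategoryTheory.Functor.map_id, Category.id_comp]
  · simp
  · simp

/-- If `j` is schematically dense, then on every etale chart pulling back functions to the inverse
image of the open subspace is injective. -/
theorem injective_of_isSchDense {F G : Sp S} (j : G ⟶ F) (hj : IsSchDense j) (V : Over S)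
    (φ : (yon S).obj V ⟶ F) (hφ : RepWith @Etale φ) {Wo : Over S} (w : Wo ⟶ V)
    (fst : (yon S).obj Wo ⟶ G) (sq : IsPullback fst ((yon S).map w) j φ) :
    Function.Injective w.left.appTop.hom := by
  haveI hwo : IsOpenImmersion w.left := hj.1.property φ fst w sq
  obtain ⟨fst', sq'⟩ := isPullback_opensRange j φ w fst sq
  have hd := isSchematicallyDense_chart j hj V φ hφ w.left.opensRange fst' sq'
  exact injective_appTop_of_dense w.left hd

/-- Converse. -/
theorem isSchDense_of_injective {F G : Sp S} (hF : IsAlgSpace F) (j : G ⟶ F)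
    (hj : RepWith @IsOpenImmersion j)
    (h : ∀ (V : Over S) (φ : (yon S).obj V ⟶ F), RepWith @Etale φ →
      Function.Injective (hj.1.snd φ).left.appTop.hom) : IsSchDense j := by
  obtain ⟨V₀, p, hpe, hps⟩ := hF.atlas
  obtain ⟨W₀, fst₀, sq₀⟩ := exists_opens_chart j hj V₀ p
  refine ⟨hj, V₀, p, W₀, fst₀, hpe, hps, sq₀, ?_⟩
  intro V'
  let Q : Over S := Over.mk (V'.ι ≫ V₀.hom)
  let ι' : Q ⟶ V₀ := Over.homMk V'.ι rfl
  have hφ' : RepWith @Etale ((yon S).map ι' ≫ p) :=
    (RepWith @Etale).comp_mem _ _ ((repWith_yon_map_iff _ ι').2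
      (inferInstanceAs (Etale V'.ι))) hpe
  have hinj := h Q _ hφ'
  have sq' := hj.1.isPullback ((yon S).map ι' ≫ p)
  haveI : IsOpenImmersion (hj.1.snd ((yon S).map ι' ≫ p)).left :=
    hj.property _ _ _ sq'
  have hr : Set.range ((hj.1.snd ((yon S).map ι' ≫ p)) ≫ ι').left.base ⊆ (W₀ : Set V₀.left) :=
    range_subset_of_square j p W₀ fst₀ sq₀ (hj.1.fst ((yon S).map ι' ≫ p))
      ((hj.1.snd ((yon S).map ι' ≫ p)) ≫ ι') (by
        rw [sq'.w, Functor.map_comp, Category.assoc])
  exact injective_res_of_injective_appTop V' W₀ (hj.1.snd ((yon S).map ι' ≫ p)).left hr hinj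

end Groth.Agent.Lib.Helper25.AlgSpDenseMono
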