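import Mathlib
import Groth.Agent.Lib.Helper25.ModMapLocal
import Groth.Agent.Lib.Helper17.PbDict

/-!
# helper25 — LimHomA: conjugating pulled-back morphisms by the composition isomorphisms of pullbacks

For `a : Xs ⟶ Ys`, `b : Ys ⟶ Zs` with `w : a ≫ b = π`:
* `Theta a b π w m` for `m : b^* M₁ ⟶ b^* M₂`: the morphism `π^* M₁ ⟶ π^* M₂` obtained from `a^* m`;
* `Theta_Theta`: transitivity (pseudofunctor associativity);
* `iotaW a b π w G₀ : b_* b^* G₀ ⟶ π_* π^* G₀` with its formulas on sections;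
* `Theta_pbLift_app_pbs`, `Theta_eq_of_comp_iotaW`.
-/

set_option backward.isDefEq.respectTransparency.types false
set_option autoImplicit false
set_option linter.unusedVariables false
set_option linter.style.haveILetI false
set_option linter.unusedSectionVars false
universe u
open AlgebraicGeometry CategoryTheory Limits TopologicalSpace Opposite

namespace Groth.Agent.Lib.Helper25.LimHom

open Groth.Agent.Lib.Helper25.ModMapLocal Groth.Agent.Lib.Helper28.PullbackInv
  Groth.Agent.Lib.Helper17.PbDict Groth.Agent.Lib.Helper28.QCohLoc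

section Theta

variable {Xs Ys Zs : Scheme.{u}} (a : Xs ⟶ Ys) (b : Ys ⟶ Zs) (π : Xs ⟶ Zs) (w : a ≫ b = π)

/-- conjugate of `a^* m` by the composition isomorphisms -/
noncomputable def Theta {M₁ M₂ : Zs.Modules}
    (m : (Scheme.Modules.pullback b).obj M₁ ⟶ (Scheme.Modules.pullback b).obj M₂) :
    (Scheme.Modules.pullback π).obj M₁ ⟶ (Scheme.Modules.pullback π).obj M₂ :=
  (compIso a b π w).inv.app M₁ ≫ (Scheme.Modules.pullback a).map m ≫ (compIso a b π w).hom.app M₂

theorem Theta_comp {M₁ M₂ M₃ : Zs.Modules}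
    (m : (Scheme.Modules.pullback b).obj M₁ ⟶ (Scheme.Modules.pullback b).obj M₂)
    (m' : (Scheme.Modules.pullback b).obj M₂ ⟶ (Scheme.Modules.pullback b).obj M₃) :
    Theta a b π w (m ≫ m') = Theta a b π w m ≫ Theta a b π w m' := by
  unfold Theta
  rw [Functor.map_comp]
  simp only [Category.assoc, Iso.hom_inv_id_app_assoc]

theorem Theta_map {M₁ M₂ : Zs.Modules} (v : M₁ ⟶ M₂) :
    Theta a b π w ((Scheme.Modules.pullback b).map v) = (Scheme.Modules.pullback π).map v := by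
  unfold Theta
  rw [compIso_naturality a b π w v, Iso.inv_hom_id_app_assoc]

theorem Theta_zero {M₁ M₂ : Zs.Modules} :
    Theta a b π w (0 : (Scheme.Modules.pullback b).obj M₁ ⟶ (Scheme.Modules.pullback b).obj M₂) = 0 := by
  unfold Theta
  rw [Functor.map_zero, zero_comp, comp_zero]

theorem map_eq_zero_of_Theta_eq_zero {M₁ M₂ : Zs.Modules}
    (m : (Scheme.Modules.pullback b).obj M₁ ⟶ (Scheme.Modules.pullback b).obj M₂)
    (h : Theta a b π w m = 0) : (Scheme.Modules.pullback a).map m = 0 := by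
  unfold Theta at h
  have h1 : (compIso a b π w).hom.app M₁ ≫ ((compIso a b π w).inv.app M₁ ≫
      (Scheme.Modules.pullback a).map m ≫ (compIso a b π w).hom.app M₂) ≫
      (compIso a b π w).inv.app M₂ = 0 := by rw [h, zero_comp, comp_zero]
  simpa using h1

end Theta

section Assoc

variable {Ws Xs Ys Zs : Scheme.{u}} (f : Ws ⟶ Xs) (g : Xs ⟶ Ys) (k : Ys ⟶ Zs)

theorem assoc_app (M : Zs.Modules) :
    (Scheme.Modules.pullback f).map ((Scheme.Modules.pullbackComp g k).hom.app M) ≫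
      (Scheme.Modules.pullbackComp f (g ≫ k)).hom.app M =
    (Scheme.Modules.pullbackComp f g).hom.app ((Scheme.Modules.pullback k).obj M) ≫
      (Scheme.Modules.pullbackComp (f ≫ g) k).hom.app M ≫
      (Scheme.Modules.pullbackCongr (Category.assoc f g k)).hom.app M := by
  have h := congrArg (fun α => α.app M) (Scheme.Modules.pseudofunctor_associativity f g k)
  simp only [NatTrans.comp_app, Functor.whiskerRight_app, Functor.associator_hom_app,
    Functor.whiskerLeft_app, Functor.comp_obj] at h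
  have h2 : (Scheme.Modules.pullbackComp f g).hom.app ((Scheme.Modules.pullback k).obj M) ≫
      (Scheme.Modules.pullbackComp (f ≫ g) k).hom.app M =
      (Scheme.Modules.pullback f).map ((Scheme.Modules.pullbackComp g k).hom.app M) ≫
        (Scheme.Modules.pullbackComp f (g ≫ k)).hom.app M ≫
        (eqToHom (by rw [Category.assoc] :
          Scheme.Modules.pullback (f ≫ g ≫ k) = Scheme.Modules.pullback ((f ≫ g) ≫ k))).app M := by
    rw [← h]
    simp only [Category.id_comp, Iso.hom_inv_id_app_assoc, ← Functor.map_comp_assoc,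
      Iso.hom_inv_id_app, Functor.comp_obj]
    rw [CategoryTheory.Functor.map_id, Category.id_comp]
  rw [← Category.assoc ((Scheme.Modules.pullbackComp f g).hom.app _), h2]
  simp only [Category.assoc, Scheme.Modules.pullbackCongr, eqToIso.hom, eqToHom_app, eqToHom_trans,
    eqToHom_refl, Category.comp_id]

variable (gk : Xs ⟶ Zs) (w₁ : g ≫ k = gk) (fg : Ws ⟶ Ys) (w₂ : f ≫ g = fg) (π : Ws ⟶ Zs)
  (w₃ : f ≫ gk = π) (w₄ : fg ≫ k = π)

theorem compIso_assoc (M : Zs.Modules) :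
    (Scheme.Modules.pullback f).map ((compIso g k gk w₁).hom.app M) ≫ (compIso f gk π w₃).hom.app M =
      (compIso f g fg w₂).hom.app ((Scheme.Modules.pullback k).obj M) ≫
        (compIso fg k π w₄).hom.app M := by
  subst w₁ w₂ w₃
  have h := assoc_app f g k M
  simp only [compIso, Iso.trans_hom, NatTrans.comp_app, Scheme.Modules.pullbackCongr, eqToIso_refl,
    Iso.refl_hom, Category.comp_id, eqToIso.hom] at h ⊢
  exact h

theorem compIso_assoc_inv (M : Zs.Modules) :
    (compIso f gk π w₃).inv.app M ≫ (Scheme.Modules.pullback f).map ((compIso g k gk w₁).inv.app M) =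
      (compIso fg k π w₄).inv.app M ≫
        (compIso f g fg w₂).inv.app ((Scheme.Modules.pullback k).obj M) := by
  have h := compIso_assoc f g k gk w₁ fg w₂ π w₃ w₄ M
  rw [← cancel_mono ((Scheme.Modules.pullback f).map ((compIso g k gk w₁).hom.app M) ≫
    (compIso f gk π w₃).hom.app M)]
  conv_rhs => rw [h]
  simp only [Category.assoc, Iso.inv_hom_id_app_assoc, Iso.inv_hom_id_app, ← Functor.map_comp_assoc,
    Functor.comp_obj]
  rw [CategoryTheory.Functor.map_id, Category.id_comp, Iso.inv_hom_id_app]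

include w₂ in
/-- **transitivity of `Theta`** -/
theorem Theta_Theta {M₁ M₂ : Zs.Modules}
    (m : (Scheme.Modules.pullback k).obj M₁ ⟶ (Scheme.Modules.pullback k).obj M₂) :
    Theta f gk π w₃ (Theta g k gk w₁ m) = Theta fg k π w₄ m := by
  unfold Theta
  rw [Functor.map_comp, Functor.map_comp]
  have h1 := compIso_assoc f g k gk w₁ fg w₂ π w₃ w₄ M₂
  have h2 := compIso_assoc_inv f g k gk w₁ fg w₂ π w₃ w₄ M₁
  have h3 := compIso_naturality f g fg w₂ m
  simp only [Category.assoc]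
  rw [h1, reassoc_of% h2, reassoc_of% h3, Iso.inv_hom_id_app_assoc]

end Assoc

section Iota

variable {Xs Ys Zs : Scheme.{u}} (a : Xs ⟶ Ys) (b : Ys ⟶ Zs) (G₀ : Zs.Modules)

/-- `b_* b^* G₀ ⟶ (a ≫ b)_* (a ≫ b)^* G₀` -/
noncomputable def iota : (Scheme.Modules.pushforward b).obj ((Scheme.Modules.pullback b).obj G₀) ⟶
    (Scheme.Modules.pushforward (a ≫ b)).obj ((Scheme.Modules.pullback (a ≫ b)).obj G₀) :=
  (Scheme.Modules.pushforward b).map
    ((Scheme.Modules.pullbackPushforwardAdjunction a).unit.app _ ≫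
      (Scheme.Modules.pushforward a).map ((Scheme.Modules.pullbackComp a b).hom.app G₀)) ≫
    (Scheme.Modules.pushforwardComp a b).hom.app _

theorem iota_app (V : Zs.Opens) (y : Γ((Scheme.Modules.pullback b).obj G₀, b ⁻¹ᵁ V)) :
    (iota a b G₀).app V y = pbc a b G₀ (b ⁻¹ᵁ V) y := rfl

variable (π : Xs ⟶ Zs) (w : a ≫ b = π)

/-- `b_* b^* G₀ ⟶ π_* π^* G₀` for `π = a ≫ b` -/
noncomputable def iotaW : (Scheme.Modules.pushforward b).obj ((Scheme.Modules.pullback b).obj G₀) ⟶
    (Scheme.Modules.pushforward π).obj ((Scheme.Modules.pullback π).obj G₀) := by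
  subst w
  exact iota a b G₀

theorem iotaW_app_pbs (V : Zs.Opens) (y₀ : Γ(G₀, V)) :
    (iotaW a b G₀ π w).app V (pbs b G₀ V y₀) = pbs π G₀ V y₀ := by
  subst w
  exact pbc_pbs a b G₀ V y₀

theorem iotaW_app_smul (V : Zs.Opens) (r : Γ(Ys, b ⁻¹ᵁ V))
    (y : Γ((Scheme.Modules.pullback b).obj G₀, b ⁻¹ᵁ V)) :
    (iotaW a b G₀ π w).app V (r • y : Γ((Scheme.Modules.pullback b).obj G₀, b ⁻¹ᵁ V)) =
      (a.appLE (b ⁻¹ᵁ V) (π ⁻¹ᵁ V) (by rw [← w]; exact le_rfl)).hom r •
        (show Γ((Scheme.Modules.pullback π).obj G₀, π ⁻¹ᵁ V) from (iotaW a b G₀ π w).app V y) := by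
  subst w
  have e : a.appLE (b ⁻¹ᵁ V) (a ⁻¹ᵁ (b ⁻¹ᵁ V)) le_rfl = a.app (b ⁻¹ᵁ V) :=
    (Scheme.Hom.app_eq_appLE (f := a) (U := b ⁻¹ᵁ V)).symm
  change _ = (a.appLE (b ⁻¹ᵁ V) (a ⁻¹ᵁ (b ⁻¹ᵁ V)) le_rfl).hom r • pbc a b G₀ (b ⁻¹ᵁ V) y
  rw [e]
  exact pbc_smul a b G₀ (b ⁻¹ᵁ V) r y

variable {G₀}

theorem Theta_pbLift_app_pbs {A : Zs.Modules}
    (g : A ⟶ (Scheme.Modules.pushforward b).obj ((Scheme.Modules.pullback b).obj G₀))
    (V : Zs.Opens) (x : Γ(A, V)) :
    (Theta a b π w (pbLift b g)).app (π ⁻¹ᵁ V) (pbs π A V x) =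
      (iotaW a b G₀ π w).app V (g.app V x) := by
  subst w
  unfold Theta compIso
  simp only [Scheme.Modules.pullbackCongr, eqToIso_refl, Iso.trans_refl]
  change ((Scheme.Modules.pullbackComp a b).hom.app G₀).app (a ⁻¹ᵁ (b ⁻¹ᵁ V))
    (((Scheme.Modules.pullback a).map (pbLift b g)).app (a ⁻¹ᵁ (b ⁻¹ᵁ V))
      (((Scheme.Modules.pullbackComp a b).app A).inv.app ((a ≫ b) ⁻¹ᵁ V) (pbs (a ≫ b) A V x))) = _
  rw [pullbackComp_inv_pbs, pbs_map, pbLift_pbs]
  rfl

theorem Theta_eq_of_comp_iotaW {A : Zs.Modules}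
    (g : A ⟶ (Scheme.Modules.pushforward b).obj ((Scheme.Modules.pullback b).obj G₀))
    (h : (Scheme.Modules.pullback π).obj A ⟶ (Scheme.Modules.pullback π).obj G₀)
    (H : ∀ (V : Zs.Opens) (x : Γ(A, V)),
      (iotaW a b G₀ π w).app V (g.app V x) = h.app (π ⁻¹ᵁ V) (pbs π A V x)) :
    Theta a b π w (pbLift b g) = h :=
  pb_hom_ext π _ _ fun V x => (Theta_pbLift_app_pbs a b π w g V x).trans (H V x)

end Iota

end Groth.Agent.Lib.Helper25.LimHom
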