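import Mathlib
import Groth.Agent.Lib.Helper25.LimHomA
import Groth.Agent.Lib.Helper25.LimModMap
import Groth.Agent.Lib.Helper17.PullbackBC
import Groth.Agent.Lib.Helper21.QCohCompact2

/-!
# helper25 — LimHomB: sections of a pullback to a cofiltered limit come from a stage; fibre covers
-/

set_option backward.isDefEq.respectTransparency.types false
set_option autoImplicit false
set_option linter.unusedVariables false
set_option linter.style.haveILetI false
set_option linter.unusedSectionVars false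
universe u v w
open AlgebraicGeometry CategoryTheory Limits TopologicalSpace Opposite TensorProduct

namespace Groth.Agent.Lib.Helper25.LimHom

open Groth.Agent.Lib.Helper25.ModMapLocal Groth.Agent.Lib.Helper28.PullbackInv
  Groth.Agent.Lib.Helper17.PbDict Groth.Agent.Lib.Helper28.QCohLoc
  Groth.Agent.Lib.Helper9.LimSec Groth.Agent.Lib.Helper25.LimModMap
  Groth.Agent.Lib.Helper17.PullbackBC

section Abstract

variable {C : Type u} [Category.{v} C] [Abelian C] {D : Type w} [Category.{v} D] [Abelian D]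
  (P : C ⥤ D) [P.Additive] [PreservesFiniteColimits P]

/-- a morphism out of `P F` killing `P (ker p₁)` descends along `P p₁`, for `P` right exact -/
theorem exists_desc_of_map_kernel_comp_eq_zero {F G₁ : C} (p₁ : F ⟶ G₁) [Epi p₁] {Z : D}
    (r : P.obj F ⟶ Z) (h : P.map (kernel.ι p₁) ≫ r = 0) :
    ∃ k : P.obj G₁ ⟶ Z, P.map p₁ ≫ k = r := by
  have hcol : IsColimit (CokernelCofork.ofπ p₁ (kernel.condition p₁)) :=
    Abelian.epiIsCokernelOfKernel (KernelFork.ofι (kernel.ι p₁) (kernel.condition p₁)) (kernelIsKernel p₁)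
  have hcol' := CokernelCofork.mapIsColimit _ hcol P
  obtain ⟨l, hl⟩ := CokernelCofork.IsColimit.desc' hcol' r h
  exact ⟨l, hl⟩

end Abstract

section Span

variable {Xs Zs : Scheme.{u}} (π : Xs ⟶ Zs) (G₀ : Zs.Modules) [G₀.IsQuasicoherent]

/-- the inverse images of the sections over an affine open generate the sections of the pullback over its
(affine) preimage -/
theorem span_range_pbs {V : Zs.Opens} (hV : IsAffineOpen V) (hU : IsAffineOpen (π ⁻¹ᵁ V)) :
    Submodule.span Γ(Xs, π ⁻¹ᵁ V) (Set.range (pbs π G₀ V)) = ⊤ := by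
  letI alg : Algebra Γ(Zs, V) Γ(Xs, π ⁻¹ᵁ V) := (π.appLE V (π ⁻¹ᵁ V) le_rfl).hom.toAlgebra
  obtain ⟨e, he⟩ := (isBC_iff (π.appLE V (π ⁻¹ᵁ V) le_rfl).hom _).mp
    (isBC_pullback π hV hU le_rfl G₀)
  have key : ∀ t : Γ(Xs, π ⁻¹ᵁ V) ⊗[Γ(Zs, V)] Γ(G₀, V),
      e.symm t ∈ Submodule.span Γ(Xs, π ⁻¹ᵁ V) (Set.range (pbs π G₀ V)) := by
    intro t
    induction t using TensorProduct.induction_on with
    | zero => rw [map_zero]; exact Submodule.zero_mem _
    | tmul r y₀ =>
      have h1 : e.symm (r ⊗ₜ[Γ(Zs, V)] y₀) =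
          r • res ((Scheme.Modules.pullback π).obj G₀) le_rfl (pbs π G₀ V y₀) := by
        rw [LinearEquiv.symm_apply_eq, map_smul, he, TensorProduct.smul_tmul', smul_eq_mul, mul_one]
      rw [h1, res_self]
      exact Submodule.smul_mem _ _ (Submodule.subset_span ⟨y₀, rfl⟩)
    | add t₁ t₂ h₁ h₂ => rw [map_add]; exact Submodule.add_mem _ h₁ h₂
  rw [eq_top_iff]
  intro z _
  have := key (e z)
  rwa [LinearEquiv.symm_apply_apply] at this

end Span

section Stage

variable {I : Type u} [SmallCategory I] [IsCofiltered I]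
  (D : I ⥤ Scheme.{u}) {c : Cone D} (hc : IsLimit c)
  [∀ (i j : I) (f : i ⟶ j), IsAffineHom (D.map f)] {i₀ : I}
  (G₀ : (D.obj i₀).Modules) [G₀.IsQuasicoherent]

/-- the comparison `b_* b^* G₀ ⟶ π_* π^* G₀` at the stage `n` -/
noncomputable abbrev iotaN (n : Over i₀) :
    (Scheme.Modules.pushforward (D.map n.hom)).obj ((Scheme.Modules.pullback (D.map n.hom)).obj G₀) ⟶
      (Scheme.Modules.pushforward (c.π.app i₀)).obj ((Scheme.Modules.pullback (c.π.app i₀)).obj G₀) :=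
  iotaW (c.π.app n.left) (D.map n.hom) G₀ (c.π.app i₀) (c.w n.hom)

include hc in
/-- **a section of `π^* G₀` over the preimage of an affine open comes from all small enough stages** -/
theorem exists_stage_section {V : (D.obj i₀).Opens} (hV : IsAffineOpen V)
    (z : Γ((Scheme.Modules.pullback (c.π.app i₀)).obj G₀, Uinf D c V)) :
    ∃ n : Over i₀, ∀ (n' : Over i₀) (u : n' ⟶ n),
      ∃ y : Γ((Scheme.Modules.pushforward (D.map n'.hom)).obj
          ((Scheme.Modules.pullback (D.map n'.hom)).obj G₀), V),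
        (iotaN D G₀ n' (c := c)).app V y = z := by
  have hU : IsAffineOpen (Uinf D c V) := isAffineOpen_Uinf D hc hV
  have hz : z ∈ Submodule.span Γ(c.pt, Uinf D c V) (Set.range (pbs (c.π.app i₀) G₀ V)) := by
    have h := span_range_pbs (c.π.app i₀) G₀ hV hU
    exact h.ge Submodule.mem_top
  induction hz using Submodule.span_induction with
  | mem z hz =>
    obtain ⟨y₀, rfl⟩ := hz
    exact ⟨Over.mk (𝟙 i₀), fun n' u => ⟨pbs (D.map n'.hom) G₀ V y₀,
      iotaW_app_pbs (c.π.app n'.left) (D.map n'.hom) G₀ (c.π.app i₀) (c.w n'.hom) V y₀⟩⟩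
  | zero =>
    exact ⟨Over.mk (𝟙 i₀), fun n' u => ⟨0, map_zero _⟩⟩
  | add z₁ z₂ _ _ h₁ h₂ =>
    obtain ⟨n₁, hn₁⟩ := h₁
    obtain ⟨n₂, hn₂⟩ := h₂
    obtain ⟨n, f₁, f₂, -⟩ := IsCofilteredOrEmpty.cone_objs n₁ n₂
    refine ⟨n, fun n' u => ?_⟩
    obtain ⟨y₁, hy₁⟩ := hn₁ n' (u ≫ f₁)
    obtain ⟨y₂, hy₂⟩ := hn₂ n' (u ≫ f₂)
    exact ⟨y₁ + y₂, by rw [map_add, hy₁, hy₂]; rfl⟩
  | smul r z _ h =>
    obtain ⟨n₁, hn₁⟩ := h
    obtain ⟨n₂, r', hr'⟩ := exists_τ_eq D c hc V hV r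
    obtain ⟨n, f₁, f₂, -⟩ := IsCofilteredOrEmpty.cone_objs n₁ n₂
    refine ⟨n, fun n' u => ?_⟩
    obtain ⟨y₁, hy₁⟩ := hn₁ n' (u ≫ f₁)
    refine ⟨((σ D V (u ≫ f₂)).hom r' •
      (show Γ((Scheme.Modules.pullback (D.map n'.hom)).obj G₀, Uo D V n') from y₁) :
      Γ((Scheme.Modules.pullback (D.map n'.hom)).obj G₀, Uo D V n')), ?_⟩
    refine (iotaW_app_smul (c.π.app n'.left) (D.map n'.hom) G₀ (c.π.app i₀) (c.w n'.hom) V _ _).trans ?_
    rw [hy₁]
    congr 1
    exact (τ_σ_apply D c V (u ≫ f₂) r').trans hr'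

end Stage

end Groth.Agent.Lib.Helper25.LimHom
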