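import Mathlib
import Groth.Agent.Lib.Helper25.LimHomB
import Groth.Agent.Lib.Helper25.QuotFactor
import Groth.Agent.Lib.Helper17.FinTypePushPull

/-!
# helper25 — LimHomC: EGA IV 8.5.2 (i), surjectivity: a morphism between the pullbacks to a cofiltered limit of
a finitely presented module and a quasi-coherent module comes from a stage.
-/

set_option backward.isDefEq.respectTransparency.types false
set_option autoImplicit false
set_option linter.unusedVariables false
set_option linter.style.haveILetI false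
set_option linter.unusedSectionVars false
universe u v w
open AlgebraicGeometry CategoryTheory Limits TopologicalSpace Opposite TensorProduct

namespace Groth.Agent.Lib.Helper25.LimHom

open Groth.Agent.Lib.Helper25.ModMapLocal Groth.Agent.Lib.Helper28.PullbackInv
  Groth.Agent.Lib.Helper17.PbDict Groth.Agent.Lib.Helper28.QCohLoc
  Groth.Agent.Lib.Helper9.LimSec Groth.Agent.Lib.Helper25.LimModMap
  Groth.Agent.Lib.Helper17.PullbackBC Groth.Agent.Lib.Helper21.QCohColim
  Groth.Agent.Lib.Helper17.CohKer Groth.Agent.Lib.Helper21.FPQuot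
  Groth.Agent.Lib.Helper21.QCohCompact

section FibreCover

variable {X : Scheme.{u}} [CompactSpace X] [QuasiSeparatedSpace X]

open scoped Classical in
/-- given `f : F ⟶ C` and `ι : E ⟶ C` such that the images under `f` of finitely many generating local sections
of `F` lift along `ι`, there is a coherent `Q` with an epimorphism to `F` and a compatible morphism to `E` -/
theorem exists_fibre_cover {F E C : X.Modules} [F.IsQuasicoherent] [E.IsQuasicoherent]
    [C.IsQuasicoherent] (f : F ⟶ C) (ι : E ⟶ C) (T : Finset (Pt F))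
    (hTepi : ∀ (Q : X.Modules) (q : Q ⟶ F),
      (∀ p ∈ T, ∃ y : Γ(Q, p.1.1), q.app p.1.1 y = p.2) → Epi q)
    (hlift : ∀ p ∈ T, ∃ y : Γ(E, p.1.1), ι.app p.1.1 y = f.app p.1.1 p.2) :
    ∃ (Q : X.Modules) (q : Q ⟶ F) (a : Q ⟶ E), Coh.IsCoh Q ∧ Epi q ∧ q ≫ f = a ≫ ι := by
  let φ : F ⊞ E ⟶ C := biprod.fst ≫ f - biprod.snd ≫ ι
  haveI : (F ⊞ E).IsQuasicoherent := Groth.Agent.Lib.Helper28.QCohLoc.isQuasicoherent_biprod
  haveI hPq : (kernel φ : X.Modules).IsQuasicoherent := isQuasicoherent_kernel φ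
  have hk : ∀ p ∈ T, ∃ k : Γ((kernel φ : X.Modules), p.1.1),
      ((kernel.ι φ ≫ biprod.fst).app p.1.1 k = p.2) := by
    intro p hp
    obtain ⟨y, hy⟩ := hlift p hp
    let z : Γ(F ⊞ E, p.1.1) :=
      (biprod.inl : F ⟶ F ⊞ E).app p.1.1 p.2 + (biprod.inr : E ⟶ F ⊞ E).app p.1.1 y
    have hz : φ.app p.1.1 z = 0 := by
      change f.app p.1.1 ((biprod.fst : F ⊞ E ⟶ F).app p.1.1 z) -
        ι.app p.1.1 ((biprod.snd : F ⊞ E ⟶ E).app p.1.1 z) = 0
      rw [fst_app_inl_add_inr, snd_app_inl_add_inr, hy, sub_self]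
    obtain ⟨k, hk⟩ := exists_kernel_app_eq φ p.1.1 z hz
    refine ⟨k, ?_⟩
    change (biprod.fst : F ⊞ E ⟶ F).app p.1.1 ((kernel.ι φ).app p.1.1 k) = p.2
    rw [hk]
    exact fst_app_inl_add_inr _ _ _
  choose! kk hkk using hk
  let σ : Finset (Pt (kernel φ : X.Modules)) := T.image fun p => (⟨p.1, kk p⟩ : Pt (kernel φ : X.Modules))
  let Q : X.Modules := ((Groth.Agent.Lib.Helper21.QCohColim.A (kernel φ : X.Modules) σ : Subobject (kernel φ : X.Modules)) : X.Modules)
  have hQ : Coh.IsCoh Q := isCoh_A (kernel φ : X.Modules) σ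
  let ar : Q ⟶ (kernel φ : X.Modules) := (Groth.Agent.Lib.Helper21.QCohColim.A (kernel φ : X.Modules) σ).arrow
  let q : Q ⟶ F := ar ≫ kernel.ι φ ≫ biprod.fst
  let a : Q ⟶ E := ar ≫ kernel.ι φ ≫ biprod.snd
  have hcompat : q ≫ f = a ≫ ι := by
    have h0 : kernel.ι φ ≫ φ = 0 := kernel.condition φ
    have h1 : kernel.ι φ ≫ biprod.fst ≫ f = kernel.ι φ ≫ biprod.snd ≫ ι := by
      rw [← sub_eq_zero, ← Preadditive.comp_sub]
      exact h0
    simp only [q, a, Category.assoc]
    rw [h1]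
  refine ⟨Q, q, a, hQ, ?_, hcompat⟩
  refine hTepi Q q fun p hp => ?_
  have hmem : (⟨p.1, kk p⟩ : Pt (kernel φ : X.Modules)) ∈ σ := Finset.mem_image.mpr ⟨p, hp, rfl⟩
  obtain ⟨a₀, ha₀⟩ := exists_A_app_eq (kernel φ : X.Modules) σ ⟨p.1, kk p⟩ hmem
  refine ⟨a₀, ?_⟩
  change (kernel.ι φ ≫ biprod.fst).app p.1.1 (ar.app p.1.1 a₀) = p.2
  have ha₀' : ar.app p.1.1 a₀ = kk p := ha₀
  rw [ha₀']
  exact hkk p hp

end FibreCover

section Main

variable {I : Type u} [SmallCategory I] [IsCofiltered I]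
  (D : I ⥤ Scheme.{u}) {c : Cone D} (hc : IsLimit c)
  [∀ (i j : I) (f : i ⟶ j), IsAffineHom (D.map f)] (i₀ : I)
  [CompactSpace (D.obj i₀)] [QuasiSeparatedSpace (D.obj i₀)]
  {F₀ G₀ : (D.obj i₀).Modules} [G₀.IsQuasicoherent]
  [SheafOfModules.IsFinitePresentation.{u} (R := (D.obj i₀).ringCatSheaf) F₀]

include hc in
/-- **EGA IV 8.5.2 (i), surjectivity.** -/
theorem exists_hom_descend
    (h : (Scheme.Modules.pullback (c.π.app i₀)).obj F₀ ⟶ (Scheme.Modules.pullback (c.π.app i₀)).obj G₀) :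
    ∃ (j : I) (φ : j ⟶ i₀) (hj : (Scheme.Modules.pullback (D.map φ)).obj F₀ ⟶
        (Scheme.Modules.pullback (D.map φ)).obj G₀),
      Theta (c.π.app j) (D.map φ) (c.π.app i₀) (c.w φ) hj = h := by
  classical
  haveI : F₀.IsQuasicoherent := Groth.Agent.Lib.Helper29.FPDict.isQuasicoherent_of_isFinitePresentation F₀
  haveI : SheafOfModules.IsFiniteType.{u} (R := (D.obj i₀).ringCatSheaf) F₀ :=
    Groth.Agent.Lib.Helper29.FPDict.isFiniteType_of_isFinitePresentation F₀
  haveI : IsAffineHom (c.π.app i₀) := isAffineHom_π_app D c hc i₀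
  -- the adjoint morphism
  let f : F₀ ⟶ (Scheme.Modules.pushforward (c.π.app i₀)).obj ((Scheme.Modules.pullback (c.π.app i₀)).obj G₀) :=
    (Scheme.Modules.pullbackPushforwardAdjunction (c.π.app i₀)).homEquiv _ _ h
  have hf : ∀ (V : (D.obj i₀).Opens) (x : Γ(F₀, V)),
      f.app V x = h.app (c.π.app i₀ ⁻¹ᵁ V) (pbs (c.π.app i₀) F₀ V x) := by
    intro V x
    have h1 : f = (Scheme.Modules.pullbackPushforwardAdjunction (c.π.app i₀)).unit.app F₀ ≫
        (Scheme.Modules.pushforward (c.π.app i₀)).map h := Adjunction.homEquiv_unit _ _ _ _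
    rw [h1]
    rfl
  obtain ⟨T₀, -, hTepi⟩ := exists_gen_points F₀
  -- a common stage at which the images of the generating sections lift
  obtain ⟨n, hn⟩ := exists_common_stage (i₀ := i₀)
    (fun (p : {p // p ∈ T₀}) (n' : Over i₀) =>
      ∃ y : Γ((Scheme.Modules.pushforward (D.map n'.hom)).obj
          ((Scheme.Modules.pullback (D.map n'.hom)).obj G₀), p.1.1.1),
        (iotaN D G₀ n' (c := c)).app p.1.1.1 y = f.app p.1.1.1 p.1.2)
    (fun p => exists_stage_section D hc G₀ p.1.1.2 _)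
  haveI : ((Scheme.Modules.pushforward (D.map n.hom)).obj
      ((Scheme.Modules.pullback (D.map n.hom)).obj G₀)).IsQuasicoherent :=
    isQuasicoherent_pushforward (D.map n.hom) _
  haveI : ((Scheme.Modules.pushforward (c.π.app i₀)).obj
      ((Scheme.Modules.pullback (c.π.app i₀)).obj G₀)).IsQuasicoherent :=
    isQuasicoherent_pushforward (c.π.app i₀) _
  obtain ⟨Q, q, aQ, hQ, hq, hcompat⟩ := exists_fibre_cover f (iotaN D G₀ n (c := c)) T₀ hTepi
    (fun p hp => hn ⟨p, hp⟩)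
  haveI := hq
  haveI : Q.IsQuasicoherent := hQ.1
  haveI : SheafOfModules.IsFiniteType.{u} (R := (D.obj i₀).ringCatSheaf) Q := hQ.2
  -- the morphism at the stage `n`
  let m₀ : (Scheme.Modules.pullback (D.map n.hom)).obj Q ⟶ (Scheme.Modules.pullback (D.map n.hom)).obj G₀ :=
    pbLift (D.map n.hom) aQ
  have hm₀ : Theta (c.π.app n.left) (D.map n.hom) (c.π.app i₀) (c.w n.hom) m₀ =
      (Scheme.Modules.pullback (c.π.app i₀)).map q ≫ h := by
    refine Theta_eq_of_comp_iotaW _ _ _ _ aQ _ fun V x => ?_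
    have h1 : (iotaN D G₀ n (c := c)).app V (aQ.app V x) = f.app V (q.app V x) := by
      have := congrArg (fun ψ => (Scheme.Modules.Hom.app ψ V) x) hcompat
      exact this.symm
    refine h1.trans ?_
    rw [hf]
    change _ = h.app _ (((Scheme.Modules.pullback (c.π.app i₀)).map q).app _ (pbs (c.π.app i₀) Q V x))
    rw [pbs_map]
  -- the kernel of `q` dies at a later stage
  haveI hKq : (kernel q : (D.obj i₀).Modules).IsQuasicoherent := isQuasicoherent_kernel q
  haveI hKft : SheafOfModules.IsFiniteType.{u} (R := (D.obj i₀).ringCatSheaf)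
      (kernel q : (D.obj i₀).Modules) :=
    Groth.Agent.Lib.Helper25.QuotFactor.isFiniteType_kernel_of_fp q
  let x₀ : (Scheme.Modules.pullback (D.map n.hom)).obj (kernel q) ⟶
      (Scheme.Modules.pullback (D.map n.hom)).obj G₀ :=
    (Scheme.Modules.pullback (D.map n.hom)).map (kernel.ι q) ≫ m₀
  have hx₀ : (Scheme.Modules.pullback (c.π.app n.left)).map x₀ =
      (Scheme.Modules.pullback (c.π.app n.left)).map 0 := by
    rw [Functor.map_zero]
    refine map_eq_zero_of_Theta_eq_zero (c.π.app n.left) (D.map n.hom) (c.π.app i₀) (c.w n.hom) x₀ ?_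
    rw [Theta_comp, Theta_map, hm₀, ← Category.assoc, ← Functor.map_comp, kernel.condition,
      Functor.map_zero, zero_comp]
  haveI : CompactSpace (D.obj n.left) := QuasiCompact.compactSpace_of_compactSpace (D.map n.hom)
  haveI : SheafOfModules.IsFiniteType.{u} (R := (D.obj n.left).ringCatSheaf)
      ((Scheme.Modules.pullback (D.map n.hom)).obj (kernel q)) :=
    Groth.Agent.Lib.Helper17.FinTypePushPull.isFiniteType_pullback (D.map n.hom) _
  obtain ⟨j, φ, hjφ⟩ := (pullback_map_eq_iff_eventually D hc (i₀ := n.left) x₀ 0).1 hx₀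
  -- descend along the pulled back epimorphism
  let P : (D.obj i₀).Modules ⥤ (D.obj j).Modules :=
    Scheme.Modules.pullback (D.map n.hom) ⋙ Scheme.Modules.pullback (D.map φ)
  have hP : P.map (kernel.ι q) ≫ (Scheme.Modules.pullback (D.map φ)).map m₀ = 0 := by
    change (Scheme.Modules.pullback (D.map φ)).map ((Scheme.Modules.pullback (D.map n.hom)).map (kernel.ι q)) ≫
      (Scheme.Modules.pullback (D.map φ)).map m₀ = 0
    rw [← Functor.map_comp, hjφ, Functor.map_zero]
  obtain ⟨m, hm⟩ := exists_desc_of_map_kernel_comp_eq_zero P q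
    ((Scheme.Modules.pullback (D.map φ)).map m₀) hP
  -- the morphism at the stage `j`
  have w₁ : D.map φ ≫ D.map n.hom = D.map (φ ≫ n.hom) := (D.map_comp φ n.hom).symm
  let Cj := compIso (D.map φ) (D.map n.hom) (D.map (φ ≫ n.hom)) w₁
  refine ⟨j, φ ≫ n.hom, Cj.inv.app F₀ ≫ m ≫ Cj.hom.app G₀, ?_⟩
  haveI : Epi ((Scheme.Modules.pullback (c.π.app i₀)).map q) := inferInstance
  rw [← cancel_epi ((Scheme.Modules.pullback (c.π.app i₀)).map q), ← hm₀,
    ← Theta_map (c.π.app j) (D.map (φ ≫ n.hom)) (c.π.app i₀) (c.w (φ ≫ n.hom)) q, ← Theta_comp]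
  have h2 : (Scheme.Modules.pullback (D.map (φ ≫ n.hom))).map q ≫ Cj.inv.app F₀ ≫ m ≫ Cj.hom.app G₀ =
      Theta (D.map φ) (D.map n.hom) (D.map (φ ≫ n.hom)) w₁ m₀ := by
    unfold Theta
    have h3 : (Scheme.Modules.pullback (D.map (φ ≫ n.hom))).map q ≫ Cj.inv.app F₀ =
        Cj.inv.app Q ≫ P.map q := (Cj.inv.naturality q)
    rw [← Category.assoc, h3, Category.assoc, ← Category.assoc (P.map q), hm]
  rw [h2]
  exact Theta_Theta (c.π.app j) (D.map φ) (D.map n.hom) (D.map (φ ≫ n.hom)) w₁ (c.π.app n.left)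
    (c.w φ) (c.π.app i₀) (c.w (φ ≫ n.hom)) (c.w n.hom) m₀

end Main

end Groth.Agent.Lib.Helper25.LimHom
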