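import Mathlib
import Groth.Agent.Lib.Helper25.InjStage
import Groth.Agent.Lib.Helper7.ZeroMEMain
import Groth.Agent.Lib.Helper7.FibreRegSpread
import Groth.Agent.Lib.Helper21.FlatDescQ4
import Groth.Agent.Lib.Helper21.FlatLocal6
import Groth.Agent.Lib.Helper2.FlatCrit

/-!
# helper25 — FibTorsion: a finitely presented module over a finitely presented algebra, flat over the
base, has no section supported off an open `U` as soon as this holds on every fibre
(EGA IV 11.10.? / relative assassin), in chart form.
-/

set_option autoImplicit false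
set_option linter.unusedVariables false
set_option linter.style.haveILetI false
set_option linter.unusedSectionVars false
universe u
open TensorProduct

namespace Groth.Agent.Lib.Helper25.FibTorsion

open Groth.Agent.Lib.Helper25.InjStage

section MinPrime

variable {B : Type u} [CommRing B] {M : Type u} [AddCommGroup M] [Module B M]

/-- the annihilator of an element -/
def ann (x : M) : Ideal B := LinearMap.ker (LinearMap.toSpanSingleton B M x)

lemma mem_ann {x : M} {r : B} : r ∈ ann (B := B) x ↔ r • x = 0 := by
  simp [ann, LinearMap.mem_ker, LinearMap.toSpanSingleton_apply]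

/-- if no power of `h` kills `x`, some minimal prime over `Ann x` avoids `h` -/
theorem exists_minimalPrime_not_mem (x : M) (h : B) (hx : ∀ n : ℕ, h ^ n • x ≠ 0) :
    ∃ q ∈ (ann (B := B) x).minimalPrimes, h ∉ q := by
  have h1 : h ∉ (ann (B := B) x).radical := by
    rintro ⟨n, hn⟩
    exact hx n (mem_ann.1 hn)
  rw [Ideal.radical_eq_sInf, Submodule.mem_sInf] at h1
  push Not at h1
  obtain ⟨J, ⟨hJ1, hJ2⟩, hJ3⟩ := h1
  haveI := hJ2
  obtain ⟨q, hq, hqJ⟩ := Ideal.exists_minimalPrimes_le hJ1
  exact ⟨q, hq, fun hh => hJ3 (hqJ hh)⟩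

/-- elements of a minimal prime over `Ann x` are nilpotent on `x` up to a unit at the prime -/
theorem exists_mul_pow_smul_eq_zero (x : M) {q : Ideal B} (hq : q ∈ (ann (B := B) x).minimalPrimes)
    {b : B} (hb : b ∈ q) : ∃ s ∉ q, ∃ n : ℕ, (s * b ^ n) • x = 0 := by
  haveI : q.IsPrime := hq.1.1
  by_contra hcon
  push Not at hcon
  -- the multiplicative set `{s * b^n}`
  let T : Submonoid B := q.primeCompl ⊔ Submonoid.powers b
  have hdisj : Disjoint ((ann (B := B) x : Ideal B) : Set B) (T : Set B) := by
    rw [Set.disjoint_left]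
    intro r hr hrT
    obtain ⟨s, hs, c, ⟨n, rfl⟩, rfl⟩ := Submonoid.mem_sup.1 hrT
    exact hcon s hs n (mem_ann.1 hr)
  obtain ⟨q₁, hq₁, hle, hd⟩ := Ideal.exists_le_prime_disjoint (ann (B := B) x) T hdisj
  have hq₁q : q₁ ≤ q := by
    intro r hr
    by_contra hrq
    exact (Set.disjoint_left.1 hd) hr (Submonoid.mem_sup_left (S := q.primeCompl) hrq)
  have : q ≤ q₁ := hq.2 ⟨hq₁, hle⟩ hq₁q
  exact (Set.disjoint_left.1 hd) (this hb)
    (Submonoid.mem_sup_right (Submonoid.mem_powers b))

end MinPrime

section FibInjDef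

variable {A B : Type u} [CommRing A] [CommRing B] [Algebra A B]
  {M : Type u} [AddCommGroup M] [Module B M] [Module A M] [IsScalarTower A B M]
  (I : Set B) (K : Type u) [CommRing K] [Algebra A K]

/-- **fibre condition**: no nonzero element of the fibre module `K ⊗ M` is killed by powers of every
element of `I` -/
def FibInj : Prop :=
  ∀ y : K ⊗[A] M, (∀ b ∈ I, ∃ n : ℕ, (lmul (A₀ := A) (M₀ := M) (b ^ n)).lTensor K y = 0) → y = 0

end FibInjDef

section Fibre

variable {A B : Type u} [CommRing A] [CommRing B] [Algebra A B]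
  {M : Type u} [AddCommGroup M] [Module B M] [Module A M] [IsScalarTower A B M]
  (I : Set B) (K : Type u) [Field K] [Algebra A K]


lemma lTensorAlgHom_eq (f : Module.End A M) :
    Module.End.lTensorAlgHom A M K f = LinearMap.lTensor K f := rfl

lemma rho_comm (c : K) (b : B) :
    Commute (Algebra.lsmul A A (K ⊗[A] M) c)
      (((Module.End.lTensorAlgHom A M K).comp (Algebra.lsmul A A M)) b) := by
  rw [Commute, SemiconjBy]
  apply LinearMap.ext
  intro y
  change c • (Module.End.lTensorAlgHom A M K (Algebra.lsmul A A M b)) y =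
    (Module.End.lTensorAlgHom A M K (Algebra.lsmul A A M b)) (c • y)
  rw [lTensorAlgHom_eq]
  induction y using TensorProduct.induction_on with
  | zero => simp
  | tmul k m =>
    rw [LinearMap.lTensor_tmul, TensorProduct.smul_tmul', TensorProduct.smul_tmul',
      LinearMap.lTensor_tmul]
  | add y z hy hz => rw [map_add, smul_add, hy, hz, smul_add, map_add]

/-- the action of `K ⊗[A] B` on `K ⊗[A] M` -/
noncomputable def rho : K ⊗[A] B →ₐ[A] Module.End A (K ⊗[A] M) :=
  Algebra.TensorProduct.lift (Algebra.lsmul A A (K ⊗[A] M))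
    ((Module.End.lTensorAlgHom A M K).comp (Algebra.lsmul A A M)) (rho_comm K)

lemma rho_tmul (c : K) (b : B) (k : K) (m : M) :
    rho (A := A) (B := B) (M := M) K (c ⊗ₜ b) (k ⊗ₜ m) = (c * k) ⊗ₜ (b • m) := by
  rw [rho, Algebra.TensorProduct.lift_tmul]
  change c • (Module.End.lTensorAlgHom A M K (Algebra.lsmul A A M b)) (k ⊗ₜ m) = _
  rw [lTensorAlgHom_eq, LinearMap.lTensor_tmul, TensorProduct.smul_tmul']
  rfl

lemma rho_one_tmul (b : B) (y : K ⊗[A] M) :
    rho (A := A) (B := B) (M := M) K ((1 : K) ⊗ₜ b) y = (lmul (A₀ := A) (M₀ := M) b).lTensor K y := by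
  induction y using TensorProduct.induction_on with
  | zero => simp
  | tmul k m => rw [rho_tmul, one_mul, LinearMap.lTensor_tmul]; rfl
  | add y z hy hz => simp only [map_add, hy, hz]

/-- `K ⊗[A] M` as a module over `K ⊗[A] B` -/
@[reducible] noncomputable def modRbar : Module (K ⊗[A] B) (K ⊗[A] M) :=
  Module.compHom (K ⊗[A] M) (rho (A := A) (B := B) (M := M) K).toRingHom

attribute [local instance] modRbar

lemma smul_def' (r : K ⊗[A] B) (y : K ⊗[A] M) :
    r • y = rho (A := A) (B := B) (M := M) K r y := rfl

theorem finite_modRbar [Module.Finite B M] : Module.Finite (K ⊗[A] B) (K ⊗[A] M) := by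
  classical
  obtain ⟨s, hs⟩ := (Module.finite_def (R := B) (M := M)).1 inferInstance
  refine ⟨⟨s.image (fun m => (1 : K) ⊗ₜ[A] m), ?_⟩⟩
  rw [eq_top_iff]
  rintro y -
  induction y using TensorProduct.induction_on with
  | zero => exact zero_mem _
  | tmul k m =>
    have hm : m ∈ Submodule.span B (s : Set M) := by rw [hs]; trivial
    induction hm using Submodule.span_induction with
    | mem m hm =>
      have : k ⊗ₜ[A] m = (k ⊗ₜ[A] (1 : B)) • ((1 : K) ⊗ₜ[A] m) := by
        rw [smul_def', rho_tmul, mul_one, one_smul]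
      rw [this]
      exact Submodule.smul_mem _ _ (Submodule.subset_span (by
        rw [Finset.coe_image]; exact ⟨m, hm, rfl⟩))
    | zero => rw [TensorProduct.tmul_zero]; exact zero_mem _
    | add m₁ m₂ _ _ h₁ h₂ => rw [TensorProduct.tmul_add]; exact add_mem h₁ h₂
    | smul b m _ hm =>
      have : k ⊗ₜ[A] (b • m) = ((1 : K) ⊗ₜ[A] b) • (k ⊗ₜ[A] m) := by
        rw [smul_def', rho_tmul, one_mul]
      rw [this]
      exact Submodule.smul_mem _ _ hm
  | add y z hy hz => exact add_mem hy hz

theorem isNoetherianRing_Rbar [Algebra.FiniteType A B] : IsNoetherianRing (K ⊗[A] B) :=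
  Algebra.FiniteType.isNoetherianRing K (K ⊗[A] B)

/-- **a fibrewise regular element in the ideal generated by `I`** -/
theorem exists_regular [Algebra.FiniteType A B] [Module.Finite B M] (hFC : FibInj (A := A) (M := M) I K) :
    ∃ b ∈ Ideal.span I, Function.Injective ((lmul (A₀ := A) (M₀ := M) b).lTensor K) := by
  classical
  haveI := isNoetherianRing_Rbar (A := A) (B := B) K
  haveI := finite_modRbar (A := A) (B := B) (M := M) K
  by_contra hcon
  push Not at hcon
  have hfin := associatedPrimes.finite (K ⊗[A] B) (K ⊗[A] M)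
  let ι : B →+* K ⊗[A] B := (Algebra.TensorProduct.includeRight (R := A) (A := K) (B := B)).toRingHom
  have hι : ∀ b, ι b = (1 : K) ⊗ₜ[A] b := fun b => rfl
  have hsub : ((Ideal.span I : Ideal B) : Set B) ⊆
      ⋃ 𝔮 ∈ (hfin.toFinset : Set (Ideal (K ⊗[A] B))), (𝔮.comap ι : Ideal B) := by
    intro b hb
    have hni := hcon b hb
    rw [← LinearMap.ker_eq_bot, Submodule.eq_bot_iff] at hni
    push Not at hni
    obtain ⟨y, hy, hy0⟩ := hni
    have hz : ι b ∈ {r : K ⊗[A] B | ∃ x : K ⊗[A] M, x ≠ 0 ∧ r • x = 0} :=
      ⟨y, hy0, by rw [hι, smul_def', rho_one_tmul]; exact hy⟩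
    rw [← biUnion_associatedPrimes_eq_zero_divisors] at hz
    obtain ⟨𝔮, h𝔮, hb𝔮⟩ := Set.mem_iUnion₂.1 hz
    exact Set.mem_iUnion₂.2 ⟨𝔮, by simpa using h𝔮, hb𝔮⟩
  obtain ⟨𝔮, h𝔮, hle⟩ := (Ideal.subset_union_prime (R := B) (s := hfin.toFinset)
    (f := fun 𝔮 => 𝔮.comap ι) ⊥ ⊥ (fun 𝔮 h𝔮 _ _ => by
      have : 𝔮 ∈ associatedPrimes (K ⊗[A] B) (K ⊗[A] M) := by simpa using h𝔮
      haveI := this.isPrime
      infer_instance)).1 hsub
  have h𝔮' : 𝔮 ∈ associatedPrimes (K ⊗[A] B) (K ⊗[A] M) := by simpa using h𝔮
  obtain ⟨-, y₀, hy₀⟩ := (isAssociatedPrime_iff.1 h𝔮')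
  have hy₀ne : y₀ ≠ 0 := by
    rintro rfl
    have : (1 : K ⊗[A] B) ∈ 𝔮 := by
      rw [hy₀, Submodule.mem_colon_singleton]; simp
    exact h𝔮'.isPrime.ne_top ((Ideal.eq_top_iff_one _).2 this)
  apply hy₀ne
  apply hFC
  intro b hb
  refine ⟨1, ?_⟩
  have h1 : ι b ∈ 𝔮 := hle (Ideal.subset_span hb)
  rw [hy₀, Submodule.mem_colon_singleton, Submodule.mem_bot, hι, smul_def', rho_one_tmul] at h1
  rwa [pow_one]

end Fibre

section General
variable {R₀ : Type*} [CommRing R₀] (T : Submonoid R₀) (S₀ : Type*) [CommRing S₀] [Algebra R₀ S₀]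
  [IsLocalization T S₀] {N N' : Type*} [AddCommGroup N] [Module R₀ N] [AddCommGroup N']
  [Module R₀ N'] [Module S₀ N'] [IsScalarTower R₀ S₀ N'] (f : N →ₗ[R₀] N') [IsLocalizedModule T f]

theorem map_smul_top_eq_localized' (J : Ideal R₀) :
    (J.map (algebraMap R₀ S₀)) • (⊤ : Submodule S₀ N') =
      (J • (⊤ : Submodule R₀ N)).localized' S₀ T f := by
  rw [Submodule.localized'_smul, Ideal.localized'_eq_map, Submodule.localized'_top]

theorem mk'_mem_map_smul_top_iff (J : Ideal R₀) (m : N) (s : T) :
    IsLocalizedModule.mk' f m s ∈ (J.map (algebraMap R₀ S₀)) • (⊤ : Submodule S₀ N') ↔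
      ∃ t ∈ T, t • m ∈ J • (⊤ : Submodule R₀ N) := by
  rw [map_smul_top_eq_localized' T S₀ f, Submodule.mem_localized']
  constructor
  · rintro ⟨m', hm', s', h⟩
    rw [IsLocalizedModule.mk'_eq_mk'_iff] at h
    obtain ⟨c, hc⟩ := h
    refine ⟨(c * s' : T), (c * s').2, ?_⟩
    have : ((c * s' : T) : R₀) • m = c • s' • m := by
      rw [Submonoid.smul_def, Submonoid.smul_def, Submonoid.coe_mul, mul_smul]
    rw [this, hc]
    exact Submodule.smul_mem _ _ (Submodule.smul_mem _ _ hm')
  · rintro ⟨t, ht, h⟩
    refine ⟨t • m, h, (⟨t, ht⟩ : T) * s, ?_⟩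
    rw [IsLocalizedModule.mk'_eq_mk'_iff]
    refine ⟨1, ?_⟩
    rw [one_smul, one_smul, Submonoid.smul_def, Submonoid.smul_def, Submonoid.coe_mul, mul_smul,
      smul_comm]

end General

section K1
variable {A : Type u} [CommRing A] (p : Ideal A) [p.IsPrime] {M : Type u} [AddCommGroup M] [Module A M]

open Groth.Agent.Lib.Helper2 in
theorem one_tmul_residue_eq_zero (m : M) (h : (1 : p.ResidueField) ⊗ₜ[A] m = 0) :
    ∃ t ∈ p.primeCompl, t • m ∈ p • (⊤ : Submodule A M) := by
  let R := Localization.AtPrime p
  let f := LocalizedModule.mkLinearMap p.primeCompl M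
  let e : R ⊗[A] M ≃ₗ[R] LocalizedModule p.primeCompl M :=
    (IsLocalizedModule.isBaseChange p.primeCompl R f).equiv
  have h1 : (1 : p.ResidueField) ⊗ₜ[R] ((1 : R) ⊗ₜ[A] m) = 0 := by
    apply (AlgebraTensorModule.cancelBaseChange A R p.ResidueField p.ResidueField M).injective
    rw [AlgebraTensorModule.cancelBaseChange_tmul, one_smul, map_zero]
    exact h
  have h2 : (1 : R ⧸ IsLocalRing.maximalIdeal R) ⊗ₜ[R] (f m) = 0 := by
    have := congrArg (LinearMap.lTensor p.ResidueField e.toLinearMap) h1
    rw [LinearMap.lTensor_tmul, map_zero] at this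
    have he : e ((1 : R) ⊗ₜ[A] m) = f m := by
      rw [IsBaseChange.equiv_tmul, one_smul]
    rw [LinearEquiv.coe_coe, he] at this
    exact this
  rw [FlatCrit.one_tmul_eq_zero_iff, ← Localization.AtPrime.map_eq_maximalIdeal,
    ← IsLocalizedModule.mk'_one p.primeCompl f m] at h2
  exact (mk'_mem_map_smul_top_iff p.primeCompl R f p m 1).1 h2

theorem tmul_residue_eq_zero_of_mem (k : p.ResidueField) (m : M)
    (h : m ∈ p • (⊤ : Submodule A M)) : k ⊗ₜ[A] m = 0 := by
  refine Submodule.smul_induction_on h ?_ ?_
  · intro a ha m' _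
    rw [TensorProduct.tmul_smul, TensorProduct.smul_tmul', Algebra.smul_def,
      (Ideal.algebraMap_residueField_eq_zero (I := p)).2 ha, zero_mul, TensorProduct.zero_tmul]
  · intro x y hx hy
    rw [TensorProduct.tmul_add, hx, hy, add_zero]

end K1

section Local

open IsLocalRing Groth.Agent.Lib.Helper21.FlatDesc Groth.Agent.Lib.Helper2

variable (A B : Type u) [CommRing A] [CommRing B] [Algebra A B] [Algebra.FinitePresentation A B]

set_option maxHeartbeats 1600000 in
set_option synthInstance.maxHeartbeats 200000 in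
/-- a fibrewise regular element is regular at the prime (EGA IV 11.3.7 via `ZeroME`) -/
theorem regular_localized (M : Type u) [AddCommGroup M] [Module B M] [Module A M]
    [IsScalarTower A B M] [Module.FinitePresentation B M] [Module.Flat A M] (q : Ideal B)
    [q.IsPrime] (b : B)
    (hb : Function.Injective
      ((lmul (A₀ := A) (M₀ := M) b).lTensor (q.comap (algebraMap A B)).ResidueField))
    (n : LocalizedModule q.primeCompl M) (hn : b • n = 0) : n = 0 := by
  -- the local rings
  letI aRS : Algebra (Localization.AtPrime (q.comap (algebraMap A B))) (Localization.AtPrime q) :=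
    (Localization.localRingHom (q.comap (algebraMap A B)) q (algebraMap A B) rfl).toAlgebra
  haveI hloc : IsLocalHom (algebraMap (Localization.AtPrime (q.comap (algebraMap A B)))
      (Localization.AtPrime q)) :=
    Localization.isLocalHom_localRingHom (I := q.comap (algebraMap A B)) q (algebraMap A B) rfl
  haveI tARS : IsScalarTower A (Localization.AtPrime (q.comap (algebraMap A B)))
      (Localization.AtPrime q) :=
    IsScalarTower.of_algebraMap_eq fun a => by
      show _ = Localization.localRingHom (q.comap (algebraMap A B)) q (algebraMap A B) rfl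
        (algebraMap A _ a)
      rw [Localization.localRingHom_to_map, ← IsScalarTower.algebraMap_apply]
  -- essentially finitely presented
  have hfp : (algebraMap A B).FinitePresentation :=
    RingHom.finitePresentation_algebraMap.2 inferInstance
  obtain ⟨S₀, _, a, b', T, hab, ha, hlocT⟩ := EssFP.localRingHom (algebraMap A B) hfp q
  letI aRS₀ : Algebra (Localization.AtPrime (q.comap (algebraMap A B))) S₀ := a.toAlgebra
  letI aS₀S : Algebra S₀ (Localization.AtPrime q) := b'.toAlgebra
  haveI tw : IsScalarTower (Localization.AtPrime (q.comap (algebraMap A B))) S₀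
      (Localization.AtPrime q) :=
    IsScalarTower.of_algebraMap_eq fun r => by
      show Localization.localRingHom (q.comap (algebraMap A B)) q (algebraMap A B) rfl r = b' (a r)
      rw [hab]; rfl
  haveI hfpS₀ : Algebra.FinitePresentation (Localization.AtPrime (q.comap (algebraMap A B))) S₀ := ha
  haveI hlocT' : IsLocalization T (Localization.AtPrime q) := hlocT
  -- module structure over `R`
  letI mR : Module (Localization.AtPrime (q.comap (algebraMap A B)))
      (LocalizedModule q.primeCompl M) :=
    Module.compHom _ (algebraMap (Localization.AtPrime (q.comap (algebraMap A B)))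
      (Localization.AtPrime q))
  haveI tRSM : IsScalarTower (Localization.AtPrime (q.comap (algebraMap A B)))
      (Localization.AtPrime q) (LocalizedModule q.primeCompl M) :=
    IsScalarTower.of_algebraMap_smul fun _ _ => rfl
  haveI tARM : IsScalarTower A (Localization.AtPrime (q.comap (algebraMap A B)))
      (LocalizedModule q.primeCompl M) :=
    IsScalarTower.of_algebraMap_smul fun r x => by
      show algebraMap (Localization.AtPrime (q.comap (algebraMap A B))) (Localization.AtPrime q)
        (algebraMap A _ r) • x = r • x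
      rw [← IsScalarTower.algebraMap_apply, algebraMap_smul]
  -- flatness over `R`
  haveI hflA : Module.Flat A (LocalizedModule q.primeCompl M) :=
    Groth.Agent.Lib.Helper21.FlatLocal.flat_of_isLocalizedModule (A := A) (B := B) (F := M)
      q.primeCompl (LocalizedModule.mkLinearMap q.primeCompl M)
  haveI hflR : Module.Flat (Localization.AtPrime (q.comap (algebraMap A B)))
      (LocalizedModule q.primeCompl M) :=
    (Module.flat_iff_of_isLocalization (Localization.AtPrime (q.comap (algebraMap A B)))
      (q.comap (algebraMap A B)).primeCompl (LocalizedModule q.primeCompl M)).2 hflA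
  -- the ideal
  have hideal : (maximalIdeal (Localization.AtPrime (q.comap (algebraMap A B)))).map
      (algebraMap (Localization.AtPrime (q.comap (algebraMap A B))) (Localization.AtPrime q)) =
      ((q.comap (algebraMap A B)).map (algebraMap A B)).map
        (algebraMap B (Localization.AtPrime q)) := by
    rw [← Localization.AtPrime.map_eq_maximalIdeal, Ideal.map_map, Ideal.map_map,
      ← IsScalarTower.algebraMap_eq, ← IsScalarTower.algebraMap_eq]
  -- the endomorphism
  let u : LocalizedModule q.primeCompl M →ₗ[Localization.AtPrime q]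
      LocalizedModule q.primeCompl M :=
    LinearMap.lsmul (Localization.AtPrime q) (LocalizedModule q.primeCompl M)
      (algebraMap B (Localization.AtPrime q) b)
  have hu : ∀ x : LocalizedModule q.primeCompl M,
      u x ∈ (maximalIdeal (Localization.AtPrime (q.comap (algebraMap A B)))).map
        (algebraMap (Localization.AtPrime (q.comap (algebraMap A B))) (Localization.AtPrime q)) •
          (⊤ : Submodule (Localization.AtPrime q) (LocalizedModule q.primeCompl M)) →
      x ∈ (maximalIdeal (Localization.AtPrime (q.comap (algebraMap A B)))).map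
        (algebraMap (Localization.AtPrime (q.comap (algebraMap A B))) (Localization.AtPrime q)) •
          (⊤ : Submodule (Localization.AtPrime q) (LocalizedModule q.primeCompl M)) := by
    intro x
    induction x using LocalizedModule.induction_on with
    | h m s =>
      have hux : u (LocalizedModule.mk m s) = LocalizedModule.mk (b • m) s := by
        show algebraMap B (Localization.AtPrime q) b • LocalizedModule.mk m s = _
        rw [algebraMap_smul, LocalizedModule.smul'_mk]
      rw [hux, hideal, IsLocalizedModule.mk_eq_mk', IsLocalizedModule.mk_eq_mk',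
        mk'_mem_map_smul_top_iff, mk'_mem_map_smul_top_iff]
      rintro ⟨t, ht, hmem⟩
      have h1 := FlatCrit.mem_smul_top_of_mem_map_smul_top _ hmem
      have h2 : (lmul (A₀ := A) (M₀ := M) b).lTensor (q.comap (algebraMap A B)).ResidueField
          ((1 : (q.comap (algebraMap A B)).ResidueField) ⊗ₜ[A] (t • m)) = 0 := by
        rw [LinearMap.lTensor_tmul]
        show (1 : (q.comap (algebraMap A B)).ResidueField) ⊗ₜ[A] (b • t • m) = 0
        rw [smul_comm]
        exact tmul_residue_eq_zero_of_mem _ _ _ h1
      have h3 := hb (h2.trans (map_zero _).symm)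
      obtain ⟨c, hc, hcm⟩ := one_tmul_residue_eq_zero _ _ h3
      refine ⟨algebraMap A B c * t, ?_, ?_⟩
      · exact Submonoid.mul_mem _ hc ht
      · rw [mul_smul, algebraMap_smul]
        exact FlatCrit.mem_map_smul_top_of_mem_smul_top _ hcm
  obtain ⟨hinj, -⟩ := Groth.Agent.Lib.Helper7.ZeroME.injective_and_flat_coker_essFP
    (Localization.AtPrime (q.comap (algebraMap A B))) (Localization.AtPrime q) S₀ T
    (LocalizedModule q.primeCompl M) (LocalizedModule q.primeCompl M) u hu
  apply hinj
  rw [map_zero]
  show algebraMap B (Localization.AtPrime q) b • n = 0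
  rw [algebraMap_smul]
  exact hn

end Local

section Main

variable (A B : Type u) [CommRing A] [CommRing B] [Algebra A B] [Algebra.FinitePresentation A B]

/-- iterate `regular_localized` -/
theorem regular_localized_pow (M : Type u) [AddCommGroup M] [Module B M] [Module A M]
    [IsScalarTower A B M] [Module.FinitePresentation B M] [Module.Flat A M] (q : Ideal B)
    [q.IsPrime] (b : B)
    (hb : Function.Injective
      ((lmul (A₀ := A) (M₀ := M) b).lTensor (q.comap (algebraMap A B)).ResidueField))
    (k : ℕ) (n : LocalizedModule q.primeCompl M) (hn : b ^ k • n = 0) : n = 0 := by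
  induction k with
  | zero => simpa using hn
  | succ k ih =>
    apply ih
    apply regular_localized A B M q b hb
    rw [← mul_smul, ← pow_succ']
    exact hn

/-- **T''** (relative schematic density, chart form): `B` a finitely presented `A`-algebra, `M` a
finitely presented `B`-module flat over `A`, `I ⊆ B` a set of elements (the basic opens inside `U`).
If on every fibre no nonzero element of `κ(p) ⊗ M` is supported off `U`, then an element of `M_h`
vanishing on `D(h) ∩ U` vanishes. -/
theorem exists_pow_smul_eq_zero (M : Type u) [AddCommGroup M] [Module B M] [Module A M]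
    [IsScalarTower A B M] [Module.FinitePresentation B M] [Module.Flat A M] (I : Set B)
    (hfib : ∀ (p : Ideal A) [p.IsPrime], FibInj (A := A) (M := M) I p.ResidueField)
    (h : B) (x : M) (hx : ∀ b ∈ I, ∃ n : ℕ, (h * b) ^ n • x = 0) : ∃ n : ℕ, h ^ n • x = 0 := by
  by_contra hcon
  push Not at hcon
  obtain ⟨q, hq, hhq⟩ := exists_minimalPrime_not_mem x h hcon
  haveI : q.IsPrime := hq.1.1
  have hIq : Ideal.span I ≤ q := by
    rw [Ideal.span_le]
    intro b hb
    obtain ⟨n, hn⟩ := hx b hb
    have h1 : (h * b) ^ n ∈ q := hq.1.2 (mem_ann.2 hn)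
    have h2 : h * b ∈ q := Ideal.IsPrime.mem_of_pow_mem inferInstance n h1
    exact (Ideal.IsPrime.mem_or_mem inferInstance h2).resolve_left hhq
  haveI : Algebra.FiniteType A B := inferInstance
  haveI : Module.Finite B M := inferInstance
  obtain ⟨b, hbI, hbinj⟩ := exists_regular (A := A) (B := B) (M := M) I
    (q.comap (algebraMap A B)).ResidueField (hfib _)
  obtain ⟨s, hs, n, hsn⟩ := exists_mul_pow_smul_eq_zero x hq (hIq hbI)
  have h0 : LocalizedModule.mkLinearMap q.primeCompl M x = 0 := by
    apply regular_localized_pow A B M q b hbinj n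
    rw [LocalizedModule.mkLinearMap_apply, LocalizedModule.smul'_mk,
      ← LocalizedModule.mkLinearMap_apply, IsLocalizedModule.eq_zero_iff q.primeCompl]
    refine ⟨⟨s, hs⟩, ?_⟩
    rw [Submonoid.smul_def, ← mul_smul]
    exact hsn
  obtain ⟨s', hs'⟩ := (IsLocalizedModule.eq_zero_iff q.primeCompl
    (LocalizedModule.mkLinearMap q.primeCompl M)).1 h0
  exact s'.2 (hq.1.2 (mem_ann.2 hs'))

end Main

end Groth.Agent.Lib.Helper25.FibTorsion
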