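import Mathlib
import Groth.Agent.Lib.Helper25.FibTorsion

/-!
# helper25 — FibTransfer: the fibre condition `FibInj` under change of field and base change
-/

set_option autoImplicit false
set_option linter.unusedVariables false
set_option linter.style.haveILetI false
set_option linter.unusedSectionVars false
universe u
open TensorProduct

namespace Groth.Agent.Lib.Helper25.FibTorsion

open Groth.Agent.Lib.Helper25.InjStage

section ChangeField

variable {A B : Type u} [CommRing A] [CommRing B] [Algebra A B]
  {M : Type u} [AddCommGroup M] [Module B M] [Module A M] [IsScalarTower A B M]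
  (I : Set B)

/-- descent of the fibre condition along a map of coefficient rings that stays injective after
tensoring with `M` -/
theorem FibInj.of_injective {K L : Type u} [CommRing K] [CommRing L] [Algebra A K] [Algebra A L]
    (χ : K →ₐ[A] L) (hχ : Function.Injective (χ.toLinearMap.rTensor M))
    (h : FibInj (A := A) (M := M) I L) : FibInj (A := A) (M := M) I K := by
  intro y hy
  apply hχ
  rw [map_zero]
  apply h
  intro b hb
  obtain ⟨n, hn⟩ := hy b hb
  refine ⟨n, ?_⟩
  have hcomm : (lmul (A₀ := A) (M₀ := M) (b ^ n)).lTensor L (χ.toLinearMap.rTensor M y) =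
      χ.toLinearMap.rTensor M ((lmul (A₀ := A) (M₀ := M) (b ^ n)).lTensor K y) := by
    rw [← LinearMap.comp_apply, ← LinearMap.comp_apply, LinearMap.lTensor_comp_rTensor,
      LinearMap.rTensor_comp_lTensor]
  rw [hcomm, hn, map_zero]

/-- the fibre condition is invariant under isomorphisms of the coefficient ring -/
theorem FibInj.of_algEquiv {K L : Type u} [CommRing K] [CommRing L] [Algebra A K] [Algebra A L]
    (e : K ≃ₐ[A] L) (h : FibInj (A := A) (M := M) I K) : FibInj (A := A) (M := M) I L := by
  refine FibInj.of_injective I e.symm.toAlgHom ?_ h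
  exact (LinearEquiv.rTensor M e.symm.toLinearEquiv).injective

/-- descent of the fibre condition along a field extension -/
theorem FibInj.of_field_descent {K L : Type u} [Field K] [Field L] [Algebra A K] [Algebra A L]
    [Algebra K L] [IsScalarTower A K L]
    (h : FibInj (A := A) (M := M) I L) : FibInj (A := A) (M := M) I K := by
  refine FibInj.of_injective I (IsScalarTower.toAlgHom A K L) ?_ h
  obtain ⟨r, hr⟩ := LinearMap.exists_leftInverse_of_injective (Algebra.linearMap K L)
    (LinearMap.ker_eq_bot.2 (algebraMap K L).injective)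
  have hr' : (r.restrictScalars A) ∘ₗ (IsScalarTower.toAlgHom A K L).toLinearMap = LinearMap.id := by
    ext k
    exact LinearMap.congr_fun hr k
  have : ((r.restrictScalars A).rTensor M) ∘ₗ ((IsScalarTower.toAlgHom A K L).toLinearMap.rTensor M)
      = LinearMap.id := by
    rw [← LinearMap.rTensor_comp, hr', LinearMap.rTensor_id]
  exact Function.LeftInverse.injective (g := (r.restrictScalars A).rTensor M)
    (fun y => LinearMap.congr_fun this y)

end ChangeField


section FieldExt

variable {A B : Type u} [CommRing A] [CommRing B] [Algebra A B]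
  {M : Type u} [AddCommGroup M] [Module B M] [Module A M] [IsScalarTower A B M]
  (I : Set B)

/-- coordinates of `L ⊗[K] N` in a basis of `L` commute with `L ⊗ φ` -/
theorem equivFinsuppOfBasisLeft_lTensor {K L N : Type u} [Field K] [AddCommGroup L] [Module K L]
    [AddCommGroup N] [Module K N] {ι : Type u} [DecidableEq ι] (ℬ : Module.Basis ι K L)
    (φ : N →ₗ[K] N) (z : L ⊗[K] N) (i : ι) :
    TensorProduct.equivFinsuppOfBasisLeft ℬ (φ.lTensor L z) i =
      φ (TensorProduct.equivFinsuppOfBasisLeft ℬ z i) := by
  induction z using TensorProduct.induction_on with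
  | zero => simp
  | tmul l n =>
    rw [LinearMap.lTensor_tmul, TensorProduct.equivFinsuppOfBasisLeft_apply_tmul_apply,
      TensorProduct.equivFinsuppOfBasisLeft_apply_tmul_apply, map_smul]
  | add x y hx hy => simp only [map_add, Finsupp.add_apply, hx, hy]

/-- the fibre condition passes to field extensions -/
theorem FibInj.of_field_ext {K L : Type u} [Field K] [Field L] [Algebra A K] [Algebra A L]
    [Algebra K L] [IsScalarTower A K L]
    (h : FibInj (A := A) (M := M) I K) : FibInj (A := A) (M := M) I L := by
  classical
  intro y hy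
  obtain ⟨z, rfl⟩ := (AlgebraTensorModule.cancelBaseChange A K L L M).surjective y
  have hfun : ∀ (u : M →ₗ[A] M) (x : L ⊗[K] (K ⊗[A] M)),
      u.lTensor L (AlgebraTensorModule.cancelBaseChange A K L L M x) =
      AlgebraTensorModule.cancelBaseChange A K L L M
        (LinearMap.lTensor L (AlgebraTensorModule.lTensor K K u) x) := by
    intro u x
    exact LinearMap.congr_fun (AlgebraTensorModule.lTensor_comp_cancelBaseChange (R := A) (A := K)
      (B := L) (M := L) u) x
  let ℬ := Module.Basis.ofVectorSpace K L
  have hz : TensorProduct.equivFinsuppOfBasisLeft ℬ z = 0 := by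
    ext i
    rw [Finsupp.zero_apply]
    apply h
    intro b hb
    obtain ⟨n, hn⟩ := hy b hb
    refine ⟨n, ?_⟩
    rw [hfun, LinearEquiv.map_eq_zero_iff] at hn
    have h1 := equivFinsuppOfBasisLeft_lTensor ℬ
      (AlgebraTensorModule.lTensor K K (lmul (A₀ := A) (M₀ := M) (b ^ n))) z i
    rw [hn, map_zero, Finsupp.zero_apply] at h1
    exact h1.symm
  rw [LinearEquiv.map_eq_zero_iff] at hz
  rw [hz, map_zero]

end FieldExt


section BaseChange

variable {A A' B B' : Type u} [CommRing A] [CommRing A'] [CommRing B] [CommRing B'] [Algebra A A']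
  [Algebra A B] [Algebra A' B']
  {M M' : Type u} [AddCommGroup M] [Module B M] [Module A M] [IsScalarTower A B M]
  [AddCommGroup M'] [Module B' M'] [Module A' M'] [IsScalarTower A' B' M']

/-- **base change of the fibre condition**: if `M' ≅ A' ⊗[A] M` compatibly with the actions of
`B → B'`, the fibre condition for `(A, B, M, I)` at a field `K` over `A'` gives the fibre condition
for `(A', B', M', I')` at `K`, as soon as `I` maps into `I'`. -/
theorem FibInj.baseChange (ι : B →+* B') (E : M' ≃ₗ[A'] A' ⊗[A] M)
    (hE : ∀ (b : B) (t : M'), E (ι b • t) = (lmul (A₀ := A) (M₀ := M) b).lTensor A' (E t))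
    (I : Set B) (I' : Set B') (hI : ∀ b ∈ I, ι b ∈ I')
    (K : Type u) [CommRing K] [Algebra A' K] [Algebra A K] [IsScalarTower A A' K]
    (h : FibInj (A := A) (M := M) I K) : FibInj (A := A') (M := M') I' K := by
  intro y' hy'
  have hfun : ∀ (u : M →ₗ[A] M) (x : K ⊗[A'] (A' ⊗[A] M)),
      u.lTensor K (AlgebraTensorModule.cancelBaseChange A A' K K M x) =
      AlgebraTensorModule.cancelBaseChange A A' K K M
        (LinearMap.lTensor K (AlgebraTensorModule.lTensor A' A' u) x) := by
    intro u x
    exact LinearMap.congr_fun (AlgebraTensorModule.lTensor_comp_cancelBaseChange (R := A) (A := A')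
      (B := K) (M := K) u) x
  have key : ∀ (b : B) (y : K ⊗[A'] M'),
      (lmul (A₀ := A) (M₀ := M) b).lTensor K
        (AlgebraTensorModule.cancelBaseChange A A' K K M (E.toLinearMap.lTensor K y)) =
      AlgebraTensorModule.cancelBaseChange A A' K K M
        (E.toLinearMap.lTensor K ((lmul (A₀ := A') (M₀ := M') (ι b)).lTensor K y)) := by
    intro b y
    have hcomp : (AlgebraTensorModule.lTensor A' A' (lmul (A₀ := A) (M₀ := M) b)) ∘ₗ E.toLinearMap =
        E.toLinearMap ∘ₗ (lmul (A₀ := A') (M₀ := M') (ι b)) := by
      apply LinearMap.ext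
      intro t
      exact (hE b t).symm
    rw [hfun, ← LinearMap.comp_apply, ← LinearMap.comp_apply (E.toLinearMap.lTensor K),
      ← LinearMap.lTensor_comp, ← LinearMap.lTensor_comp, hcomp]
  have h0 : AlgebraTensorModule.cancelBaseChange A A' K K M (E.toLinearMap.lTensor K y') = 0 := by
    apply h
    intro b hb
    obtain ⟨n, hn⟩ := hy' (ι b) (hI b hb)
    refine ⟨n, ?_⟩
    rw [key, map_pow, hn, map_zero, map_zero]
  rw [LinearEquiv.map_eq_zero_iff] at h0
  have hinj : Function.Injective (E.toLinearMap.lTensor K) :=
    (LinearEquiv.lTensor K E).injective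
  exact hinj (h0.trans (map_zero _).symm)

end BaseChange

end Groth.Agent.Lib.Helper25.FibTorsion
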