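import Mathlib
import Groth.Agent.Lib.Helper7.InjFlatOpen
import Groth.Agent.Lib.Helper25.FlatChartGen

/-!
# helper25 — InjFlatChart: on an affine chart, "`u_x` injective and `Coker u` flat at all points"
is read on sections: `Γ(u, U)` injective with flat cokernel.
-/

set_option backward.isDefEq.respectTransparency.types false
set_option autoImplicit false
set_option linter.unusedVariables false
set_option linter.style.haveILetI false
universe u
open AlgebraicGeometry CategoryTheory Limits TensorProduct TopologicalSpace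

namespace Groth.Agent.Lib.Helper25.InjFlatChart

open Groth.Agent.Lib.Helper29.FPDict Groth.Agent.Lib.Helper17.CohKer
  Groth.Agent.Lib.Helper7.FlatChart Groth.Agent.Lib.Helper7.FPKer
  Groth.Agent.Lib.Helper29.QCohStalk Groth.Agent.Lib.Helper28.QCohLoc
  Groth.Agent.Lib.Helper17.StalkExact Groth.Agent.Lib.Helper17.FTExt
  Groth.Agent.Lib.Helper17.FlatDict

variable {X : Scheme.{u}} {F' F : X.Modules} [F'.IsQuasicoherent] [F.IsQuasicoherent]

/-- sections of the cokernel over an affine open -/
noncomputable def cokerSecEquiv (u : F' ⟶ F) {U : X.Opens} (hU : IsAffineOpen U) :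
    (Γ(F, U) ⧸ LinearMap.range (appLinear u U)) ≃ₗ[Γ(X, U)] Γ(cokernel u, U) :=
  Function.Exact.linearEquivOfSurjective (f := appLinear u U)
    (g := appLinear (cokernel.π u) U)
    (by
      intro b
      constructor
      · intro hb
        obtain ⟨a, ha⟩ := exists_app_eq_of_cokernel_π_app_eq_zero u hU b hb
        exact ⟨a, ha⟩
      · rintro ⟨a, rfl⟩
        have : (u ≫ cokernel.π u).app U a = 0 := by
          rw [cokernel.condition]; rfl
        exact this)
    (cokernel_π_app_surjective u hU)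

/-- injectivity on sections over an affine open gives injectivity on stalks -/
theorem stalk_injective_of_app_injective (u : F' ⟶ F) {U : X.Opens} (hU : IsAffineOpen U)
    (hinj : Function.Injective (u.app U)) (y : X) (hyU : y ∈ U) :
    Function.Injective ((TopCat.Presheaf.stalkFunctor Ab y).map
      (Scheme.Modules.Hom.mapPresheaf u)) := by
  have hlocF' := isLocOn_of_isQuasicoherent F' hU
  have hlocF := isLocOn_of_isQuasicoherent F hU
  rw [injective_iff_map_eq_zero]
  intro (μ : F'.presheaf.stalk y) hμ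
  show μ = 0
  obtain ⟨s, m, hs, hsm⟩ := exists_germ_smul_eq F' hU hlocF' y hyU μ
  have h1 : stalkHom u y (gm F' U y hyU m) = 0 := by
    rw [← hsm, stalkHom_smul]
    have : stalkHom u y μ = 0 := hμ
    rw [this, smul_zero]
  rw [stalkHom_germ] at h1
  obtain ⟨r, hr, hrm⟩ := (gm_eq_zero_iff hU hlocF y hyU (u.app U m)).1 h1
  have h2 : u.app U (r • m) = 0 := by
    rw [Scheme.Modules.Hom.app_smul, hrm]
  have h3 : r • m = 0 := hinj (h2.trans (map_zero _).symm)
  have h3' : gm F' U y hyU (r • m) = 0 := by rw [h3]; exact gm_zero F' U y hyU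
  rw [gm_smul] at h3'
  have hru : IsUnit (X.presheaf.germ U y hyU r) := (notMem_germPrime_iff U y hyU r).1 hr
  have h4 : gm F' U y hyU m = 0 := eq_zero_of_isUnit_smul hru h3'
  rw [h4] at hsm
  exact eq_zero_of_isUnit_smul (M := F'.presheaf.stalk y) hs hsm

/-- injectivity on all stalks at points of `U` gives injectivity on sections -/
theorem app_injective_of_stalk_injective (u : F' ⟶ F) (U : X.Opens)
    (h : ∀ y ∈ U, Function.Injective ((TopCat.Presheaf.stalkFunctor Ab y).map
      (Scheme.Modules.Hom.mapPresheaf u))) : Function.Injective (u.app U) := by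
  rw [injective_iff_map_eq_zero]
  intro m hm
  refine TopCat.Presheaf.section_ext ⟨F'.presheaf, F'.isSheaf⟩ U m 0 (fun y hy => ?_)
  apply h y hy
  have h1 : stalkHom u y (gm F' U y hy m) = 0 := by
    rw [stalkHom_germ, hm]; exact map_zero _
  have h2 : stalkHom u y (gm F' U y hy 0) = 0 := by
    rw [gm_zero]; exact map_zero _
  exact h1.trans h2.symm

/-- **Chart criterion**: on an affine chart `U ≤ f⁻¹ V`, the condition "`u_y` injective and `Coker u`
flat over the base at `y`" for all `y ∈ U` is equivalent to `Γ(u, U)` being injective with cokernel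
flat over `Γ(S, V)`. -/
theorem chart_iff {S : Scheme.{u}} (f : X ⟶ S) (u : F' ⟶ F) {U : X.Opens} {V : S.Opens}
    (hU : IsAffineOpen U) (hV : IsAffineOpen V) (hUV : U ≤ f ⁻¹ᵁ V) :
    letI : Algebra Γ(S, V) Γ(X, U) := (f.appLE V U hUV).hom.toAlgebra
    letI : Module Γ(S, V) Γ(F, U) := Module.compHom Γ(F, U) (f.appLE V U hUV).hom
    haveI : IsScalarTower Γ(S, V) Γ(X, U) Γ(F, U) := IsScalarTower.of_algebraMap_smul fun _ _ => rfl
    (∀ y ∈ U, Function.Injective ((TopCat.Presheaf.stalkFunctor Ab y).map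
        (Scheme.Modules.Hom.mapPresheaf u)) ∧ FlatMod.IsFlatOverAt f (cokernel u) y) ↔
      (Function.Injective (appLinear u U) ∧
        Module.Flat Γ(S, V) (Γ(F, U) ⧸ LinearMap.range (appLinear u U))) := by
  letI algSX : Algebra Γ(S, V) Γ(X, U) := (f.appLE V U hUV).hom.toAlgebra
  letI modF : Module Γ(S, V) Γ(F, U) := Module.compHom Γ(F, U) (f.appLE V U hUV).hom
  haveI : IsScalarTower Γ(S, V) Γ(X, U) Γ(F, U) := IsScalarTower.of_algebraMap_smul fun _ _ => rfl
  haveI : (cokernel u).IsQuasicoherent := isQuasicoherent_cokernel u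
  letI modC : Module Γ(S, V) Γ(cokernel u, U) :=
    Module.compHom Γ(cokernel u, U) (f.appLE V U hUV).hom
  haveI : IsScalarTower Γ(S, V) Γ(X, U) Γ(cokernel u, U) :=
    IsScalarTower.of_algebraMap_smul fun _ _ => rfl
  have key := flat_sections_iff f (cokernel u) hU hV hUV
  have hfl : Module.Flat Γ(S, V) (Γ(F, U) ⧸ LinearMap.range (appLinear u U)) ↔
      Module.Flat Γ(S, V) Γ(cokernel u, U) :=
    Module.Flat.equiv_iff ((cokerSecEquiv u hU).restrictScalars Γ(S, V))
  constructor
  · intro h
    refine ⟨app_injective_of_stalk_injective u U (fun y hy => (h y hy).1), ?_⟩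
    rw [hfl]
    exact key.2 (fun y hy => (h y hy).2)
  · rintro ⟨hinj, hflat⟩ y hy
    exact ⟨stalk_injective_of_app_injective u hU hinj y hy, key.1 (hfl.1 hflat) y hy⟩

/-- flatness of the cokernel on an affine chart, read on sections -/
theorem coker_flat_chart_iff {S : Scheme.{u}} (f : X ⟶ S) (u : F' ⟶ F) {U : X.Opens} {V : S.Opens}
    (hU : IsAffineOpen U) (hV : IsAffineOpen V) (hUV : U ≤ f ⁻¹ᵁ V) :
    letI : Algebra Γ(S, V) Γ(X, U) := (f.appLE V U hUV).hom.toAlgebra
    letI : Module Γ(S, V) Γ(F, U) := Module.compHom Γ(F, U) (f.appLE V U hUV).hom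
    haveI : IsScalarTower Γ(S, V) Γ(X, U) Γ(F, U) := IsScalarTower.of_algebraMap_smul fun _ _ => rfl
    (∀ y ∈ U, FlatMod.IsFlatOverAt f (cokernel u) y) ↔
      Module.Flat Γ(S, V) (Γ(F, U) ⧸ LinearMap.range (appLinear u U)) := by
  letI algSX : Algebra Γ(S, V) Γ(X, U) := (f.appLE V U hUV).hom.toAlgebra
  letI modF : Module Γ(S, V) Γ(F, U) := Module.compHom Γ(F, U) (f.appLE V U hUV).hom
  haveI : IsScalarTower Γ(S, V) Γ(X, U) Γ(F, U) := IsScalarTower.of_algebraMap_smul fun _ _ => rfl
  haveI : (cokernel u).IsQuasicoherent := isQuasicoherent_cokernel u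
  letI modC : Module Γ(S, V) Γ(cokernel u, U) :=
    Module.compHom Γ(cokernel u, U) (f.appLE V U hUV).hom
  haveI : IsScalarTower Γ(S, V) Γ(X, U) Γ(cokernel u, U) :=
    IsScalarTower.of_algebraMap_smul fun _ _ => rfl
  have key := flat_sections_iff f (cokernel u) hU hV hUV
  have hfl : Module.Flat Γ(S, V) (Γ(F, U) ⧸ LinearMap.range (appLinear u U)) ↔
      Module.Flat Γ(S, V) Γ(cokernel u, U) :=
    Module.Flat.equiv_iff ((cokerSecEquiv u hU).restrictScalars Γ(S, V))
  rw [hfl]
  exact key.symm

end Groth.Agent.Lib.Helper25.InjFlatChart
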