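import Mathlib
import Groth.Agent.Lib.Helper25.InjFlatChart
import Groth.Agent.Lib.Helper25.SecBCNat

/-!
# helper25 — InjFlatPull: chart dictionary, in a general pullback square, for the condition
"`(g'^* u)_x` injective and `Coker (g'^* u)` flat over the base at `x`".
-/

set_option backward.isDefEq.respectTransparency.types false
set_option autoImplicit false
set_option linter.unusedVariables false
set_option linter.style.haveILetI false
universe u
open AlgebraicGeometry CategoryTheory Limits TensorProduct TopologicalSpace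

namespace Groth.Agent.Lib.Helper25.InjFlatPull

open Groth.Agent.Lib.Helper7.FlatChart Groth.Agent.Lib.Helper7.FPKer
  Groth.Agent.Lib.Helper25.InjFlatChart Groth.Agent.Lib.Helper25.SecBCNat

/-- transfer of "injective with flat cokernel" along a commutative square of linear equivalences -/
theorem inj_flat_transfer {R' : Type u} [CommRing R'] {M₁ M₂ N₁ N₂ : Type u}
    [AddCommGroup M₁] [AddCommGroup M₂] [AddCommGroup N₁] [AddCommGroup N₂]
    [Module R' M₁] [Module R' M₂] [Module R' N₁] [Module R' N₂]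
    (a : M₁ →ₗ[R'] M₂) (b : N₁ →ₗ[R'] N₂) (e₁ : M₁ ≃ₗ[R'] N₁) (e₂ : M₂ ≃ₗ[R'] N₂)
    (h : ∀ x, e₂ (a x) = b (e₁ x)) :
    (Function.Injective a ∧ Module.Flat R' (M₂ ⧸ LinearMap.range a)) ↔
      (Function.Injective b ∧ Module.Flat R' (N₂ ⧸ LinearMap.range b)) := by
  have hmap : (LinearMap.range a).map (e₂ : M₂ →ₗ[R'] N₂) = LinearMap.range b := by
    ext y
    constructor
    · rintro ⟨_, ⟨x, rfl⟩, rfl⟩
      exact ⟨e₁ x, (h x).symm⟩
    · rintro ⟨z, rfl⟩
      refine ⟨a (e₁.symm z), ⟨_, rfl⟩, ?_⟩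
      show e₂ (a (e₁.symm z)) = b z
      rw [h, LinearEquiv.apply_symm_apply]
  have hq : Module.Flat R' (M₂ ⧸ LinearMap.range a) ↔ Module.Flat R' (N₂ ⧸ LinearMap.range b) :=
    Module.Flat.equiv_iff (Submodule.Quotient.equiv _ _ e₂ hmap)
  have hi : Function.Injective a ↔ Function.Injective b := by
    constructor
    · intro ha x y hxy
      have : a (e₁.symm x) = a (e₁.symm y) := by
        apply e₂.injective
        rw [h, h, LinearEquiv.apply_symm_apply, LinearEquiv.apply_symm_apply, hxy]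
      exact e₁.symm.injective (ha this)
    · intro hb x y hxy
      have : b (e₁ x) = b (e₁ y) := by rw [← h, ← h, hxy]
      exact e₁.injective (hb this)
  rw [hi, hq]

/-- naturality of `Algebra.IsPushout.cancelBaseChange` in the module -/
theorem cancelBaseChange_naturality (R S A B : Type u) [CommRing R] [CommRing S] [CommRing A]
    [CommRing B] [Algebra R S] [Algebra R A] [Algebra R B] [Algebra S B] [Algebra A B]
    [IsScalarTower R S B] [IsScalarTower R A B] [Algebra.IsPushout R S A B]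
    {M N : Type u} [AddCommGroup M] [Module R M] [Module A M] [IsScalarTower R A M]
    [AddCommGroup N] [Module R N] [Module A N] [IsScalarTower R A N] (α : M →ₗ[A] N)
    (z : B ⊗[A] M) :
    Algebra.IsPushout.cancelBaseChange R S A B N ((α.baseChange B) z) =
      ((α.restrictScalars R).baseChange S) (Algebra.IsPushout.cancelBaseChange R S A B M z) := by
  obtain ⟨w, rfl⟩ := (Algebra.IsPushout.cancelBaseChange R S A B M).symm.surjective z
  rw [LinearEquiv.apply_symm_apply]
  induction w using TensorProduct.induction_on with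
  | zero => simp only [map_zero]
  | tmul s m =>
    rw [Algebra.IsPushout.cancelBaseChange_symm_tmul, LinearMap.baseChange_tmul,
      LinearMap.baseChange_tmul, ← LinearEquiv.eq_symm_apply,
      Algebra.IsPushout.cancelBaseChange_symm_tmul]
    rfl
  | add x y hx hy => simp only [map_add, hx, hy]

set_option maxRecDepth 8000 in
set_option maxHeartbeats 1000000 in
/-- **Chart dictionary for morphisms in a pullback square.** -/
theorem inj_flat_chart_general {X S X' S' : Scheme.{u}} {f : X ⟶ S} {f' : X' ⟶ S'} {g' : X' ⟶ X}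
    {g : S' ⟶ S} (hc : IsPullback g' f' f g) {F' F : X.Modules} [F'.IsQuasicoherent]
    [F.IsQuasicoherent] (u : F' ⟶ F)
    {US : S.Opens} {UX : X.Opens} {UT : S'.Opens}
    (hUS : IsAffineOpen US) (hUX : IsAffineOpen UX) (hUT : IsAffineOpen UT)
    (hUSX : UX ≤ f ⁻¹ᵁ US) (hUST : UT ≤ g ⁻¹ᵁ US) :
    letI : Algebra Γ(S, US) Γ(X, UX) := (f.appLE US UX hUSX).hom.toAlgebra
    letI : Algebra Γ(S, US) Γ(S', UT) := (g.appLE US UT hUST).hom.toAlgebra
    letI : Module Γ(S, US) Γ(F', UX) := Module.compHom Γ(F', UX) (f.appLE US UX hUSX).hom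
    letI : Module Γ(S, US) Γ(F, UX) := Module.compHom Γ(F, UX) (f.appLE US UX hUSX).hom
    haveI : IsScalarTower Γ(S, US) Γ(X, UX) Γ(F', UX) :=
      IsScalarTower.of_algebraMap_smul fun _ _ => rfl
    haveI : IsScalarTower Γ(S, US) Γ(X, UX) Γ(F, UX) :=
      IsScalarTower.of_algebraMap_smul fun _ _ => rfl
    (∀ x' : X', x' ∈ g' ⁻¹ᵁ UX ⊓ f' ⁻¹ᵁ UT →
      Function.Injective ((TopCat.Presheaf.stalkFunctor Ab x').map
        (Scheme.Modules.Hom.mapPresheaf ((Scheme.Modules.pullback g').map u))) ∧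
      FlatMod.IsFlatOverAt f' (cokernel ((Scheme.Modules.pullback g').map u)) x') ↔
    (Function.Injective (((appLinear u UX).restrictScalars Γ(S, US)).baseChange Γ(S', UT)) ∧
      Module.Flat Γ(S', UT) ((Γ(S', UT) ⊗[Γ(S, US)] Γ(F, UX)) ⧸
        LinearMap.range (((appLinear u UX).restrictScalars Γ(S, US)).baseChange Γ(S', UT)))) := by
  letI algRB : Algebra Γ(S, US) Γ(X, UX) := (f.appLE US UX hUSX).hom.toAlgebra
  letI algRR' : Algebra Γ(S, US) Γ(S', UT) := (g.appLE US UT hUST).hom.toAlgebra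
  letI modRM' : Module Γ(S, US) Γ(F', UX) := Module.compHom Γ(F', UX) (f.appLE US UX hUSX).hom
  letI modRM : Module Γ(S, US) Γ(F, UX) := Module.compHom Γ(F, UX) (f.appLE US UX hUSX).hom
  haveI : IsScalarTower Γ(S, US) Γ(X, UX) Γ(F', UX) :=
    IsScalarTower.of_algebraMap_smul fun _ _ => rfl
  haveI : IsScalarTower Γ(S, US) Γ(X, UX) Γ(F, UX) :=
    IsScalarTower.of_algebraMap_smul fun _ _ => rfl
  obtain ⟨hW, hpo⟩ := affine_chart_of_opens hc hUS hUX hUT hUSX hUST
  set W : X'.Opens := g' ⁻¹ᵁ UX ⊓ f' ⁻¹ᵁ UT with hWdef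
  letI algBC : Algebra Γ(X, UX) Γ(X', W) := (g'.appLE UX W inf_le_left).hom.toAlgebra
  letI algR'C : Algebra Γ(S', UT) Γ(X', W) := (f'.appLE UT W inf_le_right).hom.toAlgebra
  letI algRC : Algebra Γ(S, US) Γ(X', W) :=
    ((algebraMap Γ(X, UX) Γ(X', W)).comp (algebraMap Γ(S, US) Γ(X, UX))).toAlgebra
  haveI : IsScalarTower Γ(S, US) Γ(X, UX) Γ(X', W) :=
    IsScalarTower.of_algebraMap_eq fun _ => rfl
  haveI : IsScalarTower Γ(S, US) Γ(S', UT) Γ(X', W) :=
    IsScalarTower.of_algebraMap_eq fun a => congr($(hpo.w).hom a)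
  haveI hpush : Algebra.IsPushout Γ(S, US) Γ(S', UT) Γ(X, UX) Γ(X', W) :=
    CommRingCat.isPushout_iff_isPushout.mp hpo.flip
  -- the chart criterion upstairs
  have key := chart_iff f' ((Scheme.Modules.pullback g').map u) hW hUT
    (inf_le_right : W ≤ f' ⁻¹ᵁ UT)
  letI modR'N' : Module Γ(S', UT) Γ((Scheme.Modules.pullback g').obj F', W) :=
    Module.compHom _ (f'.appLE UT W inf_le_right).hom
  letI modR'N : Module Γ(S', UT) Γ((Scheme.Modules.pullback g').obj F, W) :=
    Module.compHom _ (f'.appLE UT W inf_le_right).hom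
  haveI : IsScalarTower Γ(S', UT) Γ(X', W) Γ((Scheme.Modules.pullback g').obj F', W) :=
    IsScalarTower.of_algebraMap_smul fun _ _ => rfl
  haveI : IsScalarTower Γ(S', UT) Γ(X', W) Γ((Scheme.Modules.pullback g').obj F, W) :=
    IsScalarTower.of_algebraMap_smul fun _ _ => rfl
  rw [key]
  -- transfer along the natural equivalences
  let E' : Γ((Scheme.Modules.pullback g').obj F', W) ≃ₗ[Γ(S', UT)] Γ(S', UT) ⊗[Γ(S, US)] Γ(F', UX) :=
    ((secEquiv g' F' hW hUX (inf_le_left : W ≤ g' ⁻¹ᵁ UX)).restrictScalars Γ(S', UT)) ≪≫ₗ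
      Algebra.IsPushout.cancelBaseChange Γ(S, US) Γ(S', UT) Γ(X, UX) Γ(X', W) Γ(F', UX)
  let E : Γ((Scheme.Modules.pullback g').obj F, W) ≃ₗ[Γ(S', UT)] Γ(S', UT) ⊗[Γ(S, US)] Γ(F, UX) :=
    ((secEquiv g' F hW hUX (inf_le_left : W ≤ g' ⁻¹ᵁ UX)).restrictScalars Γ(S', UT)) ≪≫ₗ
      Algebra.IsPushout.cancelBaseChange Γ(S, US) Γ(S', UT) Γ(X, UX) Γ(X', W) Γ(F, UX)
  have hnat : ∀ s, E (((appLinear ((Scheme.Modules.pullback g').map u) W).restrictScalars
      Γ(S', UT)) s) =
      (((appLinear u UX).restrictScalars Γ(S, US)).baseChange Γ(S', UT)) (E' s) := by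
    intro s
    have h1 := secEquiv_naturality g' u hW hUX inf_le_left s
    have h2 := cancelBaseChange_naturality Γ(S, US) Γ(S', UT) Γ(X, UX) Γ(X', W) (appLinear u UX)
      (secEquiv g' F' hW hUX inf_le_left s)
    simp only [E, E', LinearEquiv.trans_apply, LinearEquiv.restrictScalars_apply,
      LinearMap.restrictScalars_apply, appLinear_apply]
    rw [h1]
    exact h2
  exact inj_flat_transfer
    ((appLinear ((Scheme.Modules.pullback g').map u) W).restrictScalars Γ(S', UT))
    (((appLinear u UX).restrictScalars Γ(S, US)).baseChange Γ(S', UT)) E' E hnat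

end Groth.Agent.Lib.Helper25.InjFlatPull
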