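import Mathlib
import Groth.Agent.Lib.Helper25.InjFlatPull
import Groth.Agent.Lib.Helper25.FibTransfer
import Groth.Agent.Lib.Helper29.FPDict
import Groth.Agent.Lib.Helper25.FlatChartGen
import Groth.Agent.Lib.Helper17.FlatDict

/-!
# helper25 — FibChart: chart dictionary for the fibre condition `FibInj` in a pullback square
-/

set_option backward.isDefEq.respectTransparency.types false
set_option autoImplicit false
set_option linter.unusedVariables false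
set_option linter.style.haveILetI false
universe u
open AlgebraicGeometry CategoryTheory Limits TensorProduct TopologicalSpace

namespace Groth.Agent.Lib.Helper25.FibChart

open Groth.Agent.Lib.Helper7.FlatChart Groth.Agent.Lib.Helper7.FPKer
  Groth.Agent.Lib.Helper25.InjFlatChart Groth.Agent.Lib.Helper25.SecBCNat
  Groth.Agent.Lib.Helper25.InjFlatPull Groth.Agent.Lib.Helper25.InjStage
  Groth.Agent.Lib.Helper25.FibTorsion

/-- multiplication by the image of `b` on a base-changed module -/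
theorem algebraMap_smul_eq_baseChange {B B' : Type u} [CommRing B] [CommRing B'] [Algebra B B']
    {M : Type u} [AddCommGroup M] [Module B M] (b : B) (z : B' ⊗[B] M) :
    (algebraMap B B' b) • z = ((LinearMap.lsmul B M b).baseChange B') z := by
  induction z using TensorProduct.induction_on with
  | zero => simp
  | tmul c m =>
    rw [LinearMap.baseChange_tmul, TensorProduct.smul_tmul', smul_eq_mul, LinearMap.lsmul_apply,
      TensorProduct.tmul_smul, TensorProduct.smul_tmul', Algebra.smul_def]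
  | add x y hx hy => rw [smul_add, hx, hy, map_add]

/-- the functions on `UX` whose basic open lies in `U` -/
def basicSet {X : Scheme.{u}} (UX U : X.Opens) : Set Γ(X, UX) := {b | X.basicOpen b ≤ U}

set_option maxRecDepth 8000 in
set_option maxHeartbeats 1000000 in
/-- **Chart data in a pullback square**: sections of the pulled back module over the product chart
are the base change of the sections over the chart downstairs, compatibly with multiplications. -/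
theorem chart_data {X S X' S' : Scheme.{u}} {f : X ⟶ S} {f' : X' ⟶ S'} {g' : X' ⟶ X}
    {g : S' ⟶ S} (hc : IsPullback g' f' f g) (F : X.Modules) [F.IsQuasicoherent]
    {US : S.Opens} {UX : X.Opens} {UT : S'.Opens}
    (hUS : IsAffineOpen US) (hUX : IsAffineOpen UX) (hUT : IsAffineOpen UT)
    (hUSX : UX ≤ f ⁻¹ᵁ US) (hUST : UT ≤ g ⁻¹ᵁ US) :
    letI : Algebra Γ(S, US) Γ(X, UX) := (f.appLE US UX hUSX).hom.toAlgebra
    letI : Algebra Γ(S, US) Γ(S', UT) := (g.appLE US UT hUST).hom.toAlgebra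
    letI : Module Γ(S, US) Γ(F, UX) := Module.compHom Γ(F, UX) (f.appLE US UX hUSX).hom
    haveI : IsScalarTower Γ(S, US) Γ(X, UX) Γ(F, UX) :=
      IsScalarTower.of_algebraMap_smul fun _ _ => rfl
    letI : Module Γ(S', UT) Γ((Scheme.Modules.pullback g').obj F, g' ⁻¹ᵁ UX ⊓ f' ⁻¹ᵁ UT) :=
      Module.compHom _ (f'.appLE UT (g' ⁻¹ᵁ UX ⊓ f' ⁻¹ᵁ UT) inf_le_right).hom
    ∃ E : Γ((Scheme.Modules.pullback g').obj F, g' ⁻¹ᵁ UX ⊓ f' ⁻¹ᵁ UT) ≃ₗ[Γ(S', UT)]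
        Γ(S', UT) ⊗[Γ(S, US)] Γ(F, UX),
      ∀ (b : Γ(X, UX)) (t : Γ((Scheme.Modules.pullback g').obj F, g' ⁻¹ᵁ UX ⊓ f' ⁻¹ᵁ UT)),
        E ((g'.appLE UX (g' ⁻¹ᵁ UX ⊓ f' ⁻¹ᵁ UT) inf_le_left).hom b • t) =
          (lmul (A₀ := Γ(S, US)) (M₀ := Γ(F, UX)) b).lTensor Γ(S', UT) (E t) := by
  letI algRB : Algebra Γ(S, US) Γ(X, UX) := (f.appLE US UX hUSX).hom.toAlgebra
  letI algRR' : Algebra Γ(S, US) Γ(S', UT) := (g.appLE US UT hUST).hom.toAlgebra
  letI modRM : Module Γ(S, US) Γ(F, UX) := Module.compHom Γ(F, UX) (f.appLE US UX hUSX).hom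
  haveI : IsScalarTower Γ(S, US) Γ(X, UX) Γ(F, UX) :=
    IsScalarTower.of_algebraMap_smul fun _ _ => rfl
  obtain ⟨hW, hpo⟩ := affine_chart_of_opens hc hUS hUX hUT hUSX hUST
  set W : X'.Opens := g' ⁻¹ᵁ UX ⊓ f' ⁻¹ᵁ UT with hWdef
  letI algBC : Algebra Γ(X, UX) Γ(X', W) := (g'.appLE UX W inf_le_left).hom.toAlgebra
  letI algR'C : Algebra Γ(S', UT) Γ(X', W) := (f'.appLE UT W inf_le_right).hom.toAlgebra
  letI algRC : Algebra Γ(S, US) Γ(X', W) :=
    ((algebraMap Γ(X, UX) Γ(X', W)).comp (algebraMap Γ(S, US) Γ(X, UX))).toAlgebra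
  haveI : IsScalarTower Γ(S, US) Γ(X, UX) Γ(X', W) :=
    IsScalarTower.of_algebraMap_eq fun _ => rfl
  haveI : IsScalarTower Γ(S, US) Γ(S', UT) Γ(X', W) :=
    IsScalarTower.of_algebraMap_eq fun a => congr($(hpo.w).hom a)
  haveI hpush : Algebra.IsPushout Γ(S, US) Γ(S', UT) Γ(X, UX) Γ(X', W) :=
    CommRingCat.isPushout_iff_isPushout.mp hpo.flip
  letI modR'N : Module Γ(S', UT) Γ((Scheme.Modules.pullback g').obj F, W) :=
    Module.compHom _ (f'.appLE UT W inf_le_right).hom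
  haveI : IsScalarTower Γ(S', UT) Γ(X', W) Γ((Scheme.Modules.pullback g').obj F, W) :=
    IsScalarTower.of_algebraMap_smul fun _ _ => rfl
  let E : Γ((Scheme.Modules.pullback g').obj F, W) ≃ₗ[Γ(S', UT)] Γ(S', UT) ⊗[Γ(S, US)] Γ(F, UX) :=
    ((secEquiv g' F hW hUX (inf_le_left : W ≤ g' ⁻¹ᵁ UX)).restrictScalars Γ(S', UT)) ≪≫ₗ
      Algebra.IsPushout.cancelBaseChange Γ(S, US) Γ(S', UT) Γ(X, UX) Γ(X', W) Γ(F, UX)
  refine ⟨E, ?_⟩
  intro b t
  have h1 : secEquiv g' F hW hUX (inf_le_left : W ≤ g' ⁻¹ᵁ UX)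
      ((g'.appLE UX W inf_le_left).hom b • t) =
      (algebraMap Γ(X, UX) Γ(X', W) b) •
        secEquiv g' F hW hUX (inf_le_left : W ≤ g' ⁻¹ᵁ UX) t :=
    map_smul _ _ _
  have h2 := cancelBaseChange_naturality Γ(S, US) Γ(S', UT) Γ(X, UX) Γ(X', W)
    (LinearMap.lsmul Γ(X, UX) Γ(F, UX) b) (secEquiv g' F hW hUX inf_le_left t)
  simp only [E, LinearEquiv.trans_apply, LinearEquiv.restrictScalars_apply]
  rw [h1, algebraMap_smul_eq_baseChange, h2]
  rfl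

open Groth.Agent.Lib.Helper28.QCohLoc Groth.Agent.Lib.Helper29.FPDict in
/-- a section of a quasi-coherent module on an affine open killed by a power of `h` vanishes on
`D(h)` -/
theorem res_basicOpen_eq_zero_of_pow_smul {Y : Scheme.{u}} (G : Y.Modules) [G.IsQuasicoherent]
    {W : Y.Opens} (hW : IsAffineOpen W) (h : Γ(Y, W)) (t : Γ(G, W)) (n : ℕ)
    (hn : h ^ n • t = 0) : G.presheaf.map (homOfLE (Y.basicOpen_le h)).op t = 0 := by
  letI := modBasicOpen G h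
  have hloc := isLocalizedModule_resLin (isLocOn_of_isQuasicoherent G hW) h
  exact (IsLocalizedModule.eq_zero_iff (Submonoid.powers h) (resLin G h)).2
    ⟨⟨h ^ n, n, rfl⟩, hn⟩

open Groth.Agent.Lib.Helper28.QCohLoc Groth.Agent.Lib.Helper29.FPDict in
/-- conversely a section vanishing on `D(h)` is killed by a power of `h` -/
theorem exists_pow_smul_of_res_basicOpen_eq_zero {Y : Scheme.{u}} (G : Y.Modules)
    [G.IsQuasicoherent] {W : Y.Opens} (hW : IsAffineOpen W) (h : Γ(Y, W)) (t : Γ(G, W))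
    (ht : G.presheaf.map (homOfLE (Y.basicOpen_le h)).op t = 0) : ∃ n : ℕ, h ^ n • t = 0 :=
  (isLocOn_of_isQuasicoherent G hW).inj h t ht

open Groth.Agent.Lib.Helper28.QCohLoc in
set_option maxRecDepth 8000 in
set_option maxHeartbeats 1000000 in
/-- **CH1**: if sections of the pulled back module over the product chart are determined by their
restriction to the preimage of `U`, the fibre condition holds for the coefficient ring
`Γ(S', UT)`. -/
theorem fibInj_of_injective {X S X' S' : Scheme.{u}} {f : X ⟶ S} {f' : X' ⟶ S'} {g' : X' ⟶ X}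
    {g : S' ⟶ S} (hc : IsPullback g' f' f g) (F : X.Modules) [F.IsQuasicoherent] (U : X.Opens)
    {US : S.Opens} {UX : X.Opens} {UT : S'.Opens}
    (hUS : IsAffineOpen US) (hUX : IsAffineOpen UX) (hUT : IsAffineOpen UT)
    (hUSX : UX ≤ f ⁻¹ᵁ US) (hUST : UT ≤ g ⁻¹ᵁ US)
    (hinj : ∀ t : Γ((Scheme.Modules.pullback g').obj F, g' ⁻¹ᵁ UX ⊓ f' ⁻¹ᵁ UT),
      ((Scheme.Modules.pullback g').obj F).presheaf.map
        (homOfLE (inf_le_left : (g' ⁻¹ᵁ UX ⊓ f' ⁻¹ᵁ UT) ⊓ g' ⁻¹ᵁ U ≤ g' ⁻¹ᵁ UX ⊓ f' ⁻¹ᵁ UT)).op t = 0 →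
        t = 0) :
    letI : Algebra Γ(S, US) Γ(X, UX) := (f.appLE US UX hUSX).hom.toAlgebra
    letI : Algebra Γ(S, US) Γ(S', UT) := (g.appLE US UT hUST).hom.toAlgebra
    letI : Module Γ(S, US) Γ(F, UX) := Module.compHom Γ(F, UX) (f.appLE US UX hUSX).hom
    haveI : IsScalarTower Γ(S, US) Γ(X, UX) Γ(F, UX) :=
      IsScalarTower.of_algebraMap_smul fun _ _ => rfl
    FibInj (A := Γ(S, US)) (M := Γ(F, UX)) (basicSet UX U) Γ(S', UT) := by
  letI algRB : Algebra Γ(S, US) Γ(X, UX) := (f.appLE US UX hUSX).hom.toAlgebra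
  letI algRR' : Algebra Γ(S, US) Γ(S', UT) := (g.appLE US UT hUST).hom.toAlgebra
  letI modRM : Module Γ(S, US) Γ(F, UX) := Module.compHom Γ(F, UX) (f.appLE US UX hUSX).hom
  haveI : IsScalarTower Γ(S, US) Γ(X, UX) Γ(F, UX) :=
    IsScalarTower.of_algebraMap_smul fun _ _ => rfl
  obtain ⟨hW, -⟩ := affine_chart_of_opens hc hUS hUX hUT hUSX hUST
  letI modR'N : Module Γ(S', UT) Γ((Scheme.Modules.pullback g').obj F, g' ⁻¹ᵁ UX ⊓ f' ⁻¹ᵁ UT) :=
    Module.compHom _ (f'.appLE UT (g' ⁻¹ᵁ UX ⊓ f' ⁻¹ᵁ UT) inf_le_right).hom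
  obtain ⟨E, hE⟩ := chart_data hc F hUS hUX hUT hUSX hUST
  set W : X'.Opens := g' ⁻¹ᵁ UX ⊓ f' ⁻¹ᵁ UT with hWdef
  intro y hy
  obtain ⟨t, rfl⟩ := E.surjective y
  suffices ht : t = 0 by rw [ht, map_zero]
  apply hinj
  -- local vanishing on the basic opens
  refine eq_of_locally_eq ((Scheme.Modules.pullback g').obj F)
    (fun b : basicSet UX U => X'.basicOpen ((g'.appLE UX W inf_le_left).hom b.1)) (W ⊓ g' ⁻¹ᵁ U)
    (fun b => ?_) ?_ _ _ (fun b => ?_)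
  · rw [Scheme.basicOpen_appLE]
    exact inf_le_inf_left _ (g'.preimage_mono (show X.basicOpen b.1 ≤ U from b.2))
  · intro x' hx'
    obtain ⟨b, hb1, hb2⟩ := hUX.exists_basicOpen_le (V := U) ⟨g' x', hx'.2⟩ hx'.1.1
    refine Opens.mem_iSup.mpr ⟨⟨b, hb1⟩, ?_⟩
    rw [Scheme.basicOpen_appLE]
    exact ⟨hx'.1, hb2⟩
  · rw [res_res, res_zero]
    obtain ⟨n, hn⟩ := hy b.1 b.2
    rw [← hE, LinearEquiv.map_eq_zero_iff, map_pow] at hn
    exact res_basicOpen_eq_zero_of_pow_smul _ hW _ t n hn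

open Groth.Agent.Lib.Helper28.QCohLoc Groth.Agent.Lib.Helper25.FlatChartGen in
set_option maxRecDepth 8000 in
set_option maxHeartbeats 1000000 in
set_option synthInstance.maxHeartbeats 200000 in
/-- **CH2**: if the fibre condition holds for all fields over `Γ(S, US)`, a section of the pulled
back module over the product chart `(g' ⁻¹ᵁ UX ⊓ f' ⁻¹ᵁ UT)` which vanishes on `D(h) ∩ g'⁻¹U` vanishes on `D(h)`. -/
theorem res_eq_zero_of_fibInj {X S X' S' : Scheme.{u}} {f : X ⟶ S} {f' : X' ⟶ S'} {g' : X' ⟶ X}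
    {g : S' ⟶ S} (hc : IsPullback g' f' f g) [LocallyOfFinitePresentation f]
    (F : X.Modules) [F.IsQuasicoherent]
    [SheafOfModules.IsFinitePresentation.{u} (R := X.ringCatSheaf) F]
    (hflat : FlatMod.IsFlatOver f F) (U : X.Opens)
    {US : S.Opens} {UX : X.Opens} {UT : S'.Opens}
    (hUS : IsAffineOpen US) (hUX : IsAffineOpen UX) (hUT : IsAffineOpen UT)
    (hUSX : UX ≤ f ⁻¹ᵁ US) (hUST : UT ≤ g ⁻¹ᵁ US)
    (hfib :
      letI : Algebra Γ(S, US) Γ(X, UX) := (f.appLE US UX hUSX).hom.toAlgebra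
      letI : Module Γ(S, US) Γ(F, UX) := Module.compHom Γ(F, UX) (f.appLE US UX hUSX).hom
      haveI : IsScalarTower Γ(S, US) Γ(X, UX) Γ(F, UX) :=
        IsScalarTower.of_algebraMap_smul fun _ _ => rfl
      ∀ (K : Type u) [Field K] [Algebra Γ(S, US) K],
        FibInj (A := Γ(S, US)) (M := Γ(F, UX)) (basicSet UX U) K)
    (h : Γ(X', g' ⁻¹ᵁ UX ⊓ f' ⁻¹ᵁ UT))
    (t₀ : Γ((Scheme.Modules.pullback g').obj F, g' ⁻¹ᵁ UX ⊓ f' ⁻¹ᵁ UT))
    (ht : ((Scheme.Modules.pullback g').obj F).presheaf.map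
      (homOfLE ((inf_le_left : X'.basicOpen h ⊓ g' ⁻¹ᵁ U ≤ X'.basicOpen h).trans
        (X'.basicOpen_le h))).op t₀ = 0) :
    ((Scheme.Modules.pullback g').obj F).presheaf.map (homOfLE (X'.basicOpen_le h)).op t₀ = 0 := by
  letI algRB : Algebra Γ(S, US) Γ(X, UX) := (f.appLE US UX hUSX).hom.toAlgebra
  letI algRR' : Algebra Γ(S, US) Γ(S', UT) := (g.appLE US UT hUST).hom.toAlgebra
  letI modRM : Module Γ(S, US) Γ(F, UX) := Module.compHom Γ(F, UX) (f.appLE US UX hUSX).hom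
  haveI : IsScalarTower Γ(S, US) Γ(X, UX) Γ(F, UX) :=
    IsScalarTower.of_algebraMap_smul fun _ _ => rfl
  obtain ⟨hW, -⟩ := affine_chart_of_opens hc hUS hUX hUT hUSX hUST
  obtain ⟨E, hE⟩ := chart_data hc F hUS hUX hUT hUSX hUST
  letI modR'N : Module Γ(S', UT) Γ((Scheme.Modules.pullback g').obj F, (g' ⁻¹ᵁ UX ⊓ f' ⁻¹ᵁ UT)) :=
    Module.compHom _ (f'.appLE UT (g' ⁻¹ᵁ UX ⊓ f' ⁻¹ᵁ UT) inf_le_right).hom
  letI algR'C : Algebra Γ(S', UT) Γ(X', (g' ⁻¹ᵁ UX ⊓ f' ⁻¹ᵁ UT)) := (f'.appLE UT (g' ⁻¹ᵁ UX ⊓ f' ⁻¹ᵁ UT) inf_le_right).hom.toAlgebra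
  haveI : IsScalarTower Γ(S', UT) Γ(X', (g' ⁻¹ᵁ UX ⊓ f' ⁻¹ᵁ UT)) Γ((Scheme.Modules.pullback g').obj F, (g' ⁻¹ᵁ UX ⊓ f' ⁻¹ᵁ UT)) :=
    IsScalarTower.of_algebraMap_smul fun _ _ => rfl
  -- finiteness and flatness upstairs
  haveI : LocallyOfFinitePresentation f' :=
    MorphismProperty.of_isPullback (P := @LocallyOfFinitePresentation) hc inferInstance
  haveI : Algebra.FinitePresentation Γ(S', UT) Γ(X', (g' ⁻¹ᵁ UX ⊓ f' ⁻¹ᵁ UT)) :=
    LocallyOfFinitePresentation.finitePresentation_appLE _ hUT hW inf_le_right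
  haveI := isFinitePresentation_pullback g' F
  haveI : Module.FinitePresentation Γ(X', (g' ⁻¹ᵁ UX ⊓ f' ⁻¹ᵁ UT)) Γ((Scheme.Modules.pullback g').obj F, (g' ⁻¹ᵁ UX ⊓ f' ⁻¹ᵁ UT)) :=
    Groth.Agent.Lib.Helper29.FPDict.fp_of_isAffineOpen _ hW
  haveI hflM : Module.Flat Γ(S, US) Γ(F, UX) :=
    (Groth.Agent.Lib.Helper17.FlatDict.flat_sections_iff f F hUX hUS hUSX).2 (fun x _ => hflat x)
  haveI : Module.Flat Γ(S', UT) Γ((Scheme.Modules.pullback g').obj F, (g' ⁻¹ᵁ UX ⊓ f' ⁻¹ᵁ UT)) :=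
    Module.Flat.of_linearEquiv E
  -- the fibre condition upstairs
  have hfib' : ∀ (p : Ideal Γ(S', UT)) [p.IsPrime],
      FibInj (A := Γ(S', UT)) (M := Γ((Scheme.Modules.pullback g').obj F, (g' ⁻¹ᵁ UX ⊓ f' ⁻¹ᵁ UT)))
        (basicSet (g' ⁻¹ᵁ UX ⊓ f' ⁻¹ᵁ UT) (g' ⁻¹ᵁ U)) p.ResidueField := by
    intro p _
    letI : Algebra Γ(S, US) p.ResidueField :=
      ((algebraMap Γ(S', UT) p.ResidueField).comp (algebraMap Γ(S, US) Γ(S', UT))).toAlgebra
    haveI : IsScalarTower Γ(S, US) Γ(S', UT) p.ResidueField :=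
      IsScalarTower.of_algebraMap_eq fun _ => rfl
    refine FibInj.baseChange (g'.appLE UX (g' ⁻¹ᵁ UX ⊓ f' ⁻¹ᵁ UT) inf_le_left).hom E hE (basicSet UX U) _ ?_ _
      (hfib p.ResidueField)
    intro b hb
    show X'.basicOpen ((g'.appLE UX (g' ⁻¹ᵁ UX ⊓ f' ⁻¹ᵁ UT) inf_le_left).hom b) ≤ g' ⁻¹ᵁ U
    rw [Scheme.basicOpen_appLE]
    exact inf_le_right.trans (g'.preimage_mono hb)
  -- the torsion statement
  obtain ⟨n, hn⟩ := exists_pow_smul_eq_zero Γ(S', UT) Γ(X', (g' ⁻¹ᵁ UX ⊓ f' ⁻¹ᵁ UT))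
    Γ((Scheme.Modules.pullback g').obj F, (g' ⁻¹ᵁ UX ⊓ f' ⁻¹ᵁ UT)) (basicSet (g' ⁻¹ᵁ UX ⊓ f' ⁻¹ᵁ UT) (g' ⁻¹ᵁ U)) hfib' h t₀ (by
      intro b' hb'
      refine exists_pow_smul_of_res_basicOpen_eq_zero _ hW (h * b') t₀ ?_
      have hle : X'.basicOpen (h * b') ≤ X'.basicOpen h ⊓ g' ⁻¹ᵁ U := by
        rw [Scheme.basicOpen_mul]
        exact inf_le_inf_left _ hb'
      have := congrArg (res ((Scheme.Modules.pullback g').obj F) hle) ht
      rw [res_res, res_zero] at this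
      exact this)
  exact res_basicOpen_eq_zero_of_pow_smul _ hW h t₀ n hn

end Groth.Agent.Lib.Helper25.FibChart
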