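import Mathlib
import Groth.Agent.Lib.Helper25.FibChart

/-!
# helper25 — FibScheme: from the fibres of `f : X ⟶ S` to the fibre condition `FibInj` at all
fields, and the relative density statement (EGA IV 11.10.?)
-/

set_option backward.isDefEq.respectTransparency.types false
set_option autoImplicit false
set_option linter.unusedVariables false
set_option linter.style.haveILetI false
universe u
open AlgebraicGeometry CategoryTheory Limits TensorProduct TopologicalSpace

namespace Groth.Agent.Lib.Helper25.FibScheme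

open Groth.Agent.Lib.Helper25.FibChart Groth.Agent.Lib.Helper25.FibTorsion
  Groth.Agent.Lib.Helper25.InjStage

/-- factorization of an algebra map to a field through the residue field of the image point -/
theorem algebraMap_factor {S : Scheme.{u}} {US : S.Opens} (hUS : IsAffineOpen US)
    (K : Type u) [Field K] (ψ : Γ(S, US) ⟶ CommRingCat.of K) :
    ∃ (s : S) (hs : s ∈ US) (φ : S.residueField s ⟶ CommRingCat.of K),
      ψ = (S.fromSpecResidueField s).appLE US ⊤
          (fun x _ => by
            show S.fromSpecResidueField s x ∈ US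
            rw [Scheme.fromSpecResidueField_apply]; exact hs) ≫
        (Scheme.ΓSpecIso (S.residueField s)).hom ≫ φ := by
  let t : Spec (CommRingCat.of K) ⟶ S := Spec.map ψ ≫ hUS.fromSpec
  let s : S := t (IsLocalRing.closedPoint K)
  have hs : s ∈ US := by
    have : s ∈ Set.range hUS.fromSpec := ⟨Spec.map ψ (IsLocalRing.closedPoint K), rfl⟩
    rwa [hUS.range_fromSpec] at this
  let φ : S.residueField s ⟶ CommRingCat.of K :=
    Scheme.descResidueField (Scheme.stalkClosedPointTo t)
  have hφ : Spec.map φ ≫ S.fromSpecResidueField s = t :=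
    Scheme.descResidueField_stalkClosedPointTo_fromSpecResidueField K S t
  refine ⟨s, hs, φ, ?_⟩
  apply Spec.map_injective
  rw [← cancel_mono hUS.fromSpec]
  have hT : IsAffineOpen (⊤ : (Spec (S.residueField s)).Opens) := isAffineOpen_top _
  have h1 := IsAffineOpen.SpecMap_appLE_fromSpec (S.fromSpecResidueField s) hUS hT
    (fun x _ => by
      show S.fromSpecResidueField s x ∈ US
      rw [Scheme.fromSpecResidueField_apply]; exact hs)
  have h2 : Spec.map (Scheme.ΓSpecIso (S.residueField s)).hom ≫ hT.fromSpec = 𝟙 _ := by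
    rw [IsAffineOpen.fromSpec_top, Scheme.isoSpec_Spec_inv, ← Spec.map_comp, Iso.inv_hom_id,
      Spec.map_id]
  simp only [Spec.map_comp, Category.assoc]
  rw [h1, reassoc_of% h2, hφ]

set_option maxRecDepth 8000 in
set_option maxHeartbeats 1000000 in
/-- **(F2)**: the fibrewise injectivity of the restriction maps gives the fibre condition at every
field over the chart ring. -/
theorem fibInj_of_fibres {X S : Scheme.{u}} (f : X ⟶ S) (F : X.Modules) [F.IsQuasicoherent]
    (U : X.Opens)
    (hfib : ∀ (s : S) (V : (↑(f.fiber s) : Scheme.{u}).Opens),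
      Function.Injective (((Scheme.Modules.pullback (f.fiberι s)).obj F).presheaf.map
        (homOfLE (inf_le_left : V ⊓ (f.fiberι s) ⁻¹ᵁ U ≤ V)).op))
    {US : S.Opens} {UX : X.Opens} (hUS : IsAffineOpen US) (hUX : IsAffineOpen UX)
    (hUSX : UX ≤ f ⁻¹ᵁ US) :
    letI : Algebra Γ(S, US) Γ(X, UX) := (f.appLE US UX hUSX).hom.toAlgebra
    letI : Module Γ(S, US) Γ(F, UX) := Module.compHom Γ(F, UX) (f.appLE US UX hUSX).hom
    haveI : IsScalarTower Γ(S, US) Γ(X, UX) Γ(F, UX) :=
      IsScalarTower.of_algebraMap_smul fun _ _ => rfl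
    ∀ (K : Type u) [Field K] [Algebra Γ(S, US) K],
      FibInj (A := Γ(S, US)) (M := Γ(F, UX)) (basicSet UX U) K := by
  letI algRB : Algebra Γ(S, US) Γ(X, UX) := (f.appLE US UX hUSX).hom.toAlgebra
  letI modRM : Module Γ(S, US) Γ(F, UX) := Module.compHom Γ(F, UX) (f.appLE US UX hUSX).hom
  haveI : IsScalarTower Γ(S, US) Γ(X, UX) Γ(F, UX) :=
    IsScalarTower.of_algebraMap_smul fun _ _ => rfl
  intro K _ _
  obtain ⟨s, hs, φ, hφ⟩ := algebraMap_factor hUS K (CommRingCat.ofHom (algebraMap Γ(S, US) K))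
  have hUST : (⊤ : (Spec (S.residueField s)).Opens) ≤ (S.fromSpecResidueField s) ⁻¹ᵁ US :=
    fun x _ => by
      show S.fromSpecResidueField s x ∈ US
      rw [Scheme.fromSpecResidueField_apply]; exact hs
  have hc : IsPullback (f.fiberι s) (f.fiberToSpecResidueField s) f (S.fromSpecResidueField s) :=
    IsPullback.of_hasPullback f (S.fromSpecResidueField s)
  have hT : IsAffineOpen (⊤ : (Spec (S.residueField s)).Opens) := isAffineOpen_top _
  letI algKs : Algebra Γ(S, US) Γ(Spec (S.residueField s), ⊤) :=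
    ((S.fromSpecResidueField s).appLE US ⊤ hUST).hom.toAlgebra
  have h1 : FibInj (A := Γ(S, US)) (M := Γ(F, UX)) (basicSet UX U)
      Γ(Spec (S.residueField s), ⊤) :=
    fibInj_of_injective hc F U hUS hUX hT hUSX hUST (fun t ht => by
      have := hfib s ((f.fiberι s) ⁻¹ᵁ UX ⊓ (f.fiberToSpecResidueField s) ⁻¹ᵁ ⊤)
      exact this (ht.trans (map_zero _).symm))
  -- transport to the residue field
  let e : Γ(Spec (S.residueField s), ⊤) ≃+* S.residueField s :=
    (Scheme.ΓSpecIso (S.residueField s)).commRingCatIsoToRingEquiv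
  letI algκ : Algebra Γ(S, US) (S.residueField s) :=
    (e.toRingHom.comp (algebraMap Γ(S, US) Γ(Spec (S.residueField s), ⊤))).toAlgebra
  let eA : Γ(Spec (S.residueField s), ⊤) ≃ₐ[Γ(S, US)] S.residueField s :=
    AlgEquiv.ofRingEquiv (f := e) (fun _ => rfl)
  have h2 : FibInj (A := Γ(S, US)) (M := Γ(F, UX)) (basicSet UX U) (S.residueField s) :=
    FibInj.of_algEquiv _ eA h1
  -- extend to `K`
  letI algκK : Algebra (S.residueField s) K := φ.hom.toAlgebra
  haveI : IsScalarTower Γ(S, US) (S.residueField s) K :=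
    IsScalarTower.of_algebraMap_eq fun a => congr($(hφ).hom a)
  exact FibInj.of_field_ext _ h2

open Groth.Agent.Lib.Helper28.QCohLoc Groth.Agent.Lib.Helper7.FlatChart in
set_option maxRecDepth 8000 in
set_option maxHeartbeats 1000000 in
/-- **relative schematic density (EGA IV 11.10)**: `f` locally of finite presentation, `F` of finite
presentation and `f`-flat; if on every fibre sections of `F_s` are determined by their restriction
to `U_s`, the same holds after every base change. -/
theorem eq_zero_of_fibres {X S : Scheme.{u}} (f : X ⟶ S) [LocallyOfFinitePresentation f]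
    (F : X.Modules) [F.IsQuasicoherent]
    [SheafOfModules.IsFinitePresentation.{u} (R := X.ringCatSheaf) F]
    (hflat : FlatMod.IsFlatOver f F) (U : X.Opens)
    (hfib : ∀ (s : S) (V : (↑(f.fiber s) : Scheme.{u}).Opens),
      Function.Injective (((Scheme.Modules.pullback (f.fiberι s)).obj F).presheaf.map
        (homOfLE (inf_le_left : V ⊓ (f.fiberι s) ⁻¹ᵁ U ≤ V)).op))
    {X' S' : Scheme.{u}} {f' : X' ⟶ S'} {g' : X' ⟶ X} {g : S' ⟶ S} (hc : IsPullback g' f' f g)
    (V : X'.Opens) (t : Γ((Scheme.Modules.pullback g').obj F, V))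
    (ht : ((Scheme.Modules.pullback g').obj F).presheaf.map
      (homOfLE (inf_le_left : V ⊓ g' ⁻¹ᵁ U ≤ V)).op t = 0) : t = 0 := by
  have hex : ∀ x' : V, ∃ (W' : X'.Opens) (hle : W' ≤ V), x'.1 ∈ W' ∧
      res ((Scheme.Modules.pullback g').obj F) hle t = 0 := by
    rintro ⟨x', hx'⟩
    obtain ⟨US, hUS, hsUS, -⟩ := Opens.isBasis_iff_nbhd.mp S.isBasis_affineOpens
      (show f (g' x') ∈ (⊤ : S.Opens) from trivial)
    obtain ⟨UX, hUX, hxUX, hUSX⟩ := Opens.isBasis_iff_nbhd.mp X.isBasis_affineOpens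
      (show g' x' ∈ f ⁻¹ᵁ US from hsUS)
    have hgf : g (f' x') = f (g' x') := by
      rw [← Scheme.Hom.comp_apply, ← Scheme.Hom.comp_apply, hc.w]
    obtain ⟨UT, hUT, hxUT, hUST⟩ := Opens.isBasis_iff_nbhd.mp S'.isBasis_affineOpens
      (show f' x' ∈ g ⁻¹ᵁ US from by
        show g (f' x') ∈ US
        rw [hgf]; exact hsUS)
    obtain ⟨hW, -⟩ := affine_chart_of_opens hc hUS hUX hUT hUSX hUST
    have hx'W : x' ∈ g' ⁻¹ᵁ UX ⊓ f' ⁻¹ᵁ UT := ⟨hxUX, hxUT⟩
    obtain ⟨h, hh1, hh2⟩ := hW.exists_basicOpen_le (V := V) ⟨x', hx'⟩ hx'W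
    refine ⟨X'.basicOpen h, hh1, hh2, ?_⟩
    obtain ⟨n, t₀, hnt⟩ := (isLocOn_of_isQuasicoherent ((Scheme.Modules.pullback g').obj F) hW).surj
      h (res ((Scheme.Modules.pullback g').obj F) hh1 t)
    have hfibK := fibInj_of_fibres f F U hfib hUS hUX hUSX
    have ht₀ : ((Scheme.Modules.pullback g').obj F).presheaf.map
        (homOfLE ((inf_le_left : X'.basicOpen h ⊓ g' ⁻¹ᵁ U ≤ X'.basicOpen h).trans
          (X'.basicOpen_le h))).op t₀ = 0 := by
      have e1 : res ((Scheme.Modules.pullback g').obj F)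
          (inf_le_left : X'.basicOpen h ⊓ g' ⁻¹ᵁ U ≤ X'.basicOpen h)
          (res ((Scheme.Modules.pullback g').obj F) hh1 t) = 0 := by
        rw [res_res]
        have := congrArg (res ((Scheme.Modules.pullback g').obj F)
          (inf_le_inf_right _ hh1 : X'.basicOpen h ⊓ g' ⁻¹ᵁ U ≤ V ⊓ g' ⁻¹ᵁ U)) ht
        rw [res_res, res_zero] at this
        exact this
      have e2 := congrArg (res ((Scheme.Modules.pullback g').obj F)
          (inf_le_left : X'.basicOpen h ⊓ g' ⁻¹ᵁ U ≤ X'.basicOpen h)) hnt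
      rw [res_smul, e1, smul_zero, res_res] at e2
      exact e2.symm
    have h0 := res_eq_zero_of_fibInj hc F hflat U hUS hUX hUT hUSX hUST hfibK h t₀ ht₀
    have h0' : res ((Scheme.Modules.pullback g').obj F) (X'.basicOpen_le h) t₀ = 0 := h0
    rw [h0'] at hnt
    have hu : IsUnit (resO (X'.basicOpen_le h) h) := RingedSpace.isUnit_res_basicOpen _ h
    exact ((hu.pow n).smul_eq_zero).1 hnt
  choose W' hle hx hres using hex
  refine eq_of_locally_eq ((Scheme.Modules.pullback g').obj F) W' V hle ?_ t 0 (fun x' => ?_)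
  · intro x' hx'
    exact Opens.mem_iSup.mpr ⟨⟨x', hx'⟩, hx ⟨x', hx'⟩⟩
  · rw [res_zero]
    exact hres x'

end Groth.Agent.Lib.Helper25.FibScheme
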