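import Mathlib
import Groth.Agent.Lib.Helper25.FibScheme
import Groth.Agent.Lib.Helper16.RS6
import Groth.Agent.Lib.Helper17.Serre
import Groth.Agent.Lib.Helper28.QCohGen

/-!
# helper25 — UnitDense: the structure module is of finite presentation, flat over the base when the
morphism is flat, and schematic density in terms of the pullback of the structure module.
-/

set_option backward.isDefEq.respectTransparency.types false
set_option autoImplicit false
set_option linter.unusedVariables false
set_option linter.style.haveILetI false
universe u
open AlgebraicGeometry CategoryTheory Limits TensorProduct TopologicalSpace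

namespace Groth.Agent.Lib.Helper25.UnitDense

open Groth.Agent.Lib.Helper28.QCohLoc

/-- the structure module is of finite presentation -/
theorem isFinitePresentation_structureModule (X : Scheme.{u}) :
    SheafOfModules.IsFinitePresentation.{u} (R := X.ringCatSheaf) (Coh.structureModule X) := by
  rw [Groth.Agent.Lib.Helper29.FPDict.isFinitePresentation_iff]
  refine ⟨inferInstance, fun U hU => ?_⟩
  exact (inferInstance : Module.FinitePresentation Γ(X, U) Γ(X, U))

/-- injectivity of restriction maps is invariant under isomorphisms of modules -/
theorem injective_res_iff_of_iso {Y : Scheme.{u}} {M N : Y.Modules} (α : M ≅ N) {V W : Y.Opens}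
    (h : W ≤ V) :
    Function.Injective (M.presheaf.map (homOfLE h).op) ↔
      Function.Injective (N.presheaf.map (homOfLE h).op) := by
  have hinv1 : ∀ (O : Y.Opens) (x : Γ(M, O)), α.inv.app O (α.hom.app O x) = x := by
    intro O x
    have := congrArg (fun φ : M ⟶ M => φ.app O x) α.hom_inv_id
    exact this
  have hinv2 : ∀ (O : Y.Opens) (x : Γ(N, O)), α.hom.app O (α.inv.app O x) = x := by
    intro O x
    have := congrArg (fun φ : N ⟶ N => φ.app O x) α.inv_hom_id
    exact this
  constructor
  · intro hM x y hxy
    have h1 : res M h (α.inv.app V x) = res M h (α.inv.app V y) := by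
      rw [← app_res, ← app_res]
      exact congrArg _ hxy
    have h2 := hM h1
    rw [← hinv2 V x, ← hinv2 V y, h2]
  · intro hN x y hxy
    have h1 : res N h (α.hom.app V x) = res N h (α.hom.app V y) := by
      rw [← app_res, ← app_res]
      exact congrArg _ hxy
    have h2 := hN h1
    rw [← hinv1 V x, ← hinv1 V y, h2]

/-- the structure module is flat over the base of a flat morphism -/
theorem isFlatOver_structureModule {X S : Scheme.{u}} (f : X ⟶ S) [Flat f] :
    FlatMod.IsFlatOver f (Coh.structureModule X) := by
  intro x
  obtain ⟨V, hV, hxV, -⟩ := Opens.isBasis_iff_nbhd.mp S.isBasis_affineOpens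
    (show f x ∈ (⊤ : S.Opens) from trivial)
  obtain ⟨W, hW, hxW, hWV⟩ := Opens.isBasis_iff_nbhd.mp X.isBasis_affineOpens
    (show x ∈ f ⁻¹ᵁ V from hxV)
  have h1 : (f.appLE V W hWV).hom.Flat :=
    HasRingHomProperty.appLE @Flat f inferInstance ⟨V, hV⟩ ⟨W, hW⟩ hWV
  exact (Groth.Agent.Lib.Helper17.FlatDict.flat_sections_iff f (Coh.structureModule X) hW hV hWV).1
    h1 x hxW

end Groth.Agent.Lib.Helper25.UnitDense
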