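import Mathlib
import Groth.Agent.Lib.Helper25.LimHomC
import Groth.Agent.Lib.Helper25.UnitDense
import Groth.Agent.Lib.Helper28.UPSecA
import Groth.Agent.Lib.Helper28.PullbackInv2
import Groth.Agent.Lib.Helper28.SecPow
import Groth.Agent.Lib.Helper28.AmpleUnit
import Groth.Agent.Lib.Helper28.InvQC

/-!
# helper25 — AmpleLimA: transport of global sections of pulled back modules and descent of sections along
cofiltered limits (towards EGA IV 8.10.5.2: ampleness descends to a stage)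
-/

set_option backward.isDefEq.respectTransparency.types false
set_option autoImplicit false
set_option linter.unusedVariables false
set_option linter.style.haveILetI false
set_option linter.unusedSectionVars false
universe u
open AlgebraicGeometry CategoryTheory Limits TopologicalSpace Opposite

noncomputable section

namespace Groth.Agent.Lib.Helper25.AmpleLim

open Groth.Agent.Lib.Helper25.ModMapLocal Groth.Agent.Lib.Helper28.PullbackInv
  Groth.Agent.Lib.Helper28.QCohLoc Groth.Agent.Lib.Helper28.GenLocus Groth.Agent.Lib.Helper28.UPSec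
  Groth.Agent.Lib.Helper28 Groth.Agent.Lib.Helper25.LimHom

section Transport

variable {X Y Z : Scheme.{u}} (a : X ⟶ Y) (b : Y ⟶ Z) (π : X ⟶ Z) (w : a ≫ b = π)

theorem compIso_hom_pbs_top (M : Z.Modules) (m : Γ(M, ⊤)) :
    ((compIso a b π w).hom.app M).app ⊤ (pbs a ((Scheme.Modules.pullback b).obj M) ⊤ (pbs b M ⊤ m)) =
      pbs π M ⊤ m := by
  subst w
  have h1 := pbs_comp' a b M ⊤ m
  have h2 := pbs_congr (rfl : a ≫ b = a ≫ b) M ⊤ m ((a ≫ b) ⁻¹ᵁ ⊤) le_rfl le_rfl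
  rw [res_self] at h2
  show ((Scheme.Modules.pullbackCongr rfl).hom.app M).app ⊤
    (((Scheme.Modules.pullbackComp a b).hom.app M).app ⊤ _) = _
  exact (congrArg _ h1).trans h2

theorem compIso_inv_pbs_top (M : Z.Modules) (m : Γ(M, ⊤)) :
    ((compIso a b π w).inv.app M).app ⊤ (pbs π M ⊤ m) =
      pbs a ((Scheme.Modules.pullback b).obj M) ⊤ (pbs b M ⊤ m) := by
  rw [← compIso_hom_pbs_top a b π w M m]
  have h : (compIso a b π w).hom.app M ≫ (compIso a b π w).inv.app M = 𝟙 _ := by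
    rw [← NatTrans.comp_app, Iso.hom_inv_id, NatTrans.id_app]
  exact congrArg (fun θ => (Scheme.Modules.Hom.app θ ⊤)
    (pbs a ((Scheme.Modules.pullback b).obj M) ⊤ (pbs b M ⊤ m))) h

/-- transport of a global section of `b^* G` along `a` to a global section of `π^* G`, `π = a ≫ b` -/
def trSec (G : Z.Modules) (σ : Γ((Scheme.Modules.pullback b).obj G, ⊤)) :
    Γ((Scheme.Modules.pullback π).obj G, ⊤) :=
  ((compIso a b π w).hom.app G).app ⊤ (pbs a ((Scheme.Modules.pullback b).obj G) ⊤ σ)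

theorem ofSection_trSec (G : Z.Modules) (σ : Γ((Scheme.Modules.pullback b).obj G, ⊤)) :
    TwistGen.ofSection _ (trSec a b π w G σ) =
      pbSec a (TwistGen.ofSection _ σ) ≫ (compIso a b π w).hom.app G := by
  rw [← ofSection_secOf (pbSec a (TwistGen.ofSection _ σ) ≫ (compIso a b π w).hom.app G)]
  congr 1
  show _ = ((compIso a b π w).hom.app G).app ⊤ (secOf (pbSec a (TwistGen.ofSection _ σ)))
  rw [secOf_pbSec, secOf_ofSection]
  rfl

theorem genLocus_trSec (G : Z.Modules) (hG : PicF.IsInvertible ((Scheme.Modules.pullback b).obj G))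
    (σ : Γ((Scheme.Modules.pullback b).obj G, ⊤)) :
    CohB1.genLocus _ (TwistGen.ofSection _ (trSec a b π w G σ)) =
      a ⁻¹ᵁ CohB1.genLocus _ (TwistGen.ofSection _ σ) := by
  rw [ofSection_trSec]
  have h := AmpleUnit.genLocus_comp_iso (pbSec a (TwistGen.ofSection _ σ)) ((compIso a b π w).app G)
  exact h.trans (genLocus_pbSec a hG _)

end Transport

section Descend

variable {I : Type u} [SmallCategory I] [IsCofiltered I]
  (D : I ⥤ Scheme.{u}) {c : Cone D} (hc : IsLimit c)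
  [∀ (i j : I) (f : i ⟶ j), IsAffineHom (D.map f)] (i₀ : I)
  [CompactSpace (D.obj i₀)] [QuasiSeparatedSpace (D.obj i₀)]
  (G₀ : (D.obj i₀).Modules) [G₀.IsQuasicoherent]

include hc in
/-- a global section of the pullback of a quasi-coherent module to the limit comes from a stage -/
theorem exists_section_descend (σ : Γ((Scheme.Modules.pullback (c.π.app i₀)).obj G₀, ⊤)) :
    ∃ (j : I) (φ : j ⟶ i₀) (σj : Γ((Scheme.Modules.pullback (D.map φ)).obj G₀, ⊤)),
      trSec (c.π.app j) (D.map φ) (c.π.app i₀) (c.w φ) G₀ σj = σ := by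
  let N := (Scheme.Modules.pullback (c.π.app i₀)).obj G₀
  let τ : Coh.structureModule (D.obj i₀) ⟶ (Scheme.Modules.pushforward (c.π.app i₀)).obj N :=
    TwistGen.ofSection _ (show Γ((Scheme.Modules.pushforward (c.π.app i₀)).obj N, ⊤) from σ)
  let h := pbLift (c.π.app i₀) τ
  haveI := UnitDense.isFinitePresentation_structureModule (D.obj i₀)
  obtain ⟨j, φ, hj, hh⟩ := exists_hom_descend D hc i₀ (F₀ := Coh.structureModule (D.obj i₀)) (G₀ := G₀) h
  refine ⟨j, φ, hj.app ⊤ (pbs (D.map φ) _ ⊤ (oneSec _ ⊤)), ?_⟩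
  have e1 : h.app ⊤ (pbs (c.π.app i₀) _ ⊤ (oneSec _ ⊤)) = σ := by
    have := pbLift_pbs (c.π.app i₀) τ ⊤ (oneSec _ ⊤)
    refine this.trans ?_
    have h2 := TwistGen.ofSection_app_one ((Scheme.Modules.pushforward (c.π.app i₀)).obj N)
      (show Γ((Scheme.Modules.pushforward (c.π.app i₀)).obj N, ⊤) from σ) ⊤
    rw [res_self] at h2
    exact h2
  rw [← e1, ← hh]
  unfold trSec Theta
  have e2 := compIso_inv_pbs_top (c.π.app j) (D.map φ) (c.π.app i₀) (c.w φ) (Coh.structureModule (D.obj i₀))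
    (oneSec _ ⊤)
  have e3 := pbs_map (c.π.app j) hj ⊤ (pbs (D.map φ) (Coh.structureModule (D.obj i₀)) ⊤ (oneSec _ ⊤))
  show _ = ((compIso (c.π.app j) (D.map φ) (c.π.app i₀) (c.w φ)).hom.app G₀).app ⊤
    (((Scheme.Modules.pullback (c.π.app j)).map hj).app ⊤
      (((compIso (c.π.app j) (D.map φ) (c.π.app i₀) (c.w φ)).inv.app (Coh.structureModule (D.obj i₀))).app ⊤
        (pbs (c.π.app i₀) _ ⊤ (oneSec _ ⊤))))
  rw [e2]
  exact congrArg _ e3.symm

end Descend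

section Opens

theorem isCompact_genLocus {X : Scheme.{u}} [CompactSpace X] {L : X.Modules} (hL : PicF.IsInvertible L)
    (s : Coh.structureModule X ⟶ L) : IsCompact (CohB1.genLocus L s : Set X) := by
  haveI := isAffineHom_genLocus_ι hL s
  haveI : CompactSpace ((CohB1.genLocus L s : X.Opens) : Scheme.{u}) :=
    QuasiCompact.compactSpace_of_compactSpace (CohB1.genLocus L s).ι
  have := isCompact_range (CohB1.genLocus L s).ι.continuous
  rwa [Scheme.Opens.range_ι] at this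

variable {I : Type u} [SmallCategory I] [IsCofiltered I]
  (D : I ⥤ Scheme.{u}) {c : Cone D} (hc : IsLimit c)
  [∀ (i j : I) (f : i ⟶ j), IsAffineHom (D.map f)]
  [∀ i, CompactSpace (D.obj i)] [∀ i, QuasiSeparatedSpace (D.obj i)]

include hc in
theorem exists_stage_affine_preimage {j : I} (W : (D.obj j).Opens) (hW : IsCompact (W : Set (D.obj j)))
    (haff : IsAffineOpen (c.π.app j ⁻¹ᵁ W)) :
    ∃ (l : I) (ψ : l ⟶ j), IsAffineOpen (D.map ψ ⁻¹ᵁ W) := by
  haveI : ∀ {i j : I} (f : i ⟶ j), IsAffineHom (D.map f) := fun f => inferInstance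
  obtain ⟨i, V, hV, hVU⟩ := exists_isAffineOpen_preimage_eq D c hc _ haff
  let l₀ := IsCofiltered.min i j
  let fi : l₀ ⟶ i := IsCofiltered.minToLeft i j
  let fj : l₀ ⟶ j := IsCofiltered.minToRight i j
  have h1 : IsCompact ((D.map fj ⁻¹ᵁ W : (D.obj l₀).Opens) : Set (D.obj l₀)) :=
    QuasiCompact.isCompact_preimage (f := D.map fj) _ W.2 hW
  have h2 : IsCompact ((D.map fi ⁻¹ᵁ V : (D.obj l₀).Opens) : Set (D.obj l₀)) :=
    (hV.preimage (D.map fi)).isCompact
  have H : c.π.app l₀ ⁻¹ᵁ (D.map fj ⁻¹ᵁ W) = c.π.app l₀ ⁻¹ᵁ (D.map fi ⁻¹ᵁ V) := by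
    rw [← Scheme.Hom.comp_preimage, ← Scheme.Hom.comp_preimage, c.w, c.w, hVU]
  obtain ⟨l, f, hf⟩ := exists_map_preimage_eq_map_preimage D c hc h1 h2 H
  refine ⟨l, f ≫ fj, ?_⟩
  rw [D.map_comp, Scheme.Hom.comp_preimage, hf]
  exact (hV.preimage (D.map fi)).preimage (D.map f)

end Opens

section Main

variable {I : Type u} [SmallCategory I] [IsCofiltered I]
  (D : I ⥤ Scheme.{u}) {c : Cone D} (hc : IsLimit c)
  [∀ (i j : I) (f : i ⟶ j), IsAffineHom (D.map f)]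
  [∀ i, CompactSpace (D.obj i)] [∀ i, QuasiSeparatedSpace (D.obj i)]
  (i₀ : I) (L₀ : (D.obj i₀).Modules) (hL₀ : PicF.IsInvertible L₀)

/-- `W` is the affine locus of a section of a positive power of the pullback of `L₀` -/
def Good {l : I} (φ' : l ⟶ i₀) (W : (D.obj l).Opens) : Prop :=
  ∃ (n : ℕ) (t : Coh.structureModule (D.obj l) ⟶
      CohB1.tensorPow ((Scheme.Modules.pullback (D.map φ')).obj L₀) (n + 1)),
    CohB1.genLocus _ t = W ∧ IsAffineOpen W

include hc hL₀ in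
theorem exists_good (h : CohB1.IsAmple ((Scheme.Modules.pullback (c.π.app i₀)).obj L₀)) (x : c.pt) :
    ∃ (j : I) (φ : j ⟶ i₀) (W : (D.obj j).Opens), x ∈ c.π.app j ⁻¹ᵁ W ∧
      ∀ (l : I) (ψ : l ⟶ j) (φ' : l ⟶ i₀), φ' = ψ ≫ φ → Good D i₀ L₀ φ' (D.map ψ ⁻¹ᵁ W) := by
  obtain ⟨n, s, hxs, haff⟩ := h.2.2 x
  obtain ⟨ψ₀, -⟩ := exists_pullback_tensorPow_iso (c.π.app i₀) hL₀ (n + 1)
  let G₀ := CohB1.tensorPow L₀ (n + 1)
  have hG₀ : PicF.IsInvertible G₀ := isInvertible_tensorPow hL₀ (n + 1)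
  haveI : G₀.IsQuasicoherent := InvQC.isQuasicoherent_of_isInvertible G₀ hG₀
  obtain ⟨j₁, φ₁, σ', hσ'⟩ := exists_section_descend D hc i₀ G₀ (secOf (s ≫ ψ₀.inv))
  have hinv₁ : PicF.IsInvertible ((Scheme.Modules.pullback (D.map φ₁)).obj G₀) :=
    isInvertible_pullback _ hG₀
  let W₁ := CohB1.genLocus _ (TwistGen.ofSection _ σ')
  have hW₁ : c.π.app j₁ ⁻¹ᵁ W₁ = CohB1.genLocus _ s := by
    rw [← genLocus_trSec (c.π.app j₁) (D.map φ₁) (c.π.app i₀) (c.w φ₁) G₀ hinv₁ σ', hσ', ofSection_secOf]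
    exact AmpleUnit.genLocus_comp_iso s ψ₀.symm
  obtain ⟨j, ψ₁, hj⟩ := exists_stage_affine_preimage D hc W₁ (isCompact_genLocus hinv₁ _)
    (by rw [hW₁]; exact haff)
  refine ⟨j, ψ₁ ≫ φ₁, D.map ψ₁ ⁻¹ᵁ W₁, ?_, ?_⟩
  · rw [← Scheme.Hom.comp_preimage, c.w, hW₁]; exact hxs
  · intro l ψ φ' hφ'
    obtain ⟨ψl, -⟩ := exists_pullback_tensorPow_iso (D.map φ') hL₀ (n + 1)
    have hw : D.map (ψ ≫ ψ₁) ≫ D.map φ₁ = D.map φ' := by rw [hφ', ← D.map_comp, Category.assoc]
    refine ⟨n, TwistGen.ofSection _ (trSec (D.map (ψ ≫ ψ₁)) (D.map φ₁) (D.map φ') hw G₀ σ') ≫ ψl.hom,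
      ?_, hj.preimage (D.map ψ)⟩
    rw [AmpleUnit.genLocus_comp_iso, genLocus_trSec _ _ _ _ _ hinv₁, D.map_comp, Scheme.Hom.comp_preimage]

include hc hL₀ in
/-- **EGA IV 8.10.5.2 (absolute form).** Ampleness of the pullback to the limit descends to a stage. -/
theorem exists_isAmple_stage (h : CohB1.IsAmple ((Scheme.Modules.pullback (c.π.app i₀)).obj L₀)) :
    ∃ (i : I) (φ : i ⟶ i₀), CohB1.IsAmple ((Scheme.Modules.pullback (D.map φ)).obj L₀) := by
  classical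
  haveI : ∀ {i j : I} (f : i ⟶ j), IsAffineHom (D.map f) := fun f => inferInstance
  choose j φ W hxW hgood using exists_good D hc i₀ L₀ hL₀ h
  haveI : CompactSpace c.pt := h.2.1
  obtain ⟨s, hs⟩ := isCompact_univ.elim_finite_subcover
    (fun x => ((c.π.app (j x) ⁻¹ᵁ W x : c.pt.Opens) : Set c.pt))
    (fun x => (c.π.app (j x) ⁻¹ᵁ W x).isOpen) (fun x _ => Set.mem_iUnion.2 ⟨x, hxW x⟩)
  obtain ⟨m, hm⟩ := IsCofiltered.inf_objs_exists (s.image (fun x => Over.mk (φ x)))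
  have fm : ∀ x : s, m ⟶ Over.mk (φ x.1) := fun x => (hm (Finset.mem_image_of_mem _ x.2)).some
  let Wm : (D.obj m.left).Opens := ⨆ x : s, D.map (fm x).left ⁻¹ᵁ W x.1
  have hWm : c.π.app m.left ⁻¹ᵁ Wm = ⊤ := by
    rw [eq_top_iff]
    intro z _
    obtain ⟨x, hx, hz⟩ : ∃ x ∈ s, z ∈ c.π.app (j x) ⁻¹ᵁ W x := by
      have := hs (Set.mem_univ z)
      simpa using this
    have hz' : z ∈ c.π.app m.left ⁻¹ᵁ (D.map (fm ⟨x, hx⟩).left ⁻¹ᵁ W x) := by
      rw [← Scheme.Hom.comp_preimage, c.w]; exact hz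
    exact (Scheme.Hom.preimage_mono _ (le_iSup (fun x : s => D.map (fm x).left ⁻¹ᵁ W x.1) ⟨x, hx⟩)) hz'
  obtain ⟨k, f, hk⟩ := exists_map_eq_top D c hc Wm hWm
  refine ⟨k, f ≫ m.hom, isInvertible_pullback _ hL₀, inferInstance, fun y => ?_⟩
  have hy : (D.map f).base y ∈ Wm := by
    have : y ∈ D.map f ⁻¹ᵁ Wm := by rw [hk]; trivial
    exact this
  obtain ⟨x, hx⟩ : ∃ x : s, (D.map f).base y ∈ D.map (fm x).left ⁻¹ᵁ W x.1 := by
    simpa [Wm, Opens.mem_iSup] using hy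
  obtain ⟨n, t, ht, haff⟩ := hgood x.1 k (f ≫ (fm x).left) (f ≫ m.hom)
    (by rw [Category.assoc]; congr 1; exact (Over.w (fm x)).symm)
  refine ⟨n, t, ?_, ?_⟩
  · rw [ht, D.map_comp, Scheme.Hom.comp_preimage]; exact hx
  · rw [ht]; exact haff

end Main

end Groth.Agent.Lib.Helper25.AmpleLim
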