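import Mathlib
import Groth.Agent.Lib.Helper25.AmpleLimA
import Groth.Agent.Lib.Helper25.FibLocus
import Groth.Agent.Lib.Helper22.LimBaseChange
import Groth.Agent.Lib.Helper28.AmpleBaseChange
import Groth.Agent.Lib.Helper28.PullbackAmple2
import Groth.Agent.Lib.Helper28.RestrictAmple

/-!
# helper25 — AmpleLimB: relative ampleness and cofiltered limits (EGA IV 8.10.5.2)
-/

set_option backward.isDefEq.respectTransparency.types false
set_option autoImplicit false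
set_option linter.unusedVariables false
set_option linter.style.haveILetI false
set_option linter.unusedSectionVars false
universe u
open AlgebraicGeometry CategoryTheory Limits TopologicalSpace Opposite

noncomputable section

namespace Groth.Agent.Lib.Helper25.AmpleLim

open Groth.Agent.Lib.Helper25.ModMapLocal Groth.Agent.Lib.Helper28.PullbackInv
  Groth.Agent.Lib.Helper28.QCohLoc Groth.Agent.Lib.Helper28.GenLocus
  Groth.Agent.Lib.Helper28 Groth.Agent.Lib.Helper28.AmpleLocal Groth.Agent.Lib.Helper25.FibLocus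

section General

variable {X Y X' Y' : Scheme.{u}}

/-- relative ampleness is invariant under isomorphisms of modules -/
theorem isRelAmple_of_iso (f : X ⟶ Y) {L L' : X.Modules} (e : L ≅ L') (h : RelAmple.IsRelAmple f L) :
    RelAmple.IsRelAmple f L' :=
  ⟨h.1, fun V => AmpleIso.isAmple_of_iso ((Scheme.Modules.restrictFunctor (f ⁻¹ᵁ V.1).ι).mapIso e) (h.2 V)⟩

/-- relative ampleness is stable under base change (arbitrary cartesian square; after helper17 `RelTw`) -/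
theorem isRelAmple_of_isPullback (f : X ⟶ Y) [QuasiCompact f] (g : Y' ⟶ Y) (g' : X' ⟶ X) (f' : X' ⟶ Y')
    (hsq : IsPullback g' f' f g) (L : X.Modules) (hamp : RelAmple.IsRelAmple f L) :
    RelAmple.IsRelAmple f' ((Scheme.Modules.pullback g').obj L) := by
  have h0 := isRelAmple_baseChange f g L hamp
  have h1 := isRelAmple_pullback_of_isEmbedding (pullback.snd f g) hsq.isoPullback.hom
    (hsq.isoPullback.hom.homeomorph.isEmbedding) _ h0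
  have key : ∀ (k : X' ⟶ Y') (_ : k = f') (M : X'.Modules), RelAmple.IsRelAmple k M →
      RelAmple.IsRelAmple f' M := by
    intro k hk M hM
    subst hk
    exact hM
  have h2 := key _ hsq.isoPullback_hom_snd _ h1
  exact isRelAmple_of_iso f' ((compIso hsq.isoPullback.hom (pullback.fst f g) g' hsq.isoPullback_hom_fst).app L) h2

variable {X₀ Y₀ : Scheme.{u}} (f₀ : X₀ ⟶ Y₀) (L₀ : X₀.Modules)

/-- transfer of relative ampleness between two base changes of the same morphism -/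
theorem isRelAmple_transfer (f : X ⟶ Y) (qX : X ⟶ X₀) (qY : Y ⟶ Y₀) (hX : IsPullback qX f f₀ qY)
    (f' : X' ⟶ Y') (qX' : X' ⟶ X₀) (qY' : Y' ⟶ Y₀) (hX' : IsPullback qX' f' f₀ qY')
    (r : Y' ⟶ Y) (hr : r ≫ qY = qY')
    (h : RelAmple.IsRelAmple f ((Scheme.Modules.pullback qX).obj L₀)) :
    RelAmple.IsRelAmple f' ((Scheme.Modules.pullback qX').obj L₀) := by
  haveI := h.1
  let rX : X' ⟶ X := hX.lift qX' (f' ≫ r) (by rw [Category.assoc, hr]; exact hX'.w)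
  have h1 : rX ≫ qX = qX' := hX.lift_fst _ _ _
  have h2 : rX ≫ f = f' ≫ r := hX.lift_snd _ _ _
  have hsq : IsPullback rX f' f r := by
    refine IsPullback.of_right ?_ h2 hX
    rw [h1, hr]
    exact hX'
  have h3 := isRelAmple_of_isPullback f r rX f' hsq _ h
  exact isRelAmple_of_iso f' ((compIso rX qX qX' h1).app L₀) h3

end General

section APred

variable {X₀ : Scheme.{u}} (L₀ : X₀.Modules)

/-- the pullback of `L₀` along `t` is ample -/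
def A {T : Scheme.{u}} (t : T ⟶ X₀) : Prop := CohB1.IsAmple ((Scheme.Modules.pullback t).obj L₀)

theorem A_of_eq {T : Scheme.{u}} {t t' : T ⟶ X₀} (h : t = t') : A L₀ t → A L₀ t' := by
  subst h; exact id

theorem A_comp_iso {T T' : Scheme.{u}} (e : T' ⟶ T) [IsIso e] (t : T ⟶ X₀) (h : A L₀ t) :
    A L₀ (e ≫ t) := by
  haveI : CompactSpace T := h.2.1
  haveI : CompactSpace T' := e.homeomorph.symm.compactSpace
  have h1 := isAmple_pullback_of_isEmbedding e e.homeomorph.isEmbedding _ h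
  exact AmpleIso.isAmple_of_iso ((Scheme.Modules.pullbackComp e t).app L₀) h1

theorem A_comp_affine {T T' : Scheme.{u}} (e : T' ⟶ T) [IsAffineHom e] [QuasiSeparatedSpace T']
    (t : T ⟶ X₀) (h : A L₀ t) : A L₀ (e ≫ t) := by
  haveI : CompactSpace T := h.2.1
  haveI : CompactSpace T' := QuasiCompact.compactSpace_of_compactSpace e
  have h1 := isAmple_pullback_of_quasiAffine e (fun O hO => by
    haveI : IsAffine ((e ⁻¹ᵁ O : T'.Opens) : Scheme.{u}) := hO.preimage e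
    infer_instance) _ h
  exact AmpleIso.isAmple_of_iso ((Scheme.Modules.pullbackComp e t).app L₀) h1

theorem A_restrict_iff {T U : Scheme.{u}} (j : U ⟶ T) [IsOpenImmersion j] (t : T ⟶ X₀) :
    CohB1.IsAmple (((Scheme.Modules.pullback t).obj L₀).restrict j) ↔ A L₀ (j ≫ t) := by
  let e : ((Scheme.Modules.pullback t).obj L₀).restrict j ≅ (Scheme.Modules.pullback (j ≫ t)).obj L₀ :=
    (Scheme.Modules.restrictFunctorIsoPullback j).app _ ≪≫ (Scheme.Modules.pullbackComp j t).app L₀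
  exact ⟨AmpleIso.isAmple_of_iso e, AmpleIso.isAmple_of_iso e.symm⟩

end APred

section Geometry

variable {X₀ Y₀ S₀ : Scheme.{u}} (f₀ : X₀ ⟶ Y₀) (g₀ : Y₀ ⟶ S₀) (L₀ : X₀.Modules)

/-- relative ampleness of the pullback of `L₀` for the canonical base change along `b` -/
def P {T : Scheme.{u}} (b : T ⟶ S₀) : Prop :=
  RelAmple.IsRelAmple (bcMap f₀ g₀ b) ((Scheme.Modules.pullback (pullback.fst (f₀ ≫ g₀) b)).obj L₀)

/-- structure map of the open `f₀⁻¹ V` -/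
abbrev aV (V : Y₀.Opens) : ((f₀ ⁻¹ᵁ V : X₀.Opens) : Scheme.{u}) ⟶ S₀ := (f₀ ⁻¹ᵁ V).ι ≫ f₀ ≫ g₀

/-- the projection of the base change of `f₀⁻¹ V` to `X₀` -/
def tV (V : Y₀.Opens) {T : Scheme.{u}} (b : T ⟶ S₀) : pullback b (aV f₀ g₀ V) ⟶ X₀ :=
  pullback.snd _ _ ≫ (f₀ ⁻¹ᵁ V).ι

theorem isAmple_restrict_congr {X : Scheme.{u}} (L : X.Modules) {U U' : X.Opens} (h : U = U') :
    CohB1.IsAmple (L.restrict U.ι) ↔ CohB1.IsAmple (L.restrict U'.ι) := by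
  subst h; rfl

theorem preimage_eq (V : Y₀.Opens) {T : Scheme.{u}} (b : T ⟶ S₀) :
    bcMap f₀ g₀ b ⁻¹ᵁ (pullback.fst g₀ b ⁻¹ᵁ V) = pullback.fst (f₀ ≫ g₀) b ⁻¹ᵁ (f₀ ⁻¹ᵁ V) := by
  rw [← Scheme.Hom.comp_preimage, ← Scheme.Hom.comp_preimage, bcMap_fst]

theorem exists_theta (V : Y₀.Opens) {T : Scheme.{u}} (b : T ⟶ S₀) :
    ∃ θ : pullback b (aV f₀ g₀ V) ≅
        ((pullback.fst (f₀ ≫ g₀) b ⁻¹ᵁ (f₀ ⁻¹ᵁ V) : (pullback (f₀ ≫ g₀) b).Opens) : Scheme.{u}),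
      θ.hom ≫ (pullback.fst (f₀ ≫ g₀) b ⁻¹ᵁ (f₀ ⁻¹ᵁ V)).ι ≫ pullback.fst (f₀ ≫ g₀) b = tV f₀ g₀ V b := by
  have hsq1 := isPullback_morphismRestrict (pullback.fst (f₀ ≫ g₀) b) (f₀ ⁻¹ᵁ V)
  have hsq2 := IsPullback.of_hasPullback (f₀ ≫ g₀) b
  have hP := (hsq1.paste_vert hsq2).flip
  refine ⟨hP.isoPullback.symm, ?_⟩
  have h1 : hP.isoPullback.inv ≫ (pullback.fst (f₀ ≫ g₀) b ∣_ (f₀ ⁻¹ᵁ V)) = pullback.snd _ _ :=
    hP.isoPullback_inv_snd
  calc hP.isoPullback.inv ≫ ((pullback.fst (f₀ ≫ g₀) b ⁻¹ᵁ (f₀ ⁻¹ᵁ V)).ι ≫ pullback.fst (f₀ ≫ g₀) b)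
      = hP.isoPullback.inv ≫ ((pullback.fst (f₀ ≫ g₀) b ∣_ (f₀ ⁻¹ᵁ V)) ≫ (f₀ ⁻¹ᵁ V).ι) := by
        rw [morphismRestrict_ι]
    _ = (hP.isoPullback.inv ≫ (pullback.fst (f₀ ≫ g₀) b ∣_ (f₀ ⁻¹ᵁ V))) ≫ (f₀ ⁻¹ᵁ V).ι :=
        (Category.assoc _ _ _).symm
    _ = pullback.snd _ _ ≫ (f₀ ⁻¹ᵁ V).ι := congrArg (· ≫ (f₀ ⁻¹ᵁ V).ι) h1

theorem A_of_P (V : Y₀.Opens) {T : Scheme.{u}} (b : T ⟶ S₀) (haff : IsAffineOpen (pullback.fst g₀ b ⁻¹ᵁ V))
    (h : P f₀ g₀ L₀ b) : A L₀ (tV f₀ g₀ V b) := by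
  have h1 := h.2 ⟨pullback.fst g₀ b ⁻¹ᵁ V, haff⟩
  rw [isAmple_restrict_congr _ (preimage_eq f₀ g₀ V b), A_restrict_iff] at h1
  obtain ⟨θ, hθ⟩ := exists_theta f₀ g₀ V b
  exact A_of_eq L₀ hθ (A_comp_iso L₀ θ.hom _ h1)

theorem restrict_of_A (V : Y₀.Opens) {T : Scheme.{u}} (b : T ⟶ S₀) (h : A L₀ (tV f₀ g₀ V b)) :
    CohB1.IsAmple (((Scheme.Modules.pullback (pullback.fst (f₀ ≫ g₀) b)).obj L₀).restrict
      (bcMap f₀ g₀ b ⁻¹ᵁ (pullback.fst g₀ b ⁻¹ᵁ V)).ι) := by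
  rw [isAmple_restrict_congr _ (preimage_eq f₀ g₀ V b), A_restrict_iff]
  obtain ⟨θ, hθ⟩ := exists_theta f₀ g₀ V b
  have h2 := A_comp_iso L₀ θ.inv _ h
  refine A_of_eq L₀ ?_ h2
  rw [← hθ, Iso.inv_hom_id_assoc]

theorem P_of_A {T : Scheme.{u}} (b : T ⟶ S₀) [QuasiCompact (bcMap f₀ g₀ b)] {ι : Type*} (V : ι → Y₀.Opens)
    (hV : ∀ y : Y₀, ∃ k, y ∈ V k) (h : ∀ k, A L₀ (tV f₀ g₀ (V k) b)) : P f₀ g₀ L₀ b := by
  refine isRelAmple_of_forall_exists _ _ fun y => ?_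
  obtain ⟨k, hk⟩ := hV (pullback.fst g₀ b y)
  refine ⟨pullback.fst g₀ b ⁻¹ᵁ V k, hk, fun V' hV' hle => ?_⟩
  have h1 := restrict_of_A f₀ g₀ L₀ (V k) b (h k)
  haveI : CompactSpace ((bcMap f₀ g₀ b ⁻¹ᵁ V' : (pullback (f₀ ≫ g₀) b).Opens) : Scheme.{u}) :=
    isCompact_iff_compactSpace.mp
      (QuasiCompact.isCompact_preimage (f := bcMap f₀ g₀ b) _ V'.2 hV'.isCompact)
  refine isAmple_restrict_of_range_subset _ _ ?_ _ h1
  rw [Scheme.Opens.range_ι, Scheme.Opens.range_ι]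
  exact (Scheme.Hom.preimage_mono _ hle)

end Geometry

section Limit

open Groth.Agent.Lib.Helper22

variable {I : Type u} [SmallCategory I] [IsCofiltered I]
  (D : I ⥤ Scheme.{u}) {c : Cone D} (hc : IsLimit c)
  [∀ (i j : I) (f : i ⟶ j), IsAffineHom (D.map f)] (i₀ : I)
  {X₀ Y₀ : Scheme.{u}} (f₀ : X₀ ⟶ Y₀) (g₀ : Y₀ ⟶ D.obj i₀) [QuasiCompact f₀] [QuasiSeparated f₀]
  (L₀ : X₀.Modules) (hL₀ : PicF.IsInvertible L₀)

include hc hL₀ in
theorem exists_stage_A (V : Y₀.Opens) (hV : IsAffineOpen V) (h : A L₀ (tV f₀ g₀ V (c.π.app i₀))) :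
    ∃ j : Over i₀, ∀ (k : Over i₀) (ψ : k ⟶ j), A L₀ (tV f₀ g₀ V (D.map k.hom)) := by
  haveI : CompactSpace ((f₀ ⁻¹ᵁ V : X₀.Opens) : Scheme.{u}) :=
    isCompact_iff_compactSpace.mp (QuasiCompact.isCompact_preimage (f := f₀) _ V.2 hV.isCompact)
  haveI : IsAffine (V : Scheme.{u}) := hV
  haveI : QuasiSeparatedSpace ((f₀ ⁻¹ᵁ V : X₀.Opens) : Scheme.{u}) :=
    quasiSeparatedSpace_of_quasiSeparated (f₀ ∣_ V)
  let E := bcDiag D i₀ (aV f₀ g₀ V)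
  haveI hqs : ∀ j : Over i₀, QuasiSeparatedSpace (E.obj j) := fun j => by
    haveI : IsAffineHom (pullback.snd (D.map j.hom) (aV f₀ g₀ V)) :=
      MorphismProperty.pullback_snd (P := @IsAffineHom) _ _ inferInstance
    exact quasiSeparatedSpace_of_quasiSeparated (pullback.snd (D.map j.hom) (aV f₀ g₀ V))
  let i₀' : Over i₀ := Over.mk (𝟙 i₀)
  let L' : (E.obj i₀').Modules := (Scheme.Modules.pullback (tV f₀ g₀ V (D.map i₀'.hom))).obj L₀
  have hL' : PicF.IsInvertible L' := isInvertible_pullback _ hL₀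
  have e1 : (bcCone D c i₀ (aV f₀ g₀ V)).π.app i₀' ≫ tV f₀ g₀ V (D.map i₀'.hom) =
      tV f₀ g₀ V (c.π.app i₀) := by
    exact (Category.assoc _ _ _).symm.trans
      (congrArg (fun t => t ≫ (f₀ ⁻¹ᵁ V).ι) (bcCone_π_snd D c i₀ (aV f₀ g₀ V) i₀'))
  have h' : CohB1.IsAmple ((Scheme.Modules.pullback ((bcCone D c i₀ (aV f₀ g₀ V)).π.app i₀')).obj L') :=
    AmpleIso.isAmple_of_iso ((compIso _ _ _ e1).app L₀).symm h
  obtain ⟨j, φ, hj⟩ := exists_isAmple_stage E (bcIsLimit D hc i₀ (aV f₀ g₀ V)) i₀' L' hL' h'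
  refine ⟨j, fun k ψ => ?_⟩
  have e2 : E.map φ ≫ tV f₀ g₀ V (D.map i₀'.hom) = tV f₀ g₀ V (D.map j.hom) := by
    exact (Category.assoc _ _ _).symm.trans
      (congrArg (fun t => t ≫ (f₀ ⁻¹ᵁ V).ι) (bcDiag_map_snd D i₀ (aV f₀ g₀ V) φ))
  have hj' : A L₀ (tV f₀ g₀ V (D.map j.hom)) :=
    AmpleIso.isAmple_of_iso ((compIso _ _ _ e2).app L₀) hj
  have e3 : E.map ψ ≫ tV f₀ g₀ V (D.map j.hom) = tV f₀ g₀ V (D.map k.hom) := by
    exact (Category.assoc _ _ _).symm.trans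
      (congrArg (fun t => t ≫ (f₀ ⁻¹ᵁ V).ι) (bcDiag_map_snd D i₀ (aV f₀ g₀ V) ψ))
  haveI : IsAffineHom (E.map ψ) := bcDiag_isAffineHom D i₀ (aV f₀ g₀ V) ψ
  haveI : QuasiSeparatedSpace (E.obj k) := hqs k
  exact A_of_eq L₀ e3 (A_comp_affine L₀ (E.map ψ) _ hj')

include hc hL₀ in
/-- relative ampleness descends to a stage (canonical base changes) -/
theorem exists_stage_P [CompactSpace Y₀] (h : P f₀ g₀ L₀ (c.π.app i₀)) :
    ∃ (j : I) (φ : j ⟶ i₀), P f₀ g₀ L₀ (D.map φ) := by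
  classical
  haveI : ∀ {i j : I} (f : i ⟶ j), IsAffineHom (D.map f) := fun f => inferInstance
  have hVy : ∀ y : Y₀, ∃ V : Y₀.Opens, IsAffineOpen V ∧ y ∈ V := fun y => by
    obtain ⟨_, ⟨V, hV, rfl⟩, hyV, -⟩ :=
      Y₀.isBasis_affineOpens.exists_subset_of_mem_open (Set.mem_univ y) isOpen_univ
    exact ⟨V, hV, hyV⟩
  choose V hV hyV using hVy
  haveI : IsAffineHom (c.π.app i₀) := isAffineHom_π_app D c hc i₀
  haveI : IsAffineHom (pullback.fst g₀ (c.π.app i₀)) :=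
    MorphismProperty.pullback_fst (P := @IsAffineHom) _ _ inferInstance
  have hA : ∀ y, A L₀ (tV f₀ g₀ (V y) (c.π.app i₀)) := fun y =>
    A_of_P f₀ g₀ L₀ (V y) (c.π.app i₀) ((hV y).preimage _) h
  choose j hj using fun y => exists_stage_A D hc i₀ f₀ g₀ L₀ hL₀ (V y) (hV y) (hA y)
  obtain ⟨s, hs⟩ := isCompact_univ.elim_finite_subcover (fun y => ((V y : Y₀.Opens) : Set Y₀))
    (fun y => (V y).isOpen) (fun y _ => Set.mem_iUnion.2 ⟨y, hyV y⟩)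
  obtain ⟨m, hm⟩ := IsCofiltered.inf_objs_exists (s.image j)
  refine ⟨m.left, m.hom, ?_⟩
  haveI : QuasiCompact (bcMap f₀ g₀ (D.map m.hom)) :=
    MorphismProperty.of_isPullback (P := @QuasiCompact) (isPullback_bcMap f₀ g₀ (D.map m.hom)) inferInstance
  refine P_of_A f₀ g₀ L₀ (D.map m.hom) (fun y : s => V y.1) (fun y => ?_) (fun y => ?_)
  · obtain ⟨x, hx, hyx⟩ : ∃ x ∈ s, y ∈ V x := by
      have := hs (Set.mem_univ y)
      simpa using this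
    exact ⟨⟨x, hx⟩, hyx⟩
  · exact hj y.1 m (hm (Finset.mem_image_of_mem _ y.2)).some

end Limit

section Final

variable {I : Type u} [SmallCategory I] [IsCofiltered I]
  (D : I ⥤ Scheme.{u}) (c : Cone D) (hc : IsLimit c)
  [∀ (i j : I) (f : i ⟶ j), IsAffineHom (D.map f)] (i₀ : I) [CompactSpace (D.obj i₀)]
  {X₀ Y₀ : Scheme.{u}} (f₀ : X₀ ⟶ Y₀) (g₀ : Y₀ ⟶ D.obj i₀)
  [QuasiCompact g₀] [QuasiSeparated g₀] [QuasiCompact (f₀ ≫ g₀)] [QuasiSeparated (f₀ ≫ g₀)]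
  (L₀ : X₀.Modules) (hL₀ : PicF.IsInvertible L₀)
  {X Y : Scheme.{u}} (f : X ⟶ Y) (g : Y ⟶ c.pt) (qY : Y ⟶ Y₀) (qX : X ⟶ X₀)
  (hY : IsPullback qY g g₀ (c.π.app i₀)) (hX : IsPullback qX f f₀ qY)

include hc hL₀ hY hX in
/-- **EGA IV 8.10.5.2**: relative ampleness over a cofiltered limit holds iff it holds at a stage -/
theorem isRelAmple_iff_exists_stage :
    RelAmple.IsRelAmple f ((Scheme.Modules.pullback qX).obj L₀) ↔
      ∃ (j : I) (φ : j ⟶ i₀) (Xj Yj : Scheme.{u}) (fj : Xj ⟶ Yj) (gj : Yj ⟶ D.obj j) (pY : Yj ⟶ Y₀)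
        (pX : Xj ⟶ X₀), IsPullback pY gj g₀ (D.map φ) ∧ IsPullback pX fj f₀ pY ∧
          RelAmple.IsRelAmple fj ((Scheme.Modules.pullback pX).obj L₀) := by
  haveI : QuasiCompact f₀ := QuasiCompact.of_comp f₀ g₀
  haveI : QuasiSeparated f₀ := QuasiSeparated.of_comp f₀ g₀
  haveI : CompactSpace Y₀ := QuasiCompact.compactSpace_of_compactSpace g₀
  constructor
  · intro h
    have h1 : P f₀ g₀ L₀ (c.π.app i₀) :=
      isRelAmple_transfer f₀ L₀ f qX qY hX _ _ _ (isPullback_bcMap f₀ g₀ (c.π.app i₀))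
        hY.isoPullback.inv hY.isoPullback_inv_fst h
    obtain ⟨j, φ, hj⟩ := exists_stage_P D hc i₀ f₀ g₀ L₀ hL₀ h1
    exact ⟨j, φ, _, _, bcMap f₀ g₀ (D.map φ), pullback.snd g₀ (D.map φ), pullback.fst g₀ (D.map φ),
      pullback.fst (f₀ ≫ g₀) (D.map φ), IsPullback.of_hasPullback _ _, isPullback_bcMap f₀ g₀ (D.map φ), hj⟩
  · rintro ⟨j, φ, Xj, Yj, fj, gj, pY, pX, hYj, hXj, hamp⟩
    let r : Y ⟶ Yj := hYj.lift qY (g ≫ c.π.app j) (by rw [Category.assoc, c.w]; exact hY.w)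
    exact isRelAmple_transfer f₀ L₀ fj pX pY hXj f qX qY hX r (hYj.lift_fst _ _ _) hamp

end Final

end Groth.Agent.Lib.Helper25.AmpleLim
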