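import Mathlib
import Groth.Agent.Lib.Helper25.AmpleLimB
import Groth.Agent.Lib.Helper25.FibLocus

/-!
# helper25 — AmpleLimC: the locus of points where the pullback of an invertible module to the fibre is relatively
ample is ind-constructible (EGA IV 9.6.2 (i))
-/

set_option backward.isDefEq.respectTransparency.types false
set_option autoImplicit false
set_option linter.unusedVariables false
set_option linter.style.haveILetI false
set_option linter.unusedSectionVars false
universe u
open AlgebraicGeometry CategoryTheory Limits TopologicalSpace Opposite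

noncomputable section

namespace Groth.Agent.Lib.Helper25.AmpleLim

open Groth.Agent.Lib.Helper25.ModMapLocal Groth.Agent.Lib.Helper25.FibLocus

section PComp

variable {X Y S : Scheme.{u}} (f : X ⟶ Y) (g : Y ⟶ S) (L : X.Modules)

/-- `P` is stable under further base change -/
theorem P_baseChange {T T' : Scheme.{u}} (b : T ⟶ S) (e : T' ⟶ T) (b' : T' ⟶ S) (hb : e ≫ b = b')
    (h : P f g L b) : P f g L b' :=
  isRelAmple_transfer f L (bcMap f g b) (pullback.fst (f ≫ g) b) (pullback.fst g b) (isPullback_bcMap f g b)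
    (bcMap f g b') (pullback.fst (f ≫ g) b') (pullback.fst g b') (isPullback_bcMap f g b')
    (cmp g b e b' hb) (cmp_fst g b e b' hb) h

/-- `P` for a base change of the base change -/
theorem P_comp_iff {T T' : Scheme.{u}} (b : T ⟶ S) (e : T' ⟶ T) (b' : T' ⟶ S) (hb : e ≫ b = b') :
    P (bcMap f g b) (pullback.snd g b) ((Scheme.Modules.pullback (pullback.fst (f ≫ g) b)).obj L) e ↔
      P f g L b' := by
  -- the first tower
  have hsq1 : IsPullback (pullback.fst (bcMap f g b ≫ pullback.snd g b) e ≫ pullback.fst (f ≫ g) b)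
      (bcMap (bcMap f g b) (pullback.snd g b) e) f (pullback.fst (pullback.snd g b) e ≫ pullback.fst g b) :=
    (isPullback_bcMap (bcMap f g b) (pullback.snd g b) e).paste_horiz (isPullback_bcMap f g b)
  let ec := (compIso (pullback.fst (bcMap f g b ≫ pullback.snd g b) e) (pullback.fst (f ≫ g) b) _ rfl).app L
  -- comparison maps of the bases
  let r₁₂ : pullback g b' ⟶ pullback (pullback.snd g b) e :=
    pullback.lift (cmp g b e b' hb) (pullback.snd g b') (cmp_snd g b e b' hb)
  have hr₁₂ : r₁₂ ≫ pullback.fst (pullback.snd g b) e ≫ pullback.fst g b = pullback.fst g b' := by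
    rw [← Category.assoc, pullback.lift_fst, cmp_fst]
  let r₂₁ : pullback (pullback.snd g b) e ⟶ pullback g b' :=
    pullback.lift (pullback.fst (pullback.snd g b) e ≫ pullback.fst g b) (pullback.snd (pullback.snd g b) e)
      (by rw [Category.assoc, pullback.condition, ← hb, ← Category.assoc, pullback.condition, Category.assoc])
  have hr₂₁ : r₂₁ ≫ pullback.fst g b' = pullback.fst (pullback.snd g b) e ≫ pullback.fst g b :=
    pullback.lift_fst _ _ _
  constructor
  · intro h
    have h' := isRelAmple_of_iso _ ec h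
    exact isRelAmple_transfer f L _ _ _ hsq1 _ _ _ (isPullback_bcMap f g b') r₁₂ hr₁₂ h'
  · intro h
    have h' := isRelAmple_transfer f L _ _ _ (isPullback_bcMap f g b') _ _ _ hsq1 r₂₁ hr₂₁ h
    exact isRelAmple_of_iso _ ec.symm h'

end PComp

section Main

variable {X Y S : Scheme.{u}} (f : X ⟶ Y) (g : Y ⟶ S) (L : X.Modules)

/-- `P` over a stage gives `P` at every point of the stage -/
theorem P_fromSpecResidueField_of_stage {Z : Scheme.{u}} (j : Z ⟶ S) [IsPreimmersion j]
    (h : P f g L j) (z : Z) : P f g L (S.fromSpecResidueField (j z)) := by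
  obtain ⟨e, he⟩ := exists_fac_fromSpecResidueField j z
  exact P_baseChange f g L j e _ he h

set_option maxHeartbeats 1600000 in
/-- spreading out relative ampleness from the fibre at `s` to a finitely presented stage through `s` -/
theorem exists_stage_of_fibre (hL : PicF.IsInvertible L)
    [LocallyOfFinitePresentation g] [QuasiCompact g] [QuasiSeparated g]
    [LocallyOfFinitePresentation (f ≫ g)] [QuasiCompact (f ≫ g)] [QuasiSeparated (f ≫ g)]
    (s : S) (hs : P f g L (S.fromSpecResidueField s)) :
    ∃ (Z : Scheme.{u}) (j : Z ⟶ S), LocallyOfFinitePresentation j ∧ IsPreimmersion j ∧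
      s ∈ Set.range j ∧ P f g L j := by
  obtain ⟨U, hU, hsU, -⟩ := exists_isAffineOpen_mem_and_subset (X := S) (x := s) (U := ⊤) (by simp)
  letI : Algebra Γ(S, U) (S.residueField s) := (S.evaluation U s hsU).hom.toAlgebra
  have hK : ∀ x : S.residueField s, ∃ a t : Γ(S, U),
      algebraMap Γ(S, U) (S.residueField s) t ≠ 0 ∧
        x * algebraMap Γ(S, U) (S.residueField s) t = algebraMap Γ(S, U) (S.residueField s) a :=
    exists_fraction hU s hsU
  let ι : Spec (CommRingCat.of Γ(S, U)) ⟶ S := hU.fromSpec
  haveI : IsOpenImmersion ι := inferInstanceAs (IsOpenImmersion hU.fromSpec)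
  have hτ : ResLim.specτ Γ(S, U) (S.residueField s) ≫ ι = S.fromSpecResidueField s := by
    have h1 : Spec.map (S.evaluation U s hsU) ≫ hU.fromSpec = S.fromSpecResidueField s := by
      rw [← Scheme.germ_residue, Spec.map_comp, Category.assoc]
      change _ ≫ hU.fromSpecStalk hsU = _
      rw [hU.fromSpecStalk_eq_fromSpecStalk]
      rfl
    exact h1
  let tS : ∀ σ, (ResLim.specDiag Γ(S, U) (S.residueField s)).obj σ ⟶ S :=
    fun σ => ResLim.specStr Γ(S, U) (S.residueField s) σ ≫ ι
  have htS_map : ∀ {σ τ : (Finset Γ(S, U))ᵒᵖ} (a : σ ⟶ τ),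
      (ResLim.specDiag Γ(S, U) (S.residueField s)).map a ≫ tS τ = tS σ :=
    fun a => by simp only [tS]; rw [← Category.assoc, ResLim.specDiag_map_str]
  have hcS : ∀ σ, (ResLim.specCone Γ(S, U) (S.residueField s)).π.app σ ≫ tS σ =
      S.fromSpecResidueField s :=
    fun σ => by simp only [tS]; rw [← Category.assoc, ResLim.specCone_π_str, hτ]
  haveI : ∀ σ, LocallyOfFinitePresentation (tS σ) := fun σ => by simp only [tS]; infer_instance
  haveI : ∀ σ, IsPreimmersion (tS σ) := fun σ => by simp only [tS]; infer_instance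
  let i₀ : (Finset Γ(S, U))ᵒᵖ := Opposite.op ∅
  have hb₀ := hcS i₀
  haveI : QuasiCompact (bcMap f g (tS i₀) ≫ pullback.snd g (tS i₀)) := by
    rw [bcMap_snd]; infer_instance
  haveI : QuasiSeparated (bcMap f g (tS i₀) ≫ pullback.snd g (tS i₀)) := by
    rw [bcMap_snd]; infer_instance
  haveI : CompactSpace ↥(pullback g (tS i₀)) :=
    QuasiCompact.compactSpace_of_compactSpace (pullback.snd g (tS i₀))
  haveI : QuasiCompact (bcMap f g (tS i₀)) := QuasiCompact.of_comp _ (pullback.snd g (tS i₀))
  haveI : QuasiSeparated (bcMap f g (tS i₀)) := QuasiSeparated.of_comp _ (pullback.snd g (tS i₀))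
  have h0 := (P_comp_iff f g L (tS i₀) _ _ hb₀).2 hs
  obtain ⟨i, φ, hi⟩ := exists_stage_P (ResLim.specDiag Γ(S, U) (S.residueField s))
    (ResLim.specIsLimit Γ(S, U) (S.residueField s) hK) i₀ (bcMap f g (tS i₀)) (pullback.snd g (tS i₀))
    _ (Groth.Agent.Lib.Helper28.PullbackInv.isInvertible_pullback _ hL) h0
  have hi' := (P_comp_iff f g L (tS i₀) _ _ (htS_map φ)).1 hi
  refine ⟨_, tS i, inferInstance, inferInstance, ?_, hi'⟩
  refine ⟨(ResLim.specCone Γ(S, U) (S.residueField s)).π.app i
    (IsLocalRing.closedPoint (S.residueField s)), ?_⟩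
  have h2 : ((ResLim.specCone Γ(S, U) (S.residueField s)).π.app i ≫ tS i)
      (IsLocalRing.closedPoint (S.residueField s)) = s := by
    rw [hcS i]
    exact Scheme.fromSpecResidueField_apply s _
  exact h2

open Groth.Agent.Lib.Helper25.PC in
/-- **EGA IV 9.6.2 (i)**: the locus where the pullback of `L` to the fibre is relatively ample is
ind-constructible -/
theorem isIndConstructible_setOf_fibre_P (hL : PicF.IsInvertible L)
    [LocallyOfFinitePresentation g] [QuasiCompact g] [QuasiSeparated g]
    [LocallyOfFinitePresentation (f ≫ g)] [QuasiCompact (f ≫ g)] [QuasiSeparated (f ≫ g)] :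
    ProCons.IsIndConstructible {s : S | P f g L (S.fromSpecResidueField s)} := by
  rw [isInd_iff]
  have key : ∀ s : {s : S | P f g L (S.fromSpecResidueField s)},
      ∃ T : Set S, IndC T ∧ s.1 ∈ T ∧ T ⊆ {s : S | P f g L (S.fromSpecResidueField s)} := by
    rintro ⟨s, hs⟩
    obtain ⟨Z, j, hj1, hj2, hsj, hQj⟩ := exists_stage_of_fibre f g L hL s hs
    refine ⟨Set.range j, indC_range j, hsj, ?_⟩
    rintro _ ⟨z, rfl⟩
    exact P_fromSpecResidueField_of_stage f g L j hQj z
  choose T hT1 hT2 hT3 using key
  have hE : {s : S | P f g L (S.fromSpecResidueField s)} = ⋃ s, T s := by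
    apply Set.Subset.antisymm
    · intro s hs
      exact Set.mem_iUnion.mpr ⟨⟨s, hs⟩, hT2 ⟨s, hs⟩⟩
    · exact Set.iUnion_subset hT3
  rw [hE]
  intro V hV
  rw [Set.preimage_iUnion]
  exact isPO_iUnion fun s => hT1 s V hV

end Main

end Groth.Agent.Lib.Helper25.AmpleLim
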