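import Mathlib
import Groth.Agent.Lib.Helper25.LimHomC
import Groth.Agent.Lib.Helper21.FPQuot2

/-!
# helper25 — LimModDescA: descent of finitely presented quotients and modules to a stage of a cofiltered limit
(EGA IV 8.5.2 (ii)).
-/

set_option backward.isDefEq.respectTransparency.types false
set_option autoImplicit false
set_option linter.unusedVariables false
set_option linter.style.haveILetI false
set_option linter.unusedSectionVars false
universe u v w
open AlgebraicGeometry CategoryTheory Limits TopologicalSpace Opposite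

namespace Groth.Agent.Lib.Helper25.LimModDesc

open Groth.Agent.Lib.Helper25.ModMapLocal Groth.Agent.Lib.Helper28.PullbackInv
  Groth.Agent.Lib.Helper28.QCohLoc Groth.Agent.Lib.Helper25.LimModMap
  Groth.Agent.Lib.Helper17.CohKer Groth.Agent.Lib.Helper21.FPQuot Groth.Agent.Lib.Helper25.LimHom
  Groth.Agent.Lib.Helper7.FPKer

section FpEpi

variable {X X₀ : Scheme.{u}} (k : X ⟶ X₀) [IsAffineHom k] [CompactSpace X₀] [QuasiSeparatedSpace X₀]

/-- **a quasi-coherent module of finite type on `X`, affine over a qcqs scheme `X₀`, is a quotient of the pullback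
of a finitely presented module on `X₀`** -/
theorem exists_fp_epi_pullback (M : X.Modules) [M.IsQuasicoherent]
    [SheafOfModules.IsFiniteType.{u} (R := X.ringCatSheaf) M] :
    ∃ (H : X₀.Modules) (r : (Scheme.Modules.pullback k).obj H ⟶ M),
      SheafOfModules.IsFinitePresentation.{u} (R := X₀.ringCatSheaf) H ∧ Epi r := by
  obtain ⟨G₀, i, -, hG₀, 𝒰, hcov, hgen⟩ := exists_coh_through k M
  haveI : G₀.IsQuasicoherent := hG₀.1
  haveI : SheafOfModules.IsFiniteType.{u} (R := X₀.ringCatSheaf) G₀ := hG₀.2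
  let φ : (Scheme.Modules.pullback k).obj G₀ ⟶ M :=
    ((Scheme.Modules.pullbackPushforwardAdjunction k).homEquiv G₀ M).symm i
  haveI hφ : Epi φ := by
    refine epi_of_affine_cover φ (fun U : 𝒰 => k ⁻¹ᵁ U.1.1) (fun U => U.1.2.preimage k) ?_
      (fun U => isLocOn_of_isQuasicoherent M (U.1.2.preimage k)) ?_
    · intro x
      obtain ⟨U, hU, hx⟩ := hcov (k x)
      exact ⟨⟨U, hU⟩, hx⟩
    · intro U m
      obtain ⟨s, hs, hsg⟩ := hgen U.1 U.2
      have hm : m ∈ Submodule.span Γ(X, k ⁻¹ᵁ U.1.1) s := by rw [hs]; trivial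
      have hle : Submodule.span Γ(X, k ⁻¹ᵁ U.1.1) s ≤ LinearMap.range (appLinear φ (k ⁻¹ᵁ U.1.1)) := by
        refine Submodule.span_le.mpr ?_
        intro m' hm'
        obtain ⟨g, hg⟩ := hsg m' hm'
        exact ⟨_, (adjunct_app i U.1.1 g).trans hg⟩
      exact hle hm
  obtain ⟨H, p, hH, hp⟩ := exists_fp_epi G₀
  haveI := hp
  exact ⟨H, (Scheme.Modules.pullback k).map p ≫ φ, hH, epi_comp _ _⟩

end FpEpi

section Main

variable {I : Type u} [SmallCategory I] [IsCofiltered I]
  (D : I ⥤ Scheme.{u}) {c : Cone D} (hc : IsLimit c)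
  [∀ (i j : I) (f : i ⟶ j), IsAffineHom (D.map f)] (i₀ : I)
  [CompactSpace (D.obj i₀)] [QuasiSeparatedSpace (D.obj i₀)]

include hc in
/-- **EGA IV 8.5.2 (ii), quotients**: a finitely presented quotient of the pullback of a finitely presented module
comes from a stage. -/
theorem exists_quotient_descend (F₀ : (D.obj i₀).Modules)
    [SheafOfModules.IsFinitePresentation.{u} (R := (D.obj i₀).ringCatSheaf) F₀]
    {G : c.pt.Modules} [SheafOfModules.IsFinitePresentation.{u} (R := c.pt.ringCatSheaf) G]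
    (p : (Scheme.Modules.pullback (c.π.app i₀)).obj F₀ ⟶ G) [Epi p] :
    ∃ (j : I) (φ : j ⟶ i₀) (Gj : (D.obj j).Modules)
      (pj : (Scheme.Modules.pullback (D.map φ)).obj F₀ ⟶ Gj)
      (e : (Scheme.Modules.pullback (c.π.app j)).obj Gj ≅ G),
      Gj.IsQuasicoherent ∧ SheafOfModules.IsFinitePresentation.{u} (R := (D.obj j).ringCatSheaf) Gj ∧
        Epi pj ∧
        (compIso (c.π.app j) (D.map φ) (c.π.app i₀) (c.w φ)).inv.app F₀ ≫
          (Scheme.Modules.pullback (c.π.app j)).map pj ≫ e.hom = p := by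
  haveI : F₀.IsQuasicoherent := Groth.Agent.Lib.Helper29.FPDict.isQuasicoherent_of_isFinitePresentation F₀
  haveI : SheafOfModules.IsFiniteType.{u} (R := (D.obj i₀).ringCatSheaf) F₀ :=
    Groth.Agent.Lib.Helper29.FPDict.isFiniteType_of_isFinitePresentation F₀
  haveI : G.IsQuasicoherent := Groth.Agent.Lib.Helper29.FPDict.isQuasicoherent_of_isFinitePresentation G
  haveI : IsAffineHom (c.π.app i₀) := isAffineHom_π_app D c hc i₀
  haveI : SheafOfModules.IsFiniteType.{u} (R := c.pt.ringCatSheaf)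
      ((Scheme.Modules.pullback (c.π.app i₀)).obj F₀) :=
    Groth.Agent.Lib.Helper17.FinTypePushPull.isFiniteType_pullback (c.π.app i₀) F₀
  -- the kernel of `p` is a quotient of the pullback of a finitely presented module
  haveI hKq : (kernel p : c.pt.Modules).IsQuasicoherent := isQuasicoherent_kernel p
  haveI hKft : SheafOfModules.IsFiniteType.{u} (R := c.pt.ringCatSheaf) (kernel p : c.pt.Modules) :=
    Groth.Agent.Lib.Helper25.QuotFactor.isFiniteType_kernel_of_fp p
  obtain ⟨H, r, hH, hr⟩ := exists_fp_epi_pullback (c.π.app i₀) (kernel p : c.pt.Modules)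
  haveI := hH
  haveI := hr
  haveI : H.IsQuasicoherent := Groth.Agent.Lib.Helper29.FPDict.isQuasicoherent_of_isFinitePresentation H
  -- descend `π^* H ⟶ ker p ⟶ π^* F₀`
  obtain ⟨j, φ, ψj, hψj⟩ := exists_hom_descend D hc i₀ (F₀ := H) (G₀ := F₀) (r ≫ kernel.ι p)
  haveI : SheafOfModules.IsFinitePresentation.{u} (R := (D.obj j).ringCatSheaf)
      ((Scheme.Modules.pullback (D.map φ)).obj F₀) := isFP_pullback (D.map φ) F₀
  haveI : SheafOfModules.IsFiniteType.{u} (R := (D.obj j).ringCatSheaf)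
      ((Scheme.Modules.pullback (D.map φ)).obj H) :=
    Groth.Agent.Lib.Helper17.FinTypePushPull.isFiniteType_pullback (D.map φ) H
  haveI hGjfp : SheafOfModules.IsFinitePresentation.{u} (R := (D.obj j).ringCatSheaf) (cokernel ψj) :=
    isFP_cokernel ψj
  have hGjq : (cokernel ψj).IsQuasicoherent :=
    @Groth.Agent.Lib.Helper29.FPDict.isQuasicoherent_of_isFinitePresentation _ (cokernel ψj) hGjfp
  let A := Scheme.Modules.pullback (c.π.app j)
  let C := compIso (c.π.app j) (D.map φ) (c.π.app i₀) (c.w φ)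
  let pt : A.obj ((Scheme.Modules.pullback (D.map φ)).obj F₀) ⟶ G := C.hom.app F₀ ≫ p
  have hψ : A.map ψj = C.hom.app H ≫ (r ≫ kernel.ι p) ≫ C.inv.app F₀ := by
    rw [← hψj]
    unfold Theta
    simp only [C, A, Category.assoc, Iso.hom_inv_id_app, Iso.hom_inv_id_app_assoc]
    exact (Category.comp_id _).symm
  have hpt : A.map ψj ≫ pt = 0 := by
    rw [hψ]
    simp only [pt, Category.assoc, Iso.inv_hom_id_app_assoc, kernel.condition, comp_zero]
  -- both `A (coker.π)` and `pt` are cokernels of `A ψj`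
  have hcol₁ := CokernelCofork.mapIsColimit _ (cokernelIsCokernel ψj) A
  have hcol₂ : IsColimit (CokernelCofork.ofπ pt hpt) := by
    refine CokernelCofork.IsColimit.ofπ _ _ (fun {Z} g hg => ?_) (fun {Z} g hg => ?_)
      (fun {Z} g hg l hl => ?_)
    · -- desc
      have h1 : kernel.ι p ≫ (C.inv.app F₀ ≫ g) = 0 := by
        rw [hψ] at hg
        have h2 : (C.hom.app H ≫ r) ≫ (kernel.ι p ≫ C.inv.app F₀ ≫ g) = 0 := by
          simpa only [Category.assoc] using hg
        exact (cancel_epi (C.hom.app H ≫ r)).1 (h2.trans comp_zero.symm)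
      exact (exists_desc_of_map_kernel_comp_eq_zero (𝟭 _) p (C.inv.app F₀ ≫ g) h1).choose
    · have h1 : kernel.ι p ≫ (C.inv.app F₀ ≫ g) = 0 := by
        rw [hψ] at hg
        have h2 : (C.hom.app H ≫ r) ≫ (kernel.ι p ≫ C.inv.app F₀ ≫ g) = 0 := by
          simpa only [Category.assoc] using hg
        exact (cancel_epi (C.hom.app H ≫ r)).1 (h2.trans comp_zero.symm)
      have h3 := (exists_desc_of_map_kernel_comp_eq_zero (𝟭 _) p (C.inv.app F₀ ≫ g) h1).choose_spec
      simp only [pt, Category.assoc]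
      simp only [Functor.id_obj, Functor.id_map] at h3
      rw [h3, Iso.hom_inv_id_app_assoc]
    · haveI : Epi pt := epi_comp _ _
      rw [← cancel_epi pt, hl]
      have h1 : kernel.ι p ≫ (C.inv.app F₀ ≫ g) = 0 := by
        rw [hψ] at hg
        have h2 : (C.hom.app H ≫ r) ≫ (kernel.ι p ≫ C.inv.app F₀ ≫ g) = 0 := by
          simpa only [Category.assoc] using hg
        exact (cancel_epi (C.hom.app H ≫ r)).1 (h2.trans comp_zero.symm)
      have h3 := (exists_desc_of_map_kernel_comp_eq_zero (𝟭 _) p (C.inv.app F₀ ≫ g) h1).choose_spec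
      simp only [Functor.id_obj, Functor.id_map] at h3
      simp only [pt, Category.assoc]
      rw [h3, Iso.hom_inv_id_app_assoc]
  let e := hcol₁.coconePointUniqueUpToIso hcol₂
  have he : A.map (cokernel.π ψj) ≫ e.hom = pt :=
    hcol₁.comp_coconePointUniqueUpToIso_hom hcol₂ WalkingParallelPair.one
  refine ⟨j, φ, cokernel ψj, cokernel.π ψj, e, hGjq, hGjfp, inferInstance, ?_⟩
  rw [he]
  simp only [pt, C, Iso.inv_hom_id_app_assoc]

include hc in
/-- **EGA IV 8.5.2 (ii)**: a finitely presented module on the limit comes from a stage. -/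
theorem exists_module_descend (F : c.pt.Modules)
    [SheafOfModules.IsFinitePresentation.{u} (R := c.pt.ringCatSheaf) F] :
    ∃ (j : I) (φ : j ⟶ i₀) (Fj : (D.obj j).Modules),
      Fj.IsQuasicoherent ∧ SheafOfModules.IsFinitePresentation.{u} (R := (D.obj j).ringCatSheaf) Fj ∧
        Nonempty ((Scheme.Modules.pullback (c.π.app j)).obj Fj ≅ F) := by
  haveI : F.IsQuasicoherent := Groth.Agent.Lib.Helper29.FPDict.isQuasicoherent_of_isFinitePresentation F
  haveI : SheafOfModules.IsFiniteType.{u} (R := c.pt.ringCatSheaf) F :=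
    Groth.Agent.Lib.Helper29.FPDict.isFiniteType_of_isFinitePresentation F
  haveI : IsAffineHom (c.π.app i₀) := isAffineHom_π_app D c hc i₀
  obtain ⟨H, r, hH, hr⟩ := exists_fp_epi_pullback (c.π.app i₀) F
  haveI := hH
  haveI := hr
  obtain ⟨j, φ, Gj, pj, e, hq, hfp, -, -⟩ := exists_quotient_descend D hc i₀ H r
  exact ⟨j, φ, Gj, hq, hfp, ⟨e⟩⟩

end Main

end Groth.Agent.Lib.Helper25.LimModDesc
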