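import Mathlib
import Groth.Agent.Lib.Helper25.LimModDescA

/-!
# helper25 — LimModDescB: two finitely presented modules become isomorphic on the limit iff they do at a stage
(EGA IV 8.5.2.5).
-/

set_option backward.isDefEq.respectTransparency.types false
set_option autoImplicit false
set_option linter.unusedVariables false
set_option linter.style.haveILetI false
set_option linter.unusedSectionVars false
universe u v w
open AlgebraicGeometry CategoryTheory Limits TopologicalSpace Opposite

namespace Groth.Agent.Lib.Helper25.LimModDesc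

open Groth.Agent.Lib.Helper25.ModMapLocal Groth.Agent.Lib.Helper25.LimModMap
  Groth.Agent.Lib.Helper21.FPQuot Groth.Agent.Lib.Helper25.LimHom

variable {I : Type u} [SmallCategory I] [IsCofiltered I]
  (D : I ⥤ Scheme.{u}) {c : Cone D} (hc : IsLimit c)
  [∀ (i j : I) (f : i ⟶ j), IsAffineHom (D.map f)] (i₀ : I)
  [CompactSpace (D.obj i₀)] [QuasiSeparatedSpace (D.obj i₀)]

include hc in
theorem nonempty_iso_pullback_iff_eventually (F₀ G₀ : (D.obj i₀).Modules)
    [SheafOfModules.IsFinitePresentation.{u} (R := (D.obj i₀).ringCatSheaf) F₀]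
    [SheafOfModules.IsFinitePresentation.{u} (R := (D.obj i₀).ringCatSheaf) G₀] :
    Nonempty ((Scheme.Modules.pullback (c.π.app i₀)).obj F₀ ≅ (Scheme.Modules.pullback (c.π.app i₀)).obj G₀) ↔
      ∃ (j : I) (φ : j ⟶ i₀),
        Nonempty ((Scheme.Modules.pullback (D.map φ)).obj F₀ ≅ (Scheme.Modules.pullback (D.map φ)).obj G₀) := by
  haveI : F₀.IsQuasicoherent := Groth.Agent.Lib.Helper29.FPDict.isQuasicoherent_of_isFinitePresentation F₀
  haveI : G₀.IsQuasicoherent := Groth.Agent.Lib.Helper29.FPDict.isQuasicoherent_of_isFinitePresentation G₀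
  haveI : SheafOfModules.IsFiniteType.{u} (R := (D.obj i₀).ringCatSheaf) F₀ :=
    Groth.Agent.Lib.Helper29.FPDict.isFiniteType_of_isFinitePresentation F₀
  constructor
  · rintro ⟨θ⟩
    obtain ⟨j₁, φ₁, u, hu⟩ := exists_hom_descend D hc i₀ θ.hom
    haveI : IsIso ((Scheme.Modules.pullback (c.π.app j₁)).map u) := by
      unfold Theta at hu
      have h1 : (Scheme.Modules.pullback (c.π.app j₁)).map u =
          (compIso (c.π.app j₁) (D.map φ₁) (c.π.app i₀) (c.w φ₁)).hom.app F₀ ≫ θ.hom ≫
            (compIso (c.π.app j₁) (D.map φ₁) (c.π.app i₀) (c.w φ₁)).inv.app G₀ := by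
        rw [← hu]
        simp only [Category.assoc, Iso.hom_inv_id_app, Iso.hom_inv_id_app_assoc]
        exact (Category.comp_id _).symm
      rw [h1]
      infer_instance
    haveI : CompactSpace (D.obj j₁) := QuasiCompact.compactSpace_of_compactSpace (D.map φ₁)
    haveI : SheafOfModules.IsFiniteType.{u} (R := (D.obj j₁).ringCatSheaf)
        ((Scheme.Modules.pullback (D.map φ₁)).obj F₀) :=
      Groth.Agent.Lib.Helper17.FinTypePushPull.isFiniteType_pullback (D.map φ₁) F₀
    haveI : SheafOfModules.IsFinitePresentation.{u} (R := (D.obj j₁).ringCatSheaf)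
        ((Scheme.Modules.pullback (D.map φ₁)).obj G₀) := isFP_pullback (D.map φ₁) G₀
    obtain ⟨j, φ', hiso⟩ := (isIso_pullback_map_iff_eventually D hc (i₀ := j₁) u).1 inferInstance
    haveI := hiso
    have w₁ : D.map φ' ≫ D.map φ₁ = D.map (φ' ≫ φ₁) := (D.map_comp φ' φ₁).symm
    let Cj := compIso (D.map φ') (D.map φ₁) (D.map (φ' ≫ φ₁)) w₁
    exact ⟨j, φ' ≫ φ₁, ⟨(Cj.app F₀).symm ≪≫ asIso ((Scheme.Modules.pullback (D.map φ')).map u) ≪≫
      Cj.app G₀⟩⟩
  · rintro ⟨j, φ, ⟨θ⟩⟩
    let C := compIso (c.π.app j) (D.map φ) (c.π.app i₀) (c.w φ)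
    exact ⟨(C.app F₀).symm ≪≫ (Scheme.Modules.pullback (c.π.app j)).mapIso θ ≪≫ C.app G₀⟩

end Groth.Agent.Lib.Helper25.LimModDesc
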