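import Mathlib
import Groth.Agent.Lib.Helper25.LimModDescB
import Groth.Agent.Lib.Helper25.UnitDense
import Groth.Agent.Lib.Helper16.RS6

/-!
# helper25 — InvDescA: an invertible module on a cofiltered limit of qcqs schemes with affine transition maps,
pulled back from a finitely presented module on a stage, is already invertible at a later stage (EGA IV 8.5.5 in rank one).
-/

set_option backward.isDefEq.respectTransparency.types false
set_option autoImplicit false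
set_option linter.unusedVariables false
set_option linter.style.haveILetI false
set_option linter.unusedSectionVars false
universe u
open AlgebraicGeometry CategoryTheory Limits TopologicalSpace Opposite

namespace Groth.Agent.Lib.Helper25.InvDesc

open Groth.Agent.Lib.Helper25.ModMapLocal Groth.Agent.Lib.Helper16.RS
  Groth.Agent.Lib.Helper21.FPQuot Groth.Agent.Lib.Helper25.LimModDesc

section TrivOn

variable {X Y U U' : Scheme.{u}}

/-- `M` becomes trivial after pullback along `j` -/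
def TrivOn (M : X.Modules) (j : U ⟶ X) : Prop :=
  Nonempty ((Scheme.Modules.pullback j).obj M ≅ Coh.structureModule U)

theorem TrivOn.precomp {M : X.Modules} {j : U ⟶ X} (h : TrivOn M j) (g : U' ⟶ U) :
    TrivOn M (g ≫ j) := by
  obtain ⟨e⟩ := h
  exact ⟨((compIso g j (g ≫ j) rfl).app M).symm ≪≫ (Scheme.Modules.pullback g).mapIso e ≪≫
    pullbackUnitIso g⟩

theorem trivOn_pullback_iff (f : X ⟶ Y) (M : Y.Modules) (j : U ⟶ X) :
    TrivOn ((Scheme.Modules.pullback f).obj M) j ↔ TrivOn M (j ≫ f) :=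
  ⟨fun ⟨e⟩ => ⟨((compIso j f _ rfl).app M).symm ≪≫ e⟩, fun ⟨e⟩ => ⟨(compIso j f _ rfl).app M ≪≫ e⟩⟩

theorem TrivOn.of_eq {M : X.Modules} {j j' : U ⟶ X} (h : j = j') (hj : TrivOn M j) : TrivOn M j' := by
  subst h; exact hj

theorem TrivOn.of_iso {M M' : X.Modules} (e : M ≅ M') {j : U ⟶ X} (hj : TrivOn M j) : TrivOn M' j := by
  obtain ⟨e'⟩ := hj
  exact ⟨(Scheme.Modules.pullback j).mapIso e.symm ≪≫ e'⟩

/-- transport of triviality along a commutative square -/
theorem TrivOn.of_square {M : Y.Modules} {j : U ⟶ Y} (hj : TrivOn M j) (f : X ⟶ Y) (j' : U' ⟶ X)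
    (g : U' ⟶ U) (w : j' ≫ f = g ≫ j) : TrivOn ((Scheme.Modules.pullback f).obj M) j' :=
  (trivOn_pullback_iff f M j').2 ((hj.precomp g).of_eq w.symm)

theorem isInvertible_of_trivOn_cover (L : X.Modules)
    (h : ∀ x : X, ∃ V : X.Opens, x ∈ V ∧ TrivOn L V.ι) : PicF.IsInvertible L := fun x => by
  obtain ⟨V, hx, ⟨e⟩⟩ := h x
  exact ⟨V, hx, ⟨(Scheme.Modules.restrictFunctorIsoPullback V.ι).app L ≪≫ e⟩⟩

theorem exists_trivOn_of_isInvertible {L : X.Modules} (hL : PicF.IsInvertible L) (x : X) :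
    ∃ V : X.Opens, x ∈ V ∧ TrivOn L V.ι := by
  obtain ⟨V, hx, ⟨e⟩⟩ := hL x
  exact ⟨V, hx, ⟨((Scheme.Modules.restrictFunctorIsoPullback V.ι).app L).symm ≪≫ e⟩⟩

end TrivOn

section Main

variable {I : Type u} [SmallCategory I] [IsCofiltered I]
  (D : I ⥤ Scheme.{u}) {c : Cone D} (hc : IsLimit c)
  [∀ (i j : I) (f : i ⟶ j), IsAffineHom (D.map f)]

include hc in
set_option maxHeartbeats 1000000 in
/-- local step: triviality near a point descends to a stage -/
theorem exists_stage_trivOn (i₀ : I) (F₀ : (D.obj i₀).Modules)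
    [SheafOfModules.IsFinitePresentation.{u} (R := (D.obj i₀).ringCatSheaf) F₀]
    (hinv : PicF.IsInvertible ((Scheme.Modules.pullback (c.π.app i₀)).obj F₀)) (x : c.pt) :
    ∃ (k : I) (ψ : k ⟶ i₀) (V : (D.obj k).Opens), c.π.app k x ∈ V ∧
      TrivOn ((Scheme.Modules.pullback (D.map ψ)).obj F₀) V.ι := by
  haveI hD : ∀ {i j : I} (f : i ⟶ j), IsAffineHom (D.map f) := fun f => inferInstance
  obtain ⟨W, hxW, hW⟩ := exists_trivOn_of_isInvertible hinv x
  obtain ⟨_, ⟨i, V₁, hV₁, rfl⟩, hxV₁, hV₁W⟩ :=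
    Opens.isBasis_iff_nbhd.mp (isBasis_preimage_isAffineOpen D c hc) hxW
  -- a common stage `j`
  let j : I := IsCofiltered.min i i₀
  let a : j ⟶ i := IsCofiltered.minToLeft i i₀
  let b : j ⟶ i₀ := IsCofiltered.minToRight i i₀
  let V : (D.obj j).Opens := D.map a ⁻¹ᵁ V₁
  have hV : IsAffineOpen V := hV₁.preimage (D.map a)
  have hpre : c.π.app j ⁻¹ᵁ V = c.π.app i ⁻¹ᵁ V₁ := by
    rw [← Scheme.Hom.comp_preimage, c.w]
  let W' : c.pt.Opens := c.π.app j ⁻¹ᵁ V
  have hW'W : W' ≤ W := by rw [show W' = c.π.app i ⁻¹ᵁ V₁ from hpre]; exact hV₁W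
  have hxW' : x ∈ W' := by rw [show W' = c.π.app i ⁻¹ᵁ V₁ from hpre]; exact hxV₁
  -- triviality on `W'`
  have hW' : TrivOn ((Scheme.Modules.pullback (c.π.app i₀)).obj F₀) W'.ι :=
    (hW.precomp (c.pt.homOfLE hW'W)).of_eq (c.pt.homOfLE_ι hW'W)
  let Fj : (D.obj j).Modules := (Scheme.Modules.pullback (D.map b)).obj F₀
  haveI hFj : SheafOfModules.IsFinitePresentation.{u} (R := (D.obj j).ringCatSheaf) Fj :=
    isFP_pullback (D.map b) F₀
  have hW'j : TrivOn Fj (W'.ι ≫ c.π.app j) := by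
    rw [← trivOn_pullback_iff]
    exact hW'.of_iso ((compIso (c.π.app j) (D.map b) (c.π.app i₀) (c.w b)).app F₀).symm
  -- the restricted tower
  let t : Over j := Over.mk (𝟙 j)
  let ιt : (opensDiagram D j V).obj t ⟶ D.obj j := (D.map t.hom ⁻¹ᵁ V).ι
  haveI : IsAffine ((opensDiagram D j V).obj t) := hV.preimage (D.map t.hom)
  let F₀' : ((opensDiagram D j V).obj t).Modules := (Scheme.Modules.pullback ιt).obj Fj
  let G₀' : ((opensDiagram D j V).obj t).Modules := Coh.structureModule _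
  haveI : SheafOfModules.IsFinitePresentation.{u}
      (R := ((opensDiagram D j V).obj t).ringCatSheaf) F₀' := isFP_pullback ιt Fj
  haveI : SheafOfModules.IsFinitePresentation.{u}
      (R := ((opensDiagram D j V).obj t).ringCatSheaf) G₀' :=
    Groth.Agent.Lib.Helper25.UnitDense.isFinitePresentation_structureModule _
  have hπt : (opensCone D c j V).π.app t ≫ ιt = W'.ι ≫ c.π.app j :=
    Scheme.Hom.resLE_comp_ι _ _
  have hlim : Nonempty ((Scheme.Modules.pullback ((opensCone D c j V).π.app t)).obj F₀' ≅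
      (Scheme.Modules.pullback ((opensCone D c j V).π.app t)).obj G₀') := by
    have h1 : TrivOn F₀' ((opensCone D c j V).π.app t) := by
      rw [trivOn_pullback_iff]
      exact hW'j.of_eq hπt.symm
    obtain ⟨e⟩ := h1
    exact ⟨e ≪≫ (pullbackUnitIso _).symm⟩
  haveI : ∀ (n n' : Over j) (f : n ⟶ n'), IsAffineHom ((opensDiagram D j V).map f) :=
    fun _ _ f => inferInstance
  obtain ⟨n, φ, ⟨e⟩⟩ := (nonempty_iso_pullback_iff_eventually (opensDiagram D j V)
    (isLimitOpensCone D c hc j V) t F₀' G₀').1 hlim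
  -- back to the original tower
  let Vn : (D.obj n.left).Opens := D.map n.hom ⁻¹ᵁ V
  have hsq : (opensDiagram D j V).map φ ≫ ιt = Vn.ι ≫ D.map φ.left :=
    Scheme.Hom.resLE_comp_ι _ _
  have h2 : TrivOn F₀' ((opensDiagram D j V).map φ) := ⟨e ≪≫ pullbackUnitIso _⟩
  have h3 : TrivOn Fj (Vn.ι ≫ D.map φ.left) := by
    have := (trivOn_pullback_iff ιt Fj ((opensDiagram D j V).map φ)).1 h2
    exact this.of_eq hsq
  have h4 : TrivOn ((Scheme.Modules.pullback (D.map φ.left)).obj Fj) Vn.ι :=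
    (trivOn_pullback_iff _ _ _).2 h3
  have h5 : TrivOn ((Scheme.Modules.pullback (D.map (φ.left ≫ b))).obj F₀) Vn.ι :=
    h4.of_iso ((compIso (D.map φ.left) (D.map b) (D.map (φ.left ≫ b)) (D.map_comp _ _).symm).app F₀)
  refine ⟨n.left, φ.left ≫ b, Vn, ?_, h5⟩
  change (c.π.app n.left ≫ D.map n.hom) x ∈ V
  rw [c.w]
  exact hxW'

/-- transport of triviality to a later stage -/
theorem trivOn_of_map {k n i₀ : I} (ψ : k ⟶ i₀) (g : n ⟶ k) (χ : n ⟶ i₀) (w : g ≫ ψ = χ)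
    (F₀ : (D.obj i₀).Modules) (V : (D.obj k).Opens)
    (h : TrivOn ((Scheme.Modules.pullback (D.map ψ)).obj F₀) V.ι) :
    TrivOn ((Scheme.Modules.pullback (D.map χ)).obj F₀) (D.map g ⁻¹ᵁ V).ι := by
  have h1 := h.of_square (D.map g) (D.map g ⁻¹ᵁ V).ι ((D.map g).resLE V (D.map g ⁻¹ᵁ V) le_rfl)
    (Scheme.Hom.resLE_comp_ι _ _).symm
  exact h1.of_iso ((compIso (D.map g) (D.map ψ) (D.map χ) (by rw [← D.map_comp, w])).app F₀)

include hc in
set_option maxHeartbeats 1000000 in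
/-- **EGA IV 8.5.5 (rank one)**: invertibility at the limit holds at a stage. -/
theorem exists_stage_isInvertible [∀ i, CompactSpace (D.obj i)] (i₀ : I) (F₀ : (D.obj i₀).Modules)
    [SheafOfModules.IsFinitePresentation.{u} (R := (D.obj i₀).ringCatSheaf) F₀]
    (hinv : PicF.IsInvertible ((Scheme.Modules.pullback (c.π.app i₀)).obj F₀)) :
    ∃ (j : I) (φ : j ⟶ i₀), PicF.IsInvertible ((Scheme.Modules.pullback (D.map φ)).obj F₀) := by
  classical
  haveI hD : ∀ {i j : I} (f : i ⟶ j), IsAffineHom (D.map f) := fun f => inferInstance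
  haveI : CompactSpace c.pt := Scheme.compactSpace_of_isLimit D c hc
  choose k ψ V hxV hV using exists_stage_trivOn D hc i₀ F₀ hinv
  obtain ⟨t, ht⟩ := isCompact_univ.elim_finite_subcover
    (fun x : c.pt => ((c.π.app (k x) ⁻¹ᵁ V x : c.pt.Opens) : Set c.pt))
    (fun x => (c.π.app (k x) ⁻¹ᵁ V x).isOpen)
    (fun x _ => Set.mem_iUnion.mpr ⟨x, hxV x⟩)
  obtain ⟨n, hn⟩ := Groth.Agent.Lib.Helper25.LimModMap.exists_common_stage (i₀ := i₀)
    (fun (x : {x // x ∈ t}) (n' : Over i₀) => ∃ V' : (D.obj n'.left).Opens,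
      c.π.app n'.left ⁻¹ᵁ V' = c.π.app (k x.1) ⁻¹ᵁ V x.1 ∧
      TrivOn ((Scheme.Modules.pullback (D.map n'.hom)).obj F₀) V'.ι)
    (fun x => ⟨Over.mk (ψ x.1), fun n' g => ⟨D.map g.left ⁻¹ᵁ V x.1, by
      rw [← Scheme.Hom.comp_preimage, c.w]; rfl,
      trivOn_of_map D (ψ x.1) g.left n'.hom (Over.w g) F₀ (V x.1) (hV x.1)⟩⟩)
  choose V' hV'1 hV'2 using hn
  let U : (D.obj n.left).Opens := ⨆ x : {x // x ∈ t}, V' x
  have hU : c.π.app n.left ⁻¹ᵁ U = ⊤ := by
    rw [eq_top_iff]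
    intro y _
    obtain ⟨x, hx⟩ := Set.mem_iUnion.mp (ht (Set.mem_univ y))
    obtain ⟨hxt, hy⟩ := Set.mem_iUnion.mp hx
    have hy' : y ∈ c.π.app n.left ⁻¹ᵁ V' ⟨x, hxt⟩ := by rw [hV'1 ⟨x, hxt⟩]; exact hy
    exact Opens.mem_iSup.mpr ⟨⟨x, hxt⟩, hy'⟩
  obtain ⟨m, f, hf⟩ := exists_map_eq_top D c hc U hU
  refine ⟨m, f ≫ n.hom, isInvertible_of_trivOn_cover _ (fun y => ?_)⟩
  have hy : D.map f y ∈ U := by
    have : y ∈ D.map f ⁻¹ᵁ U := by rw [hf]; trivial
    exact this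
  obtain ⟨x, hx⟩ := Opens.mem_iSup.mp hy
  exact ⟨D.map f ⁻¹ᵁ V' x, hx, trivOn_of_map D n.hom f (f ≫ n.hom) rfl F₀ (V' x) (hV'2 x)⟩

end Main

end Groth.Agent.Lib.Helper25.InvDesc
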