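import Mathlib
import Groth.Agent.Lib.Helper28.InvQC
import Groth.Agent.Lib.Helper29.FPDict

/-!
# helper25 — RelGenC: invertible modules are of finite presentation.
-/

set_option backward.isDefEq.respectTransparency.types false
set_option autoImplicit false
set_option linter.unusedVariables false
set_option linter.style.haveILetI false
set_option linter.unusedSectionVars false
universe u
open AlgebraicGeometry CategoryTheory Limits TopologicalSpace Opposite

namespace Groth.Agent.Lib.Helper25.RelGen

open Groth.Agent.Lib.Helper28 Groth.Agent.Lib.Helper28.QCohLoc Groth.Agent.Lib.Helper28.GenLocus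

/-- **invertible modules are of finite presentation** -/
theorem isFinitePresentation_of_isInvertible {X : Scheme.{u}} (L : X.Modules) (hL : PicF.IsInvertible L) :
    SheafOfModules.IsFinitePresentation.{u} (R := X.ringCatSheaf) L := by
  haveI : L.IsQuasicoherent := Groth.Agent.Lib.Helper28.InvQC.isQuasicoherent_of_isInvertible L hL
  have h : ∀ x : X, ∃ V : X.Opens, x ∈ V ∧ IsAffineOpen V ∧ ∃ g : Γ(L, V), IsGen L V g := by
    intro x
    obtain ⟨U, g, hxU, hg⟩ := exists_isGen L hL x
    obtain ⟨_, ⟨V, hV, rfl⟩, hxV, hVU⟩ := X.isBasis_affineOpens.exists_subset_of_mem_open hxU U.isOpen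
    exact ⟨V, hxV, hV, res L (show V ≤ U from hVU) g, hg.res _⟩
  choose V hxV hV g hg using h
  refine Groth.Agent.Lib.Helper29.FPDict.isFinitePresentation_of_fp_cover L V
    (IsOpenCover.mk (eq_top_iff.2 fun x _ => Opens.mem_iSup.2 ⟨x, hxV x⟩)) hV (fun x => ?_)
  have hbij : Function.Bijective (LinearMap.toSpanSingleton Γ(X, V x) Γ(L, V x) (g x)) := by
    have := hg x (V x) le_rfl
    simp only [res_self] at this
    exact this
  exact Module.FinitePresentation.of_equiv (LinearEquiv.ofBijective _ hbij)

end Groth.Agent.Lib.Helper25.RelGen
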