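import Mathlib
import Groth.Agent.Lib.Helper25.AmpleLimC
import Groth.Agent.Lib.Helper25.InvDescA
import Groth.Agent.Lib.Helper25.RelGenC
import Groth.Agent.Lib.Helper28.RestrictGen

/-!
# helper25 — AmpleLimD: existence of a relatively ample module descends to a stage of a cofiltered limit, and the locus
of points with quasi-projective fibre morphism is ind-constructible (EGA IV 8.10.5 (xiv), 9.6.2 (ii))
-/

set_option backward.isDefEq.respectTransparency.types false
set_option autoImplicit false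
set_option linter.unusedVariables false
set_option linter.style.haveILetI false
set_option linter.unusedSectionVars false
universe u
open AlgebraicGeometry CategoryTheory Limits TopologicalSpace Opposite

noncomputable section

namespace Groth.Agent.Lib.Helper25.AmpleLim

open Groth.Agent.Lib.Helper25.ModMapLocal Groth.Agent.Lib.Helper25.FibLocus
  Groth.Agent.Lib.Helper28 Groth.Agent.Lib.Helper28.QCohLoc Groth.Agent.Lib.Helper28.GenLocus
  Groth.Agent.Lib.Helper28.PullbackInv

section General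

/-- a relatively ample module is invertible (after helper28 `AmpleExtTensor2`) -/
theorem isInvertible_of_isRelAmple {X Y : Scheme.{u}} (f : X ⟶ Y) (L : X.Modules)
    (h : RelAmple.IsRelAmple f L) : PicF.IsInvertible L := by
  refine isInvertible_of_isGen L fun x => ?_
  obtain ⟨V, hV, hxV⟩ : ∃ V : Y.Opens, IsAffineOpen V ∧ f x ∈ V := by
    obtain ⟨_, ⟨V, hV, rfl⟩, hyV, -⟩ :=
      Y.isBasis_affineOpens.exists_subset_of_mem_open (Set.mem_univ (f x)) isOpen_univ
    exact ⟨V, hV, hyV⟩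
  obtain ⟨V', γ, hyV', hγ⟩ := exists_isGen (L.restrict (f ⁻¹ᵁ V).ι) (h.2 ⟨V, hV⟩).1 ⟨x, hxV⟩
  exact ⟨(f ⁻¹ᵁ V).ι ''ᵁ V', γ, ⟨⟨x, hxV⟩, hyV', rfl⟩, isGen_of_isGen_restrict L _ γ hγ⟩

variable {X Y X' Y' X₀ Y₀ : Scheme.{u}} (f₀ : X₀ ⟶ Y₀)

/-- transfer of the existence of a relatively ample module between two base changes of the same morphism -/
theorem exists_isRelAmple_transfer (f : X ⟶ Y) (qX : X ⟶ X₀) (qY : Y ⟶ Y₀) (hX : IsPullback qX f f₀ qY)
    (f' : X' ⟶ Y') (qX' : X' ⟶ X₀) (qY' : Y' ⟶ Y₀) (hX' : IsPullback qX' f' f₀ qY')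
    (r : Y' ⟶ Y) (hr : r ≫ qY = qY')
    (h : ∃ M : X.Modules, RelAmple.IsRelAmple f M) :
    ∃ M' : X'.Modules, RelAmple.IsRelAmple f' M' := by
  obtain ⟨M, hM⟩ := h
  haveI := hM.1
  let rX : X' ⟶ X := hX.lift qX' (f' ≫ r) (by rw [Category.assoc, hr]; exact hX'.w)
  have h1 : rX ≫ qX = qX' := hX.lift_fst _ _ _
  have h2 : rX ≫ f = f' ≫ r := hX.lift_snd _ _ _
  have hsq : IsPullback rX f' f r := by
    refine IsPullback.of_right ?_ h2 hX
    rw [h1, hr]
    exact hX'
  exact ⟨_, isRelAmple_of_isPullback f r rX f' hsq _ hM⟩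

end General

section QComp

variable {X Y S : Scheme.{u}} (f : X ⟶ Y) (g : Y ⟶ S)

/-- there is a module which is ample relative to the canonical base change of `f` along `b` -/
def Qp {T : Scheme.{u}} (b : T ⟶ S) : Prop :=
  ∃ M : (pullback (f ≫ g) b).Modules, RelAmple.IsRelAmple (bcMap f g b) M

theorem Qp_baseChange {T T' : Scheme.{u}} (b : T ⟶ S) (e : T' ⟶ T) (b' : T' ⟶ S) (hb : e ≫ b = b')
    (h : Qp f g b) : Qp f g b' :=
  exists_isRelAmple_transfer f (bcMap f g b) (pullback.fst (f ≫ g) b) (pullback.fst g b) (isPullback_bcMap f g b)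
    (bcMap f g b') (pullback.fst (f ≫ g) b') (pullback.fst g b') (isPullback_bcMap f g b')
    (cmp g b e b' hb) (cmp_fst g b e b' hb) h

theorem Qp_comp_iff {T T' : Scheme.{u}} (b : T ⟶ S) (e : T' ⟶ T) (b' : T' ⟶ S) (hb : e ≫ b = b') :
    Qp (bcMap f g b) (pullback.snd g b) e ↔ Qp f g b' := by
  have hsq1 : IsPullback (pullback.fst (bcMap f g b ≫ pullback.snd g b) e ≫ pullback.fst (f ≫ g) b)
      (bcMap (bcMap f g b) (pullback.snd g b) e) f (pullback.fst (pullback.snd g b) e ≫ pullback.fst g b) :=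
    (isPullback_bcMap (bcMap f g b) (pullback.snd g b) e).paste_horiz (isPullback_bcMap f g b)
  let r₁₂ : pullback g b' ⟶ pullback (pullback.snd g b) e :=
    pullback.lift (cmp g b e b' hb) (pullback.snd g b') (cmp_snd g b e b' hb)
  have hr₁₂ : r₁₂ ≫ pullback.fst (pullback.snd g b) e ≫ pullback.fst g b = pullback.fst g b' := by
    rw [← Category.assoc, pullback.lift_fst, cmp_fst]
  let r₂₁ : pullback (pullback.snd g b) e ⟶ pullback g b' :=
    pullback.lift (pullback.fst (pullback.snd g b) e ≫ pullback.fst g b) (pullback.snd (pullback.snd g b) e)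
      (by rw [Category.assoc, pullback.condition, ← hb, ← Category.assoc, pullback.condition, Category.assoc])
  have hr₂₁ : r₂₁ ≫ pullback.fst g b' = pullback.fst (pullback.snd g b) e ≫ pullback.fst g b :=
    pullback.lift_fst _ _ _
  constructor
  · intro h
    exact exists_isRelAmple_transfer f _ _ _ hsq1 _ _ _ (isPullback_bcMap f g b') r₁₂ hr₁₂ h
  · intro h
    exact exists_isRelAmple_transfer f _ _ _ (isPullback_bcMap f g b') _ _ _ hsq1 r₂₁ hr₂₁ h

/-- `P` for a base change of a base change, with a module on the intermediate level -/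
theorem P_comp_iff' {T T' : Scheme.{u}} (b : T ⟶ S) (e : T' ⟶ T) (b' : T' ⟶ S) (hb : e ≫ b = b')
    (L₁ : (pullback (f ≫ g) b).Modules) :
    P (bcMap f g b) (pullback.snd g b) L₁ e ↔
      RelAmple.IsRelAmple (bcMap f g b') ((Scheme.Modules.pullback (cmp (f ≫ g) b e b' hb)).obj L₁) := by
  let r₁₂ : pullback g b' ⟶ pullback (pullback.snd g b) e :=
    pullback.lift (cmp g b e b' hb) (pullback.snd g b') (cmp_snd g b e b' hb)
  have hr₁₂ : r₁₂ ≫ pullback.fst (pullback.snd g b) e = cmp g b e b' hb := pullback.lift_fst _ _ _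
  let r₂₁ : pullback (pullback.snd g b) e ⟶ pullback g b' :=
    pullback.lift (pullback.fst (pullback.snd g b) e ≫ pullback.fst g b) (pullback.snd (pullback.snd g b) e)
      (by rw [Category.assoc, pullback.condition, ← hb, ← Category.assoc, pullback.condition, Category.assoc])
  have hr₂₁ : r₂₁ ≫ cmp g b e b' hb = pullback.fst (pullback.snd g b) e := by
    apply pullback.hom_ext
    · rw [Category.assoc, cmp_fst]; exact pullback.lift_fst _ _ _
    · rw [Category.assoc, cmp_snd, ← Category.assoc, pullback.lift_snd]; exact pullback.condition.symm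
  constructor
  · intro h
    exact isRelAmple_transfer (bcMap f g b) L₁ _ _ _ (isPullback_bcMap (bcMap f g b) (pullback.snd g b) e)
      _ _ _ (isPullback_bcMap_cmp f g b e b' hb) r₁₂ hr₁₂ h
  · intro h
    exact isRelAmple_transfer (bcMap f g b) L₁ _ _ _ (isPullback_bcMap_cmp f g b e b' hb)
      _ _ _ (isPullback_bcMap (bcMap f g b) (pullback.snd g b) e) r₂₁ hr₂₁ h

end QComp

section Limit

open Groth.Agent.Lib.Helper22 Groth.Agent.Lib.Helper25.LimModDesc Groth.Agent.Lib.Helper25.InvDesc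

variable {I : Type u} [SmallCategory I] [IsCofiltered I]
  (D : I ⥤ Scheme.{u}) {c : Cone D} (hc : IsLimit c)
  [∀ (i j : I) (f : i ⟶ j), IsAffineHom (D.map f)] (i₀ : I)
  [CompactSpace (D.obj i₀)] [QuasiSeparatedSpace (D.obj i₀)]
  {X₀ Y₀ : Scheme.{u}} (f₀ : X₀ ⟶ Y₀) (g₀ : Y₀ ⟶ D.obj i₀)
  [QuasiCompact g₀] [QuasiSeparated g₀] [QuasiCompact (f₀ ≫ g₀)] [QuasiSeparated (f₀ ≫ g₀)]

include hc in
set_option maxHeartbeats 1600000 in
/-- **EGA IV 8.10.5 (xiv)** (existence of a relatively ample module descends to a stage) -/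
theorem exists_stage_Q (h : Qp f₀ g₀ (c.π.app i₀)) : ∃ (j : I) (φ : j ⟶ i₀), Qp f₀ g₀ (D.map φ) := by
  obtain ⟨M, hM⟩ := h
  have hMinv : PicF.IsInvertible M := isInvertible_of_isRelAmple _ M hM
  let a : X₀ ⟶ D.obj i₀ := f₀ ≫ g₀
  haveI : CompactSpace X₀ := QuasiCompact.compactSpace_of_compactSpace a
  haveI : QuasiSeparatedSpace X₀ := quasiSeparatedSpace_of_quasiSeparated a
  let E := bcDiag D i₀ a
  let eC := bcCone D c i₀ a
  have hE : IsLimit eC := bcIsLimit D hc i₀ a
  haveI hEaff : ∀ (m m' : Over i₀) (φ : m ⟶ m'), IsAffineHom (E.map φ) := fun _ _ φ => inferInstance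
  haveI hcomp : ∀ m : Over i₀, CompactSpace (E.obj m) := fun m => inferInstance
  haveI hqs : ∀ m : Over i₀, QuasiSeparatedSpace (E.obj m) := fun m => by
    haveI : IsAffineHom (pullback.snd (D.map m.hom) a) :=
      MorphismProperty.pullback_snd (P := @IsAffineHom) _ _ inferInstance
    exact quasiSeparatedSpace_of_quasiSeparated (pullback.snd (D.map m.hom) a)
  let σL : pullback (c.π.app i₀) a ≅ pullback a (c.π.app i₀) := pullbackSymmetry _ _
  let M' : eC.pt.Modules := (Scheme.Modules.pullback σL.hom).obj M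
  have hM' : PicF.IsInvertible M' := isInvertible_pullback σL.hom hMinv
  haveI : SheafOfModules.IsFinitePresentation.{u} (R := eC.pt.ringCatSheaf) M' :=
    Groth.Agent.Lib.Helper25.RelGen.isFinitePresentation_of_isInvertible M' hM'
  let tp : Over i₀ := Over.mk (𝟙 i₀)
  obtain ⟨j, φ, Mj, hMjq, hMjfp, ⟨em⟩⟩ := exists_module_descend E hE tp M'
  haveI := hMjfp
  have hinvj : PicF.IsInvertible ((Scheme.Modules.pullback (eC.π.app j)).obj Mj) :=
    AmpleIso.isInvertible_of_iso em.symm hM'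
  obtain ⟨j', φ', hinv'⟩ := exists_stage_isInvertible E hE j Mj hinvj
  let Lj' : (E.obj j').Modules := (Scheme.Modules.pullback (E.map φ')).obj Mj
  let i₁ : I := j'.left
  let φ₁ : i₁ ⟶ i₀ := j'.hom
  let σ₁ : pullback a (D.map φ₁) ≅ pullback (D.map φ₁) a := pullbackSymmetry _ _
  let L₁ : (pullback (f₀ ≫ g₀) (D.map φ₁)).Modules := (Scheme.Modules.pullback σ₁.hom).obj Lj'
  have hL₁ : PicF.IsInvertible L₁ := isInvertible_pullback σ₁.hom hinv'
  -- the comparison of the two routes from the limit to the stage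
  have hcomm : cmp a (D.map φ₁) (c.π.app i₁) (c.π.app i₀) (c.w φ₁) ≫ σ₁.hom = σL.inv ≫ eC.π.app j' := by
    have hA1 : (cmp a (D.map φ₁) (c.π.app i₁) (c.π.app i₀) (c.w φ₁) ≫ σ₁.hom) ≫ pullback.fst (D.map φ₁) a =
        pullback.snd a (c.π.app i₀) ≫ c.π.app i₁ :=
      (Category.assoc _ _ _).trans ((congrArg (fun t => cmp a (D.map φ₁) (c.π.app i₁) (c.π.app i₀) (c.w φ₁) ≫ t)
        (pullbackSymmetry_hom_comp_fst a (D.map φ₁))).trans (cmp_snd a (D.map φ₁) _ _ (c.w φ₁)))
    have hB1 : (σL.inv ≫ eC.π.app j') ≫ pullback.fst (D.map φ₁) a =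
        pullback.snd a (c.π.app i₀) ≫ c.π.app i₁ :=
      (Category.assoc _ _ _).trans ((congrArg (fun t => σL.inv ≫ t) (bcCone_π_fst D c i₀ a j')).trans
        ((Category.assoc _ _ _).symm.trans
          (congrArg (fun t => t ≫ c.π.app i₁) (pullbackSymmetry_inv_comp_fst (c.π.app i₀) a))))
    have hA2 : (cmp a (D.map φ₁) (c.π.app i₁) (c.π.app i₀) (c.w φ₁) ≫ σ₁.hom) ≫ pullback.snd (D.map φ₁) a =
        pullback.fst a (c.π.app i₀) :=
      (Category.assoc _ _ _).trans ((congrArg (fun t => cmp a (D.map φ₁) (c.π.app i₁) (c.π.app i₀) (c.w φ₁) ≫ t)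
        (pullbackSymmetry_hom_comp_snd a (D.map φ₁))).trans (cmp_fst a (D.map φ₁) _ _ (c.w φ₁)))
    have hB2 : (σL.inv ≫ eC.π.app j') ≫ pullback.snd (D.map φ₁) a = pullback.fst a (c.π.app i₀) :=
      (Category.assoc _ _ _).trans ((congrArg (fun t => σL.inv ≫ t) (bcCone_π_snd D c i₀ a j')).trans
        (pullbackSymmetry_inv_comp_snd (c.π.app i₀) a))
    exact pullback.hom_ext (hA1.trans hB1.symm) (hA2.trans hB2.symm)
  have hw : eC.π.app j' ≫ E.map φ' = eC.π.app j := eC.w φ'
  let eN : (Scheme.Modules.pullback (cmp a (D.map φ₁) (c.π.app i₁) (c.π.app i₀) (c.w φ₁))).obj L₁ ≅ M :=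
    (compIso _ σ₁.hom _ hcomm).app Lj' ≪≫
    ((compIso σL.inv (eC.π.app j') _ rfl).app Lj').symm ≪≫
    (Scheme.Modules.pullback σL.inv).mapIso ((compIso (eC.π.app j') (E.map φ') (eC.π.app j) hw).app Mj ≪≫ em) ≪≫
    (compIso σL.inv σL.hom (𝟙 _) σL.inv_hom_id).app M ≪≫ (Scheme.Modules.pullbackId _).app M
  have hP : P (bcMap f₀ g₀ (D.map φ₁)) (pullback.snd g₀ (D.map φ₁)) L₁ (c.π.app i₁) :=
    (P_comp_iff' f₀ g₀ (D.map φ₁) (c.π.app i₁) (c.π.app i₀) (c.w φ₁) L₁).2
      (isRelAmple_of_iso _ eN.symm hM)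
  -- instances at the stage `i₁`
  haveI : QuasiCompact (bcMap f₀ g₀ (D.map φ₁) ≫ pullback.snd g₀ (D.map φ₁)) := by
    rw [bcMap_snd]; infer_instance
  haveI : QuasiSeparated (bcMap f₀ g₀ (D.map φ₁) ≫ pullback.snd g₀ (D.map φ₁)) := by
    rw [bcMap_snd]; infer_instance
  haveI : CompactSpace (D.obj i₁) := QuasiCompact.compactSpace_of_compactSpace (D.map φ₁)
  haveI : CompactSpace ↥(pullback g₀ (D.map φ₁)) :=
    QuasiCompact.compactSpace_of_compactSpace (pullback.snd g₀ (D.map φ₁))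
  haveI : QuasiCompact (bcMap f₀ g₀ (D.map φ₁)) := QuasiCompact.of_comp _ (pullback.snd g₀ (D.map φ₁))
  haveI : QuasiSeparated (bcMap f₀ g₀ (D.map φ₁)) := QuasiSeparated.of_comp _ (pullback.snd g₀ (D.map φ₁))
  obtain ⟨k, ψ, hk⟩ := exists_stage_P D hc i₁ (bcMap f₀ g₀ (D.map φ₁)) (pullback.snd g₀ (D.map φ₁)) L₁ hL₁ hP
  have hk' := (P_comp_iff' f₀ g₀ (D.map φ₁) (D.map ψ) (D.map (ψ ≫ φ₁)) (D.map_comp ψ φ₁).symm L₁).1 hk
  exact ⟨k, ψ ≫ φ₁, _, hk'⟩

end Limit

section Main

variable {X Y S : Scheme.{u}} (f : X ⟶ Y) (g : Y ⟶ S)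

theorem Qp_fromSpecResidueField_of_stage {Z : Scheme.{u}} (j : Z ⟶ S) [IsPreimmersion j]
    (h : Qp f g j) (z : Z) : Qp f g (S.fromSpecResidueField (j z)) := by
  obtain ⟨e, he⟩ := exists_fac_fromSpecResidueField j z
  exact Qp_baseChange f g j e _ he h

set_option maxHeartbeats 1600000 in
theorem exists_stage_of_fibre_Qp
    [LocallyOfFinitePresentation g] [QuasiCompact g] [QuasiSeparated g]
    [LocallyOfFinitePresentation (f ≫ g)] [QuasiCompact (f ≫ g)] [QuasiSeparated (f ≫ g)]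
    (s : S) (hs : Qp f g (S.fromSpecResidueField s)) :
    ∃ (Z : Scheme.{u}) (j : Z ⟶ S), LocallyOfFinitePresentation j ∧ IsPreimmersion j ∧
      s ∈ Set.range j ∧ Qp f g j := by
  obtain ⟨U, hU, hsU, -⟩ := exists_isAffineOpen_mem_and_subset (X := S) (x := s) (U := ⊤) (by simp)
  letI : Algebra Γ(S, U) (S.residueField s) := (S.evaluation U s hsU).hom.toAlgebra
  have hK : ∀ x : S.residueField s, ∃ a t : Γ(S, U),
      algebraMap Γ(S, U) (S.residueField s) t ≠ 0 ∧
        x * algebraMap Γ(S, U) (S.residueField s) t = algebraMap Γ(S, U) (S.residueField s) a :=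
    exists_fraction hU s hsU
  let ι : Spec (CommRingCat.of Γ(S, U)) ⟶ S := hU.fromSpec
  haveI : IsOpenImmersion ι := inferInstanceAs (IsOpenImmersion hU.fromSpec)
  have hτ : ResLim.specτ Γ(S, U) (S.residueField s) ≫ ι = S.fromSpecResidueField s := by
    have h1 : Spec.map (S.evaluation U s hsU) ≫ hU.fromSpec = S.fromSpecResidueField s := by
      rw [← Scheme.germ_residue, Spec.map_comp, Category.assoc]
      change _ ≫ hU.fromSpecStalk hsU = _
      rw [hU.fromSpecStalk_eq_fromSpecStalk]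
      rfl
    exact h1
  let tS : ∀ σ, (ResLim.specDiag Γ(S, U) (S.residueField s)).obj σ ⟶ S :=
    fun σ => ResLim.specStr Γ(S, U) (S.residueField s) σ ≫ ι
  have htS_map : ∀ {σ τ : (Finset Γ(S, U))ᵒᵖ} (a : σ ⟶ τ),
      (ResLim.specDiag Γ(S, U) (S.residueField s)).map a ≫ tS τ = tS σ :=
    fun a => by simp only [tS]; rw [← Category.assoc, ResLim.specDiag_map_str]
  have hcS : ∀ σ, (ResLim.specCone Γ(S, U) (S.residueField s)).π.app σ ≫ tS σ =
      S.fromSpecResidueField s :=
    fun σ => by simp only [tS]; rw [← Category.assoc, ResLim.specCone_π_str, hτ]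
  haveI : ∀ σ, LocallyOfFinitePresentation (tS σ) := fun σ => by simp only [tS]; infer_instance
  haveI : ∀ σ, IsPreimmersion (tS σ) := fun σ => by simp only [tS]; infer_instance
  let i₀ : (Finset Γ(S, U))ᵒᵖ := Opposite.op ∅
  have hb₀ := hcS i₀
  haveI : QuasiCompact (bcMap f g (tS i₀) ≫ pullback.snd g (tS i₀)) := by
    rw [bcMap_snd]; infer_instance
  haveI : QuasiSeparated (bcMap f g (tS i₀) ≫ pullback.snd g (tS i₀)) := by
    rw [bcMap_snd]; infer_instance
  have h0 := (Qp_comp_iff f g (tS i₀) _ _ hb₀).2 hs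
  obtain ⟨i, φ, hi⟩ := exists_stage_Q (ResLim.specDiag Γ(S, U) (S.residueField s))
    (ResLim.specIsLimit Γ(S, U) (S.residueField s) hK) i₀ (bcMap f g (tS i₀)) (pullback.snd g (tS i₀)) h0
  have hi' := (Qp_comp_iff f g (tS i₀) _ _ (htS_map φ)).1 hi
  refine ⟨_, tS i, inferInstance, inferInstance, ?_, hi'⟩
  refine ⟨(ResLim.specCone Γ(S, U) (S.residueField s)).π.app i
    (IsLocalRing.closedPoint (S.residueField s)), ?_⟩
  have h2 : ((ResLim.specCone Γ(S, U) (S.residueField s)).π.app i ≫ tS i)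
      (IsLocalRing.closedPoint (S.residueField s)) = s := by
    rw [hcS i]
    exact Scheme.fromSpecResidueField_apply s _
  exact h2

open Groth.Agent.Lib.Helper25.PC in
theorem isIndConstructible_setOf_fibre_Qp
    [LocallyOfFinitePresentation g] [QuasiCompact g] [QuasiSeparated g]
    [LocallyOfFinitePresentation (f ≫ g)] [QuasiCompact (f ≫ g)] [QuasiSeparated (f ≫ g)] :
    ProCons.IsIndConstructible {s : S | Qp f g (S.fromSpecResidueField s)} := by
  rw [isInd_iff]
  have key : ∀ s : {s : S | Qp f g (S.fromSpecResidueField s)},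
      ∃ T : Set S, IndC T ∧ s.1 ∈ T ∧ T ⊆ {s : S | Qp f g (S.fromSpecResidueField s)} := by
    rintro ⟨s, hs⟩
    obtain ⟨Z, j, hj1, hj2, hsj, hQj⟩ := exists_stage_of_fibre_Qp f g s hs
    refine ⟨Set.range j, indC_range j, hsj, ?_⟩
    rintro _ ⟨z, rfl⟩
    exact Qp_fromSpecResidueField_of_stage f g j hQj z
  choose T hT1 hT2 hT3 using key
  have hE : {s : S | Qp f g (S.fromSpecResidueField s)} = ⋃ s, T s := by
    apply Set.Subset.antisymm
    · intro s hs
      exact Set.mem_iUnion.mpr ⟨⟨s, hs⟩, hT2 ⟨s, hs⟩⟩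
    · exact Set.iUnion_subset hT3
  rw [hE]
  intro V hV
  rw [Set.preimage_iUnion]
  exact isPO_iUnion fun s => hT1 s V hV

/-- **EGA IV 9.6.2 (ii)**: the locus of points whose fibre morphism is quasi-projective is ind-constructible -/
theorem isIndConstructible_setOf_fibre_isQuasiProjective
    [LocallyOfFinitePresentation g] [QuasiCompact g] [QuasiSeparated g]
    [LocallyOfFinitePresentation (f ≫ g)] [QuasiCompact (f ≫ g)] [QuasiSeparated (f ≫ g)] :
    ProCons.IsIndConstructible {s : S | RelProj.IsQuasiProjective (bcMap f g (S.fromSpecResidueField s))} := by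
  have h := isIndConstructible_setOf_fibre_Qp f g
  have hE : {s : S | RelProj.IsQuasiProjective (bcMap f g (S.fromSpecResidueField s))} =
      {s : S | Qp f g (S.fromSpecResidueField s)} := by
    ext s
    constructor
    · rintro ⟨-, -, h3⟩; exact h3
    · intro h3
      haveI : LocallyOfFiniteType (bcMap f g (S.fromSpecResidueField s) ≫
          pullback.snd g (S.fromSpecResidueField s)) := by rw [bcMap_snd]; infer_instance
      haveI : QuasiCompact (bcMap f g (S.fromSpecResidueField s) ≫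
          pullback.snd g (S.fromSpecResidueField s)) := by rw [bcMap_snd]; infer_instance
      exact ⟨locallyOfFiniteType_of_comp _ (pullback.snd g (S.fromSpecResidueField s)),
        QuasiCompact.of_comp _ (pullback.snd g (S.fromSpecResidueField s)), h3⟩
  rw [hE]
  exact h

end Main

end Groth.Agent.Lib.Helper25.AmpleLim
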