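import Mathlib
import Groth.Agent.Lib.Helper25.AmpleLimD
import Groth.Agent.S4418
import Groth.Agent.S12416
import Groth.Agent.S2074

/-!
# helper25 — AmpleLimE: the locus of points whose fibre morphism is projective is ind-constructible
(EGA IV 9.6.2 (iii)): projective = proper + quasi-projective over the (quasi-compact quasi-separated) fibre.
-/

set_option backward.isDefEq.respectTransparency.types false
set_option autoImplicit false
set_option linter.unusedVariables false
set_option linter.style.haveILetI false
set_option linter.unusedSectionVars false
universe u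
open AlgebraicGeometry CategoryTheory Limits TopologicalSpace Opposite

noncomputable section

namespace Groth.Agent.Lib.Helper25.AmpleLim

open Groth.Agent.Lib.Helper25.FibLocus
open Groth.Agent.Lib.Helper25.ConsPair (Descends)

theorem descends_isProper : Descends.{u} @IsProper := by
  intro I _ _ D c hc _ i₀ _ X₀ Y₀ f₀ g₀ _ _ _ _ _ _ _ _ _ _ _ X Y f g qY qX hY hX hf
  haveI : IsProper f := hf
  exact Groth.Agent.S2074.result D c hc i₀ f₀ g₀ f g qY qX hY hX

variable {X Y S : Scheme.{u}} (f : X ⟶ Y) (g : Y ⟶ S)

open Groth.Agent.Lib.Helper25.PC in
theorem isIndConstructible_setOf_fibre_isProjective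
    [LocallyOfFinitePresentation g] [QuasiCompact g] [QuasiSeparated g]
    [LocallyOfFinitePresentation (f ≫ g)] [QuasiCompact (f ≫ g)] [QuasiSeparated (f ≫ g)] :
    ProCons.IsIndConstructible {s : S | RelProj.IsProjective (bcMap f g (S.fromSpecResidueField s))} := by
  have h1 := isIndConstructible_setOf_fibre (@IsProper) descends_isProper f g
  have h2 := isIndConstructible_setOf_fibre_isQuasiProjective f g
  have hE : {s : S | RelProj.IsProjective (bcMap f g (S.fromSpecResidueField s))} =
      {s : S | IsProper (bcMap f g (S.fromSpecResidueField s))} ∩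
        {s : S | RelProj.IsQuasiProjective (bcMap f g (S.fromSpecResidueField s))} := by
    ext s
    constructor
    · intro h
      have := Groth.Agent.S4418.result _ h
      exact ⟨this.2, this.1⟩
    · rintro ⟨hp, hq⟩
      haveI : IsProper (bcMap f g (S.fromSpecResidueField s)) := hp
      haveI : CompactSpace ↥(pullback g (S.fromSpecResidueField s)) :=
        QuasiCompact.compactSpace_of_compactSpace (pullback.snd g (S.fromSpecResidueField s))
      haveI : QuasiSeparatedSpace ↥(pullback g (S.fromSpecResidueField s)) :=
        quasiSeparatedSpace_of_quasiSeparated (pullback.snd g (S.fromSpecResidueField s))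
      exact Groth.Agent.S12416.result _ hq
  rw [hE]
  rw [isInd_iff] at h1 h2 ⊢
  intro V hV
  rw [Set.preimage_inter]
  exact (h1 V hV).inter (h2 V hV)

end Groth.Agent.Lib.Helper25.AmpleLim
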