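import Groth.Prelude.Def_W4c2conddiscmodels
import Groth.Agent.Lib.Helper25.CauchyBinet
import Mathlib

/-!
# Incidence matrices of multigraphs, connectivity and trees (helper25)
-/

set_option autoImplicit false
set_option linter.unusedSectionVars false
universe u
open Finset

namespace Groth.Agent.Lib.Helper25.GraphInc

open LabGraph DualGr

variable {V E : Type u} [Fintype V] [Fintype E] [DecidableEq V] [DecidableEq E]
  (ends : E → V × V)

/-- oriented incidence matrix: head minus tail -/
def inc : Matrix V E ℤ := fun v e =>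
  (if (ends e).2 = v then 1 else 0) - (if (ends e).1 = v then 1 else 0)

theorem inc_apply (v : V) (e : E) :
    inc ends v e = (if (ends e).2 = v then 1 else 0) - (if (ends e).1 = v then 1 else 0) := rfl

/-- column sums vanish -/
theorem sum_inc (e : E) : ∑ v, inc ends v e = 0 := by
  simp [inc_apply, Finset.sum_sub_distrib]

theorem inc_mulVec_single (e : E) (u : V) :
    (inc ends).mulVec (Pi.single e 1) u =
      (if (ends e).2 = u then 1 else 0) - (if (ends e).1 = u then 1 else 0) := by
  simp [Matrix.mulVec, dotProduct, Pi.single_apply, inc_apply]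

/-- reachable vertices are joined by integer 1-chains -/
theorem exists_chain_of_reach (v₀ v : V) (h : Relation.ReflTransGen (Adj ends) v₀ v) :
    ∃ c : E → ℤ, ∀ u, (inc ends).mulVec c u =
      (if u = v then 1 else 0) - (if u = v₀ then 1 else 0) := by
  induction h with
  | refl => exact ⟨0, fun u => by simp⟩
  | tail _ hadj ih =>
    rename_i a b
    obtain ⟨c, hc⟩ := ih
    obtain ⟨e, he | he⟩ := hadj
    · refine ⟨c + Pi.single e 1, fun u => ?_⟩
      rw [Matrix.mulVec_add, Pi.add_apply, hc, inc_mulVec_single, he]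
      simp only [eq_comm (a := u)]
      ring
    · refine ⟨c - Pi.single e 1, fun u => ?_⟩
      rw [Matrix.mulVec_sub, Pi.sub_apply, hc, inc_mulVec_single, he]
      simp only [eq_comm (a := u)]
      ring

/-- reduced incidence matrix: row `v₀` deleted, columns reindexed along `φ`. -/
def incSq (v₀ : V) {ι : Type*} (φ : ι → E) : Matrix {v : V // v ≠ v₀} ι ℤ :=
  fun i j => inc ends i.1 (φ j)

theorem incSq_mulVec (v₀ : V) {ι : Type*} [Fintype ι] (φ : ι ≃ E) (c : E → ℤ)
    (i : {v : V // v ≠ v₀}) :
    (incSq ends v₀ φ).mulVec (fun j => c (φ j)) i = (inc ends).mulVec c i.1 := by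
  simp only [Matrix.mulVec, dotProduct, incSq]
  exact Equiv.sum_comp φ (fun e => inc ends i.1 e * c e)

theorem surj_of_connected (hconn : Connected ends) (v₀ : V) {ι : Type*} [Fintype ι] (φ : ι ≃ E) :
    Function.Surjective (incSq ends v₀ φ).mulVec := by
  intro y
  choose c hc using fun v : {v : V // v ≠ v₀} => exists_chain_of_reach ends v₀ v.1 (hconn.2 v₀ v.1)
  refine ⟨∑ v, y v • (fun j => c v (φ j)), ?_⟩
  funext i
  rw [Matrix.mulVec_sum]
  simp only [Matrix.mulVec_smul, Finset.sum_apply, Pi.smul_apply, incSq_mulVec, hc, smul_eq_mul]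
  have hi : i.1 ≠ v₀ := i.2
  simp only [hi, if_false, sub_zero]
  rw [Finset.sum_eq_single i]
  · simp
  · intro v _ hv
    have : i.1 ≠ v.1 := fun h => hv (Subtype.ext h.symm)
    simp [this]
  · simp

theorem isUnit_det_of_connected (hconn : Connected ends) (v₀ : V)
    (φ : {v : V // v ≠ v₀} ≃ E) : IsUnit (incSq ends v₀ φ).det := by
  obtain ⟨B, hB⟩ := Matrix.mulVec_surjective_iff_exists_right_inverse.mp
    (surj_of_connected ends hconn v₀ φ)
  exact Matrix.isUnit_det_of_right_inverse hB

theorem adj_symm {a b : V} (h : Adj ends a b) : Adj ends b a := by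
  obtain ⟨e, he⟩ := h
  exact ⟨e, he.symm⟩

theorem reach_symm {a b : V} (h : Relation.ReflTransGen (Adj ends) a b) :
    Relation.ReflTransGen (Adj ends) b a := by
  induction h with
  | refl => exact .refl
  | tail _ hadj ih => exact Relation.ReflTransGen.head (adj_symm ends hadj) ih

theorem sum_mul_inc (r : V → ℤ) (e : E) :
    ∑ v, r v * inc ends v e = r (ends e).2 - r (ends e).1 := by
  simp [inc_apply, mul_sub, Finset.sum_sub_distrib]

theorem det_eq_zero_of_not_connected (hne : ¬ Connected ends) (v₀ : V)
    (φ : {v : V // v ≠ v₀} ≃ E) : (incSq ends v₀ φ).det = 0 := by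
  classical
  have hex : ∃ u, ¬ Relation.ReflTransGen (Adj ends) v₀ u := by
    by_contra hcon
    push Not at hcon
    exact hne ⟨⟨v₀⟩, fun v w => (reach_symm ends (hcon v)).trans (hcon w)⟩
  obtain ⟨u, hu⟩ := hex
  have huv : u ≠ v₀ := fun h => hu (h ▸ Relation.ReflTransGen.refl)
  let r' : V → ℤ := fun v => if Relation.ReflTransGen (Adj ends) v₀ v then 0 else 1
  rw [← Matrix.exists_vecMul_eq_zero_iff]
  refine ⟨fun i => r' i.1, ?_, ?_⟩
  · intro h
    have := congrFun h ⟨u, huv⟩
    simp [r', hu] at this
  · funext j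
    simp only [Matrix.vecMul, dotProduct, incSq, Pi.zero_apply]
    have h1 := Fintype.sum_eq_add_sum_subtype_ne (fun v => r' v * inc ends v (φ j)) v₀
    have h0 : r' v₀ = 0 := by simp [r', Relation.ReflTransGen.refl]
    rw [h0, zero_mul, zero_add] at h1
    rw [← h1, sum_mul_inc]
    have hiff : Relation.ReflTransGen (Adj ends) v₀ (ends (φ j)).2 ↔
        Relation.ReflTransGen (Adj ends) v₀ (ends (φ j)).1 := by
      constructor
      · intro h; exact h.tail ⟨φ j, Or.inr rfl⟩
      · intro h; exact h.tail ⟨φ j, Or.inl rfl⟩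
    simp only [r', hiff, sub_self]

theorem card_ne_add_one (v₀ : V) : Fintype.card {v : V // v ≠ v₀} + 1 = Fintype.card V := by
  rw [Fintype.card_subtype_compl, Fintype.card_subtype_eq]
  have : 0 < Fintype.card V := Fintype.card_pos_iff.mpr ⟨v₀⟩
  omega

/-- a nonempty even edge set contains a circuit -/
theorem exists_circuit_of_even (C : Finset E) (hne : C.Nonempty)
    (hev : ∀ v, Even (endCount ends C v)) : ∃ C' ⊆ C, IsCircuit ends C' := by
  induction C using Finset.strongInduction with
  | H C ih =>
    by_cases hmin : ∀ C' : Finset E, C' ⊂ C → C'.Nonempty → ∃ v : V, ¬ Even (endCount ends C' v)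
    · exact ⟨C, subset_rfl, hne, hev, hmin⟩
    · push Not at hmin
      obtain ⟨C', hC', hne', hev'⟩ := hmin
      obtain ⟨C'', hsub, hcirc⟩ := ih C' hC' hne' hev'
      exact ⟨C'', hsub.trans hC'.subset, hcirc⟩

/-- the 1-chain of an edge set has boundary congruent to the end counts mod 2 -/
theorem inc_mulVec_indicator (C : Finset E) (v : V) :
    (inc ends).mulVec (fun e => if e ∈ C then 1 else 0) v =
      (endCount ends C v : ℤ) - 2 * ∑ e ∈ C, (if (ends e).1 = v then 1 else 0) := by
  simp only [Matrix.mulVec, dotProduct, inc_apply, endCount, mul_ite, mul_one, mul_zero]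
  rw [Finset.sum_ite_mem_eq]  
  push_cast
  rw [Finset.mul_sum, ← Finset.sum_sub_distrib]
  refine Finset.sum_congr rfl fun e _ => ?_
  split_ifs <;> ring

/-- connected with `|V| - 1` edges implies forest -/
theorem isForest_of_connected_of_card (hconn : Connected ends)
    (hcard : Fintype.card E + 1 = Fintype.card V) : IsForest ends := by
  obtain ⟨v₀⟩ := hconn.1
  have hc : Fintype.card {v : V // v ≠ v₀} = Fintype.card E := by
    have := card_ne_add_one v₀
    omega
  let φ : {v : V // v ≠ v₀} ≃ E := Fintype.equivOfCardEq hc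
  have hu := isUnit_det_of_connected ends hconn v₀ φ
  intro C hC
  obtain ⟨e, he⟩ := hC.1
  -- the indicator chain
  let c : E → ℤ := fun e => if e ∈ C then 1 else 0
  have hev : ∀ v, ∃ y : ℤ, (inc ends).mulVec c v = 2 * y := by
    intro v
    obtain ⟨k, hk⟩ := hC.2.1 v
    refine ⟨k - ∑ e ∈ C, (if (ends e).1 = v then 1 else 0), ?_⟩
    rw [inc_mulVec_indicator, hk]
    push_cast
    ring
  choose y hy using hev
  have h1 : (incSq ends v₀ φ).mulVec (fun j => c (φ j)) = (2 : ℤ) • fun i : {v : V // v ≠ v₀} => y i.1 := by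
    funext i
    rw [incSq_mulVec, hy]
    simp
  have h2 : (fun j => c (φ j)) =
      (2 : ℤ) • (incSq ends v₀ φ)⁻¹.mulVec (fun i : {v : V // v ≠ v₀} => y i.1) := by
    rw [← Matrix.mulVec_smul, ← h1, Matrix.mulVec_mulVec, Matrix.nonsing_inv_mul _ hu,
      Matrix.one_mulVec]
  have h3 := congrFun h2 (φ.symm e)
  simp only [Equiv.apply_symm_apply, c, he, if_true, Pi.smul_apply, smul_eq_mul] at h3
  omega

theorem sum_endCount (C : Finset E) : ∑ v, endCount ends C v = 2 * C.card := by
  simp only [endCount]
  rw [Finset.sum_comm]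
  simp [Finset.sum_add_distrib]
  omega

/-- mod 2 kernel vectors of the reduced incidence matrix give even sets -/
theorem even_endCount_of_ker (v₀ : V) (c : E → ZMod 2)
    (hc : ∀ v : V, v ≠ v₀ → ∑ e, ((inc ends v e : ℤ) : ZMod 2) * c e = 0) (v : V) :
    Even (endCount ends (Finset.univ.filter fun e => c e ≠ 0) v) := by
  classical
  set C := Finset.univ.filter fun e => c e ≠ 0 with hCdef
  have hcast : ∀ v : V, ((endCount ends C v : ℕ) : ZMod 2) =
      ∑ e, ((inc ends v e : ℤ) : ZMod 2) * c e := by
    intro v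
    simp only [endCount, Nat.cast_sum, Nat.cast_add]
    rw [hCdef, Finset.sum_filter]
    refine Finset.sum_congr rfl fun e _ => ?_
    have hall : ∀ x : ZMod 2, x = 0 ∨ x = 1 := by decide
    have hce : c e = 0 ∨ c e = 1 := hall (c e)
    have h11 : (1 : ZMod 2) + 1 = 0 := by decide
    have hneg : (-1 : ZMod 2) = 1 := by decide
    rcases hce with h | h
    · simp [h]
    · simp only [h, ne_eq, one_ne_zero, not_false_eq_true, if_true, mul_one, inc_apply]
      split_ifs <;> simp [h11, hneg]
  have hne : ∀ v : V, v ≠ v₀ → Even (endCount ends C v) := by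
    intro v hv
    rw [← ZMod.natCast_eq_zero_iff_even, hcast, hc v hv]
  by_cases hv : v = v₀
  · subst hv
    have hsum := sum_endCount ends C
    rw [← Finset.add_sum_erase _ _ (Finset.mem_univ v)] at hsum
    have hrest : Even (∑ x ∈ Finset.univ.erase v, endCount ends C x) := by
      apply Finset.even_sum
      intro x hx
      exact hne x (Finset.mem_erase.mp hx).1
    have htot : Even (2 * C.card) := even_two_mul _
    rw [← hsum] at htot
    exact (Nat.even_add.mp htot).mpr hrest
  · exact hne v hv

/-- a connected forest has `|V| - 1` edges -/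
theorem card_of_isTree (hconn : Connected ends) (hfor : IsForest ends) :
    Fintype.card E + 1 = Fintype.card V := by
  classical
  obtain ⟨v₀⟩ := hconn.1
  have hcard := card_ne_add_one v₀
  -- lower bound from surjectivity over ℤ
  have h1 : Fintype.card {v : V // v ≠ v₀} ≤ Fintype.card E := by
    have hs := surj_of_connected ends hconn v₀ (Equiv.refl E)
    exact card_le_of_surjective ℤ (Matrix.mulVecLin (incSq ends v₀ (Equiv.refl E))) hs
  -- upper bound from injectivity mod 2
  have h2 : Fintype.card E ≤ Fintype.card {v : V // v ≠ v₀} := by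
    let Mbar : Matrix {v : V // v ≠ v₀} E (ZMod 2) := fun i e => ((inc ends i.1 e : ℤ) : ZMod 2)
    refine card_le_of_injective (ZMod 2) (Matrix.mulVecLin Mbar) ?_
    rw [← LinearMap.ker_eq_bot, LinearMap.ker_eq_bot']
    intro c hc
    have hc' : ∀ v : V, v ≠ v₀ → ∑ e, ((inc ends v e : ℤ) : ZMod 2) * c e = 0 := by
      intro v hv
      have := congrFun hc ⟨v, hv⟩
      rw [Matrix.mulVecLin_apply] at this
      exact this
    have hev := even_endCount_of_ker ends v₀ c hc'
    by_contra hne
    have hCne : (Finset.univ.filter fun e => c e ≠ 0).Nonempty := by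
      by_contra hemp
      rw [Finset.not_nonempty_iff_eq_empty, Finset.filter_eq_empty_iff] at hemp
      apply hne
      funext e
      have := hemp (Finset.mem_univ e)
      simpa using this
    obtain ⟨C', -, hcirc⟩ := exists_circuit_of_even ends _ hCne hev
    exact hfor C' hcirc
  omega

/-- characterisation of trees -/
theorem isTree_iff : IsTree ends ↔ Connected ends ∧ Fintype.card E + 1 = Fintype.card V :=
  ⟨fun h => ⟨h.1, card_of_isTree ends h.1 h.2⟩,
    fun h => ⟨h.1, isForest_of_connected_of_card ends h.1 h.2⟩⟩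

end Groth.Agent.Lib.Helper25.GraphInc
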