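import Groth.Prelude.Def_W4c2conddiscmodels
import Groth.Agent.Lib.Helper25.GraphInc
import Mathlib

/-!
# Sub-multigraphs on edge subsets, circuits, forests, spanning trees (helper25)
-/

set_option autoImplicit false
set_option linter.unusedSectionVars false
universe u
open Finset

namespace Groth.Agent.Lib.Helper25.GraphTree

open LabGraph DualGr Groth.Agent.Lib.Helper25.GraphInc

variable {V E : Type u} [Fintype V] [Fintype E] [DecidableEq V] [DecidableEq E]
  (ends : E → V × V)

/-- the sub-multigraph on an edge subset -/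
def sub (S : Finset E) : S → V × V := fun e => ends e.1

theorem endCount_map (S : Finset E) (C' : Finset S) (v : V) :
    endCount (sub ends S) C' v = endCount ends (C'.map (Function.Embedding.subtype _)) v := by
  simp only [endCount, sub, Finset.sum_map]
  rfl

theorem map_subtype_of_subset (S D : Finset E) (h : D ⊆ S) :
    (D.subtype (· ∈ S)).map (Function.Embedding.subtype _) = D := by
  rw [Finset.subtype_map]
  exact Finset.filter_true_of_mem fun x hx => h hx

theorem isCircuit_map (S : Finset E) (C' : Finset S) :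
    IsCircuit (sub ends S) C' ↔ IsCircuit ends (C'.map (Function.Embedding.subtype _)) := by
  have hsubS : ∀ D' : Finset S, D'.map (Function.Embedding.subtype _) ⊆ S := by
    intro D' x hx
    obtain ⟨y, _, rfl⟩ := Finset.mem_map.mp hx
    exact y.2
  constructor
  · rintro ⟨hne, hev, hmin⟩
    refine ⟨hne.map, fun v => by rw [← endCount_map]; exact hev v, ?_⟩
    intro D hD hDne
    have hDS : D ⊆ S := hD.subset.trans (hsubS C')
    have hmapD := map_subtype_of_subset S D hDS
    have hD' : D.subtype (· ∈ S) ⊂ C' := by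
      rw [← Finset.map_ssubset_map (f := Function.Embedding.subtype _), hmapD]
      exact hD
    have hD'ne : (D.subtype (· ∈ S)).Nonempty := by
      rw [← Finset.map_nonempty (f := Function.Embedding.subtype _), hmapD]
      exact hDne
    obtain ⟨v, hv⟩ := hmin _ hD' hD'ne
    refine ⟨v, ?_⟩
    rw [endCount_map, hmapD] at hv
    exact hv
  · rintro ⟨hne, hev, hmin⟩
    refine ⟨Finset.map_nonempty.mp hne, fun v => by rw [endCount_map]; exact hev v, ?_⟩
    intro D' hD' hD'ne
    have h1 : D'.map (Function.Embedding.subtype _) ⊂ C'.map (Function.Embedding.subtype _) :=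
      Finset.map_ssubset_map.mpr hD'
    obtain ⟨v, hv⟩ := hmin _ h1 (hD'ne.map)
    exact ⟨v, by rw [endCount_map]; exact hv⟩

/-- an edge subset without circuits -/
def IsForestSet (S : Finset E) : Prop := ∀ C : Finset E, C ⊆ S → ¬ IsCircuit ends C

theorem isForest_sub_iff (S : Finset E) : IsForest (sub ends S) ↔ IsForestSet ends S := by
  constructor
  · intro h C hCS hC
    apply h (C.subtype (· ∈ S))
    rw [isCircuit_map, map_subtype_of_subset S C hCS]
    exact hC
  · intro h C' hC'
    rw [isCircuit_map] at hC'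
    refine h _ ?_ hC'
    intro x hx
    obtain ⟨y, _, rfl⟩ := Finset.mem_map.mp hx
    exact y.2

theorem adj_sub_mono {S S' : Finset E} (h : S ⊆ S') {a b : V} (hab : Adj (sub ends S) a b) :
    Adj (sub ends S') a b := by
  obtain ⟨e, he⟩ := hab
  exact ⟨⟨e.1, h e.2⟩, he⟩

theorem reach_sub_mono {S S' : Finset E} (h : S ⊆ S') {a b : V}
    (hab : Relation.ReflTransGen (Adj (sub ends S)) a b) :
    Relation.ReflTransGen (Adj (sub ends S')) a b := by
  induction hab with
  | refl => exact .refl
  | tail _ hadj ih => exact ih.tail (adj_sub_mono ends h hadj)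

theorem adj_of_mem {S : Finset E} {e : E} (he : e ∈ S) :
    Adj (sub ends S) (ends e).1 (ends e).2 := ⟨⟨e, he⟩, Or.inl rfl⟩

/-- the endpoints of an edge of a circuit are joined inside the circuit minus that edge -/
theorem reach_of_circuit (C : Finset E) (hC : IsCircuit ends C) (e₀ : E) (he₀ : e₀ ∈ C) :
    Relation.ReflTransGen (Adj (sub ends (C.erase e₀))) (ends e₀).1 (ends e₀).2 := by
  classical
  by_contra hnr
  set a := (ends e₀).1 with ha
  set b := (ends e₀).2 with hb
  set S := C.erase e₀ with hS
  let K : V → Prop := fun v => Relation.ReflTransGen (Adj (sub ends S)) a v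
  have hKa : K a := Relation.ReflTransGen.refl
  have hKb : ¬ K b := hnr
  have hab : a ≠ b := fun h => hKb (h ▸ hKa)
  have hKe : ∀ e ∈ S, (K (ends e).1 ↔ K (ends e).2) := by
    intro e he
    constructor
    · intro h; exact h.tail (adj_of_mem ends he)
    · intro h; exact h.tail (adj_symm _ (adj_of_mem ends he))
  set CK := S.filter (fun e => K (ends e).1) with hCK
  -- end counts of CK
  have hcount : ∀ v, endCount ends CK v = if K v then endCount ends S v else 0 := by
    intro v
    rw [endCount, hCK, Finset.sum_filter]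
    by_cases hv : K v
    · rw [if_pos hv, endCount]
      refine Finset.sum_congr rfl fun e he => ?_
      by_cases hk : K (ends e).1
      · rw [if_pos hk]
      · rw [if_neg hk]
        have h1 : (ends e).1 ≠ v := fun h => hk (h ▸ hv)
        have h2 : (ends e).2 ≠ v := fun h => hk ((hKe e he).mpr (h ▸ hv))
        simp [h1, h2]
    · rw [if_neg hv]
      refine Finset.sum_eq_zero fun e he => ?_
      by_cases hk : K (ends e).1
      · rw [if_pos hk]
        have h1 : (ends e).1 ≠ v := fun h => hv (h ▸ hk)
        have h2 : (ends e).2 ≠ v := fun h => hv (h ▸ (hKe e he).mp hk)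
        simp [h1, h2]
      · rw [if_neg hk]
  have hsplit : ∀ v, endCount ends C v =
      ((if a = v then 1 else 0) + (if b = v then 1 else 0)) + endCount ends S v := by
    intro v
    rw [endCount, endCount, hS, ← Finset.add_sum_erase _ _ he₀]
  have heven : ∀ v, v ≠ a → Even (endCount ends CK v) := by
    intro v hva
    rw [hcount]
    by_cases hv : K v
    · rw [if_pos hv]
      have hvb : b ≠ v := fun h => hKb (h ▸ hv)
      have := hC.2.1 v
      rw [hsplit, if_neg (Ne.symm hva), if_neg hvb] at this
      simpa using this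
    · rw [if_neg hv]; exact Even.zero
  have hodd : Odd (endCount ends CK a) := by
    rw [hcount, if_pos hKa]
    have := hC.2.1 a
    rw [hsplit, if_pos rfl, if_neg (Ne.symm hab)] at this
    have h2 : Even (1 + endCount ends S a) := by simpa using this
    rcases Nat.even_or_odd (endCount ends S a) with h | h
    · exfalso
      obtain ⟨k, hk⟩ := h2
      obtain ⟨j, hj⟩ := h
      omega
    · exact h
  have hsum := sum_endCount ends CK
  rw [← Finset.add_sum_erase _ _ (Finset.mem_univ a)] at hsum
  have hrest : Even (∑ x ∈ Finset.univ.erase a, endCount ends CK x) :=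
    Finset.even_sum _ fun x hx => heven x (Finset.mem_erase.mp hx).1
  have htot : Even (endCount ends CK a + ∑ x ∈ Finset.univ.erase a, endCount ends CK x) := by
    rw [hsum]; exact even_two_mul _
  have := (Nat.even_add.mp htot).mpr hrest
  exact (Nat.not_even_iff_odd.mpr hodd) this


/-- extension by zero of an edge vector on a subset -/
def ext (S : Finset E) (c : S → ℤ) : E → ℤ := fun e => if h : e ∈ S then c ⟨e, h⟩ else 0

theorem ext_apply_mem (S : Finset E) (c : S → ℤ) (e : S) : ext S c e.1 = c e := by
  simp [ext, e.2]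

theorem ext_apply_not_mem (S : Finset E) (c : S → ℤ) (e : E) (he : e ∉ S) : ext S c e = 0 := by
  simp [ext, he]

theorem inc_mulVec_ext (S : Finset E) (c : S → ℤ) (v : V) :
    (inc ends).mulVec (ext S c) v = (inc (sub ends S)).mulVec c v := by
  simp only [Matrix.mulVec, dotProduct]
  have h1 : ∑ e, inc ends v e * ext S c e = ∑ e ∈ S, inc ends v e * ext S c e := by
    symm
    apply Finset.sum_subset (Finset.subset_univ _)
    intro e _ he
    rw [ext_apply_not_mem S c e he, mul_zero]
  rw [h1, ← Finset.sum_coe_sort S]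
  refine Finset.sum_congr rfl fun e _ => ?_
  rw [ext_apply_mem]
  rfl

theorem boundary_eq_mulVec (γ : E → ℤ) (v : V) :
    boundary ends γ v = (inc ends).mulVec γ v := by
  simp only [boundary, Matrix.mulVec, dotProduct, inc_apply]
  refine Finset.sum_congr rfl fun e _ => ?_
  split_ifs <;> ring

/-- a circuit carries an integral cycle with coefficient one at a prescribed edge -/
theorem exists_cycle_of_circuit (C : Finset E) (hC : IsCircuit ends C) (e₀ : E) (he₀ : e₀ ∈ C) :
    ∃ γ : E → ℤ, (∀ v, boundary ends γ v = 0) ∧ γ e₀ = 1 ∧ ∀ e, e ∉ C → γ e = 0 := by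
  obtain ⟨c, hc⟩ := exists_chain_of_reach (sub ends (C.erase e₀)) _ _
    (reach_of_circuit ends C hC e₀ he₀)
  refine ⟨Pi.single e₀ 1 - ext (C.erase e₀) c, ?_, ?_, ?_⟩
  · intro v
    rw [boundary_eq_mulVec, Matrix.mulVec_sub, Pi.sub_apply, inc_mulVec_ext, hc,
      inc_mulVec_single]
    simp only [eq_comm (a := v)]
    ring
  · rw [Pi.sub_apply, Pi.single_eq_same, ext_apply_not_mem _ _ _ (Finset.notMem_erase e₀ C)]
    ring
  · intro e he
    have hne : e ≠ e₀ := fun h => he (h ▸ he₀)
    rw [Pi.sub_apply, Pi.single_eq_of_ne hne,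
      ext_apply_not_mem _ _ _ (fun h => he (Finset.mem_of_mem_erase h))]
    ring

theorem exists_boundary_edge (K : V → Prop) (v₀ u : V) (h0 : K v₀) (hu : ¬ K u)
    (hr : Relation.ReflTransGen (Adj ends) v₀ u) :
    ∃ e : E, (K (ends e).1 ∧ ¬ K (ends e).2) ∨ (K (ends e).2 ∧ ¬ K (ends e).1) := by
  induction hr with
  | refl => exact absurd h0 hu
  | @tail b c _ hadj ih =>
    by_cases hb : K b
    · obtain ⟨e, he | he⟩ := hadj
      · exact ⟨e, Or.inl (by rw [he]; exact ⟨hb, hu⟩)⟩
      · exact ⟨e, Or.inr (by rw [he]; exact ⟨hb, hu⟩)⟩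
    · exact ih hb

/-- in a connected multigraph every forest extends to a spanning tree -/
theorem exists_spanningTree_extending (hconn : Connected ends) (S : Finset E)
    (hS : IsForestSet ends S) : ∃ T : Finset E, S ⊆ T ∧ IsSpanningTree ends T := by
  classical
  obtain ⟨v₀⟩ := hconn.1
  let 𝒯 : Finset (Finset E) := Finset.univ.filter fun T => S ⊆ T ∧ IsForestSet ends T
  have hne : 𝒯.Nonempty := ⟨S, by simp [𝒯, hS]⟩
  obtain ⟨T, hT, hmax⟩ := Finset.exists_max_image 𝒯 Finset.card hne
  simp only [𝒯, Finset.mem_filter, Finset.mem_univ, true_and] at hT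
  refine ⟨T, hT.1, ?_⟩
  have hreach : ∀ u, Relation.ReflTransGen (Adj (sub ends T)) v₀ u := by
    intro u
    by_contra hu
    obtain ⟨e, he⟩ := exists_boundary_edge ends
      (fun v => Relation.ReflTransGen (Adj (sub ends T)) v₀ v) v₀ u .refl hu (hconn.2 v₀ u)
    have heT : e ∉ T := by
      intro heT
      rcases he with ⟨h1, h2⟩ | ⟨h1, h2⟩
      · exact h2 (h1.tail (adj_of_mem ends heT))
      · exact h2 (h1.tail (adj_symm _ (adj_of_mem ends heT)))
    have hfor : IsForestSet ends (insert e T) := by
      intro C hCT hC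
      by_cases heC : e ∈ C
      · have hr := reach_of_circuit ends C hC e heC
        have hsub : C.erase e ⊆ T := by
          intro x hx
          have := hCT (Finset.mem_of_mem_erase hx)
          rcases Finset.mem_insert.mp this with h | h
          · exact absurd h (Finset.ne_of_mem_erase hx)
          · exact h
        have hr' := reach_sub_mono ends hsub hr
        rcases he with ⟨h1, h2⟩ | ⟨h1, h2⟩
        · exact h2 (h1.trans hr')
        · exact h2 (h1.trans (reach_symm _ hr'))
      · apply hT.2 C _ hC
        intro x hx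
        rcases Finset.mem_insert.mp (hCT hx) with h | h
        · exact absurd (h ▸ hx) heC
        · exact h
    have hmem : insert e T ∈ 𝒯 := by
      simp only [𝒯, Finset.mem_filter, Finset.mem_univ, true_and]
      exact ⟨hT.1.trans (Finset.subset_insert _ _), hfor⟩
    have := hmax _ hmem
    rw [Finset.card_insert_of_notMem heT] at this
    omega
  refine ⟨⟨⟨v₀⟩, fun v w => (reach_symm _ (hreach v)).trans (hreach w)⟩, ?_⟩
  exact (isForest_sub_iff ends T).mpr hT.2

/-- on a spanning tree, every edge vector is a coboundary -/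
theorem exists_potential (T : Finset E) (hT : IsSpanningTree ends T) (x : E → ℤ) :
    ∃ f : V → ℤ, ∀ t ∈ T, f (ends t).2 - f (ends t).1 = x t := by
  classical
  have hconn : Connected (sub ends T) := hT.1
  obtain ⟨v₀⟩ := hconn.1
  have hcard : Fintype.card {v : V // v ≠ v₀} = Fintype.card T := by
    have h1 := card_ne_add_one v₀
    have h2 := card_of_isTree (sub ends T) hT.1 hT.2
    omega
  let φ : {v : V // v ≠ v₀} ≃ T := Fintype.equivOfCardEq hcard
  have hu := isUnit_det_of_connected (sub ends T) hconn v₀ φ
  set B := incSq (sub ends T) v₀ φ with hB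
  let f₀ : {v : V // v ≠ v₀} → ℤ := Matrix.vecMul (fun j => x (φ j).1) B⁻¹
  have hf₀ : Matrix.vecMul f₀ B = fun j => x (φ j).1 := by
    simp only [f₀]
    rw [Matrix.vecMul_vecMul, Matrix.nonsing_inv_mul _ hu, Matrix.vecMul_one]
  let f : V → ℤ := fun v => if h : v ≠ v₀ then f₀ ⟨v, h⟩ else 0
  refine ⟨f, fun t ht => ?_⟩
  have h1 := congrFun hf₀ (φ.symm ⟨t, ht⟩)
  simp only [Equiv.apply_symm_apply] at h1
  rw [← h1, ← sum_mul_inc ends f t]
  simp only [Matrix.vecMul, dotProduct, hB, incSq]
  have h2 := Fintype.sum_eq_add_sum_subtype_ne (fun v => f v * inc ends v t) v₀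
  have h3 : f v₀ = 0 := by simp [f]
  rw [h3, zero_mul, zero_add] at h2
  rw [h2]
  refine Finset.sum_congr rfl fun i _ => ?_
  have hi : i.1 ≠ v₀ := i.2
  simp only [f, hi, ne_eq, not_false_eq_true, dif_pos, Equiv.apply_symm_apply]
  rfl

end Groth.Agent.Lib.Helper25.GraphTree
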