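import Groth.Prelude.Def_W4c4cptpiccptjacBI
import Groth.Agent.Lib.Helper25.GraphInc
import Groth.Agent.Lib.Helper25.GraphTree
import Mathlib

/-!
# Twists, cuts and the Basic Inequality on multigraphs (helper25)
-/

set_option autoImplicit false
set_option linter.unusedSectionVars false
universe u
open Finset

namespace Groth.Agent.Lib.Helper25.BILib

open LabGraph Groth.Agent.Lib.Helper25.GraphInc Groth.Agent.Lib.Helper25.GraphTree

variable {V E : Type u} [Fintype V] [Fintype E] [DecidableEq V] [DecidableEq E]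
  (ends : E → V × V)

theorem sum_twist_on (φ : V → ℤ) (Y : Finset V) :
    ∑ v ∈ Y, twist ends φ v =
      ∑ e, ((if (ends e).1 ∈ Y then φ (ends e).2 - φ (ends e).1 else 0) +
        (if (ends e).2 ∈ Y then φ (ends e).1 - φ (ends e).2 else 0)) := by
  simp only [twist]
  rw [Finset.sum_comm]
  refine Finset.sum_congr rfl fun e _ => ?_
  rw [Finset.sum_add_distrib, Finset.sum_ite_eq, Finset.sum_ite_eq]

theorem sum_twist (φ : V → ℤ) : ∑ v, twist ends φ v = 0 := by
  rw [sum_twist_on]
  refine Finset.sum_eq_zero fun e _ => ?_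
  simp

theorem twist_sub_const (φ : V → ℤ) (c : ℤ) (v : V) :
    twist ends (fun u => φ u - c) v = twist ends φ v := by
  simp only [twist]
  refine Finset.sum_congr rfl fun e _ => ?_
  congr 1 <;> split_ifs <;> ring

theorem canDeg_univ (w : V → ℕ) : canDeg ends w Finset.univ = 2 * genus ends w - 2 := by
  simp only [canDeg, genus]
  rw [Finset.sum_add_distrib, Finset.sum_sub_distrib, ← Finset.mul_sum]
  have h1 : ∑ v : V, (endCount ends Finset.univ v : ℤ) = 2 * (Fintype.card E : ℤ) := by
    have := sum_endCount ends (Finset.univ : Finset E)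
    rw [Finset.card_univ] at this
    exact_mod_cast this
  rw [h1]
  simp only [Finset.sum_const, Finset.card_univ, nsmul_eq_mul]
  ring

theorem cut_eq_sum (Y : Finset V) :
    (cut ends Y : ℤ) = ∑ e, (if ((ends e).1 ∈ Y ∧ (ends e).2 ∉ Y) ∨
      ((ends e).1 ∉ Y ∧ (ends e).2 ∈ Y) then (1 : ℤ) else 0) := by
  rw [cut, Finset.card_filter]
  push_cast
  rfl

/-- from BI for two twist-equivalent multidegrees: the difference over `Y` is at least `-cut Y` -/
theorem diff_ge_neg_cut (w : V → ℕ) (hK : 0 < canDeg ends w Finset.univ) (d d' : V → ℤ)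
    (hBI : SatisfiesBI ends w d) (hBI' : SatisfiesBI ends w d') (hsum : ∑ v, d v = ∑ v, d' v)
    (Y : Finset V) : -(cut ends Y : ℤ) ≤ ∑ v ∈ Y, d v - ∑ v ∈ Y, d' v := by
  have h1 := hBI Y
  have h2 := hBI' Y
  rw [hsum] at h1
  have hA := neg_abs_le (canDeg ends w Finset.univ * (∑ v ∈ Y, d v) -
    (∑ v : V, d' v) * canDeg ends w Y)
  have hB := le_abs_self (canDeg ends w Finset.univ * (∑ v ∈ Y, d' v) -
    (∑ v : V, d' v) * canDeg ends w Y)
  have h3 : canDeg ends w Finset.univ * (-(cut ends Y : ℤ)) ≤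
      canDeg ends w Finset.univ * (∑ v ∈ Y, d v - ∑ v ∈ Y, d' v) := by
    have : canDeg ends w Finset.univ * (∑ v ∈ Y, d v - ∑ v ∈ Y, d' v) =
        (canDeg ends w Finset.univ * (∑ v ∈ Y, d v) - (∑ v : V, d' v) * canDeg ends w Y) -
        (canDeg ends w Finset.univ * (∑ v ∈ Y, d' v) - (∑ v : V, d' v) * canDeg ends w Y) := by
      ring
    rw [this]
    linarith
  exact le_of_mul_le_mul_left h3 hK

end Groth.Agent.Lib.Helper25.BILib
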