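import Groth.Prelude.Def_W4c2conddiscmodels
import Mathlib

/-!
# Helper library (helper25): multiplicity matrices of multigraphs and contraction

* `nsum`: neighbour sums, edge based
* `mulVec_eq`, `diag_mul`, `mulVec_beta`: the matrix `α` of `(G, β)`
* `pushV_nsum`, `pushV_mulVec`: compatibility of `α` with contraction when `β` is constant on classes
-/

set_option autoImplicit false
set_option linter.unusedSectionVars false
universe u
open Finset

namespace Groth.Agent.Lib.Helper25.LabContract

open LabGraph DualGr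

section Basic

variable {V E : Type u} [Fintype V] [Fintype E] [DecidableEq V] [DecidableEq E]
  (ends : E → V × V)

/-- neighbour sum of a vertex function, edge based -/
def nsum (y : V → ℤ) (v : V) : ℤ :=
  ∑ e : E, ((if (ends e).1 = v ∧ (ends e).2 ≠ v then y (ends e).2 else 0) +
    (if (ends e).2 = v ∧ (ends e).1 ≠ v then y (ends e).1 else 0))

omit [Fintype E] [DecidableEq E] in
theorem inner_sum (y : V → ℤ) (a b v : V) :
    ∑ w ∈ univ.erase v, (if (a, b) = (v, w) ∨ (a, b) = (w, v) then (1 : ℤ) else 0) * y w =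
      (if a = v ∧ b ≠ v then y b else 0) + (if b = v ∧ a ≠ v then y a else 0) := by
  by_cases ha : a = v
  · by_cases hb : b = v
    · subst ha; subst hb
      rw [Finset.sum_eq_zero]
      · simp
      · intro w hw
        have hw' : w ≠ b := (Finset.mem_erase.mp hw).1
        have : ¬ ((b, b) = (b, w) ∨ (b, b) = (w, b)) := by
          rintro (h | h)
          · exact hw' (Prod.mk.inj h).2.symm
          · exact hw' (Prod.mk.inj h).1.symm
        rw [if_neg this, zero_mul]
    · subst ha
      rw [Finset.sum_eq_single b]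
      · simp [hb]
      · intro w _ hwb
        have : ¬ ((a, b) = (a, w) ∨ (a, b) = (w, a)) := by
          rintro (h | h)
          · exact hwb (Prod.mk.inj h).2.symm
          · exact hb (Prod.mk.inj h).2
        rw [if_neg this, zero_mul]
      · intro hbm
        exact absurd (Finset.mem_erase.mpr ⟨hb, Finset.mem_univ _⟩) hbm
  · by_cases hb : b = v
    · subst hb
      rw [Finset.sum_eq_single a]
      · simp [ha]
      · intro w _ hwa
        have : ¬ ((a, b) = (b, w) ∨ (a, b) = (w, b)) := by
          rintro (h | h)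
          · exact ha (Prod.mk.inj h).1
          · exact hwa (Prod.mk.inj h).1.symm
        rw [if_neg this, zero_mul]
      · intro ham
        exact absurd (Finset.mem_erase.mpr ⟨ha, Finset.mem_univ _⟩) ham
    · rw [Finset.sum_eq_zero]
      · simp [ha, hb]
      · intro w _
        have : ¬ ((a, b) = (v, w) ∨ (a, b) = (w, v)) := by
          rintro (h | h)
          · exact ha (Prod.mk.inj h).1
          · exact hb (Prod.mk.inj h).2
        rw [if_neg this, zero_mul]

theorem sum_edgeMult_mul (y : V → ℤ) (v : V) :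
    ∑ w ∈ univ.erase v, (edgeMult ends v w : ℤ) * y w = nsum ends y v := by
  unfold edgeMult nsum
  simp only [Finset.card_filter, Nat.cast_sum, Finset.sum_mul]
  rw [Finset.sum_comm]
  refine Finset.sum_congr rfl fun e _ => ?_
  have := inner_sum y (ends e).1 (ends e).2 v
  simp only [Prod.mk.eta] at this
  rw [← this]
  refine Finset.sum_congr rfl fun w _ => ?_
  push_cast
  rfl

theorem edgeMult_comm (v w : V) : edgeMult ends v w = edgeMult ends w v := by
  unfold edgeMult
  congr 1
  ext e
  simp only [Finset.mem_filter, Finset.mem_univ, true_and]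
  exact or_comm

theorem mulVec_eq (β y : V → ℤ) (v : V) :
    (Matrix.mulVec (mfMatrix ends β) y) v = mfMatrix ends β v v * y v + nsum ends y v := by
  rw [Matrix.mulVec, dotProduct, ← Finset.add_sum_erase _ _ (Finset.mem_univ v),
    ← sum_edgeMult_mul]
  congr 1
  refine Finset.sum_congr rfl fun w hw => ?_
  have : v ≠ w := (Finset.mem_erase.mp hw).1.symm
  rw [mfMatrix, if_neg this]

theorem diag_mul (β : V → ℤ) (v : V) (hdvd : β v ∣ nsum ends β v) :
    β v * mfMatrix ends β v v = - nsum ends β v := by
  have h1 : ∑ u ∈ univ.erase v, β u * (edgeMult ends v u : ℤ) = nsum ends β v := by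
    rw [← sum_edgeMult_mul]
    exact Finset.sum_congr rfl fun u _ => mul_comm _ _
  rw [mfMatrix, if_pos rfl, h1]
  exact Int.mul_ediv_cancel' (dvd_neg.mpr hdvd)

theorem dvd_nsum_of_isMultFn (β : V → ℤ) (hβ : IsMultFn ends β) (v : V) :
    β v ∣ nsum ends β v := by
  have h1 : ∑ u ∈ univ.erase v, β u * (edgeMult ends v u : ℤ) = nsum ends β v := by
    rw [← sum_edgeMult_mul]
    exact Finset.sum_congr rfl fun u _ => mul_comm _ _
  rw [← h1]
  exact (hβ v).2

theorem mulVec_beta (β : V → ℤ) (hβ : IsMultFn ends β) :
    Matrix.mulVec (mfMatrix ends β) β = 0 := by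
  funext v
  rw [mulVec_eq, mul_comm, diag_mul ends β v (dvd_nsum_of_isMultFn ends β hβ v)]
  simp

theorem mfMatrix_symm (β : V → ℤ) : (mfMatrix ends β).transpose = mfMatrix ends β := by
  ext v w
  rw [Matrix.transpose_apply]
  by_cases h : v = w
  · subst h; rfl
  · rw [mfMatrix, mfMatrix, if_neg h, if_neg (Ne.symm h), edgeMult_comm]

theorem weighted_sum_zero (β c : V → ℤ) (hβ : IsMultFn ends β) :
    ∑ v, β v * (Matrix.mulVec (mfMatrix ends β) c) v = 0 := by
  have h := Matrix.dotProduct_mulVec β (mfMatrix ends β) c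
  rw [← Matrix.mulVec_transpose, mfMatrix_symm, mulVec_beta ends β hβ, zero_dotProduct] at h
  exact h

end Basic


section Contraction

variable {V E : Type u} [Fintype V] [Fintype E] [DecidableEq V] [DecidableEq E]
  (ends : E → V × V) (D : Finset E)

/-- twice the number of non-loop edges inside a class -/
noncomputable def loopCount (c : CtrVert ends D) : ℤ :=
  ∑ e : E, ((if ctrMk ends D (ends e).1 = c ∧ ctrMk ends D (ends e).2 = c ∧
      (ends e).2 ≠ (ends e).1 then 1 else 0) +
    (if ctrMk ends D (ends e).2 = c ∧ ctrMk ends D (ends e).1 = c ∧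
      (ends e).1 ≠ (ends e).2 then 1 else 0))

/-- neighbour sums in the contraction as sums over all old edges -/
theorem nsum_ctr (y' : CtrVert ends D → ℤ) (c : CtrVert ends D) :
    nsum (ctrEnds ends D) y' c =
      ∑ e : E, ((if ctrMk ends D (ends e).1 = c ∧ ctrMk ends D (ends e).2 ≠ c then
          y' (ctrMk ends D (ends e).2) else 0) +
        (if ctrMk ends D (ends e).2 = c ∧ ctrMk ends D (ends e).1 ≠ c then
          y' (ctrMk ends D (ends e).1) else 0)) := by
  unfold nsum
  simp only [ctrEnds]
  have h1 : ∀ g : E → ℤ, (∀ e ∈ D, g e = 0) → ∑ e' : CtrEdge D, g e'.1 = ∑ e : E, g e := by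
    intro g hg
    have : ∑ e : E, g e = ∑ e ∈ univ.filter (fun e : E => e ∉ D), g e := by
      rw [Finset.sum_filter]
      refine Finset.sum_congr rfl fun e _ => ?_
      by_cases he : e ∈ D
      · simp [he, hg e he]
      · simp [he]
    rw [this, Finset.sum_subtype (univ.filter (fun e : E => e ∉ D)) (p := fun e => e ∉ D)
      (by intro e; simp)]
  refine h1 (fun e => (if ctrMk ends D (ends e).1 = c ∧ ctrMk ends D (ends e).2 ≠ c then
          y' (ctrMk ends D (ends e).2) else 0) +
        (if ctrMk ends D (ends e).2 = c ∧ ctrMk ends D (ends e).1 ≠ c then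
          y' (ctrMk ends D (ends e).1) else 0)) ?_
  intro e he
  have := ctrMk_fst_eq_ctrMk_snd ends D he
  rw [if_neg, if_neg, add_zero]
  · rintro ⟨h1, h2⟩; exact h2 (this ▸ h1)
  · rintro ⟨h1, h2⟩; exact h2 (this.symm ▸ h1)

theorem pushV_nsum (y' : CtrVert ends D → ℤ) (c : CtrVert ends D) :
    pushV ends D (nsum ends (fun v => y' (ctrMk ends D v))) c =
      nsum (ctrEnds ends D) y' c + loopCount ends D c * y' c := by
  rw [nsum_ctr, loopCount, Finset.sum_mul, ← Finset.sum_add_distrib]
  show ∑ x ∈ univ.filter (fun x => ctrMk ends D x = c),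
    nsum ends (fun v => y' (ctrMk ends D v)) x = _
  unfold nsum
  rw [Finset.sum_comm]
  refine Finset.sum_congr rfl fun e _ => ?_
  rw [Finset.sum_add_distrib]
  set a := (ends e).1 with ha
  set b := (ends e).2 with hb
  have key : ∀ (p q : V), ∑ x ∈ univ.filter (fun x => ctrMk ends D x = c),
      (if p = x ∧ q ≠ x then y' (ctrMk ends D q) else 0) =
      (if ctrMk ends D p = c ∧ ctrMk ends D q ≠ c then y' (ctrMk ends D q) else 0) +
      (if ctrMk ends D p = c ∧ ctrMk ends D q = c ∧ q ≠ p then 1 else 0) * y' c := by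
    intro p q
    by_cases hp : ctrMk ends D p = c
    · rw [Finset.sum_eq_single p]
      · by_cases hq : ctrMk ends D q = c
        · by_cases hqp : q = p
          · simp [hp, hqp]
          · simp [hp, hq, hqp]
        · have hqp : q ≠ p := by
            rintro rfl; exact hq hp
          simp [hp, hq, hqp]
      · intro x _ hxp
        rw [if_neg]
        rintro ⟨h, _⟩; exact hxp h.symm
      · intro hpm
        exact absurd (Finset.mem_filter.mpr ⟨Finset.mem_univ p, hp⟩) hpm
    · rw [Finset.sum_eq_zero]
      · simp [hp]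
      · intro x hx
        rw [if_neg]
        rintro ⟨h, _⟩
        exact hp (h ▸ (Finset.mem_filter.mp hx).2)
  rw [key a b, key b a]
  ring

/-- the matrix of the contraction, when `β` is constant on classes -/
theorem pushV_mulVec (β : V → ℤ) (hβ : IsMultFn ends β)
    (hconst : ∀ v, ctrFn ends D β (ctrMk ends D v) = β v) (y' : CtrVert ends D → ℤ) :
    pushV ends D (Matrix.mulVec (mfMatrix ends β) (fun v => y' (ctrMk ends D v))) =
      Matrix.mulVec (mfMatrix (ctrEnds ends D) (ctrFn ends D β)) y' ∧
    IsMultFn (ctrEnds ends D) (ctrFn ends D β) := by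
  set β' := ctrFn ends D β with hβ'
  have hβfun : β = fun v => β' (ctrMk ends D v) := by
    funext v; exact (hconst v).symm
  -- sum of the diagonal entries over a class
  have hdiag : ∀ c : CtrVert ends D,
      β' c * (∑ v ∈ univ.filter (fun x => ctrMk ends D x = c), mfMatrix ends β v v) =
        - nsum (ctrEnds ends D) β' c - loopCount ends D c * β' c := by
    intro c
    rw [Finset.mul_sum]
    have h1 : ∀ v ∈ univ.filter (fun x => ctrMk ends D x = c),
        β' c * mfMatrix ends β v v = - nsum ends β v := by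
      intro v hv
      have hv' : ctrMk ends D v = c := (Finset.mem_filter.mp hv).2
      rw [← hv', hconst v]
      exact diag_mul ends β v (dvd_nsum_of_isMultFn ends β hβ v)
    rw [Finset.sum_congr rfl h1, Finset.sum_neg_distrib]
    have h2 := pushV_nsum ends D β' c
    rw [← hβfun] at h2
    have h3 : pushV ends D (nsum ends β) c =
        ∑ v ∈ univ.filter (fun x => ctrMk ends D x = c), nsum ends β v := rfl
    rw [← h3, h2]
    ring
  have hpos : ∀ c : CtrVert ends D, 0 < β' c := by
    intro c
    obtain ⟨v, rfl⟩ := ctrMk_surjective ends D c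
    rw [hconst v]; exact (hβ v).1
  have hdvd : ∀ c : CtrVert ends D, β' c ∣ nsum (ctrEnds ends D) β' c := by
    intro c
    have := hdiag c
    have e : nsum (ctrEnds ends D) β' c =
        β' c * (-(∑ v ∈ univ.filter (fun x => ctrMk ends D x = c), mfMatrix ends β v v) -
          loopCount ends D c) := by
      linear_combination this
    rw [e]
    exact dvd_mul_right _ _
  have hdiag' : ∀ c : CtrVert ends D, mfMatrix (ctrEnds ends D) β' c c =
      (∑ v ∈ univ.filter (fun x => ctrMk ends D x = c), mfMatrix ends β v v) +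
        loopCount ends D c := by
    intro c
    have h1 := diag_mul (ctrEnds ends D) β' c (hdvd c)
    have h2 := hdiag c
    apply mul_left_cancel₀ (hpos c).ne'
    linear_combination h1 - h2
  refine ⟨?_, ?_⟩
  · funext c
    rw [mulVec_eq, hdiag' c]
    show ∑ v ∈ univ.filter (fun x => ctrMk ends D x = c),
      (Matrix.mulVec (mfMatrix ends β) (fun v => y' (ctrMk ends D v))) v = _
    have h1 : ∀ v ∈ univ.filter (fun x => ctrMk ends D x = c),
        (Matrix.mulVec (mfMatrix ends β) (fun v => y' (ctrMk ends D v))) v =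
          mfMatrix ends β v v * y' c + nsum ends (fun v => y' (ctrMk ends D v)) v := by
      intro v hv
      rw [mulVec_eq, (Finset.mem_filter.mp hv).2]
    rw [Finset.sum_congr rfl h1, Finset.sum_add_distrib, ← Finset.sum_mul]
    have h2 := pushV_nsum ends D y' c
    have h3 : pushV ends D (nsum ends (fun v => y' (ctrMk ends D v))) c =
        ∑ v ∈ univ.filter (fun x => ctrMk ends D x = c),
          nsum ends (fun v => y' (ctrMk ends D v)) v := rfl
    rw [← h3, h2]
    ring
  · intro c
    refine ⟨hpos c, ?_⟩
    have h1 : ∑ u ∈ univ.erase c, β' u * (edgeMult (ctrEnds ends D) c u : ℤ) =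
        nsum (ctrEnds ends D) β' c := by
      rw [← sum_edgeMult_mul]
      exact Finset.sum_congr rfl fun u _ => mul_comm _ _
    rw [h1]
    exact hdvd c

end Contraction


section Chain

variable {V E : Type u} [Fintype V] [Fintype E] [DecidableEq V] [DecidableEq E]
  (ends : E → V × V) {m : ℕ} (f : Fin (m + 1) → V) (e : Fin m → E)

theorem edgeMult_mulVec (β y : V → ℤ) (v : V) :
    (Matrix.mulVec (mfMatrix ends β) y) v =
      mfMatrix ends β v v * y v + ∑ w ∈ univ.erase v, (edgeMult ends v w : ℤ) * y w := by
  rw [mulVec_eq, sum_edgeMult_mul]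

theorem ctrMk_chain (hC : IsChain ends f e) (i : Fin (m + 1)) :
    ctrMk ends (univ.image e) (f i) = ctrMk ends (univ.image e) (f 0) := by
  induction i using Fin.induction with
  | zero => rfl
  | succ i ih =>
    rw [← ih]
    have he : e i ∈ univ.image e := Finset.mem_image_of_mem _ (Finset.mem_univ _)
    have h := ctrMk_fst_eq_ctrMk_snd ends (univ.image e) he
    rcases hC.2.2 i with h1 | h1
    · rw [h1] at h; exact h.symm
    · rw [h1] at h; exact h

theorem ctrMk_eq_iff (hC : IsChain ends f e) (v w : V) :
    ctrMk ends (univ.image e) v = ctrMk ends (univ.image e) w ↔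
      v = w ∨ (v ∈ Set.range f ∧ w ∈ Set.range f) := by
  constructor
  · intro h
    have h' : Relation.EqvGen (CtrRel ends (univ.image e)) v w := Quotient.exact h
    induction h' with
    | rel x y hxy =>
      obtain ⟨e', he', hends⟩ := hxy
      obtain ⟨i, _, rfl⟩ := Finset.mem_image.mp he'
      right
      rcases hC.2.2 i with h1 | h1
      · rw [h1] at hends
        obtain ⟨rfl, rfl⟩ := Prod.mk.inj hends
        exact ⟨⟨_, rfl⟩, ⟨_, rfl⟩⟩
      · rw [h1] at hends
        obtain ⟨rfl, rfl⟩ := Prod.mk.inj hends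
        exact ⟨⟨_, rfl⟩, ⟨_, rfl⟩⟩
    | refl x => exact Or.inl rfl
    | symm x y _ ih =>
      rcases ih (Quotient.sound (by assumption)) with h1 | h1
      · exact Or.inl h1.symm
      · exact Or.inr ⟨h1.2, h1.1⟩
    | trans x y z hxy hyz ih1 ih2 =>
      rcases ih1 (Quotient.sound hxy) with h1 | h1
      · subst h1; exact ih2 (Quotient.sound hyz)
      · rcases ih2 (Quotient.sound hyz) with h2 | h2
        · subst h2; exact Or.inr h1
        · exact Or.inr ⟨h1.1, h2.2⟩
  · rintro (rfl | ⟨⟨i, rfl⟩, ⟨j, rfl⟩⟩)
    · rfl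
    · rw [ctrMk_chain ends f e hC i, ctrMk_chain ends f e hC j]

theorem pushV_liftAt (hC : IsChain ends f e) (x : CtrVert ends (univ.image e) → ℤ) :
    pushV ends (univ.image e) (liftAt ends (univ.image e) (f 0) x) = x := by
  funext c
  show ∑ v ∈ univ.filter (fun v => ctrMk ends (univ.image e) v = c),
    liftAt ends (univ.image e) (f 0) x v = x c
  obtain ⟨v₀, rfl⟩ := ctrMk_surjective ends (univ.image e) c
  by_cases hv : v₀ ∈ Set.range f
  · have hcl : ctrMk ends (univ.image e) v₀ = ctrMk ends (univ.image e) (f 0) :=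
      (ctrMk_eq_iff ends f e hC v₀ (f 0)).mpr (Or.inr ⟨hv, ⟨0, rfl⟩⟩)
    rw [hcl, Finset.sum_eq_single (f 0)]
    · unfold liftAt
      rw [if_neg]
      rintro ⟨_, h⟩; exact h rfl
    · intro v hv hne
      unfold liftAt
      rw [if_pos ⟨(Finset.mem_filter.mp hv).2, hne⟩]
    · intro h
      exact absurd (by simp) h
  · rw [Finset.sum_eq_single v₀]
    · unfold liftAt
      rw [if_neg]
      rintro ⟨h, _⟩
      rcases (ctrMk_eq_iff ends f e hC v₀ (f 0)).mp h with h1 | h1
      · exact hv ⟨0, h1.symm⟩
      · exact hv h1.1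
    · intro v hv' hne
      exfalso
      rcases (ctrMk_eq_iff ends f e hC v v₀).mp (Finset.mem_filter.mp hv').2 with h1 | h1
      · exact hne h1
      · exact hv h1.2
    · intro h
      exact absurd (by simp) h

theorem ctrFn_const (hC : IsChain ends f e) (β : V → ℤ) (hconst : ∀ i j, β (f i) = β (f j))
    (v : V) : ctrFn ends (univ.image e) β (ctrMk ends (univ.image e) v) = β v := by
  unfold ctrFn
  have h : ctrMk ends (univ.image e)
      (Quotient.out (s := ctrSetoid ends (univ.image e)) (ctrMk ends (univ.image e) v)) =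
      ctrMk ends (univ.image e) v := Quotient.out_eq _
  rcases (ctrMk_eq_iff ends f e hC _ _).mp h with h1 | ⟨⟨i, hi⟩, ⟨j, hj⟩⟩
  · rw [h1]
  · rw [← hi, ← hj]; exact hconst i j

end Chain

end Groth.Agent.Lib.Helper25.LabContract
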