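import Groth.Prelude.Def_W4c2conddiscmodels
import Groth.Agent.Lib.Helper25.CauchyBinet
import Groth.Agent.Lib.Helper25.GraphInc
import Groth.Agent.Lib.Helper25.LabContract
import Mathlib

/-!
# Matrix-tree theorem for multiplicity matrices (helper25)
-/

set_option autoImplicit false
set_option linter.unusedSectionVars false
universe u
open Finset

namespace Groth.Agent.Lib.Helper25.MatTree

open LabGraph DualGr Groth.Agent.Lib.Helper25.GraphInc Groth.Agent.Lib.Helper25.LabContract

section Lap

variable {V E : Type u} [Fintype V] [Fintype E] [DecidableEq V] [DecidableEq E]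
  (ends : E → V × V)

/-- edge weights -/
def xw (β : V → ℤ) (e : E) : ℤ := β (ends e).1 * β (ends e).2

theorem lap_sum (β y : V → ℤ) (v : V) :
    ∑ e, inc ends v e * (xw ends β e * (y (ends e).2 - y (ends e).1)) =
      β v * y v * nsum ends β v - β v * nsum ends (fun w => β w * y w) v := by
  unfold nsum
  rw [Finset.mul_sum, Finset.mul_sum, ← Finset.sum_sub_distrib]
  refine Finset.sum_congr rfl fun e _ => ?_
  simp only [inc_apply, xw]
  by_cases h1 : (ends e).1 = v <;> by_cases h2 : (ends e).2 = v
  · simp [h1, h2]
  · simp only [h1, h2, if_true, if_false, true_and, false_and, ne_eq, not_false_eq_true,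
      not_true_eq_false, add_zero]
    ring
  · simp only [h1, h2, if_true, if_false, true_and, false_and, ne_eq, not_false_eq_true,
      not_true_eq_false, zero_add]
    ring
  · simp [h1, h2]

theorem lap_entry (β : V → ℤ) (hβ : IsMultFn ends β) (v w : V) :
    ∑ e, inc ends v e * (xw ends β e * inc ends w e) = β v * (-(mfMatrix ends β v w)) * β w := by
  have hmat : (Matrix.of fun v w => ∑ e, inc ends v e * (xw ends β e * inc ends w e)) =
      Matrix.of fun v w => β v * (-(mfMatrix ends β v w)) * β w := by
    rw [Matrix.ext_iff_mulVec]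
    intro y
    funext v
    simp only [Matrix.mulVec, dotProduct, Matrix.of_apply]
    have hL : ∑ w, (∑ e, inc ends v e * (xw ends β e * inc ends w e)) * y w =
        ∑ e, inc ends v e * (xw ends β e * (y (ends e).2 - y (ends e).1)) := by
      simp only [Finset.sum_mul]
      rw [Finset.sum_comm]
      refine Finset.sum_congr rfl fun e _ => ?_
      rw [← sum_mul_inc ends y e, Finset.mul_sum, Finset.mul_sum]
      refine Finset.sum_congr rfl fun w _ => ?_
      ring
    have hR : ∑ w, β v * (-(mfMatrix ends β v w)) * β w * y w =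
        - (β v * Matrix.mulVec (mfMatrix ends β) (fun w => β w * y w) v) := by
      simp only [Matrix.mulVec, dotProduct, Finset.mul_sum, ← Finset.sum_neg_distrib]
      refine Finset.sum_congr rfl fun w _ => ?_
      ring
    rw [hL, hR, lap_sum, mulVec_eq]
    have hd := diag_mul ends β v (dvd_nsum_of_isMultFn ends β hβ v)
    have : β v * (mfMatrix ends β v v * (β v * y v) + nsum ends (fun w => β w * y w) v) =
        (β v * mfMatrix ends β v v) * (β v * y v) + β v * nsum ends (fun w => β w * y w) v := by
      ring
    rw [this, hd]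
    ring
  exact congrFun (congrFun hmat v) w

end Lap


section Tree

variable {V E : Type u} [Fintype V] [Fintype E] [DecidableEq V] [DecidableEq E]
  (ends : E → V × V)

/-- reduced incidence matrix -/
def N0 (v₀ : V) : Matrix {v : V // v ≠ v₀} E ℤ := fun i e => inc ends i.1 e

theorem det_L0_ne_zero (hconn : Connected ends) (v₀ : V) (x : E → ℤ) (hx : ∀ e, 0 < x e) :
    (N0 ends v₀ * (Matrix.diagonal x * (N0 ends v₀).transpose)).det ≠ 0 := by
  intro hdet
  obtain ⟨y, hy0, hy⟩ := Matrix.exists_mulVec_eq_zero_iff.mpr hdet
  set u : E → ℤ := Matrix.vecMul y (N0 ends v₀) with hu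
  have hq : y ⬝ᵥ ((N0 ends v₀ * (Matrix.diagonal x * (N0 ends v₀).transpose)).mulVec y) =
      ∑ e, x e * (u e * u e) := by
    rw [← Matrix.mulVec_mulVec, ← Matrix.mulVec_mulVec, Matrix.dotProduct_mulVec,
      Matrix.mulVec_transpose]
    simp only [dotProduct, Matrix.mulVec_diagonal]
    exact Finset.sum_congr rfl fun e _ => by ring
  rw [hy, dotProduct_zero] at hq
  have hu0 : u = 0 := by
    funext e
    have h1 := (Finset.sum_eq_zero_iff_of_nonneg
      (fun e _ => mul_nonneg (hx e).le (mul_self_nonneg (u e)))).mp hq.symm e (Finset.mem_univ e)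
    rcases mul_eq_zero.mp h1 with h | h
    · exact absurd h (hx e).ne'
    · exact mul_self_eq_zero.mp h
  obtain ⟨c, hc⟩ := surj_of_connected ends hconn v₀ (Equiv.refl E) y
  have hc' : (N0 ends v₀).mulVec c = y := hc
  have hyy : y ⬝ᵥ y = 0 := by
    have h1 : y ⬝ᵥ y = y ⬝ᵥ ((N0 ends v₀).mulVec c) := by rw [hc']
    rw [h1, Matrix.dotProduct_mulVec, ← hu, hu0, zero_dotProduct]
  exact hy0 (dotProduct_self_eq_zero.mp hyy)

theorem isSpanningTree_iff (T : Finset E) :
    IsSpanningTree ends T ↔
      Connected (fun e : T => ends e.1) ∧ T.card + 1 = Fintype.card V := by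
  unfold IsSpanningTree
  rw [isTree_iff, Fintype.card_coe]

theorem det_L0_eq_sum (v₀ : V) (x : E → ℤ) [DecidablePred fun T : Finset E => IsSpanningTree ends T] :
    (N0 ends v₀ * (Matrix.diagonal x * (N0 ends v₀).transpose)).det =
      ∑ T ∈ (univ : Finset (Finset E)).filter (fun T => IsSpanningTree ends T), ∏ e ∈ T, x e := by
  classical
  rw [CauchyBinet.det_mul_diagonal_mul_transpose]
  have hcard := card_ne_add_one v₀
  have hterm : ∀ S : {S : Finset E // S.card = Fintype.card {v : V // v ≠ v₀}},
      (∏ e ∈ S.1, x e) * (Matrix.of fun i j => N0 ends v₀ i (CauchyBinet.enumS S j)).det ^ 2 =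
        if IsSpanningTree ends S.1 then ∏ e ∈ S.1, x e else 0 := by
    intro S
    have hmat : (Matrix.of fun i j => N0 ends v₀ i (CauchyBinet.enumS S j)) =
        incSq (fun e : S.1 => ends e.1) v₀ (CauchyBinet.enumS S) := rfl
    rw [hmat]
    have hiff : IsSpanningTree ends S.1 ↔ Connected (fun e : S.1 => ends e.1) := by
      rw [isSpanningTree_iff]
      constructor
      · exact fun h => h.1
      · intro h
        refine ⟨h, ?_⟩
        rw [S.2]; exact hcard
    by_cases hc : Connected (fun e : S.1 => ends e.1)
    · rw [if_pos (hiff.mpr hc)]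
      have hunit := isUnit_det_of_connected (fun e : S.1 => ends e.1) hc v₀ (CauchyBinet.enumS S)
      rcases Int.isUnit_iff.mp hunit with h | h <;> rw [h] <;> ring
    · rw [if_neg (fun h => hc (hiff.mp h))]
      rw [det_eq_zero_of_not_connected (fun e : S.1 => ends e.1) hc v₀ (CauchyBinet.enumS S)]
      ring
  rw [Finset.sum_congr rfl fun S _ => hterm S]
  rw [← Finset.sum_subtype (univ.filter fun S : Finset E => S.card = Fintype.card {v : V // v ≠ v₀})
    (fun S => by simp) (fun S => if IsSpanningTree ends S then ∏ e ∈ S, x e else 0)]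
  rw [Finset.sum_filter, Finset.sum_filter]
  refine Finset.sum_congr rfl fun S _ => ?_
  by_cases hS : IsSpanningTree ends S
  · have : S.card = Fintype.card {v : V // v ≠ v₀} := by
      have := ((isSpanningTree_iff ends S).mp hS).2
      omega
    simp [hS, this]
  · simp [hS]

theorem prod_xw (β : V → ℤ) (T : Finset E) :
    ∏ e ∈ T, xw ends β e = ∏ v, β v ^ endCount ends T v := by
  simp only [endCount, ← Finset.prod_pow_eq_pow_sum]
  rw [Finset.prod_comm]
  refine Finset.prod_congr rfl fun e _ => ?_
  simp only [pow_add, Finset.prod_mul_distrib, pow_ite, pow_one, pow_zero, Finset.prod_ite_eq,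
    Finset.mem_univ, if_true, xw]

theorem forest_odd (hfor : IsForest ends) (C : Finset E) (hne : C.Nonempty) :
    ∃ v, ¬ Even (endCount ends C v) := by
  by_contra h
  push Not at h
  obtain ⟨C', -, hC'⟩ := exists_circuit_of_even ends C hne h
  exact hfor C' hC'

theorem no_loop (hfor : IsForest ends) (e : E) : (ends e).1 ≠ (ends e).2 := by
  intro h
  obtain ⟨v, hv⟩ := forest_odd ends hfor {e} (Finset.singleton_nonempty e)
  apply hv
  simp only [endCount, Finset.sum_singleton, h]
  exact ⟨_, rfl⟩

theorem no_parallel (hfor : IsForest ends) (e e' : E)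
    (h : ends e' = ends e ∨ ends e' = ((ends e).2, (ends e).1)) : e = e' := by
  by_contra hne
  obtain ⟨v, hv⟩ := forest_odd ends hfor {e, e'} (Finset.insert_nonempty _ _)
  apply hv
  simp only [endCount]
  rw [Finset.sum_pair hne]
  rcases h with h | h
  · rw [h]; exact ⟨_, rfl⟩
  · rw [h]
    simp only
    have : ((if (ends e).1 = v then 1 else 0) + (if (ends e).2 = v then 1 else 0)) +
        ((if (ends e).2 = v then 1 else 0) + if (ends e).1 = v then 1 else 0) =
        ((if (ends e).1 = v then 1 else 0) + (if (ends e).2 = v then 1 else 0)) +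
        ((if (ends e).1 = v then 1 else 0) + if (ends e).2 = v then 1 else 0) := by ring
    rw [this]; exact ⟨_, rfl⟩

end Tree


section Nbr

variable {V E : Type u} [Fintype V] [Fintype E] [DecidableEq V] [DecidableEq E]
  (ends : E → V × V)

theorem nbrCount_eq_endCount (T : Finset E) (hT : IsSpanningTree ends T) (v : V) :
    nbrCount ends T v = endCount ends T v := by
  classical
  have hfor : IsForest (fun e : T => ends e.1) := hT.2
  have hloop : ∀ e ∈ T, (ends e).1 ≠ (ends e).2 := fun e he =>
    no_loop (fun e : T => ends e.1) hfor ⟨e, he⟩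
  have hpar : ∀ e ∈ T, ∀ e' ∈ T, (ends e' = ends e ∨ ends e' = ((ends e).2, (ends e).1)) →
      e = e' := by
    intro e he e' he' h
    have := no_parallel (fun e : T => ends e.1) hfor ⟨e, he⟩ ⟨e', he'⟩ h
    exact congrArg Subtype.val this
  have h1 : endCount ends T v = (T.filter fun e => (ends e).1 = v ∨ (ends e).2 = v).card := by
    rw [endCount, Finset.card_filter]
    refine Finset.sum_congr rfl fun e he => ?_
    have := hloop e he
    by_cases ha : (ends e).1 = v <;> by_cases hb : (ends e).2 = v
    · exact absurd (ha.trans hb.symm) this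
    · simp [ha, hb]
    · simp [ha, hb]
    · simp [ha, hb]
  rw [h1, nbrCount]
  symm
  refine Finset.card_bij (fun e _ => if (ends e).1 = v then (ends e).2 else (ends e).1) ?_ ?_ ?_
  · intro e he
    simp only [Finset.mem_filter] at he
    obtain ⟨heT, hev⟩ := he
    simp only [Finset.mem_filter, Finset.mem_univ, true_and]
    by_cases ha : (ends e).1 = v
    · rw [if_pos ha]
      refine ⟨fun h => hloop e heT (ha.trans h.symm), e, heT, Or.inl ?_⟩
      rw [← ha]
    · rw [if_neg ha]
      have hb : (ends e).2 = v := hev.resolve_left ha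
      refine ⟨ha, e, heT, Or.inr ?_⟩
      rw [← hb]
  · intro e he e' he' heq
    simp only [Finset.mem_filter] at he he'
    obtain ⟨heT, hev⟩ := he
    obtain ⟨heT', hev'⟩ := he'
    apply hpar e heT e' heT'
    by_cases ha : (ends e).1 = v <;> by_cases ha' : (ends e').1 = v
    · rw [if_pos ha, if_pos ha'] at heq
      left
      exact Prod.ext (ha'.trans ha.symm) heq.symm
    · rw [if_pos ha, if_neg ha'] at heq
      have hb' : (ends e').2 = v := hev'.resolve_left ha'
      right
      exact Prod.ext heq.symm (hb'.trans ha.symm)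
    · rw [if_neg ha, if_pos ha'] at heq
      have hb : (ends e).2 = v := hev.resolve_left ha
      right
      exact Prod.ext (ha'.trans hb.symm) heq.symm
    · rw [if_neg ha, if_neg ha'] at heq
      have hb : (ends e).2 = v := hev.resolve_left ha
      have hb' : (ends e').2 = v := hev'.resolve_left ha'
      left
      exact Prod.ext heq.symm (hb'.trans hb.symm)
  · intro w hw
    simp only [Finset.mem_filter, Finset.mem_univ, true_and] at hw
    obtain ⟨hwv, e, heT, he⟩ := hw
    refine ⟨e, ?_, ?_⟩
    · simp only [Finset.mem_filter]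
      refine ⟨heT, ?_⟩
      rcases he with he | he
      · left; rw [he]
      · right; rw [he]
    · rcases he with he | he
      · rw [he]; simp
      · rw [he]; simp [hwv]

end Nbr

end Groth.Agent.Lib.Helper25.MatTree
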