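import Groth.Prelude.Def_W4c4cptpiccptjacBI
import Groth.Agent.Lib.Helper25.GraphInc
import Groth.Agent.Lib.Helper25.MatTree
import Groth.Agent.Lib.Helper25.BILib
import Mathlib

/-!
# Energy minimisation for twists (helper25)
-/

set_option autoImplicit false
set_option linter.unusedSectionVars false
universe u
open Finset

namespace Groth.Agent.Lib.Helper25.BILib

open LabGraph Groth.Agent.Lib.Helper25.GraphInc Groth.Agent.Lib.Helper25.MatTree

variable {V E : Type u} [Fintype V] [Fintype E] [DecidableEq V] [DecidableEq E]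
  (ends : E → V × V)

theorem twist_add (φ ψ : V → ℤ) (v : V) :
    twist ends (φ + ψ) v = twist ends φ v + twist ends ψ v := by
  simp only [twist, ← Finset.sum_add_distrib, Pi.add_apply]
  refine Finset.sum_congr rfl fun e _ => ?_
  split_ifs <;> ring

theorem twist_smul (c : ℤ) (φ : V → ℤ) (v : V) :
    twist ends (c • φ) v = c * twist ends φ v := by
  simp only [twist, Finset.mul_sum, Pi.smul_apply, smul_eq_mul]
  refine Finset.sum_congr rfl fun e _ => ?_
  split_ifs <;> ring

theorem twist_eq_neg_sum (φ : V → ℤ) (v : V) :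
    twist ends φ v = -∑ e, inc ends v e * (φ (ends e).2 - φ (ends e).1) := by
  simp only [twist, ← Finset.sum_neg_distrib, inc_apply]
  refine Finset.sum_congr rfl fun e _ => ?_
  split_ifs <;> ring

/-- solvability of the Laplacian system up to a nonzero integer factor -/
theorem exists_twist_eq (hconn : Connected ends) (z : V → ℤ) (hz : ∑ v, z v = 0) :
    ∃ (M : ℤ) (ρ : V → ℤ), M ≠ 0 ∧ ∀ v, twist ends ρ v = M * z v := by
  classical
  obtain ⟨v₀⟩ := hconn.1
  set L₀ := N0 ends v₀ * (Matrix.diagonal (fun _ : E => (1 : ℤ)) * (N0 ends v₀).transpose) with hL₀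
  have hM : L₀.det ≠ 0 := det_L0_ne_zero ends hconn v₀ (fun _ => 1) (fun _ => one_pos)
  let ρ₀ : {v : V // v ≠ v₀} → ℤ := (Matrix.adjugate L₀).mulVec (fun i => -z i.1)
  have hρ₀ : L₀.mulVec ρ₀ = fun i => L₀.det * (-z i.1) := by
    simp only [ρ₀]
    rw [Matrix.mulVec_mulVec, Matrix.mul_adjugate, Matrix.smul_mulVec, Matrix.one_mulVec]
    funext i
    simp
  let ρ : V → ℤ := fun v => if h : v ≠ v₀ then ρ₀ ⟨v, h⟩ else 0
  have hρv₀ : ρ v₀ = 0 := by simp [ρ]
  have hne : ∀ i : {v : V // v ≠ v₀}, twist ends ρ i.1 = L₀.det * z i.1 := by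
    intro i
    have h1 := congrFun hρ₀ i
    rw [twist_eq_neg_sum]
    have h2 : (L₀.mulVec ρ₀) i = ∑ e, inc ends i.1 e * (ρ (ends e).2 - ρ (ends e).1) := by
      have hL₀' : L₀ = N0 ends v₀ * (N0 ends v₀).transpose := by
        rw [hL₀, Matrix.diagonal_one, Matrix.one_mul]
      simp only [Matrix.mulVec, dotProduct, hL₀', Matrix.mul_apply, Matrix.transpose_apply, N0]
      simp only [Finset.sum_mul]
      rw [Finset.sum_comm]
      refine Finset.sum_congr rfl fun e _ => ?_
      rw [← sum_mul_inc ends ρ e]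
      have h3 := Fintype.sum_eq_add_sum_subtype_ne (fun v => ρ v * inc ends v e) v₀
      rw [hρv₀, zero_mul, zero_add] at h3
      rw [h3, Finset.mul_sum]
      refine Finset.sum_congr rfl fun j _ => ?_
      have hj : j.1 ≠ v₀ := j.2
      simp only [ρ, hj, ne_eq, not_false_eq_true, dif_pos]
      ring
    rw [← h2, h1]
    ring
  refine ⟨L₀.det, ρ, hM, fun v => ?_⟩
  by_cases hv : v = v₀
  · subst hv
    have h1 := sum_twist ends ρ
    rw [Fintype.sum_eq_add_sum_subtype_ne _ v, Finset.sum_congr rfl fun i _ => hne i] at h1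
    rw [Fintype.sum_eq_add_sum_subtype_ne _ v] at hz
    rw [← Finset.mul_sum] at h1
    have : ∑ i : {w : V // w ≠ v}, z i.1 = - z v := by linarith
    rw [this] at h1
    linarith
  · exact hne ⟨v, hv⟩

/-- the energy of a vertex labelling -/
def energy (η : V → ℤ) : ℤ := ∑ e, (η (ends e).2 - η (ends e).1) ^ 2

theorem energy_nonneg (η : V → ℤ) : 0 ≤ energy ends η :=
  Finset.sum_nonneg fun _ _ => sq_nonneg _

theorem energy_add_indicator (η : V → ℤ) (Y : Finset V) (t : ℤ) :
    energy ends (η + t • fun v => if v ∈ Y then (1 : ℤ) else 0) =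
      energy ends η - 2 * t * ∑ v ∈ Y, twist ends η v + t ^ 2 * (cut ends Y : ℤ) := by
  rw [sum_twist_on, cut_eq_sum, energy, energy, Finset.mul_sum, Finset.mul_sum,
    ← Finset.sum_sub_distrib, ← Finset.sum_add_distrib]
  refine Finset.sum_congr rfl fun e _ => ?_
  simp only [Pi.add_apply, Pi.smul_apply, smul_eq_mul]
  by_cases h1 : (ends e).1 ∈ Y <;> by_cases h2 : (ends e).2 ∈ Y <;> simp [h1, h2] <;> ring

/-- existence of an energy minimiser on a lattice coset -/
theorem exists_energy_min (ρ : V → ℤ) (m : ℤ) :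
    ∃ φ : V → ℤ, ∀ ψ : V → ℤ, energy ends (ρ + m • φ) ≤ energy ends (ρ + m • ψ) := by
  have hne : (Set.range fun φ : V → ℤ => (energy ends (ρ + m • φ)).toNat).Nonempty :=
    ⟨_, ⟨0, rfl⟩⟩
  obtain ⟨n, ⟨φ, rfl⟩, hmin⟩ := (wellFounded_lt (α := ℕ)).has_min _ hne
  refine ⟨φ, fun ψ => ?_⟩
  have h1 := hmin _ ⟨ψ, rfl⟩
  have h2 := energy_nonneg ends (ρ + m • φ)
  have h3 := energy_nonneg ends (ρ + m • ψ)
  simp only at h1
  omega

end Groth.Agent.Lib.Helper25.BILib
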