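import Mathlib
import Groth.Prelude.Def_CInt
import Groth.Agent.S4871
import Groth.Agent.S1699
import Groth.Agent.Lib.Helper13.NormSmoothBC
import Groth.Agent.Lib.Helper25.SchDenseFlat

/-!
# helper25 — BigOpenDense: for a smooth morphism, an open subset whose complement has positive codimension in every
fibre is schematically dense
-/

set_option autoImplicit false
set_option linter.unusedVariables false
set_option linter.style.haveILetI false
set_option backward.isDefEq.respectTransparency.types false
universe u
open AlgebraicGeometry CategoryTheory Limits Opposite TopologicalSpace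

namespace Groth.Agent.Lib.Helper25.BigOpenDense

/-- in a local domain of positive dimension the maximal ideal is not an associated prime -/
theorem not_isAssociatedPrime_maximalIdeal (R : Type*) [CommRing R] [IsLocalRing R] [IsDomain R]
    (hdim : (1 : WithBot ℕ∞) ≤ ringKrullDim R) :
    ¬ IsAssociatedPrime (IsLocalRing.maximalIdeal R) R := by
  rintro ⟨hp, a, ha⟩
  have hbot : IsLocalRing.maximalIdeal R = ⊥ := by
    by_cases ha0 : a = 0
    · exfalso
      subst ha0
      have : (1 : R) ∈ IsLocalRing.maximalIdeal R := by
        rw [ha]
        apply Ideal.le_radical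
        rw [Submodule.mem_colon_singleton]
        simp
      exact hp.ne_top ((Ideal.eq_top_iff_one _).2 this)
    · rw [ha, eq_bot_iff]
      intro r hr
      obtain ⟨n, hn⟩ := hr
      rw [Submodule.mem_colon_singleton, Submodule.mem_bot, smul_eq_mul] at hn
      rcases mul_eq_zero.1 hn with h | h
      · exact (Submodule.mem_bot R).2 (eq_zero_of_pow_eq_zero h)
      · exact absurd h ha0
  have hf : IsField R := IsLocalRing.isField_iff_maximalIdeal_eq.2 hbot
  have h0 : ringKrullDim R = 0 := ringKrullDim_eq_zero_of_isField hf
  rw [h0] at hdim
  exact absurd hdim (by decide)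

/-- in a locally Noetherian scheme, an open subset is schematically dense as soon as the local rings at the points
outside it are domains of positive dimension -/
theorem isSchematicallyDense_of_isDomain {Z : Scheme.{u}} [IsLocallyNoetherian Z] (U : Z.Opens)
    (hdom : ∀ z : Z, z ∉ U → IsDomain (Z.presheaf.stalk z) ∧
      (1 : WithBot ℕ∞) ≤ ringKrullDim (Z.presheaf.stalk z)) :
    CInt.IsSchematicallyDense U := by
  rw [Groth.Agent.S1699.result Z U]
  intro z hass
  by_contra hzU
  obtain ⟨hd, hdim⟩ := hdom z hzU
  exact not_isAssociatedPrime_maximalIdeal _ hdim hass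

/-- the local ring of the fibre through `fiberι s z` is the local ring of the fibre over `s` at `z` -/
theorem ringKrullDim_fiberStalk {X S : Scheme.{u}} (f : X ⟶ S) (s : S) (z : f.fiber s) :
    ringKrullDim (CInt.fiberStalk f (f.fiberι s z)) = ringKrullDim ((f.fiber s).presheaf.stalk z) := by
  obtain ⟨x, hx⟩ : ∃ x : X, x = f.fiberι s z := ⟨_, rfl⟩
  have hxs : f x = s := by
    have : x ∈ f ⁻¹' {s} := by
      rw [← Scheme.Hom.range_fiberι]; exact ⟨z, hx.symm⟩
    exact this
  subst hxs
  have hz : z = f.asFiber x := by
    apply (f.fiberι _).isEmbedding.injective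
    rw [Scheme.Hom.fiberι_asFiber, ← hx]
  subst hz
  rw [f.fiberι_asFiber x]

/-- the local rings of the spectrum of a field are integrally closed -/
theorem isIntegrallyClosed_stalk_spec_field (S : Scheme.{u}) (s : S) (x : Spec (S.residueField s)) :
    IsIntegrallyClosed ((Spec (S.residueField s)).presheaf.stalk x) := by
  letI k : Algebra ↑(S.residueField s) ↑((Spec (S.residueField s)).presheaf.stalk x) :=
    StructureSheaf.stalkAlgebra (↑(S.residueField s)) x
  haveI : IsLocalization.AtPrime ((Spec (S.residueField s)).presheaf.stalk x) x.asIdeal :=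
    StructureSheaf.IsLocalization.to_stalk (S.residueField s) x
  exact isIntegrallyClosed_of_isLocalization (R := S.residueField s)
    ((Spec (S.residueField s)).presheaf.stalk x) x.asIdeal.primeCompl
    x.asIdeal.primeCompl_le_nonZeroDivisors

/-- **big opens are schematically dense**: for a smooth morphism `f : X ⟶ S`, an open subset `U` of `X` such
that the local rings of the fibres at the points outside `U` have positive dimension is schematically dense. -/
theorem isSchematicallyDense_of_smooth {X S : Scheme.{u}} (f : X ⟶ S) [Smooth f] (U : X.Opens)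
    (hU : ∀ x : X, x ∉ U → (1 : WithBot ℕ∞) ≤ ringKrullDim (CInt.fiberStalk f x)) :
    CInt.IsSchematicallyDense U := by
  have hfib : ∀ s : S, CInt.IsSchematicallyDense ((f.fiberι s) ⁻¹ᵁ U) := by
    intro s
    haveI : Smooth (f.fiberToSpecResidueField s) :=
      inferInstanceAs (Smooth (pullback.snd f (S.fromSpecResidueField s)))
    haveI : IsLocallyNoetherian (f.fiber s) :=
      LocallyOfFiniteType.isLocallyNoetherian (f.fiberToSpecResidueField s)
    apply isSchematicallyDense_of_isDomain
    intro z hz
    refine ⟨(Groth.Agent.Lib.Helper13.NormSmoothBC.normal_stalk_of_smooth (f.fiberToSpecResidueField s)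
      (isIntegrallyClosed_stalk_spec_field S s) z).1, ?_⟩
    rw [← ringKrullDim_fiberStalk f s z]
    exact hU _ hz
  have h1 := (Groth.Agent.S4871.result f U).2 hfib S (𝟙 S)
  have h2 := Groth.Agent.Lib.Helper25.SchDenseFlat.isSchematicallyDense_preimage_of_flat_lfp
    (inv (pullback.fst f (𝟙 S))) _ h1
  rw [← Scheme.Hom.comp_preimage, IsIso.inv_hom_id] at h2
  exact h2

end Groth.Agent.Lib.Helper25.BigOpenDense
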