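import Groth.Prelude.Def_W4c2conddiscmodels
import Groth.Agent.Lib.Helper25.GraphInc
import Groth.Agent.Lib.Helper25.GraphTree
import Mathlib

/-!
# Circuit-coprime labelled multigraphs (helper25)
-/

set_option autoImplicit false
set_option linter.unusedSectionVars false
universe u
open Finset

namespace Groth.Agent.Lib.Helper25.CircCoprime

open LabGraph DualGr Groth.Agent.Lib.Helper25.GraphInc Groth.Agent.Lib.Helper25.GraphTree

variable {V E : Type u} [Fintype V] [Fintype E] [DecidableEq V] [DecidableEq E]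
  (ends : E → V × V) (l : E → ℕ)

/-- every integer edge vector is a multiple of the labels plus a coboundary -/
def Surj : Prop :=
  ∀ x : E → ℤ, ∃ (y : E → ℤ) (f : V → ℤ), ∀ e, x e = (l e : ℤ) * y e + (f (ends e).2 - f (ends e).1)

/-- the same modulo `n` -/
def SurjMod (n : ℕ) : Prop :=
  ∀ x : E → ℤ, ∃ (y : E → ℤ) (f : V → ℤ) (z : E → ℤ),
    ∀ e, x e = (l e : ℤ) * y e + (f (ends e).2 - f (ends e).1) + (n : ℤ) * z e

theorem surjMod_one : SurjMod ends l 1 := fun x => ⟨0, 0, x, fun e => by simp⟩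

theorem surjMod_mul {a b : ℕ} (ha : SurjMod ends l a) (hb : SurjMod ends l b) :
    SurjMod ends l (a * b) := by
  intro x
  obtain ⟨y, f, z, h⟩ := ha x
  obtain ⟨y', f', z', h'⟩ := hb z
  refine ⟨fun e => y e + a * y' e, fun v => f v + a * f' v, z', fun e => ?_⟩
  rw [h e, h' e]
  push_cast
  ring

theorem surjMod_prime (hconn : Connected ends) (hcop : IsCircuitCoprime ends l) (p : ℕ)
    (hp : p.Prime) : SurjMod ends l p := by
  classical
  intro x
  have hfor : IsForestSet ends (Finset.univ.filter fun e => p ∣ l e) := by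
    intro C hCS hC
    have h1 : p ∣ C.gcd l := Finset.dvd_gcd fun e he => (Finset.mem_filter.mp (hCS he)).2
    rw [hcop C hC] at h1
    exact hp.one_lt.ne' (Nat.dvd_one.mp h1)
  obtain ⟨T, hST, hT⟩ := exists_spanningTree_extending ends hconn _ hfor
  obtain ⟨f, hf⟩ := exists_potential ends T hT x
  have hex : ∀ e, ∃ y z : ℤ, x e = (l e : ℤ) * y + (f (ends e).2 - f (ends e).1) + (p : ℤ) * z := by
    intro e
    by_cases he : e ∈ T
    · exact ⟨0, 0, by rw [hf e he]; ring⟩
    · have hnd : ¬ p ∣ l e := fun h => he (hST (by simp [h]))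
      have hcop' : Nat.Coprime (l e) p := ((Nat.Prime.coprime_iff_not_dvd hp).mpr hnd).symm
      obtain ⟨a, b, hab⟩ := Nat.isCoprime_iff_coprime.mpr hcop'
      refine ⟨(x e - (f (ends e).2 - f (ends e).1)) * a, (x e - (f (ends e).2 - f (ends e).1)) * b, ?_⟩
      have : x e - (f (ends e).2 - f (ends e).1) =
          (x e - (f (ends e).2 - f (ends e).1)) * (a * (l e : ℤ) + b * (p : ℤ)) := by
        rw [hab, mul_one]
      linear_combination this
  choose y z hyz using hex
  exact ⟨y, f, z, hyz⟩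

theorem surjMod_all (hconn : Connected ends) (hcop : IsCircuitCoprime ends l) (n : ℕ) (hn : n ≠ 0) :
    SurjMod ends l n := by
  induction n using Nat.recOnMul with
  | zero => exact absurd rfl hn
  | one => exact surjMod_one ends l
  | prime p hp => exact surjMod_prime ends l hconn hcop p hp
  | mul a b iha ihb =>
    have ha : a ≠ 0 := fun h => hn (by rw [h, zero_mul])
    have hb : b ≠ 0 := fun h => hn (by rw [h, mul_zero])
    exact surjMod_mul ends l (iha ha) (ihb hb)

theorem surj_of_coprime (hl : ∀ e, 0 < l e) (hconn : Connected ends)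
    (hcop : IsCircuitCoprime ends l) : Surj ends l := by
  intro x
  have hn : (∏ e, l e) ≠ 0 := Finset.prod_ne_zero_iff.mpr fun e _ => (hl e).ne'
  obtain ⟨y, f, z, h⟩ := surjMod_all ends l hconn hcop _ hn x
  refine ⟨fun e => y e + ((∏ e' ∈ Finset.univ.erase e, l e' : ℕ) : ℤ) * z e, f, fun e => ?_⟩
  rw [h e, ← Finset.mul_prod_erase _ _ (Finset.mem_univ e)]
  push_cast
  ring

theorem orth_of_surj (h : Surj ends l) (x : E → ℤ) :
    ∃ y : E → ℤ, ∀ γ : E → ℤ, (∀ v : V, boundary ends γ v = 0) →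
      ∑ e : E, γ e * (x e - (l e : ℤ) * y e) = 0 := by
  obtain ⟨y, f, hyf⟩ := h x
  refine ⟨y, fun γ hγ => ?_⟩
  have h1 : ∀ e, γ e * (x e - (l e : ℤ) * y e) = ∑ v, f v * (inc ends v e * γ e) := by
    intro e
    rw [hyf e]
    have := sum_mul_inc ends f e
    rw [show ∑ v, f v * (inc ends v e * γ e) = (∑ v, f v * inc ends v e) * γ e by
      rw [Finset.sum_mul]; exact Finset.sum_congr rfl fun v _ => by ring]
    rw [this]; ring
  rw [Finset.sum_congr rfl fun e _ => h1 e, Finset.sum_comm]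
  refine Finset.sum_eq_zero fun v _ => ?_
  rw [← Finset.mul_sum]
  have h2 := hγ v
  rw [boundary_eq_mulVec] at h2
  simp only [Matrix.mulVec, dotProduct] at h2
  rw [h2, mul_zero]

theorem coprime_of_orth
    (h : ∀ x : E → ℤ, ∃ y : E → ℤ, ∀ γ : E → ℤ, (∀ v : V, boundary ends γ v = 0) →
      ∑ e : E, γ e * (x e - (l e : ℤ) * y e) = 0) : IsCircuitCoprime ends l := by
  intro C hC
  obtain ⟨e₀, he₀⟩ := hC.1
  obtain ⟨γ, hγ, hγ1, hγ0⟩ := exists_cycle_of_circuit ends C hC e₀ he₀
  obtain ⟨y, hy⟩ := h (Pi.single e₀ 1)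
  have h1 := hy γ hγ
  simp only [mul_sub, Finset.sum_sub_distrib] at h1
  have h2 : ∑ e, γ e * (Pi.single e₀ (1 : ℤ) : E → ℤ) e = 1 := by
    rw [Finset.sum_eq_single e₀]
    · rw [Pi.single_eq_same, mul_one, hγ1]
    · intro e _ hne
      rw [Pi.single_eq_of_ne hne, mul_zero]
    · intro h; exact absurd (Finset.mem_univ _) h
  rw [h2] at h1
  have h3 : ((C.gcd l : ℕ) : ℤ) ∣ ∑ e, γ e * ((l e : ℤ) * y e) := by
    refine Finset.dvd_sum fun e _ => ?_
    by_cases he : e ∈ C
    · have : ((C.gcd l : ℕ) : ℤ) ∣ (l e : ℤ) := Int.natCast_dvd_natCast.mpr (Finset.gcd_dvd he)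
      exact Dvd.dvd.mul_left (Dvd.dvd.mul_right this _) _
    · rw [hγ0 e he, zero_mul]; exact dvd_zero _
  have h4 : ∑ e, γ e * ((l e : ℤ) * y e) = 1 := by linarith
  rw [h4] at h3
  have h5 : (C.gcd l : ℕ) ∣ 1 := by exact_mod_cast h3
  exact Nat.dvd_one.mp h5

theorem coprime_of_surj (h : Surj ends l) : IsCircuitCoprime ends l :=
  coprime_of_orth ends l (orth_of_surj ends l h)

end Groth.Agent.Lib.Helper25.CircCoprime
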