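import Groth.Prelude.Def_W4c2conddiscmodels
import Groth.Agent.Lib.Helper25.LabContract
import Mathlib

set_option autoImplicit false
set_option linter.unusedSectionVars false
universe u
open Finset

namespace Groth.Agent.Lib.Helper25.CokerCard

open LabGraph DualGr Groth.Agent.Lib.Helper25.LabContract

variable {V : Type u} [Fintype V] [DecidableEq V]

theorem card_quot_range (F : Matrix V V ℤ) (hdet : F.det ≠ 0) :
    Nat.card ((V → ℤ) ⧸ LinearMap.range F.mulVecLin) = F.det.natAbs := by
  have hinj : Function.Injective F.mulVecLin := by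
    intro x y hxy
    exact Matrix.mulVec_injective_of_det_ne_zero hdet hxy
  have h := Submodule.natAbs_det_equiv (LinearMap.range F.mulVecLin)
    (LinearEquiv.ofInjective F.mulVecLin hinj)
  rw [← h]
  congr 1
  have : (LinearMap.range F.mulVecLin).subtype ∘ₗ
      AddMonoidHom.toIntLinearMap
        ((LinearEquiv.ofInjective F.mulVecLin hinj : (V → ℤ) ≃ₗ[ℤ] LinearMap.range F.mulVecLin) :
          (V → ℤ) →+ LinearMap.range F.mulVecLin) = F.mulVecLin := by
    ext x : 1
    rfl
  rw [this]
  rw [← Matrix.toLin'_apply', LinearMap.det_toLin']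

variable {E : Type u} [Fintype E] [DecidableEq E] (ends : E → V × V)

theorem card_compGrp (β : V → ℤ) (hβ : IsMultFn ends β) (s : V → ℤ) (m : ℤ) (hm : m ≠ 0)
    (hs : ∑ v, β v * s v = m) (hdvd : ∀ v, m ∣ β v)
    (hdet : (-(mfMatrix ends β) + Matrix.of fun v w => s v * s w).det ≠ 0) :
    Nat.card (CompGrp ends β) =
      (-(mfMatrix ends β) + Matrix.of fun v w => s v * s w).det.natAbs := by
  set M := mfMatrix ends β with hM
  set F : Matrix V V ℤ := -M + Matrix.of fun v w => s v * s w with hF
  rw [← card_quot_range F hdet]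
  -- basic identities
  have hFc : ∀ c : V → ℤ, F.mulVec c = -(M.mulVec c) + (∑ w, s w * c w) • s := by
    intro c
    funext v
    simp only [hF, Matrix.add_mulVec, Matrix.neg_mulVec, Pi.add_apply, Pi.neg_apply, Pi.smul_apply,
      smul_eq_mul]
    congr 1
    simp only [Matrix.mulVec, dotProduct, Matrix.of_apply]
    rw [Finset.sum_mul]
    exact Finset.sum_congr rfl fun w _ => by ring
  have hbeta : ∀ x : V → ℤ, betaHom β x = ∑ v, x v * β v := by
    intro x
    simp [betaHom, Fintype.linearCombination_apply]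
  have hβM : ∀ c : V → ℤ, ∑ v, (M.mulVec c) v * β v = 0 := by
    intro c
    have := weighted_sum_zero ends β c hβ
    rw [← this]
    exact Finset.sum_congr rfl fun v _ => mul_comm _ _
  -- the primitive vector b
  choose b hb using hdvd
  have hMb : M.mulVec b = 0 := by
    have h1 : M.mulVec β = 0 := mulVec_beta ends β hβ
    have h2 : β = m • b := by funext v; simp [hb v]
    rw [h2, Matrix.mulVec_smul] at h1
    exact (smul_eq_zero.mp h1).resolve_left hm
  have hsb : ∑ w, s w * b w = 1 := by
    have h1 : m * ∑ w, s w * b w = m * 1 := by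
      rw [mul_one, Finset.mul_sum]
      conv_rhs => rw [← hs]
      exact Finset.sum_congr rfl fun w _ => by rw [hb w]; ring
    exact mul_left_cancel₀ hm h1
  have hFb : F.mulVec b = s := by
    rw [hFc, hMb, hsb]; simp
  set Λ := LinearMap.ker (betaHom β) with hΛ
  set R := LinearMap.range F.mulVecLin with hR
  set I := LinearMap.range M.mulVecLin with hI
  let φ : Λ →ₗ[ℤ] ((V → ℤ) ⧸ R) := R.mkQ ∘ₗ Λ.subtype
  have hker : LinearMap.ker φ = I.comap Λ.subtype := by
    rw [LinearMap.ker_comp, Submodule.ker_mkQ]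
    ext ⟨x, hx⟩
    rw [hΛ, LinearMap.mem_ker, hbeta] at hx
    simp only [Submodule.mem_comap, Submodule.subtype_apply, hR, hI, LinearMap.mem_range,
      Matrix.mulVecLin_apply]
    constructor
    · rintro ⟨c, rfl⟩
      have h1 : ∑ v, (F.mulVec c) v * β v = (∑ w, s w * c w) * m := by
        rw [hFc]
        simp only [Pi.add_apply, Pi.neg_apply, Pi.smul_apply, smul_eq_mul, add_mul, neg_mul,
          Finset.sum_add_distrib, Finset.sum_neg_distrib, hβM c, neg_zero, zero_add]
        rw [← hs, Finset.mul_sum]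
        exact Finset.sum_congr rfl fun v _ => by ring
      rw [hx] at h1
      have h2 : ∑ w, s w * c w = 0 := by
        rcases mul_eq_zero.mp h1.symm with h | h
        · exact h
        · exact absurd h hm
      refine ⟨-c, ?_⟩
      rw [hFc, h2, Matrix.mulVec_neg]; simp
    · rintro ⟨c, rfl⟩
      refine ⟨-c + (∑ w, s w * c w) • b, ?_⟩
      rw [hFc, Matrix.mulVec_add, Matrix.mulVec_neg, Matrix.mulVec_smul, hMb]
      have h3 : ∑ w, s w * (-c + (∑ w, s w * c w) • b) w = 0 := by
        simp only [Pi.add_apply, Pi.neg_apply, Pi.smul_apply, smul_eq_mul, mul_add, mul_neg,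
          Finset.sum_add_distrib, Finset.sum_neg_distrib]
        have : ∑ x, s x * ((∑ w, s w * c w) * b x) = (∑ w, s w * c w) * ∑ x, s x * b x := by
          rw [Finset.mul_sum]; exact Finset.sum_congr rfl fun x _ => by ring
        rw [this, hsb]; ring
      rw [h3]; simp
  have hsurj : Function.Surjective φ := by
    intro q
    obtain ⟨x, rfl⟩ := Submodule.mkQ_surjective R q
    have hdv : m ∣ betaHom β x := by
      rw [hbeta]
      exact Finset.dvd_sum fun v _ => Dvd.dvd.mul_left ⟨b v, hb v⟩ _
    obtain ⟨k, hk⟩ := hdv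
    have hmem : x - k • s ∈ Λ := by
      rw [hΛ, LinearMap.mem_ker, map_sub, map_smul, hk, hbeta]
      have : ∑ v, s v * β v = m := by
        rw [← hs]; exact Finset.sum_congr rfl fun v _ => mul_comm _ _
      rw [this]; simp [mul_comm]
    refine ⟨⟨x - k • s, hmem⟩, ?_⟩
    simp only [φ, LinearMap.comp_apply, Submodule.subtype_apply, Submodule.mkQ_apply]
    rw [Submodule.Quotient.eq]
    have : x - k • s - x = F.mulVecLin (-(k • b)) := by
      rw [Matrix.mulVecLin_apply, Matrix.mulVec_neg, Matrix.mulVec_smul, hFb]; abel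
    rw [this]
    exact LinearMap.mem_range_self _ _
  exact Nat.card_congr
    ((Submodule.quotEquivOfEq _ _ hker.symm).trans (φ.quotKerEquivOfSurjective hsurj)).toEquiv

end Groth.Agent.Lib.Helper25.CokerCard
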