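import Mathlib
import Groth.Agent.Lib.Helper13.SpecFGLimit

/-!
# Combining two Noetherian approximations of the same morphism
-/

set_option autoImplicit false
set_option linter.deprecated false
set_option linter.style.haveILetI false
set_option linter.unusedVariables false
universe u
open CategoryTheory CategoryTheory.Limits AlgebraicGeometry Topology

namespace Groth.Agent.Lib.Helper25.CombineApprox

open Groth.Agent.Lib.Helper13 Groth.Agent.Lib.Helper13.SpecFG Groth.Agent.Lib.Helper13.LimModel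

variable (K : Type u) [CommRing K]

instance : IsCofiltered (Finset K)ᵒᵖ := inferInstance

/-- a morphism from `Spec K` to an affine scheme of finite type over `ℤ` factors through the
spectrum of a finitely generated subalgebra. -/
theorem exists_factor {T : Scheme.{u}} [IsAffine T] (hT : Algebra.FiniteType ℤ Γ(T, ⊤))
    (b : Spec (CommRingCat.of K) ⟶ T) :
    ∃ (j : (Finset K)ᵒᵖ) (γ : (specDiag K).obj j ⟶ T), (specCone K).π.app j ≫ γ = b := by
  haveI : LocallyOfFinitePresentation (terminal.from (Spec Γ(T, ⊤))) :=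
    locallyOfFinitePresentation_terminal_from_Spec Γ(T, ⊤)
  haveI : LocallyOfFinitePresentation (terminal.from T) := by
    have : terminal.from T = T.isoSpec.hom ≫ terminal.from (Spec Γ(T, ⊤)) :=
      terminal.hom_ext _ _
    rw [this]
    infer_instance
  let t : specDiag K ⟶ (Functor.const (Finset K)ᵒᵖ).obj (⊤_ Scheme.{u}) :=
    { app := fun j => terminal.from _
      naturality := fun _ _ _ => terminal.hom_ext _ _ }
  obtain ⟨j, γ, hγ1, -⟩ := Scheme.exists_π_app_comp_eq_of_locallyOfFinitePresentation (specDiag K) t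
    (terminal.from T) (specCone K) (specIsLimit K) b (by ext j; exact terminal.hom_ext _ _)
  exact ⟨j, γ, hγ1⟩

/-- a model of `h` from a cartesian square over a scheme receiving a stage. -/
noncomputable def modelOf {X X₁ S₁ : Scheme.{u}} (h : X ⟶ (specCone K).pt) (f₁ : X₁ ⟶ S₁)
    [LocallyOfFinitePresentation f₁] [QuasiCompact f₁] [QuasiSeparated f₁]
    (i : (Finset K)ᵒᵖ) (a₁ : (specDiag K).obj i ⟶ S₁) (g₁' : X ⟶ X₁)
    (hpb : IsPullback g₁' h f₁ ((specCone K).π.app i ≫ a₁)) :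
    ModelAt (specDiag K) (specCone K) i h where
  Z₀ := pullback f₁ a₁
  h₀ := pullback.snd f₁ a₁
  g := pullback.lift g₁' (h ≫ (specCone K).π.app i) (by rw [Category.assoc]; exact hpb.w)
  lfp := inferInstance
  qc := inferInstance
  qs := inferInstance
  pb := by
    refine IsPullback.of_right ?_ (pullback.lift_snd _ _ _) (IsPullback.of_hasPullback f₁ a₁)
    rw [pullback.lift_fst]; exact hpb

theorem isLocallyNoetherian_of_finiteType {T : Scheme.{u}} [IsAffine T]
    (hT : Algebra.FiniteType ℤ Γ(T, ⊤)) : IsLocallyNoetherian T := by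
  haveI : IsNoetherianRing Γ(T, ⊤) := Algebra.FiniteType.isNoetherianRing ℤ Γ(T, ⊤)
  exact isLocallyNoetherian_of_isOpenImmersion T.isoSpec.hom

/-- **S9737**: two Noetherian approximations of a morphism can be combined. -/
theorem combine (P Q : MorphismProperty Scheme.{u}) [P.IsStableUnderBaseChange]
    [Q.IsStableUnderBaseChange] {X S : Scheme.{u}} (f : X ⟶ S) [IsAffine X] [IsAffine S]
    {X₁ S₁ X₂ S₂ : Scheme.{u}} [IsAffine X₁] [IsAffine S₁] [IsAffine X₂] [IsAffine S₂]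
    (f₁ : X₁ ⟶ S₁) (g₁ : S ⟶ S₁) (g₁' : X ⟶ X₁) (h₁ : IsPullback g₁' f f₁ g₁)
    (f₂ : X₂ ⟶ S₂) (g₂ : S ⟶ S₂) (g₂' : X ⟶ X₂) (h₂ : IsPullback g₂' f f₂ g₂)
    (hS₁ : Algebra.FiniteType ℤ Γ(S₁, ⊤)) (hS₂ : Algebra.FiniteType ℤ Γ(S₂, ⊤))
    [LocallyOfFiniteType f₁] [LocallyOfFiniteType f₂] (hP : P f₁) (hQ : Q f₂) :
    ∃ (X₀ S₀ : Scheme.{u}) (f₀ : X₀ ⟶ S₀) (g : S ⟶ S₀) (g' : X ⟶ X₀), IsAffine X₀ ∧ IsAffine S₀ ∧
      IsPullback g' f f₀ g ∧ Algebra.FiniteType ℤ Γ(S₀, ⊤) ∧ LocallyOfFiniteType f₀ ∧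
      P f₀ ∧ Q f₀ := by
  classical
  let K : Type u := Γ(S, ⊤)
  haveI := isLocallyNoetherian_of_finiteType hS₁
  haveI := isLocallyNoetherian_of_finiteType hS₂
  haveI : LocallyOfFinitePresentation f₁ := inferInstance
  haveI : LocallyOfFinitePresentation f₂ := inferInstance
  let e : S ≅ (specCone K).pt := S.isoSpec
  let h : X ⟶ (specCone K).pt := f ≫ e.hom
  obtain ⟨j₁, γ₁, hγ₁⟩ := exists_factor K hS₁ (e.inv ≫ g₁)
  obtain ⟨j₂, γ₂, hγ₂⟩ := exists_factor K hS₂ (e.inv ≫ g₂)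
  let i := IsCofiltered.min j₁ j₂
  let a₁ : (specDiag K).obj i ⟶ S₁ := (specDiag K).map (IsCofiltered.minToLeft j₁ j₂) ≫ γ₁
  let a₂ : (specDiag K).obj i ⟶ S₂ := (specDiag K).map (IsCofiltered.minToRight j₁ j₂) ≫ γ₂
  have ha₁ : (specCone K).π.app i ≫ a₁ = e.inv ≫ g₁ := by
    rw [← Category.assoc, (specCone K).w]
    exact hγ₁
  have ha₂ : (specCone K).π.app i ≫ a₂ = e.inv ≫ g₂ := by
    rw [← Category.assoc, (specCone K).w]
    exact hγ₂
  have hiso : IsPullback (𝟙 X) h f e.inv := IsPullback.of_horiz_isIso ⟨by simp [h]⟩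
  have hpb₁ : IsPullback g₁' h f₁ ((specCone K).π.app i ≫ a₁) := by
    rw [ha₁]
    have := hiso.paste_horiz h₁
    rwa [Category.id_comp] at this
  have hpb₂ : IsPullback g₂' h f₂ ((specCone K).π.app i ≫ a₂) := by
    rw [ha₂]
    have := hiso.paste_horiz h₂
    rwa [Category.id_comp] at this
  let M₁ := modelOf K h f₁ i a₁ g₁' hpb₁
  let M₂ := modelOf K h f₂ i a₂ g₂' hpb₂
  obtain ⟨j, φ, ε, hε, -⟩ := ModelAt.exists_iso (specIsLimit K) M₁ M₂ (𝟙 X) (Category.id_comp _)
  have hMpb : IsPullback (M₁.ofHom φ).g h (M₁.ofHom φ).h₀ ((specCone K).π.app j) := (M₁.ofHom φ).pb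
  have hiso' : IsPullback (𝟙 X) f h e.hom := IsPullback.of_horiz_isIso ⟨by simp [h]⟩
  have hfin := hiso'.paste_horiz hMpb
  rw [Category.id_comp] at hfin
  haveI : IsAffine M₁.Z₀ := inferInstanceAs (IsAffine (pullback f₁ a₁))
  have hP₁ : P M₁.h₀ := P.pullback_snd f₁ a₁ hP
  have hQ₂ : Q M₂.h₀ := Q.pullback_snd f₂ a₂ hQ
  haveI : LocallyOfFinitePresentation M₁.h₀ := M₁.lfp
  refine ⟨pullback M₁.h₀ ((specDiag K).map φ), (specDiag K).obj j,
    pullback.snd M₁.h₀ ((specDiag K).map φ), e.hom ≫ (specCone K).π.app j, (M₁.ofHom φ).g,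
    inferInstance, inferInstance, hfin, ?_, inferInstance, ?_, ?_⟩
  · have h1 : Algebra.FiniteType ℤ (Algebra.adjoin ℤ (j.unop : Set K)) :=
      (Subalgebra.fg_iff_finiteType _).mp (Subalgebra.fg_adjoin_finset j.unop)
    exact Algebra.FiniteType.equiv h1
      { (Scheme.ΓSpecIso (.of (Algebra.adjoin ℤ (j.unop : Set K)))).symm.commRingCatIsoToRingEquiv with
        commutes' := fun r => by
          simp only [eq_intCast]
          exact map_intCast
            (Scheme.ΓSpecIso (.of (Algebra.adjoin ℤ (j.unop : Set K)))).symm.commRingCatIsoToRingEquiv r }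
  · exact P.pullback_snd _ _ hP₁
  · rw [← hε]
    exact (Q.cancel_left_of_respectsIso ε.hom _).mpr (Q.pullback_snd _ _ hQ₂)

end Groth.Agent.Lib.Helper25.CombineApprox
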