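import Groth.Agent.Lib.Helper25.Comod2
import Groth.Agent.Lib.Helper23.Reynolds
import Groth.Prelude.Def_ComodDual
import Mathlib

/-!
# Helper library (helper25): the contragredient comodule of a finite projective comodule over a commutative ring
-/

set_option autoImplicit false
set_option linter.unusedSectionVars false
universe u v w w'
open TensorProduct

namespace Groth.Agent.Lib.Helper25.CDualP

open HopfRep

section

variable {k : Type u} [CommRing k] {A : Type v} [CommRing A] [HopfAlgebra k A]
  {V : Type w} [AddCommGroup V] [Module k V] [Module.Finite k V] [Module.Projective k V]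
  (c : HopfRep.Comod k A V)

local notation "Δ" => CoalgebraStruct.comul (R := k) (A := A)
local notation "ε" => CoalgebraStruct.counit (R := k) (A := A)
local notation "S" => HopfAlgebra.antipode k (A := A)

/-- `dualCoactFun` as a linear map in the form -/
noncomputable def dualCoactFunₗ : Module.Dual k V →ₗ[k] (V →ₗ[k] A) where
  toFun := ComodTens.dualCoactFun c
  map_add' := ComodTens.dualCoactFun_add c
  map_smul' := ComodTens.dualCoactFun_smul c

/-- the contragredient coaction -/
noncomputable def dualCoact : Module.Dual k V →ₗ[k] Module.Dual k V ⊗[k] A :=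
  (LinearEquiv.ofBijective (dualTensorHom k V A) dualTensorHom_bijective).symm.toLinearMap ∘ₗ
    dualCoactFunₗ c

theorem dualTensorHom_dualCoact (f : Module.Dual k V) :
    dualTensorHom k V A (dualCoact c f) = ComodTens.dualCoactFun c f := by
  have := (LinearEquiv.ofBijective (dualTensorHom k V A) dualTensorHom_bijective).apply_symm_apply
    (ComodTens.dualCoactFun c f)
  exact this

omit [Module.Finite k V] in
/-- naturality of evaluation -/
theorem dualTensorHom_lTensor {M M' : Type*} [AddCommGroup M] [Module k M] [AddCommGroup M']
    [Module k M'] (g : M →ₗ[k] M') (x : Module.Dual k V ⊗[k] M) (v : V) :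
    dualTensorHom k V M' (g.lTensor (Module.Dual k V) x) v = g (dualTensorHom k V M x v) := by
  induction x using TensorProduct.induction_on with
  | zero => simp
  | tmul φ m => simp
  | add x y hx hy => simp only [map_add, LinearMap.add_apply, hx, hy]

theorem ext_eval {M : Type*} [AddCommGroup M] [Module k M] {x y : Module.Dual k V ⊗[k] M}
    (h : ∀ v, dualTensorHom k V M x v = dualTensorHom k V M y v) : x = y :=
  (dualTensorHom_bijective (R := k) (M := V) (N := M)).1 (LinearMap.ext h)

omit [Module.Finite k V] in
theorem eval_assoc (y : Module.Dual k V ⊗[k] A) (a : A) (v : V) :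
    dualTensorHom k V (A ⊗[k] A) (TensorProduct.assoc k (Module.Dual k V) A A (y ⊗ₜ a)) v =
      dualTensorHom k V A y v ⊗ₜ[k] a := by
  induction y using TensorProduct.induction_on with
  | zero => simp
  | tmul φ b => simp [TensorProduct.smul_tmul']
  | add x y hx hy => simp only [TensorProduct.add_tmul, map_add, LinearMap.add_apply, hx, hy]

omit [Module.Finite k V] in
theorem aux1 (φ : Module.Dual k V) (a : A) (z : V ⊗[k] A) :
    TensorProduct.lid k A (TensorProduct.map φ S z) ⊗ₜ[k] a =
      LinearMap.rTensor A S (TensorProduct.comm k A A
        ((dualTensorHom k V A (φ ⊗ₜ a)).rTensor A z)) := by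
  induction z using TensorProduct.induction_on with
  | zero => simp
  | tmul y b => simp [TensorProduct.smul_tmul]
  | add x y hx hy => simp only [TensorProduct.add_tmul, map_add, hx, hy]

theorem eval_coassoc_left (x : Module.Dual k V ⊗[k] A) (v : V) :
    dualTensorHom k V (A ⊗[k] A) (TensorProduct.assoc k (Module.Dual k V) A A
        ((dualCoact c).rTensor A x)) v =
      LinearMap.rTensor A S (TensorProduct.comm k A A
        ((dualTensorHom k V A x).rTensor A (c.coact v))) := by
  induction x using TensorProduct.induction_on with
  | zero => simp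
  | tmul φ a =>
    rw [LinearMap.rTensor_tmul, eval_assoc, dualTensorHom_dualCoact, ComodTens.dualCoactFun_apply,
      aux1]
  | add x y hx hy =>
    simp only [map_add, LinearMap.add_apply, hx, hy, LinearMap.rTensor_add]


omit [Module.Finite k V] in
theorem aux2 (f : Module.Dual k V) (y : V) (u : A ⊗[k] A) :
    LinearMap.rTensor A S (TensorProduct.comm k A A
      (((TensorProduct.lid k A).toLinearMap ∘ₗ TensorProduct.map f S).rTensor A
        ((TensorProduct.assoc k V A A).symm (y ⊗ₜ[k] u)))) =
    f y • Groth.Agent.Lib.Helper23.antiSwap (k := k) u := by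
  induction u using TensorProduct.induction_on with
  | zero => simp
  | tmul b b' => simp [TensorProduct.tmul_smul]
  | add x y hx hy => simp only [TensorProduct.tmul_add, map_add, hx, hy, smul_add]

omit [Module.Finite k V] in
theorem aux3 (f : Module.Dual k V) (z : V ⊗[k] A) :
    LinearMap.rTensor A S (TensorProduct.comm k A A
      (((TensorProduct.lid k A).toLinearMap ∘ₗ TensorProduct.map f S).rTensor A
        ((TensorProduct.assoc k V A A).symm (LinearMap.lTensor V Δ z)))) =
    Δ (TensorProduct.lid k A (TensorProduct.map f S z)) := by
  induction z using TensorProduct.induction_on with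
  | zero => simp
  | tmul y b =>
    rw [LinearMap.lTensor_tmul, aux2, TensorProduct.map_tmul, TensorProduct.lid_tmul, map_smul,
      Groth.Agent.Lib.Helper23.comul_antipode]
  | add x y hx hy => simp only [map_add, hx, hy]

theorem dualCoact_coassoc :
    (TensorProduct.assoc k (Module.Dual k V) A A).toLinearMap ∘ₗ (dualCoact c).rTensor A ∘ₗ
      dualCoact c = LinearMap.lTensor (Module.Dual k V) Δ ∘ₗ dualCoact c := by
  ext f : 1
  apply ext_eval
  intro v
  simp only [LinearMap.comp_apply, LinearEquiv.coe_coe]
  rw [eval_coassoc_left, dualTensorHom_lTensor, dualTensorHom_dualCoact]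
  have h1 : ComodTens.dualCoactFun c f =
      ((TensorProduct.lid k A).toLinearMap ∘ₗ TensorProduct.map f S) ∘ₗ c.coact := rfl
  have h2 : (TensorProduct.assoc k V A A).symm (LinearMap.lTensor V Δ (c.coact v)) =
      LinearMap.rTensor A c.coact (c.coact v) := by
    have := LinearMap.congr_fun c.coassoc v
    simp only [LinearMap.comp_apply, LinearEquiv.coe_coe] at this
    rw [← this, LinearEquiv.symm_apply_apply]
  rw [h1, LinearMap.rTensor_comp, LinearMap.comp_apply, ← h2, aux3, LinearMap.comp_apply,
    LinearMap.comp_apply]
  rfl

omit [Module.Finite k V] in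
theorem aux4 (f : Module.Dual k V) (z : V ⊗[k] A) :
    ε (TensorProduct.lid k A (TensorProduct.map f S z)) =
      f (TensorProduct.rid k V (LinearMap.lTensor V ε z)) := by
  induction z using TensorProduct.induction_on with
  | zero => simp
  | tmul y b => simp [mul_comm]
  | add x y hx hy => simp only [map_add, hx, hy]

theorem dualCoact_counit :
    LinearMap.lTensor (Module.Dual k V) ε ∘ₗ dualCoact c = (TensorProduct.mk k _ k).flip 1 := by
  ext f : 1
  apply ext_eval
  intro v
  simp only [LinearMap.comp_apply, LinearMap.flip_apply, TensorProduct.mk_apply]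
  rw [dualTensorHom_lTensor, dualTensorHom_dualCoact, ComodTens.dualCoactFun_apply, aux4]
  have := LinearMap.congr_fun c.counit_comp v
  simp only [LinearMap.comp_apply, LinearMap.flip_apply, TensorProduct.mk_apply] at this
  rw [this]
  simp

/-- the contragredient comodule -/
@[reducible] noncomputable def dualComod : HopfRep.Comod k A (Module.Dual k V) where
  coact := dualCoact c
  coassoc := dualCoact_coassoc c
  counit_comp := dualCoact_counit c

theorem isDual_dualComod : ComodTens.Comod.IsDual c (dualComod c) :=
  fun f => dualTensorHom_dualCoact c f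

end

end Groth.Agent.Lib.Helper25.CDualP
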