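import Mathlib

set_option autoImplicit false
open CategoryTheory AlgebraicGeometry CategoryTheory.Limits
universe u

namespace Groth.Agent.Lib.Helper25.CompBC

/-- A point whose closure contains the generic point is the generic point. -/
lemma eq_genericPoint_of_mem_closure {Y : Scheme.{u}} [IsIntegral Y] (y : Y)
    (h : genericPoint Y ∈ closure {y}) : y = genericPoint Y := by
  have h1 : y ⤳ genericPoint Y := specializes_iff_mem_closure.mpr h
  have h2 : genericPoint Y ⤳ y := genericPoint_specializes y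
  exact (h1.antisymm h2).eq

lemma map_genericPoint_of_isDominant {Y Y₀ : Scheme.{u}} [IsIntegral Y] [IsIntegral Y₀]
    (g : Y ⟶ Y₀) [IsDominant g] : g.base (genericPoint Y) = genericPoint Y₀ := by
  apply eq_genericPoint_of_mem_closure
  have h1 : IsGenericPoint (g.base (genericPoint Y)) (closure (g.base '' Set.univ)) :=
    (genericPoint_spec Y).image g.continuous
  rw [Set.image_univ, g.denseRange.closure_range] at h1
  rw [h1.def]; trivial

theorem main {X₀ Y₀ Y : Scheme.{u}} [IsIntegral Y₀] [IsIntegral Y]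
    (g : Y ⟶ Y₀) [IsDominant g] (f₀ : X₀ ⟶ Y₀)
    (hirr : IsIrreducible (f₀.base ⁻¹' {genericPoint Y₀}))
    (C : TopologicalSpace.Closeds X₀) (hC : (C : Set X₀) ∈ irreducibleComponents (X₀ : Type u))
    (hCη : ((C : Set X₀) ∩ f₀.base ⁻¹' {genericPoint Y₀}).Nonempty) [IsIntegral (pullback f₀ g)]
    (e₁ : ((Scheme.IdealSheafData.vanishingIdeal C).subschemeι ≫ f₀) ≫ 𝟙 Y₀ =
      (Scheme.IdealSheafData.vanishingIdeal C).subschemeι ≫ f₀) (e₂ : g ≫ 𝟙 Y₀ = 𝟙 Y ≫ g) :
    IsIso (pullback.map ((Scheme.IdealSheafData.vanishingIdeal C).subschemeι ≫ f₀) g f₀ g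
      (Scheme.IdealSheafData.vanishingIdeal C).subschemeι (𝟙 Y) (𝟙 Y₀) e₁ e₂) := by
  set ι := (Scheme.IdealSheafData.vanishingIdeal C).subschemeι with hι
  set s : Set X₀ := f₀.base ⁻¹' {genericPoint Y₀} with hs
  -- the closed immersion
  have hci : IsClosedImmersion (pullback.map (ι ≫ f₀) g f₀ g ι (𝟙 Y) (𝟙 Y₀) e₁ e₂) := by
    have : MorphismProperty.IsStableUnderComposition @IsClosedImmersion.{u} :=
      (inferInstance : MorphismProperty.IsMultiplicative
        @IsClosedImmersion.{u}).toIsStableUnderComposition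
    exact MorphismProperty.pullbackMap (P := @IsClosedImmersion.{u})
      (inferInstance : IsClosedImmersion ι)
      (inferInstance : IsClosedImmersion (𝟙 Y)) rfl (Category.id_comp g).symm
  -- range ι = C
  have hrange : Set.range ι.base = (C : Set X₀) := by
    rw [hι, Scheme.IdealSheafData.range_subschemeι]
    simp
  -- generic point of closure s
  have hsc : IsIrreducible (closure s) := hirr.closure
  obtain ⟨ζ, hζ⟩ := QuasiSober.sober hsc isClosed_closure
  -- generic point of C
  have hCirr : IsIrreducible (C : Set X₀) := hC.1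
  obtain ⟨γ, hγ⟩ := QuasiSober.sober hCirr C.isClosed
  obtain ⟨c, hcC, hcs⟩ := hCη
  have hγs : γ ∈ s := by
    have h1 : γ ⤳ c := hγ.specializes hcC
    have h2 : f₀.base γ ⤳ f₀.base c := h1.map f₀.continuous
    have h3 : f₀.base c = genericPoint Y₀ := hcs
    rw [h3] at h2
    exact eq_genericPoint_of_mem_closure _ (specializes_iff_mem_closure.mp h2)
  have hCle : (C : Set X₀) ⊆ closure s := by
    rw [← hγ.def]
    exact closure_minimal (Set.singleton_subset_iff.mpr (subset_closure hγs)) isClosed_closure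
  have hCeq : closure s = (C : Set X₀) := (hC.2 hsc hCle |> fun h => Set.Subset.antisymm h hCle)
  have hsC : s ⊆ (C : Set X₀) := hCeq ▸ subset_closure
  -- the generic point of the pullback
  set P := pullback f₀ g
  set ξ : P := genericPoint P
  obtain ⟨x₀, hx₀⟩ := hirr.nonempty
  have hgη : g.base (genericPoint Y) = genericPoint Y₀ := map_genericPoint_of_isDominant g
  obtain ⟨p, hp1, hp2⟩ := Scheme.Pullback.exists_preimage_pullback x₀ (genericPoint Y)
    ((show f₀.base x₀ = genericPoint Y₀ from hx₀).trans hgη.symm)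
  have hξη : (pullback.snd f₀ g).base ξ = genericPoint Y := by
    apply eq_genericPoint_of_mem_closure
    have : ξ ⤳ p := genericPoint_specializes p
    have := this.map (pullback.snd f₀ g).continuous
    rw [hp2] at this
    exact specializes_iff_mem_closure.mp this
  have hξs : (pullback.fst f₀ g).base ξ ∈ s := by
    show f₀.base ((pullback.fst f₀ g).base ξ) = genericPoint Y₀
    rw [← Scheme.Hom.comp_apply, pullback.condition, Scheme.Hom.comp_apply, hξη, hgη]
  -- surjectivity
  have hsurj : Surjective (pullback.map (ι ≫ f₀) g f₀ g ι (𝟙 Y) (𝟙 Y₀) e₁ e₂) := by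
    refine ⟨?_⟩
    rw [← Set.range_eq_univ]
    have hcl : IsClosed (Set.range (pullback.map (ι ≫ f₀) g f₀ g ι (𝟙 Y) (𝟙 Y₀) e₁ e₂).base) :=
      (pullback.map (ι ≫ f₀) g f₀ g ι (𝟙 Y) (𝟙 Y₀) e₁ e₂).isClosedEmbedding.isClosed_range
    have hmem : ξ ∈ Set.range (pullback.map (ι ≫ f₀) g f₀ g ι (𝟙 Y) (𝟙 Y₀) e₁ e₂).base := by
      rw [Scheme.Pullback.range_map]
      refine ⟨?_, ?_⟩
      · show (pullback.fst f₀ g).base ξ ∈ Set.range ι.base
        rw [hrange]; exact hsC hξs
      · simp
    apply Set.eq_univ_of_univ_subset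
    rw [← (genericPoint_spec P).def]
    exact closure_minimal (Set.singleton_subset_iff.mpr hmem) hcl
  exact isIso_of_isClosedImmersion_of_surjective _

end Groth.Agent.Lib.Helper25.CompBC
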