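import Mathlib
import Groth.Agent.Lib.Helper25.ConsMono

/-!
# Closed immersions: a constructible property of morphisms (EGA IV 9.6.1 (iv)) (helper25)
-/

set_option autoImplicit false
set_option linter.unusedSectionVars false
set_option linter.unusedVariables false
set_option linter.style.haveILetI false
set_option linter.deprecated false
universe u

open CategoryTheory CategoryTheory.Limits AlgebraicGeometry Topology TopologicalSpace

namespace Groth.Agent.Lib.Helper25.ConsClosedImm

open Groth.Agent.Lib.Helper25.FibTop Groth.Agent.Lib.Helper25.ConsLocus
  Groth.Agent.Lib.Helper25.ConsFinite Groth.Agent.Lib.Helper25.ConsMono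

theorem isClosedImmersion_iff {X Y : Scheme.{u}} (f : X ⟶ Y) :
    IsClosedImmersion f ↔ IsFinite f ∧ Mono f :=
  IsClosedImmersion.iff_isFinite_and_mono f

/-- EGA IV 9.6.1 (iv): being a closed immersion is a constructible property of morphisms -/
theorem isConsMor_isClosedImmersion :
    ConsProp.IsConsMor.{u} (fun X Y T f g => IsClosedImmersion f) := by
  refine ⟨isFieldStableMor_of_descends @IsClosedImmersion, ?_⟩
  intro X Y S f g _ _ _ _ _ _
  have d1 : Dich _ := isConsMor_isFinite.2 f g
  have d2 : Dich _ := isConsMor_mono.2 f g
  have key : ConsProp.locusMor (fun X Y T f g => IsClosedImmersion f) f g =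
      ConsProp.locusMor (fun X Y T f g => IsFinite f) f g ∩
      ConsProp.locusMor (fun X Y T f g => Mono f) f g := by
    ext s
    exact isClosedImmersion_iff (MoreMor.fiberMap f g s)
  have := d1.inter d2
  rw [← key] at this
  exact this

end Groth.Agent.Lib.Helper25.ConsClosedImm
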