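import Mathlib

/-!
# A constructible subset with empty preimage in a ring already has empty preimage over a finitely
generated subalgebra (EGA IV 8.3.2 for affine schemes, algebraic form)
-/

set_option autoImplicit false
set_option linter.deprecated false
universe u
open PrimeSpectrum Topology

namespace Groth.Agent.Lib.Helper25.ConsEmptyLim

variable {R₀ R : Type u} [CommRing R₀] [CommRing R]

theorem basic_toSet_map_eq_empty_iff (φ : R₀ →+* R) (C : BasicConstructibleSetData R₀) :
    (C.map φ).toSet = ∅ ↔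
      ∃ (n : ℕ) (c : Fin C.n → R), ∑ i, c i * φ (C.g i) = φ C.f ^ n := by
  classical
  unfold BasicConstructibleSetData.toSet
  rw [Set.diff_eq_empty, ← zeroLocus_span (Set.range _), ← zeroLocus_span {_},
    zeroLocus_subset_zeroLocus_iff, Ideal.span_le, Set.singleton_subset_iff, SetLike.mem_coe,
    Ideal.mem_radical_iff]
  simp only [BasicConstructibleSetData.map_f, BasicConstructibleSetData.map_g]
  constructor
  · rintro ⟨n, hn⟩
    rw [Ideal.mem_span_range_iff_exists_fun] at hn
    obtain ⟨c, hc⟩ := hn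
    exact ⟨n, c, hc⟩
  · rintro ⟨n, c, hc⟩
    refine ⟨n, ?_⟩
    rw [Ideal.mem_span_range_iff_exists_fun]
    exact ⟨c, hc⟩

theorem preimage_toSet_eq_empty_iff (φ : R₀ →+* R) (S : ConstructibleSetData R₀) :
    comap φ ⁻¹' S.toSet = ∅ ↔ ∀ C ∈ S, (C.map φ).toSet = ∅ := by
  unfold ConstructibleSetData.toSet
  simp only [Set.preimage_iUnion, Set.iUnion_eq_empty, BasicConstructibleSetData.toSet_map]

/-- EGA IV 8.3.2 (affine, algebraic form): a constructible subset of `Spec R₀` whose preimage in
`Spec R` is empty already has empty preimage in `Spec R₁` for a finitely generated `R₀`-subalgebra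
`R₁` of `R`. -/
theorem exists_finset_adjoin_preimage_eq_empty [Algebra R₀ R] {Z : Set (PrimeSpectrum R₀)}
    (hZ : IsConstructible Z) (hempty : comap (algebraMap R₀ R) ⁻¹' Z = ∅) :
    ∃ s : Finset R, comap (algebraMap R₀ (Algebra.adjoin R₀ (s : Set R))) ⁻¹' Z = ∅ := by
  classical
  obtain ⟨S, rfl⟩ := exists_constructibleSetData_iff.mpr hZ
  rw [preimage_toSet_eq_empty_iff] at hempty
  have h1 : ∀ C ∈ S, ∃ (n : ℕ) (c : Fin C.n → R),
      ∑ i, c i * algebraMap R₀ R (C.g i) = algebraMap R₀ R C.f ^ n := by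
    intro C hC
    rw [← basic_toSet_map_eq_empty_iff]
    exact hempty C hC
  choose! n c hc using h1
  refine ⟨S.biUnion (fun C => Finset.univ.image (c C)), ?_⟩
  rw [preimage_toSet_eq_empty_iff]
  intro C hC
  rw [basic_toSet_map_eq_empty_iff]
  set s : Finset R := S.biUnion (fun C => Finset.univ.image (c C)) with hs
  have hmem : ∀ i, c C i ∈ Algebra.adjoin R₀ (s : Set R) := by
    intro i
    apply Algebra.subset_adjoin
    rw [hs, Finset.mem_coe, Finset.mem_biUnion]
    exact ⟨C, hC, Finset.mem_image.mpr ⟨i, Finset.mem_univ _, rfl⟩⟩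
  refine ⟨n C, fun i => ⟨c C i, hmem i⟩, ?_⟩
  apply Subtype.val_injective
  have := hc C hC
  simpa using this

end Groth.Agent.Lib.Helper25.ConsEmptyLim
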