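import Mathlib
import Groth.Agent.Lib.Helper25.ConsTopMor
import Groth.Agent.Lib.Helper25.NoethApprox
import Groth.Agent.Lib.Helper25.GenClosure
import Groth.Agent.S4759

/-!
# Fibrewise topological properties of locally constructible sets (EGA IV 9.5.3, 9.5.4)
(helper25)

For a property `Pr B B'` of pairs of subsets of a topological space which is invariant under open
continuous surjections, and `f : X ⟶ S`, `Z, Z' ⊆ X`, the locus `locus Pr f Z Z'` is the set of
`s ∈ S` such that `Pr` holds for the traces of `Z`, `Z'` on the (scheme-theoretic) fibre of `f` at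
`s`.  We show the base change compatibility of the locus, and that it is locally constructible as
soon as the dichotomy `Dich` holds over integral Noetherian bases.
-/

set_option autoImplicit false
set_option linter.unusedSectionVars false
set_option linter.unusedVariables false
set_option linter.style.haveILetI false
set_option linter.deprecated false
universe u

open CategoryTheory CategoryTheory.Limits AlgebraicGeometry Topology TopologicalSpace

namespace Groth.Agent.Lib.Helper25.FibSet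

open Groth.Agent.Lib.Helper25.FibTop Groth.Agent.Lib.Helper25.ConsLocus
  Groth.Agent.Lib.Helper25.ConsTopMor

/-- a property of pairs of subsets of topological spaces, invariant under open continuous
surjections -/
def TopInv2 (Pr : ∀ {A : Type u} [TopologicalSpace A], Set A → Set A → Prop) : Prop :=
  ∀ {A' A : Type u} [TopologicalSpace A'] [TopologicalSpace A] (π : A' → A),
    Continuous π → IsOpenMap π → Function.Surjective π →
      ∀ B B' : Set A, Pr B B' ↔ Pr (π ⁻¹' B) (π ⁻¹' B')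

variable (Pr : ∀ {A : Type u} [TopologicalSpace A], Set A → Set A → Prop)

/-- the set of points of the base over which the traces of `Z`, `Z'` on the fibre satisfy `Pr` -/
def locus {X S : Scheme.{u}} (f : X ⟶ S) (Z Z' : Set X) : Set S :=
  {s | Pr ((f.fiberι s) ⁻¹' Z) ((f.fiberι s) ⁻¹' Z')}

section BaseChange

variable {Pr}

theorem mem_locus_iff_of_isPullback (hPr : TopInv2.{u} Pr) {X' X S' S : Scheme.{u}} {a : X' ⟶ X}
    {f' : X' ⟶ S'} {f : X ⟶ S} {b : S' ⟶ S} (h : IsPullback a f' f b) (Z Z' : Set X) (s' : S') :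
    s' ∈ locus Pr f' (a ⁻¹' Z) (a ⁻¹' Z') ↔ b s' ∈ locus Pr f Z Z' := by
  have hsq := isPullback_fiberToSpecResidueField_of_isPullback h s'
  let e : f'.fiber s' ⟶ f.fiber (b s') :=
    pullback.map f' (S'.fromSpecResidueField s') f (S.fromSpecResidueField (b s')) a
      (Spec.map (b.residueFieldMap s')) b h.w.symm (by simp)
  have hsq : IsPullback e (f'.fiberToSpecResidueField s') (f.fiberToSpecResidueField (b s'))
      (Spec.map (b.residueFieldMap s')) := hsq
  have he1 : e ≫ f.fiberι (b s') = f'.fiberι s' ≫ a := pullback.lift_fst _ _ _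
  have hfpqc := fpqc_of_isPullback hsq
  haveI : UniversallyOpen (Spec.map (b.residueFieldMap s')) := inferInstance
  haveI : UniversallyOpen e :=
    MorphismProperty.of_isPullback hsq.flip (inferInstance : UniversallyOpen (Spec.map (b.residueFieldMap s')))
  haveI : Surjective e := hfpqc.1.1
  have key := hPr e e.continuous e.isOpenMap e.surjective ((f.fiberι (b s')) ⁻¹' Z)
    ((f.fiberι (b s')) ⁻¹' Z')
  have hpre : ∀ B : Set X, e ⁻¹' ((f.fiberι (b s')) ⁻¹' B) = (f'.fiberι s') ⁻¹' (a ⁻¹' B) := by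
    intro B
    ext x
    have hpt : (f.fiberι (b s')) (e x) = a ((f'.fiberι s') x) := by
      rw [← Scheme.Hom.comp_apply, ← Scheme.Hom.comp_apply, he1]
    simp only [Set.mem_preimage, hpt]
  rw [hpre, hpre] at key
  exact key.symm

theorem locus_eq_preimage_of_isPullback (hPr : TopInv2.{u} Pr) {X' X S' S : Scheme.{u}}
    {a : X' ⟶ X} {f' : X' ⟶ S'} {f : X ⟶ S} {b : S' ⟶ S} (h : IsPullback a f' f b)
    (Z Z' : Set X) : locus Pr f' (a ⁻¹' Z) (a ⁻¹' Z') = b ⁻¹' locus Pr f Z Z' := by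
  ext s'
  exact mem_locus_iff_of_isPullback hPr h Z Z' s'

end BaseChange


section Noeth

open Groth.Agent.Lib.Helper25.ConsBase Groth.Agent.Lib.Helper25.PC
  Groth.Agent.Lib.helper11.ConstrTop Groth.Agent.Lib.Helper25.GenClosure

variable {Pr}

/-- the generic dichotomy over integral Noetherian bases -/
def DichCore (Pr : ∀ {A : Type u} [TopologicalSpace A], Set A → Set A → Prop) : Prop :=
  ∀ {W T : Scheme.{u}} (p : W ⟶ T) [IsIntegral T] [IsNoetherian T] [LocallyOfFiniteType p]
    [QuasiCompact p] (Z Z' : Set W), IsConstructible Z → IsConstructible Z' →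
      Dich (locus Pr p Z Z')

theorem topInv2_not (hPr : TopInv2.{u} Pr) : TopInv2.{u} (fun {A} _ B B' => ¬ Pr B B') := by
  intro A' A _ _ π h1 h2 h3 B B'
  exact not_congr (hPr π h1 h2 h3 B B')

theorem locus_not {X S : Scheme.{u}} (f : X ⟶ S) (Z Z' : Set X) :
    locus (fun {A} _ B B' => ¬ Pr B B') f Z Z' = (locus Pr f Z Z')ᶜ := rfl

theorem dichCore_not (hD : DichCore.{u} Pr) : DichCore.{u} (fun {A} _ B B' => ¬ Pr B B') := by
  intro W T p _ _ _ _ Z Z' hZ hZ'
  rw [locus_not]
  exact (hD p Z Z' hZ hZ').compl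

/-- preimages of constructible sets between Noetherian spaces -/
theorem isConstructible_preimage_noeth {A B : Type*} [TopologicalSpace A] [TopologicalSpace B]
    [NoetherianSpace A] {φ : A → B} (hφ : Continuous φ) {Z : Set B} (hZ : IsConstructible Z) :
    IsConstructible (φ ⁻¹' Z) :=
  hZ.preimage hφ fun _ _ _ => isRetrocompact_of_noetherian _

theorem indTrace_locus (hPr : TopInv2.{u} Pr) (hD : DichCore.{u} Pr) {X S : Scheme.{u}}
    [IsNoetherian S] (f : X ⟶ S) [LocallyOfFiniteType f] [QuasiCompact f] (Z Z' : Set X)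
    (hZ : IsConstructible Z) (hZ' : IsConstructible Z') : IndTrace (locus Pr f Z Z') := by
  intro Z₁ i hi hint hgen
  haveI : IsLocallyNoetherian Z₁ := LocallyOfFiniteType.isLocallyNoetherian i
  haveI : CompactSpace Z₁ := QuasiCompact.compactSpace_of_compactSpace i
  haveI : IsNoetherian Z₁ := {}
  have hloc := locus_eq_preimage_of_isPullback hPr (IsPullback.of_hasPullback f i) Z Z'
  rw [← hloc] at hgen ⊢
  haveI := noetherianSpace_of_finiteType (pullback.snd f i)
  have hd := hD (pullback.snd f i) _ _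
    (isConstructible_preimage_noeth (pullback.fst f i).continuous hZ)
    (isConstructible_preimage_noeth (pullback.fst f i).continuous hZ')
  rcases hd with hd | hd
  · exact hd
  · exact absurd hgen (genericPoint_mem_of_interior_nonempty hd)

theorem indC_locus_noeth (hPr : TopInv2.{u} Pr) (hD : DichCore.{u} Pr) {X S : Scheme.{u}}
    [IsNoetherian S] (f : X ⟶ S) [LocallyOfFiniteType f] [QuasiCompact f] (Z Z' : Set X)
    (hZ : IsConstructible Z) (hZ' : IsConstructible Z') : IndC (locus Pr f Z Z') :=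
  indC_of_indTrace (indTrace_locus hPr hD f Z Z' hZ hZ')

/-- a Noetherian model of `X ⟶ S` together with two constructible subsets of `X` -/
def HasNoethModelSet {X S : Scheme.{u}} (f : X ⟶ S) (Z Z' : Set X) : Prop :=
  ∃ (S₀ X₀ : Scheme.{u}) (f₀ : X₀ ⟶ S₀) (φ : S ⟶ S₀) (q : X ⟶ X₀) (Z₀ Z₀' : Set X₀),
    IsNoetherian S₀ ∧ LocallyOfFiniteType f₀ ∧ QuasiCompact f₀ ∧ IsPullback q f f₀ φ ∧
      IsConstructible Z₀ ∧ IsConstructible Z₀' ∧ q ⁻¹' Z₀ = Z ∧ q ⁻¹' Z₀' = Z'

theorem indC_locus_of_hasNoethModelSet (hPr : TopInv2.{u} Pr) (hD : DichCore.{u} Pr)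
    {X S : Scheme.{u}} {f : X ⟶ S} {Z Z' : Set X} (h : HasNoethModelSet f Z Z') :
    IndC (locus Pr f Z Z') := by
  obtain ⟨S₀, X₀, f₀, φ, q, Z₀, Z₀', h1, h2, h3, hsq, hZ₀, hZ₀', rfl, rfl⟩ := h
  haveI := h1; haveI := h2; haveI := h3
  rw [locus_eq_preimage_of_isPullback hPr hsq]
  exact IndC.preimage φ (indC_locus_noeth hPr hD f₀ Z₀ Z₀' hZ₀ hZ₀')

theorem indC_locus_of_forall_affine (hPr : TopInv2.{u} Pr) (hD : DichCore.{u} Pr)
    {X S : Scheme.{u}} (f : X ⟶ S) (Z Z' : Set X)
    (H : ∀ U : S.Opens, IsAffineOpen U → HasNoethModelSet (pullback.snd f U.ι)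
      ((pullback.fst f U.ι) ⁻¹' Z) ((pullback.fst f U.ι) ⁻¹' Z')) :
    IndC (locus Pr f Z Z') := by
  apply indC_of_forall_affine
  intro U hU
  rw [← locus_eq_preimage_of_isPullback hPr (IsPullback.of_hasPullback f U.ι)]
  exact indC_locus_of_hasNoethModelSet hPr hD (H U hU)

theorem isLocallyConstructible_locus_of_forall_affine (hPr : TopInv2.{u} Pr)
    (hD : DichCore.{u} Pr) {X S : Scheme.{u}} (f : X ⟶ S) (Z Z' : Set X)
    (H : ∀ U : S.Opens, IsAffineOpen U → HasNoethModelSet (pullback.snd f U.ι)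
      ((pullback.fst f U.ι) ⁻¹' Z) ((pullback.fst f U.ι) ⁻¹' Z')) :
    IsLocallyConstructible (locus Pr f Z Z') := by
  rw [isLocallyConstructible_iff (locSpectral S), proC_iff_indC_compl, ← locus_not]
  exact ⟨indC_locus_of_forall_affine hPr hD f Z Z' H,
    indC_locus_of_forall_affine (topInv2_not hPr) (dichCore_not hD) f Z Z' H⟩

end Noeth


section Approx

open Groth.Agent.Lib.Helper25.NoethApprox Groth.Agent.Lib.Helper25.ConsPair
  Groth.Agent.Lib.Helper22 Groth.Agent.Lib.Helper25.GenClosure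

attribute [local instance] algZZ

variable {Pr}
variable (H : FPDescent.{u})

include H in
/-- Noetherian approximation of a finitely presented scheme over an affine base together with two
constructible subsets -/
theorem hasNoethModelSet_of_isAffine {X S : Scheme.{u}} [IsAffine S] (f : X ⟶ S)
    [LocallyOfFinitePresentation f] [QuasiCompact f] [QuasiSeparated f] (Z Z' : Set X)
    (hZ : IsConstructible Z) (hZ' : IsConstructible Z') : HasNoethModelSet f Z Z' := by
  let K : Type u := Γ(S, ⊤)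
  let D := specDiag ZZ.{u} K
  let c := specCone ZZ.{u} K
  let hc : IsLimit c := specIsLimit ZZ.{u} K
  let e : S ⟶ c.pt := S.isoSpec.hom
  haveI : IsIso e := inferInstanceAs (IsIso S.isoSpec.hom)
  obtain ⟨s₀, X₀, f₀, qX, h1, h2, h3, hX⟩ := H D c hc X (f ≫ e)
  haveI := h1; haveI := h2; haveI := h3
  haveI : CompactSpace X₀ := QuasiCompact.compactSpace_of_compactSpace f₀
  haveI : QuasiSeparatedSpace X₀ := quasiSeparatedSpace_of_quasiSeparated f₀
  let D' := bcDiag D s₀ f₀
  let c' := bcCone D c s₀ f₀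
  let hc' : IsLimit c' := bcIsLimit D hc s₀ f₀
  let θ : X ≅ c'.pt := hX.flip.isoPullback
  have hθ1 : θ.hom ≫ pullback.fst (c.π.app s₀) f₀ = f ≫ e := hX.flip.isoPullback_hom_fst
  have hθ2 : θ.hom ≫ pullback.snd (c.π.app s₀) f₀ = qX := hX.flip.isoPullback_hom_snd
  -- transport the sets
  have hW : IsConstructible (θ.inv ⁻¹' Z : Set c'.pt) :=
    hZ.preimage_of_isOpenEmbedding θ.inv.isOpenEmbedding
  have hW' : IsConstructible (θ.inv ⁻¹' Z' : Set c'.pt) :=
    hZ'.preimage_of_isOpenEmbedding θ.inv.isOpenEmbedding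
  let i₀ : Over s₀ := Over.mk (𝟙 s₀)
  obtain ⟨i, hi, Zi, hZi, hZi'⟩ := Groth.Agent.S4759.result D' c' hc' i₀ _ hW
  obtain ⟨k, hk, Zk', hZk', hZk''⟩ := Groth.Agent.S4759.result D' c' hc' i _ hW'
  -- the model
  let πk : pullback (c.π.app s₀) f₀ ⟶ pullback (D.map k.hom) f₀ := c'.π.app k
  have hπ1 : πk ≫ pullback.snd (D.map k.hom) f₀ = pullback.snd (c.π.app s₀) f₀ :=
    bcCone_π_snd D c s₀ f₀ k
  have hπ2 : πk ≫ pullback.fst (D.map k.hom) f₀ = pullback.fst (c.π.app s₀) f₀ ≫ c.π.app k.left :=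
    bcCone_π_fst D c s₀ f₀ k
  let θ' : X ⟶ pullback (c.π.app s₀) f₀ := θ.hom
  haveI : IsIso θ' := inferInstanceAs (IsIso θ.hom)
  let f₀' : pullback (D.map k.hom) f₀ ⟶ D.obj k.left := pullback.fst (D.map k.hom) f₀
  let φ : S ⟶ D.obj k.left := e ≫ c.π.app k.left
  let q : X ⟶ pullback (D.map k.hom) f₀ := θ' ≫ πk
  have hφ : φ ≫ D.map k.hom = e ≫ c.π.app s₀ := by
    change (e ≫ c.π.app k.left) ≫ D.map k.hom = e ≫ c.π.app s₀
    rw [Category.assoc, c.w]
  have hq1 : q ≫ pullback.snd (D.map k.hom) f₀ = qX := by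
    change (θ' ≫ πk) ≫ pullback.snd (D.map k.hom) f₀ = qX
    rw [Category.assoc, hπ1]
    exact hθ2
  have hq2 : q ≫ f₀' = f ≫ φ := by
    change (θ' ≫ πk) ≫ pullback.fst (D.map k.hom) f₀ = f ≫ e ≫ c.π.app k.left
    rw [Category.assoc, hπ2, ← Category.assoc, ← Category.assoc]
    congr 1
  have hX1 : IsPullback qX f f₀ (e ≫ c.π.app s₀) := by
    have hiso : IsPullback (𝟙 X) f (f ≫ e) e := IsPullback.of_horiz_isIso ⟨by simp⟩
    simpa using hiso.paste_horiz hX
  have hX' : IsPullback q f f₀' φ := by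
    refine IsPullback.of_right ?_ hq2 (IsPullback.of_hasPullback (D.map k.hom) f₀).flip
    rw [hq1, hφ]
    exact hX1
  haveI : LocallyOfFinitePresentation f₀' := inferInstance
  haveI : QuasiCompact f₀' := inferInstance
  haveI : IsLocallyNoetherian (pullback (D.map k.hom) f₀) :=
    LocallyOfFiniteType.isLocallyNoetherian f₀'
  haveI : CompactSpace ↥(pullback (D.map k.hom) f₀) :=
    QuasiCompact.compactSpace_of_compactSpace f₀'
  haveI : IsNoetherian (pullback (D.map k.hom) f₀) := {}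
  haveI : NoetherianSpace ↥(pullback (D.map k.hom) f₀) := inferInstance
  let tk : pullback (D.map k.hom) f₀ ⟶ pullback (D.map i.hom) f₀ := D'.map hk
  have htk : πk ≫ tk = c'.π.app i := c'.w hk
  have hinv : ∀ x : X, θ.inv (θ' x) = x := by
    intro x
    change θ.inv (θ.hom x) = x
    rw [← Scheme.Hom.comp_apply, θ.hom_inv_id]
    rfl
  have hZi2 : ∀ y : c'.pt, (c'.π.app i) y ∈ Zi ↔ θ.inv y ∈ Z := fun y => Set.ext_iff.mp hZi' y
  have hZk2 : ∀ y : c'.pt, (c'.π.app k) y ∈ Zk' ↔ θ.inv y ∈ Z' := fun y => Set.ext_iff.mp hZk'' y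
  refine ⟨D.obj k.left, pullback (D.map k.hom) f₀, f₀', φ, q, tk ⁻¹' Zi, Zk', inferInstance,
    inferInstance, inferInstance, hX', isConstructible_preimage_noeth tk.continuous hZi, hZk', ?_, ?_⟩
  · ext x
    have hx1 : tk (q x) = (c'.π.app i) (θ' x) := by
      have h3 : (θ' ≫ πk ≫ tk) x = (θ' ≫ c'.π.app i) x := by rw [htk]; rfl
      exact h3
    change tk (q x) ∈ Zi ↔ x ∈ Z
    rw [hx1]
    have h4 := hZi2 (θ' x)
    rw [hinv] at h4
    exact h4
  · ext x
    change (c'.π.app k) (θ' x) ∈ Zk' ↔ x ∈ Z'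
    have h4 := hZk2 (θ' x)
    rw [hinv] at h4
    exact h4

include H in
/-- **EGA IV 9.5.3 / 9.5.4, general form**: local constructibility of the locus where the traces
of two locally constructible sets on the fibres satisfy a topological property with the generic
dichotomy. -/
theorem isLocallyConstructible_locus (hPr : TopInv2.{u} Pr) (hD : DichCore.{u} Pr)
    {X S : Scheme.{u}} (f : X ⟶ S) [LocallyOfFinitePresentation f] [QuasiCompact f]
    [QuasiSeparated f] (Z Z' : Set X) (hZ : IsLocallyConstructible Z)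
    (hZ' : IsLocallyConstructible Z') : IsLocallyConstructible (locus Pr f Z Z') := by
  apply isLocallyConstructible_locus_of_forall_affine hPr hD
  intro U hU
  haveI : IsAffine (U : Scheme.{u}) := hU
  haveI : CompactSpace ↥(pullback f U.ι) :=
    QuasiCompact.compactSpace_of_compactSpace (pullback.snd f U.ι)
  haveI : QuasiSeparatedSpace ↥(pullback f U.ι) :=
    quasiSeparatedSpace_of_quasiSeparated (pullback.snd f U.ι)
  exact hasNoethModelSet_of_isAffine H (pullback.snd f U.ι) _ _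
    (hZ.preimage_of_isOpenEmbedding (pullback.fst f U.ι).isOpenEmbedding).isConstructible
    (hZ'.preimage_of_isOpenEmbedding (pullback.fst f U.ι).isOpenEmbedding).isConstructible

end Approx


section Induced

variable {F W : Type*} [TopologicalSpace F] [TopologicalSpace W] {ι : F → W}

theorem preimage_subset_preimage_iff' (A B : Set W) :
    ι ⁻¹' A ⊆ ι ⁻¹' B ↔ A ∩ Set.range ι ⊆ B := by
  constructor
  · rintro h _ ⟨ha, x, rfl⟩
    exact h ha
  · intro h x hx
    exact h ⟨hx, x, rfl⟩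

theorem closure_preimage_of_isInducing (hι : IsInducing ι) (Z : Set W) :
    closure (ι ⁻¹' Z) = ι ⁻¹' closure (Z ∩ Set.range ι) := by
  rw [hι.closure_eq_preimage_closure_image, Set.image_preimage_eq_inter_range]

theorem dense_iff_of_isInducing (hι : IsInducing ι) (Z Z' : Set W) :
    ι ⁻¹' Z' ⊆ closure (ι ⁻¹' Z) ↔ Z' ∩ Set.range ι ⊆ closure (Z ∩ Set.range ι) := by
  rw [closure_preimage_of_isInducing hι, preimage_subset_preimage_iff']

theorem isClosed_iff_of_isInducing (hι : IsInducing ι) (Z : Set W) :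
    IsClosed (ι ⁻¹' Z) ↔ closure (Z ∩ Set.range ι) ∩ Set.range ι ⊆ Z := by
  rw [← closure_subset_iff_isClosed, closure_preimage_of_isInducing hι,
    preimage_subset_preimage_iff']

theorem isOpen_iff_of_isInducing (hι : IsInducing ι) (Z : Set W) :
    IsOpen (ι ⁻¹' Z) ↔ closure (Zᶜ ∩ Set.range ι) ∩ Set.range ι ⊆ Zᶜ := by
  rw [← isClosed_compl_iff, ← Set.preimage_compl, isClosed_iff_of_isInducing hι]

theorem isLocallyClosed_iff_of_isInducing (hι : IsInducing ι) (Z : Set W) :
    IsLocallyClosed (ι ⁻¹' Z) ↔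
      closure ((closure (Z ∩ Set.range ι) \ Z) ∩ Set.range ι) ∩ Set.range ι ⊆
        closure (Z ∩ Set.range ι) \ Z := by
  rw [← isClosed_iff_of_isInducing hι, Set.preimage_diff, ← closure_preimage_of_isInducing hι,
    isLocallyClosed_iff_isOpen_coborder, coborder, isOpen_compl_iff]

end Induced

section Instances

open Groth.Agent.Lib.Helper25.GenClosure

/-- `B` is dense in `B'` -/
def PrDense {A : Type u} [TopologicalSpace A] (B B' : Set A) : Prop := B' ⊆ closure B
/-- `B` is closed -/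
def PrClosed {A : Type u} [TopologicalSpace A] (B B' : Set A) : Prop := IsClosed B
/-- `B` is open -/
def PrOpen {A : Type u} [TopologicalSpace A] (B B' : Set A) : Prop := IsOpen B
/-- `B` is locally closed -/
def PrLC {A : Type u} [TopologicalSpace A] (B B' : Set A) : Prop := IsLocallyClosed B

theorem topInv2_dense : TopInv2.{u} @PrDense := by
  intro A' A _ _ π h1 h2 h3 B B'
  unfold PrDense
  rw [← h2.preimage_closure_eq_closure_preimage h1, h3.preimage_subset_preimage_iff]

theorem topInv2_closed : TopInv2.{u} @PrClosed := by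
  intro A' A _ _ π h1 h2 h3 B B'
  exact ((h2.isQuotientMap h1 h3).isClosed_preimage).symm

theorem topInv2_open : TopInv2.{u} @PrOpen := by
  intro A' A _ _ π h1 h2 h3 B B'
  exact ((h2.isQuotientMap h1 h3).isOpen_preimage).symm

theorem topInv2_lc : TopInv2.{u} @PrLC := by
  intro A' A _ _ π h1 h2 h3 B B'
  unfold PrLC
  rw [isLocallyClosed_iff_isOpen_coborder, isLocallyClosed_iff_isOpen_coborder,
    coborder_preimage h2 h1]
  exact ((h2.isQuotientMap h1 h3).isOpen_preimage).symm

theorem locus_dense_eq {X S : Scheme.{u}} (f : X ⟶ S) (Z Z' : Set X) :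
    locus @PrDense f Z Z' = {s : S | Z' ∩ f ⁻¹' {s} ⊆ closure (Z ∩ f ⁻¹' {s})} := by
  ext s
  change (f.fiberι s) ⁻¹' Z' ⊆ closure ((f.fiberι s) ⁻¹' Z) ↔ _
  rw [dense_iff_of_isInducing (f.fiberι s).isEmbedding.isInducing, f.range_fiberι s]
  rfl

theorem locus_closed_eq {X S : Scheme.{u}} (f : X ⟶ S) (Z Z' : Set X) :
    locus @PrClosed f Z Z' = {s : S | closure (Z ∩ f ⁻¹' {s}) ∩ f ⁻¹' {s} ⊆ Z} := by
  ext s
  change IsClosed ((f.fiberι s) ⁻¹' Z) ↔ _
  rw [isClosed_iff_of_isInducing (f.fiberι s).isEmbedding.isInducing, f.range_fiberι s]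
  rfl

theorem locus_open_eq {X S : Scheme.{u}} (f : X ⟶ S) (Z Z' : Set X) :
    locus @PrOpen f Z Z' = {s : S | closure (Zᶜ ∩ f ⁻¹' {s}) ∩ f ⁻¹' {s} ⊆ Zᶜ} := by
  ext s
  change IsOpen ((f.fiberι s) ⁻¹' Z) ↔ _
  rw [isOpen_iff_of_isInducing (f.fiberι s).isEmbedding.isInducing, f.range_fiberι s]
  rfl

theorem locus_lc_eq {X S : Scheme.{u}} (f : X ⟶ S) (Z Z' : Set X) :
    locus @PrLC f Z Z' = {s : S | closure ((closure (Z ∩ f ⁻¹' {s}) \ Z) ∩ f ⁻¹' {s}) ∩ f ⁻¹' {s} ⊆
      closure (Z ∩ f ⁻¹' {s}) \ Z} := by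
  ext s
  change IsLocallyClosed ((f.fiberι s) ⁻¹' Z) ↔ _
  rw [isLocallyClosed_iff_of_isInducing (f.fiberι s).isEmbedding.isInducing, f.range_fiberι s]
  rfl

theorem dichCore_dense : DichCore.{u} @PrDense := by
  intro W T p _ _ _ _ Z Z' hZ hZ'
  rw [locus_dense_eq]
  exact dich_dense p hZ hZ'

theorem dichCore_closed : DichCore.{u} @PrClosed := by
  intro W T p _ _ _ _ Z Z' hZ hZ'
  rw [locus_closed_eq]
  exact dich_closed p hZ

theorem dichCore_open : DichCore.{u} @PrOpen := by
  intro W T p _ _ _ _ Z Z' hZ hZ'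
  rw [locus_open_eq]
  exact dich_open p hZ

theorem dichCore_lc : DichCore.{u} @PrLC := by
  intro W T p _ _ _ _ Z Z' hZ hZ'
  rw [locus_lc_eq]
  exact dich_locallyClosed p hZ

end Instances

end Groth.Agent.Lib.Helper25.FibSet
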