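import Mathlib
import Groth.Agent.Lib.Helper25.ConsClosedImm
import Groth.Agent.Lib.Helper25.FibSet
import Groth.Agent.Lib.Helper9.ImmDesc1

/-!
# Immersions: a constructible property of morphisms (EGA IV 9.6.1 (v)) (helper25)
-/

set_option autoImplicit false
set_option linter.unusedSectionVars false
set_option linter.unusedVariables false
set_option linter.style.haveILetI false
set_option linter.deprecated false
universe u

open CategoryTheory CategoryTheory.Limits AlgebraicGeometry Topology TopologicalSpace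

namespace Groth.Agent.Lib.Helper25.ConsImm

open Groth.Agent.Lib.Helper25.FibTop Groth.Agent.Lib.Helper25.ConsLocus
  Groth.Agent.Lib.Helper25.FibLocus Groth.Agent.Lib.Helper25.ConsTopMor
  Groth.Agent.Lib.helper11.ConstrTop Groth.Agent.Lib.Helper25.GenClosure
  Groth.Agent.Lib.Helper25.ConsFib Groth.Agent.Lib.Helper25.ConsClosedImm

section Spread

variable {W T : Scheme.{u}} (p : W ⟶ T) [IsIntegral T] [IsNoetherian T]
  [LocallyOfFiniteType p] [QuasiCompact p]

/-- generically, `Z_s` is locally closed in `W_s` iff the "bad set" of `Z` misses the fibre -/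
theorem lc_spread {Z : Set W} (hZ : IsConstructible Z) :
    ∃ U : T.Opens, (U : Set T).Nonempty ∧ ∀ s ∈ U,
      (closure ((closure (Z ∩ p ⁻¹' {s}) \ Z) ∩ p ⁻¹' {s}) ∩ p ⁻¹' {s} ⊆
        closure (Z ∩ p ⁻¹' {s}) \ Z ↔ (closure (closure Z \ Z) ∩ Z) ∩ p ⁻¹' {s} = ∅) := by
  haveI := noetherianSpace_of_finiteType p
  obtain ⟨U₁, hne₁, hU₁⟩ := gc_of_isConstructible p hZ
  have hb : IsConstructible (closure Z \ Z) :=
    (isConstructible_of_isClosed isClosed_closure).sdiff hZ
  obtain ⟨U₂, hne₂, hU₂⟩ := gc_of_isConstructible p hb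
  obtain ⟨t, ht1, ht2⟩ := nonempty_preirreducible_inter U₁.isOpen U₂.isOpen hne₁ hne₂
  refine ⟨U₁ ⊓ U₂, ⟨t, ht1, ht2⟩, ?_⟩
  rintro s ⟨hs1, hs2⟩
  have key : (closure (Z ∩ p ⁻¹' {s}) \ Z) ∩ p ⁻¹' {s} = (closure Z \ Z) ∩ p ⁻¹' {s} := by
    ext w
    constructor
    · rintro ⟨⟨h1, h2⟩, h3⟩
      exact ⟨⟨closure_mono Set.inter_subset_left h1, h2⟩, h3⟩
    · rintro ⟨⟨h1, h2⟩, h3⟩
      exact ⟨⟨hU₁ s hs1 ⟨h1, h3⟩, h2⟩, h3⟩
  rw [key]
  constructor
  · intro h
    rw [Set.eq_empty_iff_forall_notMem]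
    rintro w ⟨⟨hw1, hw2⟩, hw3⟩
    have := h ⟨hU₂ s hs2 ⟨hw1, hw3⟩, hw3⟩
    exact this.2 hw2
  · intro h w hw
    have hw1 : w ∈ closure (closure Z \ Z) := closure_mono Set.inter_subset_left hw.1
    have hwZ : w ∉ Z := fun hc => (Set.eq_empty_iff_forall_notMem.mp h w) ⟨⟨hw1, hc⟩, hw.2⟩
    have hw2 : w ∈ closure Z :=
      (closure_minimal Set.diff_subset isClosed_closure) hw1
    exact ⟨hU₁ s hs1 ⟨hw2, hw.2⟩, hwZ⟩

end Spread

section FieldStable

set_option backward.isDefEq.respectTransparency.types false in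
theorem isFieldStableMor_isImmersion :
    ConsProp.IsFieldStableMor.{u} (fun X Y T f g => IsImmersion f) := by
  intro X X' Y Y' T T' f g f' g' eX eY h _ _ _ _ _ _ _ _ hY hX
  haveI := isLocallyNoetherian_of_subsingleton T
  obtain ⟨h1, h2⟩ := lft_qc_of_comp f g
  haveI : QuasiCompact f' := MorphismProperty.of_isPullback (P := @QuasiCompact) hX h2
  haveI := Groth.Agent.Lib.Helper9.ImmDesc.descendsAlong_quasiCompact_immersion.{u}
  have key := MorphismProperty.iff_of_isPullback (P := (@IsImmersion ⊓ @QuasiCompact :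
    MorphismProperty Scheme.{u})) hX.flip (fpqc_of_isPullback hY)
  constructor
  · intro hf
    exact (key.mpr ⟨hf, h2⟩).1
  · intro hf'
    exact (key.mp ⟨hf', inferInstance⟩).1

end FieldStable


section Main

variable {X Y S : Scheme.{u}} (f : X ⟶ Y) (g : Y ⟶ S)

theorem isIso_ι_of_eq_top {X : Scheme.{u}} (U : X.Opens) (h : U = ⊤) : IsIso U.ι := by
  rw [isIso_iff_isOpenImmersion_and_surjective]
  refine ⟨inferInstance, ⟨fun x => ?_⟩⟩
  have : x ∈ Set.range U.ι := by
    rw [Scheme.Opens.range_ι, h]; trivial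
  exact this

set_option backward.isDefEq.respectTransparency.types false in
/-- if `V ⊆ Y` is an open subset in which `f(X)` is closed and which contains `f(X) ∩ Y_s`, then
`f_s` is an immersion iff `(f ∣_ V)_s` is a closed immersion -/
theorem isImmersion_fiberMap_iff (V : Y.Opens) (hV : closure (Set.range f) ∩ V ⊆ Set.range f)
    (s : S) (hs : Set.range f ∩ g ⁻¹' {s} ⊆ V) :
    IsImmersion (MoreMor.fiberMap f g s) ↔
      IsClosedImmersion (MoreMor.fiberMap (f ∣_ V) (V.ι ≫ g) s) := by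
  have H : IsPullback ((f ≫ g).fiberι s) (MoreMor.fiberMap f g s) f (g.fiberι s) :=
    isPullback_bcMap f g (S.fromSpecResidueField s)
  have H' : IsPullback (((f ∣_ V) ≫ V.ι ≫ g).fiberι s) (MoreMor.fiberMap (f ∣_ V) (V.ι ≫ g) s)
      (f ∣_ V) ((V.ι ≫ g).fiberι s) := isPullback_bcMap (f ∣_ V) (V.ι ≫ g) (S.fromSpecResidueField s)
  have Hj : IsPullback ((V.ι ≫ g).fiberι s) (MoreMor.fiberMap V.ι g s) V.ι (g.fiberι s) :=
    isPullback_bcMap V.ι g (S.fromSpecResidueField s)
  haveI : IsOpenImmersion (MoreMor.fiberMap V.ι g s) :=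
    MorphismProperty.of_isPullback (P := @IsOpenImmersion) Hj inferInstance
  have H1 := H'.paste_vert Hj
  rw [morphismRestrict_ι] at H1
  have R := isPullback_morphismRestrict ((f ≫ g).fiberι s) (f ⁻¹ᵁ V)
  have H2 := R.paste_vert H
  -- the whole fibre lies over `f⁻¹ V`
  have htop : ((f ≫ g).fiberι s) ⁻¹ᵁ (f ⁻¹ᵁ V) = ⊤ := by
    rw [eq_top_iff]
    intro x' _
    apply hs
    refine ⟨⟨_, rfl⟩, ?_⟩
    have hmem : (f ≫ g).fiberι s x' ∈ (f ≫ g) ⁻¹' {s} := by
      rw [← Scheme.Hom.range_fiberι]; exact ⟨x', rfl⟩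
    exact hmem
  haveI := isIso_ι_of_eq_top _ htop
  have e := H1.isoIsPullback_hom_snd _ _ H2
  -- closedness of the range
  have hcl : IsClosed (Set.range (MoreMor.fiberMap (f ∣_ V) (V.ι ≫ g) s)) := by
    rw [range_fiberMap, range_of_isPullback (isPullback_morphismRestrict f V).flip]
    have h1 : (V.ι ⁻¹' Set.range f : Set V.toScheme) = V.ι ⁻¹' closure (Set.range f) := by
      ext y
      constructor
      · intro hy; exact subset_closure hy
      · intro hy
        exact hV ⟨hy, y.2⟩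
    rw [h1]
    exact (isClosed_closure.preimage V.ι.continuous).preimage ((V.ι ≫ g).fiberι s).continuous
  have step1 : IsImmersion (MoreMor.fiberMap f g s) ↔
      IsImmersion ((((f ≫ g).fiberι s) ⁻¹ᵁ (f ⁻¹ᵁ V)).ι ≫ MoreMor.fiberMap f g s) :=
    (MorphismProperty.cancel_left_of_respectsIso @IsImmersion _ _).symm
  have step2 : IsImmersion ((((f ≫ g).fiberι s) ⁻¹ᵁ (f ⁻¹ᵁ V)).ι ≫ MoreMor.fiberMap f g s) ↔
      IsImmersion (MoreMor.fiberMap (f ∣_ V) (V.ι ≫ g) s ≫ MoreMor.fiberMap V.ι g s) := by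
    rw [← e]
    exact (MorphismProperty.cancel_left_of_respectsIso @IsImmersion _ _).symm
  rw [step1, step2, IsImmersion.comp_iff]
  constructor
  · intro h
    exact IsClosedImmersion.of_isPreimmersion _ hcl
  · intro h
    infer_instance

/-- EGA IV 9.6.1 (v): being an immersion is a constructible property of morphisms -/
theorem isConsMor_isImmersion :
    ConsProp.IsConsMor.{u} (fun X Y T f g => IsImmersion f) := by
  refine ⟨isFieldStableMor_isImmersion, ?_⟩
  intro X Y S f g _ _ _ _ _ _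
  obtain ⟨h1, h2, h3, h4⟩ := fp_of_noetherian f g
  haveI := h1; haveI := h2; haveI := h3; haveI := h4
  haveI : IsLocallyNoetherian Y := LocallyOfFiniteType.isLocallyNoetherian g
  haveI : LocallyOfFiniteType f := locallyOfFiniteType_of_comp f g
  haveI : LocallyOfFinitePresentation f :=
    Groth.Agent.Lib.Helper13.LimDescend.locallyOfFinitePresentation_of_comp f g
  haveI : QuasiCompact f := QuasiCompact.of_comp f g
  haveI : CompactSpace Y := QuasiCompact.compactSpace_of_compactSpace g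
  haveI hNY : NoetherianSpace Y := noetherianSpace_of_finiteType g
  haveI hNX : NoetherianSpace X := noetherianSpace_of_finiteType (f ≫ g)
  have hZ : IsConstructible (Set.range f) := by
    have := f.isConstructible_image (IsConstructible.univ)
    rwa [Set.image_univ] at this
  have hL := dich_locallyClosed g hZ
  have hsub : ConsProp.locusMor (fun X Y T f g => IsImmersion f) f g ⊆
      {s : S | closure ((closure (Set.range f ∩ g ⁻¹' {s}) \ Set.range f) ∩ g ⁻¹' {s}) ∩
        g ⁻¹' {s} ⊆ closure (Set.range f ∩ g ⁻¹' {s}) \ Set.range f} := by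
    intro s (hs : IsImmersion (MoreMor.fiberMap f g s))
    have hlc : IsLocallyClosed (Set.range (MoreMor.fiberMap f g s)) := hs.isLocallyClosed_range
    rw [range_fiberMap, Groth.Agent.Lib.Helper25.FibSet.isLocallyClosed_iff_of_isInducing
      (g.fiberι s).isEmbedding.isInducing, Scheme.Hom.range_fiberι] at hlc
    exact hlc
  rcases hL with hL | hL
  · obtain ⟨U, hUne, hU⟩ := lc_spread g hZ
    let V : Y.Opens := ⟨(closure (closure (Set.range f) \ Set.range f))ᶜ,
      isClosed_closure.isOpen_compl⟩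
    have hVcl : closure (Set.range f) ∩ V ⊆ Set.range f := by
      rintro y ⟨hy1, hy2⟩
      by_contra hc
      exact hy2 (subset_closure ⟨hy1, hc⟩)
    haveI : NoetherianSpace V.toScheme := (inferInstance : NoetherianSpace (V : Set Y))
    haveI : NoetherianSpace (f ⁻¹ᵁ V).toScheme :=
      (inferInstance : NoetherianSpace ((f ⁻¹ᵁ V : X.Opens) : Set X))
    refine Dich.of_eqOn (isOpen_interior.inter U.isOpen)
      (nonempty_preirreducible_inter isOpen_interior U.isOpen hL hUne)
      (D := ConsProp.locusMor (fun X Y T f g => IsClosedImmersion f) (f ∣_ V) (V.ι ≫ g)) ?_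
      (isConsMor_isClosedImmersion.2 (f ∣_ V) (V.ι ≫ g))
    rintro s ⟨hs1, hs2⟩
    have hB := (hU s hs2).mp (interior_subset hs1)
    refine isImmersion_fiberMap_iff f g V hVcl s ?_
    rintro y ⟨hy1, hy2⟩ hc
    exact (Set.eq_empty_iff_forall_notMem.mp hB y) ⟨⟨hc, hy1⟩, hy2⟩
  · right
    exact hL.mono (interior_mono (Set.compl_subset_compl.mpr hsub))

end Main

end Groth.Agent.Lib.Helper25.ConsImm
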