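import Mathlib
import Groth.Agent.Lib.Helper25.ConsModA
import Groth.Agent.Lib.Helper25.NoethApprox
import Groth.Agent.Lib.Helper25.LimModDescA

/-!
# helper25 — ConsModB: Noetherian approximation of a finitely presented scheme with a finitely presented module
over an affine base, and EGA IV 9.2.3 for relations `P(X, F, k)` over an arbitrary base.
-/

set_option backward.isDefEq.respectTransparency.types false
set_option autoImplicit false
set_option linter.unusedSectionVars false
set_option linter.unusedVariables false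
set_option linter.style.haveILetI false
universe u

open CategoryTheory CategoryTheory.Limits AlgebraicGeometry Topology

namespace Groth.Agent.Lib.Helper25.ConsMod

open Groth.Agent.Lib.Helper25.ConsBase Groth.Agent.Lib.Helper25.ConsPair Groth.Agent.Lib.Helper22
  Groth.Agent.Lib.Helper25.NoethApprox Groth.Agent.Lib.Helper25.ModMapLocal
  Groth.Agent.Lib.Helper25.LimModDesc Groth.Agent.Lib.Helper21.FPQuot Groth.Agent.Lib.Helper25.PC

attribute [local instance] algZZ

variable (H : FPDescent.{u})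

theorem isCoh_of_isFP {X : Scheme.{u}} (F : X.Modules)
    [SheafOfModules.IsFinitePresentation.{u} (R := X.ringCatSheaf) F] : Coh.IsCoh F :=
  ⟨Groth.Agent.Lib.Helper29.FPDict.isQuasicoherent_of_isFinitePresentation F,
    Groth.Agent.Lib.Helper29.FPDict.isFiniteType_of_isFinitePresentation F⟩

include H in
/-- Noetherian approximation of `(X ⟶ S, F)` over an affine base -/
theorem hasNoethModelMod_of_isAffine {X S : Scheme.{u}} [IsAffine S] (u : X ⟶ S)
    [LocallyOfFinitePresentation u] [QuasiCompact u] [QuasiSeparated u] (F : X.Modules)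
    [SheafOfModules.IsFinitePresentation.{u} (R := X.ringCatSheaf) F] :
    HasNoethModelMod u F := by
  let K : Type u := Γ(S, ⊤)
  let D := specDiag ZZ.{u} K
  let c := specCone ZZ.{u} K
  let hc : IsLimit c := specIsLimit ZZ.{u} K
  let e : S ⟶ c.pt := S.isoSpec.hom
  haveI : IsIso e := inferInstanceAs (IsIso S.isoSpec.hom)
  obtain ⟨s₀, X₀, u₀, qX, h1, h2, h3, hX⟩ := H D c hc X (u ≫ e)
  haveI := h1; haveI := h2; haveI := h3
  haveI : CompactSpace X₀ := QuasiCompact.compactSpace_of_compactSpace u₀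
  haveI : QuasiSeparatedSpace X₀ := quasiSeparatedSpace_of_quasiSeparated u₀
  let D' := bcDiag D s₀ u₀
  let c' := bcCone D c s₀ u₀
  let hc' : IsLimit c' := bcIsLimit D hc s₀ u₀
  let θ : X ≅ c'.pt := hX.flip.isoPullback
  have hθ1 : θ.hom ≫ pullback.fst (c.π.app s₀) u₀ = u ≫ e := hX.flip.isoPullback_hom_fst
  have hθ2 : θ.hom ≫ pullback.snd (c.π.app s₀) u₀ = qX := hX.flip.isoPullback_hom_snd
  -- the module on the limit of the base-changed system, and its descent
  let F' : c'.pt.Modules := (Scheme.Modules.pullback θ.inv).obj F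
  haveI : SheafOfModules.IsFinitePresentation.{u} (R := c'.pt.ringCatSheaf) F' := isFP_pullback θ.inv F
  haveI : ∀ (j k : Over s₀) (f : j ⟶ k), IsAffineHom (D'.map f) :=
    fun _ _ f => bcDiag_isAffineHom D s₀ u₀ f
  haveI : CompactSpace (D'.obj (Over.mk (𝟙 s₀))) := bcDiag_compactSpace D s₀ u₀ _
  haveI : QuasiSeparatedSpace (D'.obj (Over.mk (𝟙 s₀))) := bcDiag_quasiSeparatedSpace D s₀ u₀ _
  obtain ⟨k, φk, Fk, hq, hfp, ⟨eF⟩⟩ := exists_module_descend D' hc' (Over.mk (𝟙 s₀)) F'
  haveI := hfp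
  -- the model
  let πk : pullback (c.π.app s₀) u₀ ⟶ pullback (D.map k.hom) u₀ := c'.π.app k
  have hπ1 : πk ≫ pullback.snd (D.map k.hom) u₀ = pullback.snd (c.π.app s₀) u₀ :=
    bcCone_π_snd D c s₀ u₀ k
  have hπ2 : πk ≫ pullback.fst (D.map k.hom) u₀ = pullback.fst (c.π.app s₀) u₀ ≫ c.π.app k.left :=
    bcCone_π_fst D c s₀ u₀ k
  let θ' : X ⟶ pullback (c.π.app s₀) u₀ := θ.hom
  let uk : pullback (D.map k.hom) u₀ ⟶ D.obj k.left := pullback.fst (D.map k.hom) u₀
  let φ : S ⟶ D.obj k.left := e ≫ c.π.app k.left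
  let qX' : X ⟶ pullback (D.map k.hom) u₀ := θ' ≫ πk
  have hφ : φ ≫ D.map k.hom = e ≫ c.π.app s₀ := by
    change (e ≫ c.π.app k.left) ≫ D.map k.hom = e ≫ c.π.app s₀
    rw [Category.assoc, c.w]
  have hqX'1 : qX' ≫ pullback.snd (D.map k.hom) u₀ = qX := by
    change (θ' ≫ πk) ≫ pullback.snd (D.map k.hom) u₀ = qX
    rw [Category.assoc, hπ1]
    exact hθ2
  have hqX'2 : qX' ≫ uk = u ≫ φ := by
    change (θ' ≫ πk) ≫ pullback.fst (D.map k.hom) u₀ = u ≫ e ≫ c.π.app k.left
    rw [Category.assoc, hπ2, ← Category.assoc, ← Category.assoc]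
    congr 1
  have hX1 : IsPullback qX u u₀ (e ≫ c.π.app s₀) := by
    have hiso : IsPullback (𝟙 X) u (u ≫ e) e := IsPullback.of_horiz_isIso ⟨by simp⟩
    simpa using hiso.paste_horiz hX
  have hX' : IsPullback qX' u uk φ := by
    refine IsPullback.of_right ?_ hqX'2 (IsPullback.of_hasPullback (D.map k.hom) u₀).flip
    rw [hqX'1, hφ]
    exact hX1
  -- the module
  let iso : F ≅ (Scheme.Modules.pullback qX').obj Fk :=
    ((compIso θ.hom θ.inv (𝟙 X) θ.hom_inv_id).app F ≪≫ (Scheme.Modules.pullbackId X).app F).symm ≪≫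
      (Scheme.Modules.pullback θ.hom).mapIso eF.symm ≪≫
      (compIso θ.hom πk qX' rfl).app Fk
  exact ⟨D.obj k.left, pullback (D.map k.hom) u₀, uk, Fk, φ, qX', inferInstance, inferInstance,
    inferInstance, isCoh_of_isFP Fk, hX', ⟨iso⟩⟩

include H in
/-- EGA IV 9.2.3 (ind-constructible case, modules), from `FPDescent` -/
theorem indC_locusMod {P : ∀ ⦃Y T : Scheme.{u}⦄, (Y ⟶ T) → Y.Modules → Prop}
    (hP : ConsProp.IsIndConsMod P) {X S : Scheme.{u}} (u : X ⟶ S)
    [LocallyOfFinitePresentation u] [QuasiCompact u] [QuasiSeparated u] (F : X.Modules)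
    [SheafOfModules.IsFinitePresentation.{u} (R := X.ringCatSheaf) F] :
    IndC (ConsProp.locusMod P u F) :=
  indC_locusMod_of_forall_affine hP u (isCoh_of_isFP F) (fun U hU => by
    haveI : IsAffine U := hU
    haveI := isFP_pullback (pullback.fst u U.ι) F
    exact hasNoethModelMod_of_isAffine H (pullback.snd u U.ι) _)

include H in
/-- EGA IV 9.2.3 (constructible case, modules), from `FPDescent` -/
theorem isLocallyConstructible_locusMod {P : ∀ ⦃Y T : Scheme.{u}⦄, (Y ⟶ T) → Y.Modules → Prop}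
    (hP : ConsProp.IsConsMod P) {X S : Scheme.{u}} (u : X ⟶ S)
    [LocallyOfFinitePresentation u] [QuasiCompact u] [QuasiSeparated u] (F : X.Modules)
    [SheafOfModules.IsFinitePresentation.{u} (R := X.ringCatSheaf) F] :
    IsLocallyConstructible (ConsProp.locusMod P u F) :=
  isLocallyConstructible_locusMod_of_forall_affine hP u (isCoh_of_isFP F) (fun U hU => by
    haveI : IsAffine U := hU
    haveI := isFP_pullback (pullback.fst u U.ι) F
    exact hasNoethModelMod_of_isAffine H (pullback.snd u U.ι) _)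

end Groth.Agent.Lib.Helper25.ConsMod
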