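import Mathlib
import Groth.Agent.Lib.Helper25.ConsModB
import Groth.Agent.Lib.Helper25.ConsLim

/-!
# helper25 — ConsModC: EGA IV 9.3.3 for relations `P(X, F, k)`; the generic point statements.
-/

set_option backward.isDefEq.respectTransparency.types false
set_option autoImplicit false
set_option linter.unusedSectionVars false
set_option linter.unusedVariables false
set_option linter.style.haveILetI false
universe u

open CategoryTheory CategoryTheory.Limits AlgebraicGeometry Topology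

namespace Groth.Agent.Lib.Helper25.ConsMod

open Groth.Agent.Lib.Helper25.ConsBase Groth.Agent.Lib.Helper25.NoethApprox
  Groth.Agent.Lib.Helper25.PC Groth.Agent.Lib.Helper25.ConsLim

variable (H : FPDescent.{u})

include H in
/-- EGA IV 9.3.3 for relations on schemes with a module -/
theorem forall_locusMod_iff_eventually
    {P : ∀ ⦃Y T : Scheme.{u}⦄, (Y ⟶ T) → Y.Modules → Prop} (hP : ConsProp.IsIndConsMod P)
    {I : Type u} [SmallCategory I] [IsCofiltered I]
    (D : I ⥤ Scheme.{u}) (c : Limits.Cone D) (hc : Limits.IsLimit c)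
    [∀ (i j : I) (a : i ⟶ j), IsAffineHom (D.map a)] (i₀ : I) [CompactSpace ↥(D.obj i₀)]
    {X₀ : Scheme.{u}} (u₀ : X₀ ⟶ D.obj i₀)
    [LocallyOfFinitePresentation u₀] [QuasiCompact u₀] [QuasiSeparated u₀]
    (F₀ : X₀.Modules) [SheafOfModules.IsFinitePresentation.{u} (R := X₀.ringCatSheaf) F₀]
    {X : Scheme.{u}} (u : X ⟶ c.pt) (q : X ⟶ X₀) (hX : IsPullback q u u₀ (c.π.app i₀)) :
    (∀ s : ↥c.pt, s ∈ ConsProp.locusMod P u ((Scheme.Modules.pullback q).obj F₀)) ↔
      ∃ (j : I) (φ : j ⟶ i₀) (Xj : Scheme.{u}) (uj : Xj ⟶ D.obj j) (p : Xj ⟶ X₀),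
        IsPullback p uj u₀ (D.map φ) ∧
          ∀ t : ↥(D.obj j), t ∈ ConsProp.locusMod P uj ((Scheme.Modules.pullback p).obj F₀) := by
  have hF₀ : Coh.IsCoh F₀ := isCoh_of_isFP F₀
  have hE₀ : ProCons.IsIndConstructible (ConsProp.locusMod P u₀ F₀) :=
    (isInd_iff _).mpr (indC_locusMod H hP u₀ F₀)
  constructor
  · intro h
    obtain ⟨j, φ, hj⟩ := exists_stage_preimage_eq_univ D c hc i₀ hE₀
      (fun s => (mem_locusMod_iff_of_isPullback hP.1 hX hF₀ (Iso.refl _) s).mp (h s))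
    refine ⟨j, φ, pullback u₀ (D.map φ), pullback.snd u₀ (D.map φ), pullback.fst u₀ (D.map φ),
      IsPullback.of_hasPullback u₀ (D.map φ), fun t => ?_⟩
    rw [locusMod_snd hP.1 u₀ (D.map φ) hF₀]
    exact hj t
  · rintro ⟨j, φ, Xj, uj, p, hp, hj⟩ s
    rw [mem_locusMod_iff_of_isPullback hP.1 hX hF₀ (Iso.refl _) s, ← c.w φ]
    exact (mem_locusMod_iff_of_isPullback hP.1 hp hF₀ (Iso.refl _) (c.π.app j s)).mp (hj _)

end Groth.Agent.Lib.Helper25.ConsMod
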