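import Mathlib
import Groth.Agent.Lib.Helper25.ConsFinite
import Groth.Agent.S4415
import Groth.Agent.S9706
import Groth.Agent.S4418

/-!
# Properness is a constructible property of morphisms (EGA IV 9.6.1 (ii)) (helper25)
-/

set_option autoImplicit false
set_option linter.unusedSectionVars false
set_option linter.unusedVariables false
set_option linter.style.haveILetI false
set_option linter.deprecated false
universe u

open CategoryTheory CategoryTheory.Limits AlgebraicGeometry Topology TopologicalSpace

namespace Groth.Agent.Lib.Helper25.ConsProper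

open Groth.Agent.Lib.Helper25.FibTop Groth.Agent.Lib.Helper25.ConsLocus
  Groth.Agent.Lib.Helper25.FibLocus Groth.Agent.Lib.Helper25.ConsTopMor
  Groth.Agent.Lib.Helper25.ConsSep Groth.Agent.Lib.Helper25.ConsFinite

/-- fpqc descent of properness -/
instance : MorphismProperty.DescendsAlong @IsProper
    (@Surjective ⊓ @Flat ⊓ @QuasiCompact : MorphismProperty Scheme.{u}) where
  of_isPullback {A X Y Z fst snd f g} h hf hfst := by
    haveI : IsProper fst := hfst
    have h1 : UniversallyClosed g :=
      MorphismProperty.of_isPullback_of_descendsAlong (P := @UniversallyClosed) h hf inferInstance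
    have h2 : LocallyOfFiniteType g :=
      MorphismProperty.of_isPullback_of_descendsAlong (P := @LocallyOfFiniteType) h hf inferInstance
    have h3 : IsSeparated g :=
      MorphismProperty.of_isPullback_of_descendsAlong (P := @IsSeparated) h hf inferInstance
    exact {}

section Comp

variable {X' X Y Ys Xs X's : Scheme.{u}} {π : X' ⟶ X} {f : X ⟶ Y} {b : Ys ⟶ Y}
  {a : Xs ⟶ X} {fs : Xs ⟶ Ys} {a' : X's ⟶ X'} {hs : X's ⟶ Ys}

/-- properness may be tested after composing with a proper surjective morphism; version for base
changes -/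
theorem isProper_iff_of_isPullback_comp (h1 : IsPullback a fs f b)
    (h2 : IsPullback a' hs (π ≫ f) b) [IsProper π] [Surjective π] [IsSeparated f]
    [LocallyOfFiniteType f] [QuasiCompact f] : IsProper fs ↔ IsProper hs := by
  let πs : X's ⟶ Xs := h1.lift (a' ≫ π) hs ((Category.assoc _ _ _).trans h2.w)
  have e1 : πs ≫ a = a' ≫ π := h1.lift_fst _ _ _
  have e2 : πs ≫ fs = hs := h1.lift_snd _ _ _
  have hP : IsPullback a' πs π a := by
    refine IsPullback.of_bot ?_ e1.symm h1
    rw [e2]; exact h2
  haveI : IsProper πs := MorphismProperty.of_isPullback hP (inferInstance : IsProper π)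
  haveI : Surjective πs := MorphismProperty.of_isPullback hP (inferInstance : Surjective π)
  haveI : IsSeparated fs := MorphismProperty.of_isPullback h1 (inferInstance : IsSeparated f)
  haveI : LocallyOfFiniteType fs :=
    MorphismProperty.of_isPullback h1 (inferInstance : LocallyOfFiniteType f)
  haveI : QuasiCompact fs := MorphismProperty.of_isPullback h1 (inferInstance : QuasiCompact f)
  constructor
  · intro h
    haveI := h
    rw [← e2]; infer_instance
  · intro h
    haveI : IsProper (πs ≫ fs) := by rw [e2]; exact h
    haveI : UniversallyClosed fs := UniversallyClosed.of_comp_surjective πs fs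
    exact {}

end Comp

section FZ

variable {X T Y S : Scheme.{u}} (j : X ⟶ T) (π : T ⟶ Y) (g : Y ⟶ S)
  [IsOpenImmersion j] [IsProper π]

/-- for `f = j ≫ π` with `j` an open immersion and `π` proper, `f_s` is proper iff the trace of
the range of `j` on the fibre of `T` at `s` is closed in this fibre -/
theorem isProper_fiberMap_comp_iff (s : S) :
    IsProper (MoreMor.fiberMap (j ≫ π) g s) ↔
      closure (Set.range j ∩ (π ≫ g) ⁻¹' {s}) ∩ (π ≫ g) ⁻¹' {s} ⊆ Set.range j := by
  set a := ((j ≫ π) ≫ g).fiberι s with ha
  set b := g.fiberι s with hb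
  set fs := MoreMor.fiberMap (j ≫ π) g s with hfs
  have hsq : IsPullback a fs (j ≫ π) b := isPullback_bcMap (j ≫ π) g (S.fromSpecResidueField s)
  let p1 := pullback.fst π b
  let πs := pullback.snd π b
  have hT : IsPullback p1 πs π b := IsPullback.of_hasPullback π b
  let js : ((j ≫ π) ≫ g).fiber s ⟶ pullback π b :=
    pullback.lift (a ≫ j) fs ((Category.assoc _ _ _).trans hsq.w)
  have hj1 : js ≫ p1 = a ≫ j := pullback.lift_fst _ _ _
  have hj2 : js ≫ πs = fs := pullback.lift_snd _ _ _
  have hJ : IsPullback a js j p1 := by
    refine IsPullback.of_bot ?_ hj1.symm hT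
    rw [hj2]; exact hsq
  haveI : IsOpenImmersion js := MorphismProperty.of_isPullback hJ (inferInstance : IsOpenImmersion j)
  haveI : IsProper πs := MorphismProperty.of_isPullback hT (inferInstance : IsProper π)
  have h3 : IsPullback b (g.fiberToSpecResidueField s) g (S.fromSpecResidueField s) :=
    IsPullback.of_hasPullback g (S.fromSpecResidueField s)
  have h4 := hT.paste_vert h3
  haveI : IsPreimmersion p1 :=
    MorphismProperty.of_isPullback h4.flip (inferInstance : IsPreimmersion (S.fromSpecResidueField s))
  have hr : Set.range p1 = (π ≫ g) ⁻¹' {s} := by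
    rw [range_of_isPullback h4.flip, Scheme.range_fromSpecResidueField]
  have hrange : Set.range js = p1 ⁻¹' Set.range j := range_of_isPullback hJ
  have key : IsProper fs ↔ IsClosed (Set.range js) := by
    constructor
    · intro hfin
      haveI : IsProper (js ≫ πs) := by rw [hj2]; exact hfin
      haveI : IsProper js := IsProper.of_comp js πs
      exact js.isClosedMap.isClosed_range
    · intro hcl
      haveI : IsClosedImmersion js := IsClosedImmersion.of_isPreimmersion js hcl
      rw [← hj2]
      infer_instance
  rw [key, hrange]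
  exact isClosed_preimage_iff_of_isInducing p1.isEmbedding.isInducing hr _

end FZ

section Main

open Groth.Agent.Lib.Helper25.ConsBase Groth.Agent.Lib.Helper25.FibLocusGen
  Groth.Agent.Lib.helper11.ConstrTop Groth.Agent.Lib.Helper25.GenClosure

set_option maxHeartbeats 1600000 in
/-- EGA IV 9.6.1 (ii): properness is a constructible property of morphisms -/
theorem isConsMor_isProper :
    ConsProp.IsConsMor.{u} (fun X Y T f g => IsProper f) := by
  have hfs : ConsProp.IsFieldStableMor.{u} (fun X Y T f g => IsProper f) :=
    isFieldStableMor_of_descends @IsProper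
  refine ⟨hfs, ?_⟩
  intro X Y S f g _ _ _ _ _ _
  obtain ⟨h1, h2, h3, h4⟩ := fp_of_noetherian f g
  haveI := h1; haveI := h2; haveI := h3; haveI := h4
  have dsep := isConsMor_isSeparated.2 f g
  have hsub2 : ConsProp.locusMor (fun X Y T f g => IsProper f) f g ⊆
      ConsProp.locusMor (fun X Y T f g => IsSeparated f) f g := by
    intro s hs
    haveI : IsProper (MoreMor.fiberMap f g s) := hs
    change IsSeparated (MoreMor.fiberMap f g s)
    infer_instance
  rcases dsep with dsep | dsep
  swap
  · right
    exact dsep.mono (interior_mono (Set.compl_subset_compl.mpr hsub2))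
  have hη2 := genericPoint_mem_of_interior_nonempty dsep
  obtain ⟨V, hVne, hQ2'⟩ := spread_generic @IsSeparated
    Groth.Agent.Lib.Helper25.ConsPair.descends_isSeparated f g hη2
  apply dich_of_opens V
  rw [← locusMor_bcMap hfs f g V.ι]
  -- the situation over `V`
  haveI : Nonempty ↥(V : Scheme.{u}) := hVne.to_subtype
  haveI : IsIntegral (V : Scheme.{u}) := isIntegral_of_isOpenImmersion V.ι
  haveI : IsNoetherian (V : Scheme.{u}) := isNoetherian_opens V
  set fV := bcMap f g V.ι with hfV
  set gV := pullback.snd g V.ι with hgV
  haveI : IsSeparated fV := hQ2'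
  haveI : CompactSpace ↥(pullback g V.ι) := QuasiCompact.compactSpace_of_compactSpace gV
  haveI : IsLocallyNoetherian (pullback g V.ι) := LocallyOfFiniteType.isLocallyNoetherian gV
  haveI : IsNoetherian (pullback g V.ι) := {}
  have hcomp : fV ≫ gV = pullback.snd (f ≫ g) V.ι := bcMap_snd f g V.ι
  haveI : LocallyOfFiniteType (fV ≫ gV) := by rw [hcomp]; infer_instance
  haveI : QuasiCompact (fV ≫ gV) := by rw [hcomp]; infer_instance
  haveI : LocallyOfFiniteType fV := locallyOfFiniteType_of_comp fV gV
  haveI : QuasiCompact fV := QuasiCompact.of_comp fV gV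
  -- Chow's lemma
  obtain ⟨X', π, hqp, hπp, hπs, -, -, -, -⟩ := Groth.Agent.S4415.result fV (Or.inl inferInstance)
  obtain ⟨P, j, q, hj, hq, hfac⟩ := Groth.Agent.S9706.result (π ≫ fV) hqp
  haveI := hj; haveI := hπs
  haveI : IsProper q := (Groth.Agent.S4418.result q hq).2
  haveI : IsProper π := (Groth.Agent.S4418.result π hπp).2
  haveI : LocallyOfFiniteType (q ≫ gV) := inferInstance
  haveI : QuasiCompact (q ≫ gV) := inferInstance
  haveI := noetherianSpace_of_finiteType (q ≫ gV)
  have hZ : IsConstructible (Set.range j) := isConstructible_of_isOpen j.isOpenEmbedding.isOpen_range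
  have key : ConsProp.locusMor (fun X Y T f g => IsProper f) fV gV =
      {s | closure (Set.range j ∩ (q ≫ gV) ⁻¹' {s}) ∩ (q ≫ gV) ⁻¹' {s} ⊆ Set.range j} := by
    ext s
    refine Iff.trans ?_ (isProper_fiberMap_comp_iff j q gV s)
    change IsProper (MoreMor.fiberMap fV gV s) ↔ _
    have e1 := isPullback_bcMap fV gV ((V : Scheme.{u}).fromSpecResidueField s)
    have aux : ∀ (m : X' ⟶ pullback g V.ι) (hm : m = π ≫ fV),
        IsProper (MoreMor.fiberMap fV gV s) ↔ IsProper (MoreMor.fiberMap m gV s) := by
      rintro m rfl
      exact isProper_iff_of_isPullback_comp e1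
        (isPullback_bcMap (π ≫ fV) gV ((V : Scheme.{u}).fromSpecResidueField s))
    exact aux (j ≫ q) hfac
  rw [key]
  exact dich_closed (q ≫ gV) hZ

end Main

end Groth.Agent.Lib.Helper25.ConsProper
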