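import Groth.Agent.Lib.Helper25.CycLib

/-! Decomposition of the group ring of a finite commutative group (with invertible order) as the
product of the cyclotomic quotients of its cyclic quotients. -/

set_option autoImplicit false
universe u v
open Polynomial W4c6equivkfinstab

namespace Groth.Agent.Lib.Helper25.CycDecomp
open Groth.Agent.Lib.Helper25.CycLib

section Sat
variable {R : Type u} [CommRing R]

/-- The saturation `{y | ∃ s ∉ 𝔪, s * y ∈ I}` of an ideal `I` at a prime `𝔪`. -/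
def sat (I 𝔪 : Ideal R) [h𝔪 : 𝔪.IsPrime] : Ideal R where
  carrier := {y | ∃ s, s ∉ 𝔪 ∧ s * y ∈ I}
  zero_mem' := ⟨1, (Ideal.ne_top_iff_one 𝔪).mp h𝔪.ne_top, by simp⟩
  add_mem' := by
    rintro a b ⟨s, hs, hsa⟩ ⟨t, ht, htb⟩
    refine ⟨s * t, fun h => (h𝔪.mem_or_mem h).elim hs ht, ?_⟩
    have : s * t * (a + b) = t * (s * a) + s * (t * b) := by ring
    rw [this]
    exact I.add_mem (I.mul_mem_left _ hsa) (I.mul_mem_left _ htb)
  smul_mem' := by
    rintro c a ⟨s, hs, hsa⟩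
    refine ⟨s, hs, ?_⟩
    rw [smul_eq_mul, mul_left_comm]
    exact I.mul_mem_left _ hsa

theorem mem_sat {I 𝔪 : Ideal R} [𝔪.IsPrime] {y : R} :
    y ∈ sat I 𝔪 ↔ ∃ s, s ∉ 𝔪 ∧ s * y ∈ I := Iff.rfl

/-- The colon ideal `{s | s * x ∈ I}`. -/
def colon (I : Ideal R) (x : R) : Ideal R where
  carrier := {s | s * x ∈ I}
  zero_mem' := by simp
  add_mem' := by
    intro a b ha hb
    simp only [Set.mem_ofPred_eq, add_mul] at ha hb ⊢
    exact I.add_mem ha hb
  smul_mem' := by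
    intro c a ha
    simp only [Set.mem_ofPred_eq, smul_eq_mul, mul_assoc] at ha ⊢
    exact I.mul_mem_left _ ha

/-- If `x ∈ sat I 𝔪` for every maximal `𝔪 ⊇ I`, then `x ∈ I`. -/
theorem mem_of_forall_mem_sat {I : Ideal R} {x : R}
    (h : ∀ (𝔪 : Ideal R) (_ : 𝔪.IsMaximal), I ≤ 𝔪 → ∃ s, s ∉ 𝔪 ∧ s * x ∈ I) : x ∈ I := by
  by_contra hx
  have hne : colon I x ≠ ⊤ := by
    intro htop
    have : (1 : R) ∈ colon I x := htop ▸ Submodule.mem_top
    exact hx (by simpa [colon] using this)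
  obtain ⟨𝔪, h𝔪, hle⟩ := Ideal.exists_le_maximal _ hne
  have hI : I ≤ 𝔪 := fun y hy => hle (show y * x ∈ I from I.mul_mem_right _ hy)
  obtain ⟨s, hs, hsx⟩ := h 𝔪 h𝔪 hI
  exact hs (hle hsx)

end Sat


section Aug
variable (Λ : Type u) [CommRing Λ] (M : Type v) [AddCommGroup M]

theorem br_add (a b : M) : br Λ (a + b) = br Λ a * br Λ b := by
  rw [br, br, br, AddMonoidAlgebra.single_mul_single, mul_one]

theorem quotMap_single (B : AddSubgroup M) (m : M) (r : Λ) :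
    quotMap Λ M B (AddMonoidAlgebra.single m r) =
      AddMonoidAlgebra.single (QuotientAddGroup.mk m : M ⧸ B) r := by
  simp only [quotMap, AddMonoidAlgebra.mapDomainRingHom_apply, AddMonoidAlgebra.mapDomain_single]
  rfl

/-- the ideal generated by the `[b] - 1`, `b ∈ B`. -/
noncomputable def augIdeal (B : AddSubgroup M) : Ideal (AddMonoidAlgebra Λ M) :=
  Ideal.span (Set.range fun b : B => br Λ (b : M) - 1)

theorem sub_mapDomain_mem (B : AddSubgroup M) (σ : M ⧸ B → M)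
    (hσ : ∀ c, (QuotientAddGroup.mk (σ c) : M ⧸ B) = c) (y : AddMonoidAlgebra Λ M) :
    y - AddMonoidAlgebra.mapDomain σ (quotMap Λ M B y) ∈ augIdeal Λ M B := by
  induction y using AddMonoidAlgebra.induction_linear with
  | zero => simp
  | add x y hx hy =>
    rw [map_add, AddMonoidAlgebra.mapDomain_add, add_sub_add_comm]
    exact Ideal.add_mem _ hx hy
  | single m r =>
    rw [quotMap_single, AddMonoidAlgebra.mapDomain_single]
    set m' := σ (QuotientAddGroup.mk m) with hm'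
    have hb : m - m' ∈ B := by
      rw [← QuotientAddGroup.eq_zero_iff, QuotientAddGroup.mk_sub, hσ, sub_self]
    have : AddMonoidAlgebra.single m r - AddMonoidAlgebra.single m' r =
        AddMonoidAlgebra.single m' r * (br Λ (m - m') - 1) := by
      rw [mul_sub, mul_one, br, AddMonoidAlgebra.single_mul_single, mul_one, add_sub_cancel]
    rw [this]
    exact Ideal.mul_mem_left _ _ (Ideal.subset_span ⟨⟨m - m', hb⟩, rfl⟩)

theorem ker_quotMap_eq (B : AddSubgroup M) :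
    RingHom.ker (quotMap Λ M B) = augIdeal Λ M B := by
  apply le_antisymm
  · intro x hx
    rw [RingHom.mem_ker] at hx
    have := sub_mapDomain_mem Λ M B (Function.surjInv (QuotientAddGroup.mk_surjective))
      (Function.surjInv_eq _) x
    rwa [hx, AddMonoidAlgebra.mapDomain_zero, sub_zero] at this
  · rw [augIdeal, Ideal.span_le]
    rintro _ ⟨b, rfl⟩
    simp only [SetLike.mem_coe, RingHom.mem_ker, map_sub, map_one]
    rw [quotMap_br_of_mem Λ M B b.2, sub_self]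

theorem ker_quotMap_mono {B₀ B : AddSubgroup M} (h : B₀ ≤ B) :
    RingHom.ker (quotMap Λ M B₀) ≤ RingHom.ker (quotMap Λ M B) := by
  rw [ker_quotMap_eq, augIdeal, Ideal.span_le]
  rintro _ ⟨b, rfl⟩
  simp only [SetLike.mem_coe, RingHom.mem_ker, map_sub, map_one]
  rw [quotMap_br_of_mem Λ M B (h b.2), sub_self]

theorem quotMap_surjective (B : AddSubgroup M) : Function.Surjective (quotMap Λ M B) := by
  intro y
  induction y using AddMonoidAlgebra.induction_linear with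
  | zero => exact ⟨0, map_zero _⟩
  | add x y hx hy =>
    obtain ⟨x', rfl⟩ := hx
    obtain ⟨y', rfl⟩ := hy
    exact ⟨x' + y', map_add _ _ _⟩
  | single c r =>
    obtain ⟨m, rfl⟩ := QuotientAddGroup.mk_surjective c
    exact ⟨AddMonoidAlgebra.single m r, quotMap_single Λ M B m r⟩

theorem ker_cycQuotMap (B : AddSubgroup M) :
    RingHom.ker (cycQuotMap Λ M B) = (cycIdeal Λ (M ⧸ B)).comap (quotMap Λ M B) := by
  rw [cycQuotMap, ← RingHom.comap_ker, Ideal.mk_ker]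

end Aug


section Local
variable (Λ : Type u) [CommRing Λ] (M : Type v) [AddCommGroup M]
variable (𝔪 : Ideal (AddMonoidAlgebra Λ M))

/-- the character `M → (Λ[M]/𝔪)ˣ`, additively. -/
noncomputable def charHom : M →+ Additive (AddMonoidAlgebra Λ M ⧸ 𝔪)ˣ :=
  MonoidHom.toAdditiveRight
    (((Ideal.Quotient.mk 𝔪 : AddMonoidAlgebra Λ M →* _).comp
      (AddMonoidAlgebra.of Λ M)).toHomUnits)

theorem charHom_apply (m : M) :
    ((charHom Λ M 𝔪 m).toMul : AddMonoidAlgebra Λ M ⧸ 𝔪) = Ideal.Quotient.mk 𝔪 (br Λ m) := rfl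

/-- the subgroup of `m` with `[m] ≡ 1 mod 𝔪`. -/
noncomputable def charSub : AddSubgroup M := (charHom Λ M 𝔪).ker

theorem mem_charSub {m : M} : m ∈ charSub Λ M 𝔪 ↔ br Λ m - 1 ∈ 𝔪 := by
  rw [charSub, AddMonoidHom.mem_ker, ← Ideal.Quotient.eq_zero_iff_mem, map_sub, map_one, sub_eq_zero,
    ← charHom_apply]
  constructor
  · intro h; rw [h]; rfl
  · intro h
    apply Additive.toMul.injective
    exact Units.ext h

theorem le_charSub {B₀ : AddSubgroup M} (h : RingHom.ker (quotMap Λ M B₀) ≤ 𝔪) :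
    B₀ ≤ charSub Λ M 𝔪 := by
  intro b hb
  rw [mem_charSub]
  apply h
  rw [RingHom.mem_ker, map_sub, map_one, quotMap_br_of_mem Λ M B₀ hb, sub_self]

theorem mk_br_pow_eq_one_iff (a : M) (i : ℕ) :
    (Ideal.Quotient.mk 𝔪 (br Λ a)) ^ i = 1 ↔ i • a ∈ charSub Λ M 𝔪 := by
  rw [mem_charSub, ← Ideal.Quotient.eq_zero_iff_mem, map_sub, map_one, sub_eq_zero, br_nsmul,
    map_pow]

theorem isAddCyclic_quot_charSub [h𝔪 : 𝔪.IsMaximal] [Finite (M ⧸ charSub Λ M 𝔪)] :
    IsAddCyclic (M ⧸ charSub Λ M 𝔪) := by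
  let _ : Field (AddMonoidAlgebra Λ M ⧸ 𝔪) := Ideal.Quotient.field 𝔪
  rw [← isCyclic_multiplicative_iff]
  let f₀ : M ⧸ charSub Λ M 𝔪 →+ Additive (AddMonoidAlgebra Λ M ⧸ 𝔪)ˣ :=
    QuotientAddGroup.kerLift (charHom Λ M 𝔪)
  have hf₀ : Function.Injective f₀ := QuotientAddGroup.kerLift_injective _
  let f : Multiplicative (M ⧸ charSub Λ M 𝔪) →* (AddMonoidAlgebra Λ M ⧸ 𝔪) :=
    (Units.coeHom _).comp (AddMonoidHom.toMultiplicativeLeft f₀)
  apply isCyclic_of_injective_ringHom f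
  intro x y hxy
  have h1 : (AddMonoidHom.toMultiplicativeLeft f₀) x = (AddMonoidHom.toMultiplicativeLeft f₀) y :=
    Units.ext hxy
  have h2 : f₀ x.toAdd = f₀ y.toAdd := Additive.toMul.injective h1
  exact Multiplicative.toAdd.injective (hf₀ h2)

variable {Λ M 𝔪} in
theorem br_sub_one_mem_sat [h𝔪 : 𝔪.IsMaximal] {B₀ : AddSubgroup M} [B₀.FiniteIndex]
    (hu : IsUnit ((B₀.index : ℕ) : Λ)) {b : M} (hb : b ∈ charSub Λ M 𝔪) :
    br Λ b - 1 ∈ sat (RingHom.ker (quotMap Λ M B₀)) 𝔪 := by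
  set k := addOrderOf (QuotientAddGroup.mk b : M ⧸ B₀) with hk
  have hkpos : 0 < k := addOrderOf_pos _
  have hkb : k • b ∈ B₀ := by
    rw [← QuotientAddGroup.eq_zero_iff, QuotientAddGroup.mk_nsmul, hk]
    exact addOrderOf_nsmul_eq_zero _
  have hdvd : k ∣ B₀.index := by
    rw [AddSubgroup.index_eq_card]; exact addOrderOf_dvd_natCard _
  have huk : IsUnit ((k : ℕ) : Λ) := by
    obtain ⟨e, he⟩ := hdvd
    rw [he] at hu
    push_cast at hu
    exact isUnit_of_mul_isUnit_left hu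
  refine ⟨∑ i ∈ Finset.range k, br Λ b ^ i, ?_, ?_⟩
  · intro hmem
    have h1 : Ideal.Quotient.mk 𝔪 (br Λ b) = 1 := by
      rw [mem_charSub] at hb
      rw [← sub_eq_zero, ← map_one (Ideal.Quotient.mk 𝔪), ← map_sub]
      exact Ideal.Quotient.eq_zero_iff_mem.mpr hb
    have h2 : Ideal.Quotient.mk 𝔪 (∑ i ∈ Finset.range k, br Λ b ^ i) =
        Ideal.Quotient.mk 𝔪 ((k : ℕ) : AddMonoidAlgebra Λ M) := by
      rw [map_sum]
      simp only [map_pow, h1, one_pow, Finset.sum_const, Finset.card_range, nsmul_eq_mul, mul_one,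
        map_natCast]
    have h3 : ((k : ℕ) : AddMonoidAlgebra Λ M) ∈ 𝔪 := by
      rw [← Ideal.Quotient.eq_zero_iff_mem, ← h2]
      exact Ideal.Quotient.eq_zero_iff_mem.mpr hmem
    have h4 : IsUnit ((k : ℕ) : AddMonoidAlgebra Λ M) := by
      have := huk.map (algebraMap Λ (AddMonoidAlgebra Λ M))
      rwa [map_natCast] at this
    exact h𝔪.ne_top (Ideal.eq_top_of_isUnit_mem _ h3 h4)
  · rw [geom_sum_mul, ← br_nsmul, RingHom.mem_ker, map_sub, map_one,
      quotMap_br_of_mem Λ M B₀ hkb, sub_self]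

variable {Λ M 𝔪} in
theorem aeval_cyclotomic_mem_sat [h𝔪 : 𝔪.IsMaximal] {B₀ : AddSubgroup M} [B₀.FiniteIndex]
    (hu : IsUnit ((B₀.index : ℕ) : Λ)) [Finite (M ⧸ charSub Λ M 𝔪)] {a : M}
    (ha : AddSubgroup.zmultiples (QuotientAddGroup.mk a : M ⧸ charSub Λ M 𝔪) = ⊤) :
    aeval (br Λ a) (cyclotomic (Nat.card (M ⧸ charSub Λ M 𝔪)) Λ) ∈
      sat (RingHom.ker (quotMap Λ M B₀)) 𝔪 := by
  let _ : Field (AddMonoidAlgebra Λ M ⧸ 𝔪) := Ideal.Quotient.field 𝔪
  set B := charSub Λ M 𝔪 with hB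
  set d := Nat.card (M ⧸ B) with hd
  have hdpos : 0 < d := Nat.card_pos
  have hord : addOrderOf (QuotientAddGroup.mk a : M ⧸ B) = d :=
    addOrderOf_eq_card_of_forall_mem_zmultiples (fun x => by rw [ha]; trivial)
  have hda : d • a ∈ B := by
    rw [← QuotientAddGroup.eq_zero_iff, QuotientAddGroup.mk_nsmul, ← hord]
    exact addOrderOf_nsmul_eq_zero _
  set Ψ : Λ[X] := ∏ i ∈ d.properDivisors, cyclotomic i Λ with hΨ
  have hfac : (X : Λ[X]) ^ d - 1 = cyclotomic d Λ * Ψ := by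
    rw [← prod_cyclotomic_eq_X_pow_sub_one hdpos, ← Nat.insert_self_properDivisors hdpos.ne',
      Finset.prod_insert Nat.self_notMem_properDivisors]
  have hfac' : br Λ a ^ d - 1 = aeval (br Λ a) (cyclotomic d Λ) * aeval (br Λ a) Ψ := by
    rw [← map_mul, ← hfac]
    simp only [map_sub, map_pow, aeval_X, map_one]
  obtain ⟨s₁, hs₁, hs₁'⟩ := br_sub_one_mem_sat (B₀ := B₀) hu hda
  refine ⟨s₁ * aeval (br Λ a) Ψ, ?_, ?_⟩
  · intro hmem
    rcases h𝔪.isPrime.mem_or_mem hmem with h | h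
    · exact hs₁ h
    · rw [← Ideal.Quotient.eq_zero_iff_mem, hΨ, map_prod, map_prod,
        Finset.prod_eq_zero_iff] at h
      obtain ⟨i, hi, hi0⟩ := h
      obtain ⟨q, hq⟩ := cyclotomic.dvd_X_pow_sub_one i Λ
      have h1 : br Λ a ^ i - 1 = aeval (br Λ a) (cyclotomic i Λ) * aeval (br Λ a) q := by
        rw [← map_mul, ← hq]
        simp only [map_sub, map_pow, aeval_X, map_one]
      have h2 : (Ideal.Quotient.mk 𝔪 (br Λ a)) ^ i = 1 := by
        rw [← sub_eq_zero, ← map_pow, ← map_one (Ideal.Quotient.mk 𝔪), ← map_sub, h1, map_mul, hi0,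
          zero_mul]
      rw [mk_br_pow_eq_one_iff, ← QuotientAddGroup.eq_zero_iff, QuotientAddGroup.mk_nsmul] at h2
      have h3 : d ∣ i := hord ▸ addOrderOf_dvd_of_nsmul_eq_zero h2
      have h4 := Nat.mem_properDivisors.mp hi
      have h5 : 0 < i := Nat.pos_of_mem_properDivisors hi
      exact absurd (Nat.le_of_dvd h5 h3) (not_le.mpr h4.2)
  · have : s₁ * aeval (br Λ a) Ψ * aeval (br Λ a) (cyclotomic d Λ) =
        s₁ * (br Λ a ^ d - 1) := by rw [hfac']; ring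
    rw [this, ← br_nsmul]
    exact hs₁'

variable {Λ M 𝔪} in
theorem ker_cycQuotMap_le_sat [h𝔪 : 𝔪.IsMaximal] {B₀ : AddSubgroup M} [B₀.FiniteIndex]
    (hu : IsUnit ((B₀.index : ℕ) : Λ)) [Finite (M ⧸ charSub Λ M 𝔪)] :
    RingHom.ker (cycQuotMap Λ M (charSub Λ M 𝔪)) ≤ sat (RingHom.ker (quotMap Λ M B₀)) 𝔪 := by
  set B := charSub Λ M 𝔪 with hB
  set J := sat (RingHom.ker (quotMap Λ M B₀)) 𝔪 with hJ
  have h1 : RingHom.ker (quotMap Λ M B) ≤ J := by
    rw [ker_quotMap_eq, augIdeal, Ideal.span_le]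
    rintro _ ⟨b, rfl⟩
    exact br_sub_one_mem_sat hu b.2
  have h2 : cycIdeal Λ (M ⧸ B) ≤ J.map (quotMap Λ M B) := by
    rw [cycIdeal, Ideal.span_le]
    rintro _ ⟨g, hg, rfl⟩
    obtain ⟨a, rfl⟩ := QuotientAddGroup.mk_surjective g
    have := aeval_cyclotomic_mem_sat (B₀ := B₀) hu hg
    have h3 := Ideal.mem_map_of_mem (quotMap Λ M B) this
    rwa [quotMap_aeval, quotMap_br] at h3
  rw [ker_cycQuotMap]
  calc (cycIdeal Λ (M ⧸ B)).comap (quotMap Λ M B)
      ≤ (J.map (quotMap Λ M B)).comap (quotMap Λ M B) := Ideal.comap_mono h2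
    _ = J ⊔ (⊥ : Ideal _).comap (quotMap Λ M B) :=
        Ideal.comap_map_of_surjective _ (quotMap_surjective Λ M B) J
    _ ≤ J := sup_le le_rfl h1

end Local


section Global
variable (Λ : Type u) [CommRing Λ] (M : Type v) [AddCommGroup M]

/-- An element killed by all cyclotomic quotient maps for the `B ⊇ B₀` with cyclic quotient is
killed by `quotMap B₀`. -/
theorem quotMap_eq_zero_of_forall (B₀ : AddSubgroup M) [B₀.FiniteIndex]
    (hu : IsUnit ((B₀.index : ℕ) : Λ)) (x : AddMonoidAlgebra Λ M)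
    (hx : ∀ B : AddSubgroup M, B₀ ≤ B → IsAddCyclic (M ⧸ B) → cycQuotMap Λ M B x = 0) :
    quotMap Λ M B₀ x = 0 := by
  rw [← RingHom.mem_ker]
  apply mem_of_forall_mem_sat
  intro 𝔪 h𝔪 hle
  have hB := le_charSub Λ M 𝔪 hle
  have : (charSub Λ M 𝔪).FiniteIndex := AddSubgroup.finiteIndex_of_le hB
  have hcyc := isAddCyclic_quot_charSub Λ M 𝔪
  exact ker_cycQuotMap_le_sat (B₀ := B₀) hu (RingHom.mem_ker.mpr (hx _ hB hcyc))

theorem cycQuotMap_eq_zero_of_quotMap {B₀ B : AddSubgroup M} (h : B₀ ≤ B)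
    {x : AddMonoidAlgebra Λ M} (hx : quotMap Λ M B₀ x = 0) : cycQuotMap Λ M B x = 0 := by
  have : quotMap Λ M B x = 0 := ker_quotMap_mono Λ M h hx
  rw [cycQuotMap, RingHom.comp_apply, this, map_zero]

theorem cycQuotMap_surjective (B : AddSubgroup M) : Function.Surjective (cycQuotMap Λ M B) :=
  Ideal.Quotient.mk_surjective.comp (quotMap_surjective Λ M B)

/-- separating elements for two distinct subgroups with cyclic quotients -/
theorem exists_one_zero (B B' : AddSubgroup M) [B.FiniteIndex] [B'.FiniteIndex]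
    [IsAddCyclic (M ⧸ B)] [IsAddCyclic (M ⧸ B')] (hne : B ≠ B')
    (huB : IsUnit ((B.index : ℕ) : Λ)) (huB' : IsUnit ((B'.index : ℕ) : Λ)) :
    ∃ r : AddMonoidAlgebra Λ M, cycQuotMap Λ M B' r = 1 ∧ cycQuotMap Λ M B r = 0 := by
  by_cases hle : B ≤ B'
  · have hle' : ¬ B' ≤ B := fun h => hne (le_antisymm hle h)
    obtain ⟨b, hb', hb⟩ := SetLike.not_le_iff_exists.mp hle'
    obtain ⟨s, hs0, hs1⟩ := exists_sep' Λ M B hb huB
    refine ⟨s, ?_, hs0⟩
    rw [cycQuotMap, RingHom.comp_apply, hs1 B' hb', map_one]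
  · obtain ⟨b, hb, hb'⟩ := SetLike.not_le_iff_exists.mp hle
    obtain ⟨t, ht⟩ := exists_sep Λ M B' hb' huB'
    refine ⟨(br Λ b - 1) * t, ht, ?_⟩
    rw [cycQuotMap, RingHom.comp_apply, map_mul, map_sub, map_one, quotMap_br_of_mem Λ M B hb,
      sub_self, zero_mul, map_zero]

/-- Chinese remainder theorem for the cyclotomic quotient maps. -/
theorem exists_crt {ι : Type*} [Finite ι] (Bs : ι → AddSubgroup M) (hinj : Function.Injective Bs)
    (hfin : ∀ i, (Bs i).FiniteIndex) (hcyc : ∀ i, IsAddCyclic (M ⧸ Bs i))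
    (hu : ∀ i, IsUnit (((Bs i).index : ℕ) : Λ)) (q : ∀ i, CycQuot Λ (M ⧸ Bs i)) :
    ∃ x : AddMonoidAlgebra Λ M, ∀ i, cycQuotMap Λ M (Bs i) x = q i := by
  have hI : Pairwise (Function.onFun IsCoprime fun i => RingHom.ker (cycQuotMap Λ M (Bs i))) := by
    intro i j hij
    have := hfin i; have := hfin j; have := hcyc i; have := hcyc j
    obtain ⟨r, hr1, hr0⟩ := exists_one_zero Λ M (Bs i) (Bs j) (fun h => hij (hinj h)) (hu i) (hu j)
    rw [Function.onFun, Ideal.isCoprime_iff_exists]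
    refine ⟨r, RingHom.mem_ker.mpr hr0, 1 - r, ?_, by ring⟩
    rw [RingHom.mem_ker, map_sub, map_one, hr1, sub_self]
  choose y hy using fun i => cycQuotMap_surjective Λ M (Bs i) (q i)
  obtain ⟨r, hr⟩ := Ideal.exists_forall_sub_mem_ideal hI y
  refine ⟨r, fun i => ?_⟩
  have := hr i
  rw [RingHom.mem_ker, map_sub, sub_eq_zero] at this
  rw [this, hy]

end Global

end Groth.Agent.Lib.Helper25.CycDecomp
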