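import Groth.Prelude.Def_W4c6equivkfinstabCyc
import Mathlib

/-! Cyclotomic quotients of group rings: values of cyclotomic polynomials at group elements,
and separating elements for the localizations at dual cyclic subgroups. -/

set_option autoImplicit false
universe u v
open Polynomial W4c6equivkfinstab

namespace Groth.Agent.Lib.Helper25.CycLib

/-- `Φ_m ∣ Φ_d(X^j)` over `ℤ` when `d = m / gcd(m, j)`, i.e. when `ζ_m^j` has order `d`. -/
theorem cyclotomic_dvd_expand (m j : ℕ) (hm : 0 < m) (hj : j ≠ 0) :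
    cyclotomic m ℤ ∣ expand ℤ j (cyclotomic (m / Nat.gcd m j) ℤ) := by
  set μ : ℂ := Complex.exp (2 * Real.pi * Complex.I / m) with hμ
  have hprim : IsPrimitiveRoot μ m := Complex.isPrimitiveRoot_exp m hm.ne'
  rw [cyclotomic_eq_minpoly hprim hm]
  apply minpoly.isIntegrallyClosed_dvd (hprim.isIntegral hm)
  rw [expand_aeval]
  have hord : orderOf (μ ^ j) = m / Nat.gcd m j := by
    rw [orderOf_pow' μ hj, ← hprim.eq_orderOf]
  have hprim' : IsPrimitiveRoot (μ ^ j) (m / Nat.gcd m j) := hord ▸ IsPrimitiveRoot.orderOf (μ ^ j)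
  have hpos : 0 < m / Nat.gcd m j :=
    Nat.div_pos (Nat.le_of_dvd hm (Nat.gcd_dvd_left m j)) (Nat.gcd_pos_of_pos_left j hm)
  have hroot := hprim'.isRoot_cyclotomic hpos
  rw [IsRoot.def, ← map_cyclotomic_int, eval_map] at hroot
  rw [aeval_def, algebraMap_int_eq]
  exact hroot

section GroupRing
variable (Λ : Type u) [CommRing Λ] {C : Type v} [AddCommGroup C]

/-- the group-ring element `[c]` -/
noncomputable abbrev br (c : C) : AddMonoidAlgebra Λ C := AddMonoidAlgebra.single c (1 : Λ)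

theorem br_nsmul (c : C) (j : ℕ) : br Λ (j • c) = br Λ c ^ j := by
  rw [br, br, AddMonoidAlgebra.single_pow, one_pow]

theorem br_zero : br Λ (0 : C) = 1 := rfl

variable [Finite C]

/-- For a generator `g` of the finite cyclic group `C` and any `c : C`, the value `Φ_d([c])`,
`d` the order of `c`, lies in the cyclotomic ideal. -/
theorem aeval_cyclotomic_mem_cycIdeal {g : C} (hg : AddSubgroup.zmultiples g = ⊤) (c : C) :
    aeval (br Λ c) (cyclotomic (addOrderOf c) Λ) ∈ cycIdeal Λ C := by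
  set m := Nat.card C with hm
  have hmpos : 0 < m := Nat.card_pos
  have hgord : addOrderOf g = m :=
    addOrderOf_eq_card_of_forall_mem_zmultiples (fun x => by rw [hg]; trivial)
  -- write c = j • g with j > 0
  obtain ⟨j, hj0, hj⟩ : ∃ j : ℕ, j ≠ 0 ∧ j • g = c := by
    have hc : c ∈ AddSubgroup.zmultiples g := by rw [hg]; trivial
    obtain ⟨k, hk⟩ := AddSubgroup.mem_zmultiples_iff.mp hc
    refine ⟨(k % (m : ℤ)).toNat + m, by omega, ?_⟩
    have hmg : (m : ℤ) • g = 0 := by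
      rw [natCast_zsmul, ← hgord]; exact addOrderOf_nsmul_eq_zero g
    have hk' : k • g = (k % (m : ℤ)) • g := by
      conv_lhs => rw [← Int.emod_add_mul_ediv k m]
      rw [add_zsmul, mul_comm, mul_zsmul, hmg, smul_zero, add_zero]
    have hnn : 0 ≤ k % (m : ℤ) := Int.emod_nonneg _ (by exact_mod_cast hmpos.ne')
    have hmg' : m • g = 0 := by rw [← hgord]; exact addOrderOf_nsmul_eq_zero g
    rw [add_nsmul, hmg', add_zero, ← natCast_zsmul,
      Int.toNat_of_nonneg hnn, ← hk', hk]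
  have hd : addOrderOf c = m / Nat.gcd m j := by
    rw [← hj, addOrderOf_nsmul' g hj0, hgord]
  obtain ⟨h, hh⟩ := cyclotomic_dvd_expand m j hmpos hj0
  have h1 : aeval (br Λ c) (cyclotomic (addOrderOf c) Λ) =
      aeval (br Λ g) (cyclotomic m Λ) * aeval (br Λ g) (h.map (Int.castRingHom Λ)) := by
    rw [← map_mul, ← map_cyclotomic_int m Λ, ← Polynomial.map_mul, ← hh, hd, map_expand,
      map_cyclotomic_int, expand_aeval, ← br_nsmul, hj]
  rw [h1]
  exact Ideal.mul_mem_right _ _ (Ideal.subset_span ⟨g, hg, rfl⟩)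

end GroupRing

/-- `Φ_d(1)` is a unit when `d > 1` is a unit. -/
theorem isUnit_eval_one_cyclotomic (Λ : Type u) [CommRing Λ] {d : ℕ} (hd1 : 1 < d)
    (hu : IsUnit ((d : ℕ) : Λ)) : IsUnit (eval 1 (cyclotomic d Λ)) := by
  by_cases h : ∃ p k : ℕ, p.Prime ∧ p ^ k = d
  · obtain ⟨p, k, hp, rfl⟩ := h
    have hk : k ≠ 0 := by
      rintro rfl
      simp at hd1
    obtain ⟨k', rfl⟩ := Nat.exists_eq_succ_of_ne_zero hk
    have : Fact p.Prime := ⟨hp⟩
    rw [eval_one_cyclotomic_prime_pow]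
    have : ((p ^ (k' + 1) : ℕ) : Λ) = (p : Λ) * (p : Λ) ^ k' := by
      push_cast
      rw [pow_succ, mul_comm]
    rw [this] at hu
    exact isUnit_of_mul_isUnit_left hu
  · push Not at h
    rw [eval_one_cyclotomic_not_prime_pow (fun {p} hp k => h p k hp)]
    exact isUnit_one


section Sep
variable (Λ : Type u) [CommRing Λ] (M : Type v) [AddCommGroup M] (B : AddSubgroup M)

theorem quotMap_br (b : M) :
    quotMap Λ M B (br Λ b) = br Λ (QuotientAddGroup.mk b : M ⧸ B) := by
  simp only [quotMap, br, AddMonoidAlgebra.mapDomainRingHom_apply,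
    AddMonoidAlgebra.mapDomain_single]
  rfl

theorem quotMap_br_of_mem {b : M} (hb : b ∈ B) : quotMap Λ M B (br Λ b) = 1 := by
  rw [quotMap_br, (QuotientAddGroup.eq_zero_iff b).mpr hb]
  rfl

theorem quotMap_algebraMap (r : Λ) :
    quotMap Λ M B (algebraMap Λ _ r) = algebraMap Λ _ r := by
  simp only [quotMap, AddMonoidAlgebra.coe_algebraMap, Function.comp_apply,
    AddMonoidAlgebra.mapDomainRingHom_apply, AddMonoidAlgebra.mapDomain_single, map_zero]

theorem quotMap_aeval (x : AddMonoidAlgebra Λ M) (p : Λ[X]) :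
    quotMap Λ M B (aeval x p) = aeval (quotMap Λ M B x) p := by
  have := Polynomial.map_aeval_eq_aeval_map (φ := RingHom.id Λ) (ψ := quotMap Λ M B)
    (S := AddMonoidAlgebra Λ M) (U := AddMonoidAlgebra Λ (M ⧸ B))
    (by ext r; simp only [RingHom.comp_apply, RingHom.id_apply, quotMap_algebraMap]) p x
  rw [this, Polynomial.map_id]

variable [B.FiniteIndex] [IsAddCyclic (M ⧸ B)]

theorem cycQuotMap_aeval_cyclotomic (b : M) :
    cycQuotMap Λ M B (aeval (br Λ b)
      (cyclotomic (addOrderOf (QuotientAddGroup.mk b : M ⧸ B)) Λ)) = 0 := by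
  obtain ⟨g, hg⟩ := IsAddCyclic.exists_generator (α := M ⧸ B)
  have hg' : AddSubgroup.zmultiples g = ⊤ := by
    rw [eq_top_iff]; intro x _; exact hg x
  rw [cycQuotMap, RingHom.comp_apply, quotMap_aeval, quotMap_br, Ideal.Quotient.eq_zero_iff_mem]
  exact aeval_cyclotomic_mem_cycIdeal Λ hg' _

omit [IsAddCyclic (M ⧸ B)] in
theorem isUnit_eval_one_of_notMem {b : M} (hb : b ∉ B) (hu : IsUnit ((B.index : ℕ) : Λ)) :
    IsUnit (eval 1 (cyclotomic (addOrderOf (QuotientAddGroup.mk b : M ⧸ B)) Λ)) := by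
  set c : M ⧸ B := QuotientAddGroup.mk b with hc
  have hc0 : c ≠ 0 := fun h => hb ((QuotientAddGroup.eq_zero_iff b).mp h)
  have hdvd : addOrderOf c ∣ B.index := by
    rw [AddSubgroup.index_eq_card]; exact addOrderOf_dvd_natCard c
  have hpos : 0 < addOrderOf c := addOrderOf_pos c
  have h1 : 1 < addOrderOf c := by
    rcases Nat.lt_or_ge 1 (addOrderOf c) with h | h
    · exact h
    · exfalso
      have : addOrderOf c = 1 := le_antisymm h hpos
      exact hc0 (AddMonoid.addOrderOf_eq_one_iff.mp this)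
  apply isUnit_eval_one_cyclotomic Λ h1
  obtain ⟨e, he⟩ := hdvd
  rw [he] at hu
  push_cast at hu
  exact isUnit_of_mul_isUnit_left hu

/-- For `b ∉ B` there is an element of the form `([b] - 1) * t` mapping to `1` in the cyclotomic
quotient for `B`. -/
theorem exists_sep {b : M} (hb : b ∉ B) (hu : IsUnit ((B.index : ℕ) : Λ)) :
    ∃ t : AddMonoidAlgebra Λ M, cycQuotMap Λ M B ((br Λ b - 1) * t) = 1 := by
  set d := addOrderOf (QuotientAddGroup.mk b : M ⧸ B) with hd
  obtain ⟨u, hu'⟩ := isUnit_eval_one_of_notMem Λ M B hb hu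
  obtain ⟨g, hg⟩ := Polynomial.X_sub_C_dvd_sub_C_eval (a := (1 : Λ)) (p := cyclotomic d Λ)
  have h0 := cycQuotMap_aeval_cyclotomic Λ M B b
  have h1 : aeval (br Λ b) (cyclotomic d Λ) =
      algebraMap Λ _ (eval 1 (cyclotomic d Λ)) + (br Λ b - 1) * aeval (br Λ b) g := by
    have : cyclotomic d Λ = C (eval 1 (cyclotomic d Λ)) + (X - C 1) * g := by
      rw [← hg]; ring
    conv_lhs => rw [this]
    simp only [map_add, map_mul, map_sub, aeval_C, aeval_X, map_one]
  refine ⟨- algebraMap Λ _ (↑u⁻¹ : Λ) * aeval (br Λ b) g, ?_⟩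
  rw [← hd, h1, map_add] at h0
  have h2 : cycQuotMap Λ M B ((br Λ b - 1) * aeval (br Λ b) g) =
      - cycQuotMap Λ M B (algebraMap Λ _ (eval 1 (cyclotomic d Λ))) :=
    eq_neg_of_add_eq_zero_right h0
  have : (br Λ b - 1) * (- algebraMap Λ _ (↑u⁻¹ : Λ) * aeval (br Λ b) g) =
      - algebraMap Λ _ (↑u⁻¹ : Λ) * ((br Λ b - 1) * aeval (br Λ b) g) := by ring
  rw [this, map_mul, h2, map_neg]
  rw [show ∀ x y : CycQuot Λ (M ⧸ B), -x * -y = x * y from fun x y => neg_mul_neg x y]
  rw [← map_mul, ← map_mul, hd, ← hu', Units.inv_mul, map_one, map_one]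

/-- For `b ∉ B` there is an element mapping to `0` in the cyclotomic quotient for `B` and to `1`
in the group ring of `M ⧸ B'` for every `B'` containing `b`. -/
theorem exists_sep' {b : M} (hb : b ∉ B) (hu : IsUnit ((B.index : ℕ) : Λ)) :
    ∃ s : AddMonoidAlgebra Λ M, cycQuotMap Λ M B s = 0 ∧
      ∀ B' : AddSubgroup M, b ∈ B' → quotMap Λ M B' s = 1 := by
  set d := addOrderOf (QuotientAddGroup.mk b : M ⧸ B) with hd
  obtain ⟨u, hu'⟩ := isUnit_eval_one_of_notMem Λ M B hb hu
  refine ⟨algebraMap Λ _ (↑u⁻¹ : Λ) * aeval (br Λ b) (cyclotomic d Λ), ?_, ?_⟩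
  · rw [map_mul, cycQuotMap_aeval_cyclotomic, mul_zero]
  · intro B' hb'
    rw [map_mul, quotMap_aeval, quotMap_br_of_mem Λ M B' hb', quotMap_algebraMap,
      ← map_one (algebraMap Λ (AddMonoidAlgebra Λ (M ⧸ B'))),
      aeval_algebraMap_apply_eq_algebraMap_eval, ← map_mul, ← hu', Units.inv_mul]

end Sep

end Groth.Agent.Lib.Helper25.CycLib
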