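import Mathlib
import Groth.Prelude.Def_DeRham

/-! Total de Rham differential on the exterior algebra, contraction with a dual vector, and the
Lie derivative `L = D ∘ c + c ∘ D` (Cartan homotopy), for a receptacle `(M, δ)` spanned by `δ(A)`. -/

set_option autoImplicit false
set_option linter.unusedSectionVars false
set_option linter.style.haveILetI false
set_option linter.unusedVariables false

namespace Groth.Agent.Lib.Helper25.DeRhamTotal

universe v u

open exteriorPower DeRham

section Gen

variable {R : Type v} {A M : Type u} [CommRing R] [CommRing A] [Algebra R A]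
  [AddCommGroup M] [Module A M] [Module R M] [IsScalarTower R A M]

lemma ι_mul_mem (n : ℕ) (m : M) (z : ExteriorAlgebra A M) (hz : z ∈ ⋀[A]^n M) :
    ExteriorAlgebra.ι A m * z ∈ ⋀[A]^(n + 1) M := by
  change _ ∈ (LinearMap.range (ExteriorAlgebra.ι A)) ^ (n + 1)
  rw [pow_succ']
  exact Submodule.mul_mem_mul (LinearMap.mem_range_self _ m) hz

lemma ιMulti_mem (p : ℕ) (v : Fin p → M) : ExteriorAlgebra.ιMulti A p v ∈ ⋀[A]^p M :=
  (exteriorPower.ιMulti A p v).2

lemma ιMulti_succ (p : ℕ) (v : Fin (p + 1) → M) :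
    ExteriorAlgebra.ιMulti A (p + 1) v =
      ExteriorAlgebra.ι A (v 0) * ExteriorAlgebra.ιMulti A p (fun j => v j.succ) := by
  rw [ExteriorAlgebra.ιMulti_succ_apply]
  rfl

/-! ### contraction -/

/-- contraction with a dual vector -/
noncomputable def c (θ : Module.Dual A M) : ExteriorAlgebra A M →ₗ[A] ExteriorAlgebra A M :=
  CliffordAlgebra.contractLeft θ

lemma c_ι_mul (θ : Module.Dual A M) (m : M) (x : ExteriorAlgebra A M) :
    c θ (ExteriorAlgebra.ι A m * x) = θ m • x - ExteriorAlgebra.ι A m * c θ x :=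
  CliffordAlgebra.contractLeft_ι_mul _ _ _

lemma c_one (θ : Module.Dual A M) : c θ (1 : ExteriorAlgebra A M) = 0 :=
  CliffordAlgebra.contractLeft_one _ _

lemma c_smulR (θ : Module.Dual A M) (r : R) (x : ExteriorAlgebra A M) :
    c θ (r • x) = r • c θ x :=
  LinearMap.map_smul_of_tower _ r x

lemma c_ιMulti_mem (θ : Module.Dual A M) (p : ℕ) (v : Fin (p + 1) → M) :
    c θ (ExteriorAlgebra.ιMulti A (p + 1) v) ∈ ⋀[A]^p M := by
  induction p with
  | zero =>
    rw [ιMulti_succ, c_ι_mul, ExteriorAlgebra.ιMulti_zero_apply, c_one, mul_zero, sub_zero]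
    refine Submodule.smul_mem _ _ ?_
    rw [← ExteriorAlgebra.ιMulti_zero_apply (R := A) (fun j : Fin 0 => v j.succ)]
    exact ιMulti_mem _ _
  | succ p ih =>
    rw [ιMulti_succ, c_ι_mul]
    refine Submodule.sub_mem _ (Submodule.smul_mem _ _ (ιMulti_mem _ _)) ?_
    exact ι_mul_mem _ _ _ (ih _)

lemma c_mem (θ : Module.Dual A M) (p : ℕ) (y : ExteriorAlgebra A M) (hy : y ∈ ⋀[A]^(p + 1) M) :
    c θ y ∈ ⋀[A]^p M := by
  rw [← exteriorPower.ιMulti_span_fixedDegree] at hy
  induction hy using Submodule.span_induction with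
  | mem y hy =>
    obtain ⟨v, rfl⟩ := hy
    exact c_ιMulti_mem θ p v
  | zero => simp
  | add y z _ _ hy hz =>
    rw [map_add]
    exact Submodule.add_mem _ hy hz
  | smul a y _ hy =>
    rw [map_smul]
    exact Submodule.smul_mem _ _ hy

lemma c_deg_zero (θ : Module.Dual A M) (y : ExteriorAlgebra A M) (hy : y ∈ ⋀[A]^0 M) :
    c θ y = 0 := by
  change y ∈ (LinearMap.range (ExteriorAlgebra.ι A)) ^ 0 at hy
  rw [pow_zero, Submodule.mem_one] at hy
  obtain ⟨a, rfl⟩ := hy
  exact CliffordAlgebra.contractLeft_algebraMap (Q := (0 : QuadraticForm A M)) θ a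

/-! ### total differential -/

variable (d : ∀ p : ℕ, ↥(⋀[A]^p M) →ₗ[R] ↥(⋀[A]^(p + 1) M))

/-- total differential on the exterior algebra -/
noncomputable def Dt : ExteriorAlgebra A M →+ ExteriorAlgebra A M :=
  (DirectSum.toAddMonoid (fun p : ℕ =>
    ((⋀[A]^(p + 1) M).subtype.toAddMonoidHom.comp (d p).toAddMonoidHom))).comp
    (DirectSum.decomposeAddEquiv (fun p : ℕ => ⋀[A]^p M)).toAddMonoidHom

lemma Dt_coe (p : ℕ) (y : ⋀[A]^p M) :
    Dt d (y : ExteriorAlgebra A M) = ((d p y : ⋀[A]^(p + 1) M) : ExteriorAlgebra A M) := by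
  simp [Dt, DirectSum.decompose_coe, DirectSum.toAddMonoid_of]

lemma Dt_mem (p : ℕ) (y : ExteriorAlgebra A M) (hy : y ∈ ⋀[A]^p M) :
    Dt d y ∈ ⋀[A]^(p + 1) M := by
  have := Dt_coe d p ⟨y, hy⟩
  rw [this]
  exact (d p ⟨y, hy⟩).2

lemma Dt_smulR (r : R) (x : ExteriorAlgebra A M) : Dt d (r • x) = r • Dt d x := by
  induction x using DirectSum.Decomposition.inductionOn (fun p : ℕ => ⋀[A]^p M) with
  | zero => simp
  | add x y hx hy => rw [smul_add, map_add, hx, hy, map_add, smul_add]
  | @homogeneous p y =>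
    have : (r • (y : ExteriorAlgebra A M)) = ((r • y : ⋀[A]^p M) : ExteriorAlgebra A M) := rfl
    rw [this, Dt_coe, Dt_coe, map_smul]
    rfl

/-! ### generators -/

variable (δ : Derivation R A M)

/-- wedge of differentials in the exterior algebra -/
noncomputable def gw (p : ℕ) (b : Fin p → A) : ExteriorAlgebra A M :=
  ExteriorAlgebra.ιMulti A p (fun i => δ (b i))

lemma gw_zero (b : Fin 0 → A) : gw δ 0 b = 1 := ExteriorAlgebra.ιMulti_zero_apply _

lemma gw_cons (p : ℕ) (g : A) (b : Fin p → A) :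
    gw δ (p + 1) (Fin.cons g b) = ExteriorAlgebra.ι A (δ g) * gw δ p b := by
  unfold gw
  rw [ιMulti_succ]
  simp

lemma gw_mem (p : ℕ) (b : Fin p → A) : gw δ p b ∈ ⋀[A]^p M := ιMulti_mem _ _

lemma gen_coe (p : ℕ) (b₀ : A) (b : Fin p → A) :
    ((gen δ p b₀ b : ⋀[A]^p M) : ExteriorAlgebra A M) = b₀ • gw δ p b := rfl

variable (hspan : Submodule.span A (Set.range δ) = ⊤)

include hspan in
/-- Additive induction principle on `⋀[A]^p M` when `δ(A)` spans `M`. -/
theorem deg_induction {p : ℕ} {P : ↥(⋀[A]^p M) → Prop}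
    (hgen : ∀ (b₀ : A) (b : Fin p → A), P (gen δ p b₀ b))
    (h0 : P 0) (hadd : ∀ x y, P x → P y → P (x + y)) : ∀ x, P x := by
  intro x
  have hx : x ∈ Submodule.span A (ιMulti A p '' {a : Fin p → M |
      Set.range a ⊆ Set.range δ}) := by
    rw [ιMulti_span_of_span A p M hspan]
    trivial
  have key : ∀ a : A, P (a • x) := by
    induction hx using Submodule.span_induction with
    | mem y hy =>
      obtain ⟨a', ha', rfl⟩ := hy
      have : ∀ i, ∃ b : A, δ b = a' i := fun i => ha' ⟨i, rfl⟩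
      choose b hb using this
      intro a
      have : a' = fun i => δ (b i) := funext fun i => (hb i).symm
      rw [this]
      exact hgen a b
    | zero =>
      intro a
      rw [smul_zero]
      exact h0
    | add y z _ _ hy hz =>
      intro a
      rw [smul_add]
      exact hadd _ _ (hy a) (hz a)
    | smul c y _ hy =>
      intro a
      rw [smul_smul]
      exact hy (a * c)
  have := key 1
  rwa [one_smul] at this

include hspan in
theorem gen_induction {P : ExteriorAlgebra A M → Prop} (h0 : P 0)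
    (hadd : ∀ x y, P x → P y → P (x + y))
    (hgen : ∀ (p : ℕ) (b₀ : A) (b : Fin p → A), P (b₀ • gw δ p b)) : ∀ x, P x := by
  intro x
  induction x using DirectSum.Decomposition.inductionOn (fun p : ℕ => ⋀[A]^p M) with
  | zero => exact h0
  | add x y hx hy => exact hadd x y hx hy
  | @homogeneous p y =>
    induction y using deg_induction δ hspan with
    | hgen b₀ b => exact hgen p b₀ b
    | h0 => simpa using h0
    | hadd x y hx hy =>
      rw [Submodule.coe_add]
      exact hadd _ _ hx hy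

/-! ### rules for the total differential -/

variable (hd : DeRham.IsDiff δ d)

include hd in
lemma D_gen (p : ℕ) (b₀ : A) (b : Fin p → A) :
    Dt d (b₀ • gw δ p b) = ExteriorAlgebra.ι A (δ b₀) * gw δ p b := by
  have h1 := hd.1 p b₀ b
  rw [← gen_coe, Dt_coe, h1, exteriorPower.ιMulti_apply_coe, ιMulti_succ]
  simp [gw]

include hd hspan in
lemma D_smul (g : A) (x : ExteriorAlgebra A M) :
    Dt d (g • x) = ExteriorAlgebra.ι A (δ g) * x + g • Dt d x := by
  induction x using gen_induction δ hspan with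
  | h0 => simp
  | hadd x y hx hy =>
    rw [smul_add, map_add, hx, hy, map_add, mul_add, smul_add]
    abel
  | hgen p f b =>
    rw [smul_smul, D_gen d δ hd, D_gen d δ hd, Derivation.leibniz, map_add, map_smul, map_smul,
      add_mul, smul_mul_assoc, smul_mul_assoc, mul_smul_comm]
    abel

include hd hspan in
lemma D_ι_δ_mul (g : A) (x : ExteriorAlgebra A M) :
    Dt d (ExteriorAlgebra.ι A (δ g) * x) = -(ExteriorAlgebra.ι A (δ g) * Dt d x) := by
  induction x using gen_induction δ hspan with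
  | h0 => simp
  | hadd x y hx hy =>
    rw [mul_add, map_add, hx, hy, map_add, mul_add, neg_add]
  | hgen p f b =>
    rw [mul_smul_comm, ← gw_cons, D_gen d δ hd, D_gen d δ hd, gw_cons, ← mul_assoc, ← mul_assoc]
    have := ExteriorAlgebra.ι_add_mul_swap (R := A) (δ f) (δ g)
    rw [eq_neg_of_add_eq_zero_left this, neg_mul]

include hd hspan in
lemma D_D (x : ExteriorAlgebra A M) : Dt d (Dt d x) = 0 := by
  induction x using gen_induction δ hspan with
  | h0 => simp
  | hadd x y hx hy => rw [map_add, map_add, hx, hy, add_zero]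
  | hgen p f b =>
    rw [← gen_coe, Dt_coe, Dt_coe]
    have := LinearMap.congr_fun (hd.2 p) (gen δ p f b)
    simp only [LinearMap.comp_apply, LinearMap.zero_apply] at this
    rw [this]
    rfl

/-! ### Lie derivative -/

variable (θ : Module.Dual A M)

/-- the Lie derivative `D ∘ c + c ∘ D` -/
noncomputable def L (x : ExteriorAlgebra A M) : ExteriorAlgebra A M :=
  Dt d (c θ x) + c θ (Dt d x)

lemma L_zero : L d θ (0 : ExteriorAlgebra A M) = 0 := by simp [L]

lemma L_add (x y : ExteriorAlgebra A M) : L d θ (x + y) = L d θ x + L d θ y := by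
  simp only [L, map_add]
  abel

lemma L_sub (x y : ExteriorAlgebra A M) : L d θ (x - y) = L d θ x - L d θ y := by
  simp only [L, map_sub]
  abel

lemma L_smulR (r : R) (x : ExteriorAlgebra A M) : L d θ (r • x) = r • L d θ x := by
  simp only [L]
  rw [c_smulR, Dt_smulR, Dt_smulR, c_smulR, smul_add]

lemma L_mem (i : ℕ) (x : ExteriorAlgebra A M) (hx : x ∈ ⋀[A]^i M) : L d θ x ∈ ⋀[A]^i M := by
  simp only [L]
  refine Submodule.add_mem _ ?_ (c_mem θ i _ (Dt_mem d i x hx))
  cases i with
  | zero =>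
    rw [c_deg_zero θ x hx, map_zero]
    exact Submodule.zero_mem _
  | succ p => exact Dt_mem d p _ (c_mem θ p x hx)

include hd hspan in
lemma L_smul (g : A) (x : ExteriorAlgebra A M) :
    L d θ (g • x) = θ (δ g) • x + g • L d θ x := by
  simp only [L]
  rw [map_smul, D_smul d δ hspan hd, D_smul d δ hspan hd, map_add, c_ι_mul, map_smul, smul_add]
  abel

include hd hspan in
lemma L_ι_δ_mul (g : A) (x : ExteriorAlgebra A M) :
    L d θ (ExteriorAlgebra.ι A (δ g) * x) =
      ExteriorAlgebra.ι A (δ (θ (δ g))) * x + ExteriorAlgebra.ι A (δ g) * L d θ x := by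
  simp only [L]
  rw [c_ι_mul, map_sub, D_smul d δ hspan hd, D_ι_δ_mul d δ hspan hd, D_ι_δ_mul d δ hspan hd,
    map_neg, c_ι_mul, mul_add]
  abel

include hd hspan in
lemma D_L (x : ExteriorAlgebra A M) : Dt d (L d θ x) = L d θ (Dt d x) := by
  simp only [L]
  rw [map_add, D_D d δ hspan hd, D_D d δ hspan hd, map_zero, zero_add, add_zero]

include hd hspan in
lemma L_one : L d θ (1 : ExteriorAlgebra A M) = 0 := by
  simp only [L]
  rw [c_one, map_zero, zero_add]
  have := D_gen d δ hd 0 1 Fin.elim0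
  rw [one_smul, gw_zero, Derivation.map_one_eq_zero, map_zero, zero_mul] at this
  rw [this, map_zero]

end Gen

end Groth.Agent.Lib.Helper25.DeRhamTotal
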