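import Mathlib
import Groth.Prelude.Def_DeRham
import Groth.Agent.Lib.Helper25.DeRhamTotal

/-! Eigen-projection `F_N = Π_{n ≤ N} (1 - L/n)` for the Lie derivative `L = D c + c D` over a
`ℚ`-algebra, and the resulting Poincaré lemma: if every form of degree `p+1` is a finite sum of
`L`-eigenvectors with positive integer eigenvalues then closed `(p+1)`-forms are exact. -/

set_option autoImplicit false
set_option linter.unusedSectionVars false
set_option linter.style.haveILetI false
set_option linter.unusedVariables false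

namespace Groth.Agent.Lib.Helper25.DeRhamEigen

universe v u

open exteriorPower DeRham Groth.Agent.Lib.Helper25.DeRhamTotal

section Gen

variable {R : Type v} {A M : Type u} [CommRing R] [CommRing A] [Algebra R A]
  [AddCommGroup M] [Module A M] [Module R M] [IsScalarTower R A M] [Algebra ℚ R]

/-- `1/n` in `R` -/
noncomputable def u (n : ℕ) : R := algebraMap ℚ R (1 / (n : ℚ))

lemma u_mul (n : ℕ) (hn : n ≠ 0) : (n : R) * u n = 1 := by
  unfold u
  rw [← map_natCast (algebraMap ℚ R) n, ← map_mul]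
  have : (n : ℚ) * (1 / (n : ℚ)) = 1 := by
    field_simp
  rw [this, map_one]

variable (d : ∀ p : ℕ, ↥(⋀[A]^p M) →ₗ[R] ↥(⋀[A]^(p + 1) M)) (θ : Module.Dual A M)

/-- iterated projection `Π (1 - L/n)` -/
noncomputable def F : ℕ → ExteriorAlgebra A M → ExteriorAlgebra A M
  | 0, x => x
  | N + 1, x => F N x - u (R := R) (N + 1) • L d θ (F N x)

lemma F_zero' (N : ℕ) : F d θ N (0 : ExteriorAlgebra A M) = 0 := by
  induction N with
  | zero => rfl
  | succ N ih => simp only [F, ih, L_zero, smul_zero, sub_zero]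

lemma F_add (N : ℕ) (x y : ExteriorAlgebra A M) : F d θ N (x + y) = F d θ N x + F d θ N y := by
  induction N with
  | zero => rfl
  | succ N ih =>
    simp only [F, ih, L_add, smul_add]
    abel

lemma F_mem (N : ℕ) (i : ℕ) (x : ExteriorAlgebra A M) (hx : x ∈ ⋀[A]^i M) :
    F d θ N x ∈ ⋀[A]^i M := by
  induction N with
  | zero => exact hx
  | succ N ih =>
    simp only [F]
    refine Submodule.sub_mem _ ih ?_
    have := L_mem d θ i _ ih
    exact Submodule.smul_of_tower_mem _ _ this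

lemma F_eig0 (N : ℕ) (g : ExteriorAlgebra A M) (hg : L d θ g = 0) : F d θ N g = g := by
  induction N with
  | zero => rfl
  | succ N ih => simp only [F, ih, hg, smul_zero, sub_zero]

lemma F_smul_form (m : ℕ) (g : ExteriorAlgebra A M) (hg : L d θ g = m • g) (N : ℕ) :
    ∃ r : R, F d θ N g = r • g := by
  induction N with
  | zero => exact ⟨1, (one_smul _ _).symm⟩
  | succ N ih =>
    obtain ⟨r, hr⟩ := ih
    refine ⟨r - u (N + 1) * r * m, ?_⟩
    simp only [F]
    rw [hr, L_smulR, hg, sub_smul, mul_smul, mul_smul, Nat.cast_smul_eq_nsmul]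

lemma F_eig_pos (m : ℕ) (hm : 1 ≤ m) (g : ExteriorAlgebra A M) (hg : L d θ g = m • g) (N : ℕ)
    (hN : m ≤ N) : F d θ N g = 0 := by
  induction N, hN using Nat.le_induction with
  | base =>
    obtain ⟨k, rfl⟩ : ∃ k, m = k + 1 := ⟨m - 1, by omega⟩
    obtain ⟨r, hr⟩ := F_smul_form d θ (k + 1) g hg k
    simp only [F]
    rw [hr, L_smulR, hg, smul_comm (u (R := R) (k + 1)) r, ← Nat.cast_smul_eq_nsmul R (k + 1) g,
      smul_smul (u (R := R) (k + 1)), mul_comm, u_mul _ (Nat.succ_ne_zero k), one_smul, sub_self]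
  | succ N hN ih =>
    simp only [F, ih, L_zero, smul_zero, sub_zero]

variable (δ : Derivation R A M) (hspan : Submodule.span A (Set.range δ) = ⊤)
  (hd : DeRham.IsDiff δ d)

include hd hspan in
lemma F_closed (N : ℕ) (x : ExteriorAlgebra A M) (hx : Dt d x = 0) : Dt d (F d θ N x) = 0 := by
  induction N with
  | zero => exact hx
  | succ N ih =>
    simp only [F]
    rw [map_sub, ih, Dt_smulR, D_L d δ hspan hd, ih, L_zero, smul_zero, sub_zero]

include hd hspan in
lemma F_homotopy (N : ℕ) (i : ℕ) (x : ExteriorAlgebra A M) (hxi : x ∈ ⋀[A]^i M)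
    (hx : Dt d x = 0) :
    ∃ q : ExteriorAlgebra A M, q ∈ ⋀[A]^i M ∧ x - F d θ N x = Dt d (c θ q) := by
  induction N with
  | zero => exact ⟨0, Submodule.zero_mem _, by simp [F]⟩
  | succ N ih =>
    obtain ⟨q, hq, hq'⟩ := ih
    refine ⟨q + u (R := R) (N + 1) • F d θ N x,
      Submodule.add_mem _ hq (Submodule.smul_of_tower_mem _ _ (F_mem d θ N i x hxi)), ?_⟩
    simp only [F]
    rw [map_add, map_add, ← hq', c_smulR, Dt_smulR]
    have h1 : L d θ (F d θ N x) = Dt d (c θ (F d θ N x)) := by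
      simp only [L]
      rw [F_closed d θ δ hspan hd N x hx, map_zero, add_zero]
    rw [h1]
    abel

include hd hspan in
/-- Poincaré lemma from positive eigen-decomposition. -/
theorem cocycles_le_coboundaries_of_eigen (p : ℕ)
    (hE : ∀ y : ↥(⋀[A]^(p + 1) M), (y : ExteriorAlgebra A M) ∈
      AddSubmonoid.closure {g : ExteriorAlgebra A M | ∃ m : ℕ, 1 ≤ m ∧ L d θ g = m • g}) :
    DeRham.cocycles d (p + 1) ≤ DeRham.coboundaries d (p + 1) := by
  intro ω hω
  have hω' : d (p + 1) ω = 0 := hω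
  have hDω : Dt d (ω : ExteriorAlgebra A M) = 0 := by
    rw [Dt_coe, hω']
    rfl
  have key : ∀ x ∈ AddSubmonoid.closure
      {g : ExteriorAlgebra A M | ∃ m : ℕ, 1 ≤ m ∧ L d θ g = m • g},
      ∃ N₀ : ℕ, ∀ N, N₀ ≤ N → F d θ N x = 0 := by
    intro x hx
    induction hx using AddSubmonoid.closure_induction with
    | mem g hg =>
      obtain ⟨m, hm, hg⟩ := hg
      exact ⟨m, fun N hN => F_eig_pos d θ m hm g hg N hN⟩
    | zero => exact ⟨0, fun N _ => F_zero' d θ N⟩
    | add x y _ _ hx hy =>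
      obtain ⟨N₁, h₁⟩ := hx
      obtain ⟨N₂, h₂⟩ := hy
      refine ⟨max N₁ N₂, fun N hN => ?_⟩
      rw [F_add, h₁ N (le_trans (le_max_left _ _) hN), h₂ N (le_trans (le_max_right _ _) hN),
        add_zero]
  obtain ⟨N, hN⟩ := key _ (hE ω)
  obtain ⟨q, hq, hq'⟩ := F_homotopy d θ δ hspan hd N (p + 1) _ ω.2 hDω
  rw [hN N le_rfl, sub_zero] at hq'
  change ω ∈ LinearMap.range (d p)
  refine ⟨⟨c θ q, c_mem θ p q hq⟩, ?_⟩
  apply Subtype.ext
  rw [← Dt_coe]
  exact hq'.symm

end Gen

end Groth.Agent.Lib.Helper25.DeRhamEigen
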