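import Mathlib
import Groth.Prelude.Def_CInt
import Groth.Agent.Lib.Helper21.FlatDescQ6
import Groth.Agent.Lib.Helper21.FlatDescQ4
import Groth.Agent.Lib.Helper21.FibreStalk
import Groth.Agent.Lib.Helper5.RegSmoothScheme2
import Groth.Agent.Lib.helper11.RegularDim

/-!
# helper25 — DepthFib: depth of the local rings of a flat (ess. f.p.) family from the depth of the fibre
-/

set_option autoImplicit false
set_option linter.unusedVariables false
set_option linter.style.haveILetI false
set_option linter.unusedSectionVars false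
universe u
open IsLocalRing RingTheory.Sequence
open scoped Pointwise

namespace Groth.Agent.Lib.Helper25.DepthFib

section Alg

/-- from `2 ≤ depth` extract two elements of the maximal ideal forming a regular sequence -/
theorem exists_two_of_depth (R : Type u) [CommRing R] [IsLocalRing R]
    (h : (2 : ℕ∞) ≤ LocCoh.depth R R) :
    ∃ t₁ t₂ : R, t₁ ∈ maximalIdeal R ∧ t₂ ∈ maximalIdeal R ∧ IsSMulRegular R t₁ ∧
      IsSMulRegular (QuotSMulTop t₁ R) t₂ := by
  classical
  unfold LocCoh.depth LocCoh.idealDepth at h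
  have hne : maximalIdeal R • (⊤ : Submodule R R) ≠ ⊤ := by
    rw [smul_eq_mul, Ideal.mul_top]
    exact (maximalIdeal.isMaximal R).ne_top
  rw [if_neg hne] at h
  by_contra hcon
  push Not at hcon
  have hle : (⨆ (rs : List R) (_ : IsWeaklyRegular R rs ∧ ∀ r ∈ rs, r ∈ maximalIdeal R),
      (rs.length : ℕ∞)) ≤ 1 := by
    refine iSup₂_le fun rs hrs => ?_
    match rs, hrs with
    | [], _ => simp
    | [a], _ => simp
    | a :: b :: rest, ⟨hw, hm⟩ =>
      exfalso
      rw [isWeaklyRegular_cons_iff] at hw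
      obtain ⟨h1, h2⟩ := hw
      rw [isWeaklyRegular_cons_iff] at h2
      exact hcon a b (hm a (by simp)) (hm b (by simp)) h1 h2.1
  have : (2 : ℕ∞) ≤ 1 := h.trans hle
  exact absurd this (by decide)

variable (A B : Type u) [CommRing A] [CommRing B] [IsLocalRing A] [IsLocalRing B] [Algebra A B]
  [IsLocalHom (algebraMap A B)]

/-- the fibre ideal is proper -/
theorem fibIdeal_le : (maximalIdeal A).map (algebraMap A B) ≤ maximalIdeal B :=
  ((IsLocalRing.local_hom_TFAE (algebraMap A B)).out 0 2).mp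
    (inferInstance : IsLocalHom (algebraMap A B))

instance : Nontrivial (B ⧸ (maximalIdeal A).map (algebraMap A B)) :=
  Ideal.Quotient.nontrivial_iff.2
    (ne_top_of_le_ne_top (maximalIdeal.isMaximal _).ne_top (fibIdeal_le A B))

instance : IsLocalRing (B ⧸ (maximalIdeal A).map (algebraMap A B)) :=
  .of_surjective' (Ideal.Quotient.mk _) Ideal.Quotient.mk_surjective

theorem mem_smul_top_quotSMulTop (I : Ideal B) (t : B) (b : B) :
    (Submodule.Quotient.mk b : QuotSMulTop t B) ∈ I • (⊤ : Submodule B (QuotSMulTop t B)) ↔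
      ∃ i ∈ I, ∃ c : B, b = i + t * c := by
  have hmap : I • (⊤ : Submodule B (QuotSMulTop t B)) =
      Submodule.map (Submodule.mkQ (t • (⊤ : Submodule B B))) (I • (⊤ : Submodule B B)) := by
    rw [Submodule.map_smul'', Submodule.map_top, Submodule.range_mkQ]
  rw [hmap, Submodule.mem_map]
  constructor
  · rintro ⟨i, hi, hib⟩
    rw [smul_eq_mul, Ideal.mul_top] at hi
    have : (Submodule.Quotient.mk i : QuotSMulTop t B) = Submodule.Quotient.mk b := hib
    rw [Submodule.Quotient.eq, Submodule.mem_smul_pointwise_iff_exists] at this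
    obtain ⟨c, -, hc⟩ := this
    refine ⟨i, hi, -c, ?_⟩
    rw [smul_eq_mul] at hc
    rw [mul_neg, hc]; ring
  · rintro ⟨i, hi, c, rfl⟩
    refine ⟨i, by rw [smul_eq_mul, Ideal.mul_top]; exact hi, ?_⟩
    show (Submodule.Quotient.mk i : QuotSMulTop t B) = Submodule.Quotient.mk (i + t * c)
    rw [Submodule.Quotient.eq, Submodule.mem_smul_pointwise_iff_exists]
    exact ⟨-c, trivial, by rw [smul_eq_mul]; ring⟩

set_option maxHeartbeats 1600000 in
set_option synthInstance.maxHeartbeats 200000 in
/-- **depth of a flat family from the depth of its closed fibre (depth ≥ 2)**: `A → B` flat local, `B` essentially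
of finite presentation; if the fibre ring `B / m_A B` has depth at least `2`, so has `B`. -/
theorem two_le_depth_of_fibre
    (S₀ : Type u) [CommRing S₀] [Algebra A S₀] [Algebra.FinitePresentation A S₀] [Algebra S₀ B]
    [IsScalarTower A S₀ B] (T₀ : Submonoid S₀) [IsLocalization T₀ B] [Module.Flat A B]
    (hdepth : (2 : ℕ∞) ≤ LocCoh.depth (B ⧸ (maximalIdeal A).map (algebraMap A B))
      (B ⧸ (maximalIdeal A).map (algebraMap A B))) :
    (2 : ℕ∞) ≤ LocCoh.depth B B := by
  classical
  set I : Ideal B := (maximalIdeal A).map (algebraMap A B) with hI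
  obtain ⟨s₁, s₂, hs₁, hs₂, hr₁, hr₂⟩ := exists_two_of_depth (B ⧸ I) hdepth
  obtain ⟨t₁, rfl⟩ := Ideal.Quotient.mk_surjective s₁
  obtain ⟨t₂, rfl⟩ := Ideal.Quotient.mk_surjective s₂
  have hmem : ∀ t : B, Ideal.Quotient.mk I t ∈ maximalIdeal (B ⧸ I) → t ∈ maximalIdeal B := by
    intro t ht
    rw [mem_maximalIdeal, mem_nonunits_iff] at ht ⊢
    intro hu
    exact ht (hu.map _)
  have ht₁ := hmem t₁ hs₁
  have ht₂ := hmem t₂ hs₂
  -- first step
  obtain ⟨hreg₁, hflat₁⟩ := Groth.Agent.Lib.Helper21.FlatDesc.isSMulRegular_and_flat_quot_of_fibre A B S₀ T₀ B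
    t₁ ht₁ (by
      intro y hy
      rw [smul_eq_mul, Ideal.mul_top] at hy ⊢
      rw [smul_eq_mul] at hy
      have h0 : Ideal.Quotient.mk I t₁ • Ideal.Quotient.mk I y = Ideal.Quotient.mk I t₁ • 0 := by
        rw [smul_eq_mul, ← map_mul, smul_zero]
        exact Ideal.Quotient.eq_zero_iff_mem.mpr hy
      exact Ideal.Quotient.eq_zero_iff_mem.mp (hr₁ h0))
  -- second step
  haveI : Module.FinitePresentation B (QuotSMulTop t₁ B) := by
    refine Module.finitePresentation_of_surjective (Submodule.mkQ (t₁ • (⊤ : Submodule B B)))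
      (Submodule.mkQ_surjective _) ?_
    rw [Submodule.ker_mkQ]
    have : (t₁ • (⊤ : Submodule B B)) = Submodule.span B {t₁} := by
      ext z
      rw [Submodule.mem_smul_pointwise_iff_exists, Submodule.mem_span_singleton]
      constructor
      · rintro ⟨c, -, rfl⟩; exact ⟨c, by rw [smul_eq_mul, smul_eq_mul, mul_comm]⟩
      · rintro ⟨c, rfl⟩; exact ⟨c, trivial, by rw [smul_eq_mul, smul_eq_mul, mul_comm]⟩
    rw [this]
    exact Submodule.fg_span_singleton t₁
  obtain ⟨hreg₂, -⟩ := Groth.Agent.Lib.Helper21.FlatDesc.isSMulRegular_and_flat_quot_of_fibre A B S₀ T₀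
    (QuotSMulTop t₁ B) t₂ ht₂ (by
      intro y hy
      obtain ⟨b, rfl⟩ := Submodule.Quotient.mk_surjective _ y
      have hy' : (Submodule.Quotient.mk (t₂ * b) : QuotSMulTop t₁ B) ∈
          I • (⊤ : Submodule B (QuotSMulTop t₁ B)) := hy
      rw [mem_smul_top_quotSMulTop] at hy' ⊢
      obtain ⟨i, hi, c, hc⟩ := hy'
      -- in the fibre ring
      have h0 : Ideal.Quotient.mk I t₂ •
          (Submodule.Quotient.mk (Ideal.Quotient.mk I b) : QuotSMulTop (Ideal.Quotient.mk I t₁) (B ⧸ I)) =
          Ideal.Quotient.mk I t₂ • 0 := by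
        rw [smul_zero, ← Submodule.Quotient.mk_smul, smul_eq_mul, ← map_mul, hc, map_add,
          Ideal.Quotient.eq_zero_iff_mem.mpr hi, zero_add, map_mul]
        rw [Submodule.Quotient.mk_eq_zero, Submodule.mem_smul_pointwise_iff_exists]
        exact ⟨Ideal.Quotient.mk I c, trivial, rfl⟩
      have h1 := hr₂ h0
      rw [Submodule.Quotient.mk_eq_zero, Submodule.mem_smul_pointwise_iff_exists] at h1
      obtain ⟨d', -, hd'⟩ := h1
      obtain ⟨d, rfl⟩ := Ideal.Quotient.mk_surjective d'
      rw [smul_eq_mul, ← map_mul, Ideal.Quotient.eq] at hd'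
      refine ⟨b - t₁ * d, ?_, d, by ring⟩
      have := I.neg_mem hd'
      rwa [neg_sub] at this)
  -- conclusion
  unfold LocCoh.depth LocCoh.idealDepth
  split_ifs with htop
  · exact le_top
  · refine le_iSup₂_of_le [t₁, t₂] ⟨?_, ?_⟩ (by simp)
    · rw [isWeaklyRegular_cons_iff]
      exact ⟨hreg₁, (isWeaklyRegular_singleton_iff _ _).mpr hreg₂⟩
    · intro r hr
      simp only [List.mem_cons, List.not_mem_nil, or_false] at hr
      rcases hr with rfl | rfl
      · exact ht₁
      · exact ht₂

end Alg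

section Sch

open AlgebraicGeometry CategoryTheory Limits

set_option maxHeartbeats 1600000 in
set_option synthInstance.maxHeartbeats 200000 in
/-- for a smooth morphism, the local ring at a point where the fibre has dimension at least two has depth at
least two -/
theorem two_le_depth_stalk_of_smooth {X S : Scheme.{u}} (f : X ⟶ S) [Smooth f] (x : X)
    (hx : (2 : WithBot ℕ∞) ≤ ringKrullDim (CInt.fiberStalk f x)) :
    (2 : ℕ∞) ≤ LocCoh.depth (X.presheaf.stalk x) (X.presheaf.stalk x) := by
  letI aO : Algebra (S.presheaf.stalk (f x)) (X.presheaf.stalk x) := (f.stalkMap x).hom.toAlgebra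
  haveI : IsLocalHom (algebraMap (S.presheaf.stalk (f x)) (X.presheaf.stalk x)) :=
    inferInstanceAs (IsLocalHom (f.stalkMap x).hom)
  obtain ⟨C₀, _, a, b, TC, hab, ha, hloc⟩ := Groth.Agent.Lib.Helper21.FlatDesc.essFP_stalkMap f x
  letI aAC₀ : Algebra (S.presheaf.stalk (f x)) C₀ := a.toAlgebra
  letI aC₀C : Algebra C₀ (X.presheaf.stalk x) := b.toAlgebra
  haveI twC : IsScalarTower (S.presheaf.stalk (f x)) C₀ (X.presheaf.stalk x) :=
    IsScalarTower.of_algebraMap_eq fun r => by
      show (f.stalkMap x).hom r = b (a r)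
      rw [hab]; rfl
  haveI : Algebra.FinitePresentation (S.presheaf.stalk (f x)) C₀ := ha
  haveI := hloc
  haveI : Module.Flat (S.presheaf.stalk (f x)) (X.presheaf.stalk x) := Flat.stalkMap f x
  refine two_le_depth_of_fibre (S.presheaf.stalk (f x)) (X.presheaf.stalk x) C₀ TC ?_
  -- the fibre
  obtain ⟨e⟩ := Groth.Agent.Lib.Helper21.FibreStalk.nonempty_fibreStalkEquiv f x
  haveI : Smooth (f.fiberToSpecResidueField (f x)) :=
    inferInstanceAs (Smooth (pullback.snd f (S.fromSpecResidueField (f x))))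
  haveI hreg : IsRegularLocalRing (CInt.fiberStalk f x) :=
    Groth.Agent.Lib.Helper5.RegSmooth.regular_stalk_of_smooth (S.residueField (f x)) (f.fiber (f x))
      (f.fiberToSpecResidueField (f x)) (f.asFiber x)
  haveI hreg' : IsRegularLocalRing (X.presheaf.stalk x ⧸
      (maximalIdeal (S.presheaf.stalk (f x))).map (algebraMap (S.presheaf.stalk (f x)) (X.presheaf.stalk x))) :=
    IsRegularLocalRing.of_ringEquiv e
  have hdim : ringKrullDim (CInt.fiberStalk f x) = ringKrullDim (X.presheaf.stalk x ⧸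
      (maximalIdeal (S.presheaf.stalk (f x))).map (algebraMap (S.presheaf.stalk (f x)) (X.presheaf.stalk x))) :=
    ringKrullDim_eq_of_ringEquiv e
  have hd := Groth.Agent.Lib.helper11.RegularDim.depth_self (R := X.presheaf.stalk x ⧸
      (maximalIdeal (S.presheaf.stalk (f x))).map (algebraMap (S.presheaf.stalk (f x)) (X.presheaf.stalk x)))
  have h2 : ((2 : ℕ∞) : WithBot ℕ∞) ≤ ((LocCoh.depth (X.presheaf.stalk x ⧸
      (maximalIdeal (S.presheaf.stalk (f x))).map (algebraMap (S.presheaf.stalk (f x)) (X.presheaf.stalk x)))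
      (X.presheaf.stalk x ⧸ (maximalIdeal (S.presheaf.stalk (f x))).map
        (algebraMap (S.presheaf.stalk (f x)) (X.presheaf.stalk x))) : ℕ∞) : WithBot ℕ∞) := by
    rw [hd, ← hdim]
    exact hx
  exact WithBot.coe_le_coe.mp h2

end Sch

end Groth.Agent.Lib.Helper25.DepthFib
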