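import Mathlib

set_option autoImplicit false
set_option linter.unusedSectionVars false
universe u
open Finset

namespace Groth.Agent.Lib.Helper25.DetRed

variable {V : Type u} [Fintype V] [DecidableEq V]

/-- the bordered form: rows/columns `≠ v₀` from `A`, row `v₀` given by `s` (with `1` at `v₀`),
column `v₀` zero off the diagonal. -/
def bord (A : Matrix V V ℤ) (s : V → ℤ) (v₀ : V) : Matrix V V ℤ :=
  fun i j => if i = v₀ then (if j = v₀ then 1 else s j) else (if j = v₀ then 0 else A i j)

theorem det_bord (A : Matrix V V ℤ) (s : V → ℤ) (v₀ : V) :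
    (bord A s v₀).det = (A.submatrix (Subtype.val : {v : V // v ≠ v₀} → V) Subtype.val).det := by
  let e : {v : V // v ≠ v₀} ⊕ {v : V // ¬ v ≠ v₀} ≃ V := Equiv.sumCompl (fun v => v ≠ v₀)
  rw [← Matrix.det_submatrix_equiv_self e (bord A s v₀)]
  have hblock : (bord A s v₀).submatrix e e =
      Matrix.fromBlocks (A.submatrix (Subtype.val : {v : V // v ≠ v₀} → V) Subtype.val)
        (0 : Matrix {v : V // v ≠ v₀} {v : V // ¬ v ≠ v₀} ℤ)
        (Matrix.of fun (_ : {v : V // ¬ v ≠ v₀}) (j : {v : V // v ≠ v₀}) => s j.1)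
        (1 : Matrix {v : V // ¬ v ≠ v₀} {v : V // ¬ v ≠ v₀} ℤ) := by
    ext (i | i) (j | j)
    · have hi : i.1 ≠ v₀ := i.2
      have hj : j.1 ≠ v₀ := j.2
      simp [e, bord, hi, hj]
    · have hi : i.1 ≠ v₀ := i.2
      have hj : j.1 = v₀ := not_not.mp j.2
      simp [e, bord, hi, hj]
    · have hi : i.1 = v₀ := not_not.mp i.2
      have hj : j.1 ≠ v₀ := j.2
      simp [e, bord, hi, hj]
    · have hi : i.1 = v₀ := not_not.mp i.2
      have hj : j.1 = v₀ := not_not.mp j.2
      have hij : i = j := Subtype.ext (hi.trans hj.symm)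
      simp [e, bord, hi, hj, hij]
  rw [hblock, Matrix.det_fromBlocks_zero₁₂, Matrix.det_one, mul_one]

/-- main determinant reduction -/
theorem det_reduce (A : Matrix V V ℤ) (hA : A.transpose = A) (β s : V → ℤ) (m : ℤ)
    (hAβ : A.mulVec β = 0) (hs : ∑ v, β v * s v = m) (v₀ : V) :
    β v₀ ^ 2 * (A + Matrix.of fun v w => s v * s w).det =
      m ^ 2 * (A.submatrix (Subtype.val : {v : V // v ≠ v₀} → V) Subtype.val).det := by
  set F : Matrix V V ℤ := A + Matrix.of fun v w => s v * s w with hF
  have hFβ : ∀ k, ∑ i, β i * F k i = m * s k := by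
    intro k
    have h1 := congrFun hAβ k
    simp only [Matrix.mulVec, dotProduct, Pi.zero_apply] at h1
    simp only [hF, Matrix.add_apply, Matrix.of_apply, mul_add, Finset.sum_add_distrib]
    have h2 : ∑ i, β i * A k i = 0 := by
      rw [← h1]; exact Finset.sum_congr rfl fun i _ => mul_comm _ _
    have h3 : ∑ i, β i * (s k * s i) = s k * ∑ i, β i * s i := by
      rw [Finset.mul_sum]; exact Finset.sum_congr rfl fun i _ => by ring
    rw [h2, h3, hs]; ring
  have hFsymm : ∀ i j, F i j = F j i := by
    intro i j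
    have := congrFun (congrFun hA i) j
    rw [Matrix.transpose_apply] at this
    simp only [hF, Matrix.add_apply, Matrix.of_apply]
    rw [this]; ring
  -- step 1: column operation
  set F₁ : Matrix V V ℤ := F.updateCol v₀ (fun k => m * s k) with hF₁
  have h1 : F₁.det = β v₀ * F.det := by
    have := Matrix.det_updateCol_sum F v₀ β
    simp only [smul_eq_mul] at this
    rw [← this, hF₁]
    congr 2
    funext k
    exact (hFβ k).symm
  -- step 2: row operation
  set r' : V → ℤ := fun w => if w = v₀ then m else s w with hr'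
  have hrow : (∑ k, β k • F₁ k) = m • r' := by
    funext w
    simp only [Finset.sum_apply, Pi.smul_apply, smul_eq_mul, hr', hF₁, Matrix.updateCol_apply]
    by_cases hw : w = v₀
    · simp only [hw, if_true]
      have h6 : ∑ k, β k * (m * s k) = m * ∑ k, β k * s k := by
        rw [Finset.mul_sum]; exact Finset.sum_congr rfl fun k _ => by ring
      rw [h6, hs]
    · simp only [hw, if_false]
      rw [← hFβ w]
      exact Finset.sum_congr rfl fun k _ => by rw [hFsymm k w]
  have h2 : (F₁.updateRow v₀ (m • r')).det = β v₀ * F₁.det := by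
    have := Matrix.det_updateRow_sum F₁ v₀ β
    simp only [smul_eq_mul] at this
    rw [← this, hrow]
  -- step 3: pull out m from the row
  set F₃ : Matrix V V ℤ := F₁.updateRow v₀ r' with hF₃
  have h3 : (F₁.updateRow v₀ (m • r')).det = m * F₃.det := Matrix.det_updateRow_smul _ _ _ _
  -- step 4: pull out m from the column
  set c' : V → ℤ := fun k => if k = v₀ then 1 else s k with hc'
  have hF₃col : F₃ = F₃.updateCol v₀ (m • c') := by
    ext i j
    simp only [Matrix.updateCol_apply]
    by_cases hj : j = v₀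
    · simp only [hj, if_true, Pi.smul_apply, smul_eq_mul, hc', hF₃, Matrix.updateRow_apply, hr', hF₁,
        Matrix.updateCol_apply]
      by_cases hi : i = v₀
      · simp [hi]
      · simp [hi]
    · simp [hj]
  have h4 : F₃.det = m * (F₃.updateCol v₀ c').det := by
    conv_lhs => rw [hF₃col]
    exact Matrix.det_updateCol_smul _ _ _ _
  -- step 5: clear the column by row operations
  have h5 : (F₃.updateCol v₀ c').det = (bord A s v₀).det := by
    refine Matrix.det_eq_of_forall_row_eq_smul_add_const (fun i => if i = v₀ then 0 else s i) v₀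
      (by simp) ?_
    intro i j
    simp only [Matrix.updateCol_apply, hc', hF₃, Matrix.updateRow_apply, hr', hF₁, bord, hF,
      Matrix.add_apply, Matrix.of_apply]
    by_cases hi : i = v₀ <;> by_cases hj : j = v₀ <;> simp [hi, hj]
  rw [← det_bord A s v₀, ← h5]
  have : β v₀ ^ 2 * F.det = β v₀ * (β v₀ * F.det) := by ring
  rw [this, ← h1, ← h2, h3, h4]
  ring

end Groth.Agent.Lib.Helper25.DetRed
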