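import Groth.Agent.Lib.Helper25.HopfInt
import Mathlib.RingTheory.Coalgebra.GroupLike

/-! Diagonalizable Hopf algebras are linearly reductive; transport of diagonalizability. -/

set_option autoImplicit false
universe u v

open TensorProduct

namespace Groth.Agent.Lib.Helper25.Diag

open HopfRep

theorem isLinearlyReductive_of_isDiagonalizable (k : Type u) [Field k] (A : Type v) [CommRing A]
    [HopfAlgebra k A] (hdiag : IsDiagonalizable k A) : IsLinearlyReductive k A := by
  intro V _ _ _ _
  classical
  have hli : LinearIndependent k (GroupLike.val (R := k) (A := A)) := linearIndep_groupLikeVal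
  have hsp : ⊤ ≤ Submodule.span k (Set.range (GroupLike.val (R := k) (A := A))) := by
    have : Set.range (GroupLike.val (R := k) (A := A)) = {a : A | IsGroupLikeElem k a} := by
      ext a
      constructor
      · rintro ⟨g, rfl⟩; exact g.2
      · intro ha; exact ⟨⟨a, ha⟩, rfl⟩
    rw [this]
    exact hdiag.ge
  let b : Module.Basis (GroupLike k A) k A := Module.Basis.mk hli hsp
  have hbv : ∀ g, b g = g.val := fun g => by simp [b]
  have h1g : IsGroupLikeElem k (1 : A) := ⟨Bialgebra.counit_one, Bialgebra.comul_one⟩
  let e : GroupLike k A := ⟨1, h1g⟩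
  have he : b e = 1 := hbv e
  refine Groth.Agent.Lib.Helper25.HopfInt.isSemisimpleComod_of_integral (b.coord e) ?_ ?_
  · intro a
    have hlin : LinearMap.rTensor A (b.coord e) ∘ₗ CoalgebraStruct.comul (R := k) (A := A) =
        (TensorProduct.mk k k A).flip 1 ∘ₗ (b.coord e) := by
      refine b.ext fun g => ?_
      simp only [LinearMap.comp_apply, LinearMap.flip_apply, TensorProduct.mk_apply]
      rw [hbv, g.2.comul_eq_tmul_self, LinearMap.rTensor_tmul, ← hbv, Module.Basis.coord_apply,
        Module.Basis.repr_self, Finsupp.single_apply]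
      by_cases hg : g = e
      · rw [if_pos hg, hg, he]
      · rw [if_neg hg, TensorProduct.zero_tmul, TensorProduct.zero_tmul]
    exact LinearMap.congr_fun hlin a
  · rw [← he, Module.Basis.coord_apply, Module.Basis.repr_self, Finsupp.single_eq_same]

/-- diagonalizability transports along a bialgebra isomorphism -/
theorem isDiagonalizable_of_bialgEquiv (k : Type u) [Field k] (A B : Type v) [CommRing A]
    [CommRing B] [Bialgebra k A] [Bialgebra k B] (e : A ≃ₐc[k] B) (hB : IsDiagonalizable k B) :
    IsDiagonalizable k A := by
  unfold IsDiagonalizable at hB ⊢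
  rw [eq_top_iff]
  intro a _
  have h1 : e a ∈ Submodule.span k {b : B | IsGroupLikeElem k b} := by rw [hB]; trivial
  have h2 : e.symm (e a) ∈ (Submodule.span k {b : B | IsGroupLikeElem k b}).map
      (e.symm : B →ₗ[k] A) := Submodule.mem_map_of_mem h1
  rw [e.symm_apply_apply, Submodule.map_span] at h2
  refine Submodule.span_mono ?_ h2
  rintro _ ⟨b, hb, rfl⟩
  exact hb.map e.symm

end Groth.Agent.Lib.Helper25.Diag
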