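import Mathlib

/-!
# Helper library (helper25): `Dual k M ⊗ N → Hom(M, N)` is bijective for `M` finitely presented, `N` flat
-/

set_option autoImplicit false
universe u v w
open TensorProduct

namespace Groth.Agent.Lib.Helper25.DualFP

variable {k : Type u} [CommRing k]

theorem dualTensorHom_lcomp_rTensor {L L' : Type*} [AddCommGroup L] [Module k L] [AddCommGroup L']
    [Module k L'] {N : Type*} [AddCommGroup N] [Module k N] (f : L →ₗ[k] L')
    (x : Module.Dual k L' ⊗[k] N) :
    dualTensorHom k L N ((LinearMap.lcomp k k f).rTensor N x) = dualTensorHom k L' N x ∘ₗ f := by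
  induction x using TensorProduct.induction_on with
  | zero => simp
  | tmul φ n => ext l; simp
  | add x y hx hy => simp only [map_add, hx, hy, LinearMap.add_comp]

theorem dualTensorHom_bijective_of_fp_flat (M : Type v) [AddCommGroup M] [Module k M]
    [Module.FinitePresentation k M] (N : Type w) [AddCommGroup N] [Module k N] [Module.Flat k N] :
    Function.Bijective (dualTensorHom k M N) := by
  obtain ⟨n, m, p, g, hp, hgp⟩ := Module.FinitePresentation.exists_fin' k M
  have hpinj : Function.Injective (LinearMap.lcomp k k p) :=
    LinearMap.lcomp_injective_of_surjective p hp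
  have hex : Function.Exact (LinearMap.lcomp k k p) (LinearMap.lcomp k k g) :=
    LinearMap.exact_lcomp_of_exact_of_surjective k hgp hp
  have hpinjN : Function.Injective ((LinearMap.lcomp k k p).rTensor N) :=
    Module.Flat.rTensor_preserves_injective_linearMap _ hpinj
  have hexN : Function.Exact ((LinearMap.lcomp k k p).rTensor N) ((LinearMap.lcomp k k g).rTensor N) :=
    Module.Flat.rTensor_exact N hex
  have bn : Function.Bijective (dualTensorHom k (Fin n → k) N) := dualTensorHom_bijective
  have bm : Function.Bijective (dualTensorHom k (Fin m → k) N) := dualTensorHom_bijective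
  constructor
  · intro x y hxy
    apply hpinjN
    apply bn.1
    rw [dualTensorHom_lcomp_rTensor, dualTensorHom_lcomp_rTensor, hxy]
  · intro h
    obtain ⟨y, hy⟩ := bn.2 (h ∘ₗ p)
    have h0 : (LinearMap.lcomp k k g).rTensor N y = 0 := by
      apply bm.1
      rw [dualTensorHom_lcomp_rTensor, hy, map_zero, LinearMap.comp_assoc,
        hgp.linearMap_comp_eq_zero, LinearMap.comp_zero]
    obtain ⟨x, hx⟩ := (hexN y).mp h0
    refine ⟨x, ?_⟩
    apply LinearMap.ext
    intro mm
    obtain ⟨z, rfl⟩ := hp mm
    have := dualTensorHom_lcomp_rTensor (N := N) p x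
    rw [hx, hy] at this
    exact (LinearMap.congr_fun this z).symm

end Groth.Agent.Lib.Helper25.DualFP
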