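import Mathlib
import Groth.Agent.Lib.helper11.GenFreeExact

/-!
# Generic non-exactness of fibre sequences over a Noetherian domain (helper25)

Companion of helper11's `GenFreeExact.exists_fibre_exact`: if the generic fibre sequence is not
exact, then no fibre sequence over a nonempty open subset is exact.
-/

set_option autoImplicit false
set_option linter.unusedSectionVars false
set_option linter.unusedVariables false
set_option linter.style.haveILetI false
universe u

open TensorProduct Function

namespace Groth.Agent.Lib.Helper25.ExactGen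

open Groth.Agent.Lib.helper11.GenFree Groth.Agent.Lib.helper11.GenFreeTools
  Groth.Agent.Lib.helper11.GenFreeExact

section BC

variable (R : Type u) [CommRing R] (κ : Type u) [CommRing κ] [Algebra R κ]
  {B : Type u} [CommRing B] [Algebra R B]
  {M N P : Type u} [AddCommGroup M] [Module B M] [Module R M] [IsScalarTower R B M]
  [AddCommGroup N] [Module B N] [Module R N] [IsScalarTower R B N]
  [AddCommGroup P] [Module B P] [Module R P] [IsScalarTower R B P]

/-- base change to `κ` of a `B`-linear map, as an `R`-linear map -/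
noncomputable abbrev bc (φ : M →ₗ[B] N) : κ ⊗[R] M →ₗ[κ] κ ⊗[R] N :=
  (φ.restrictScalars R).baseChange κ

theorem bc_comp (ψ : N →ₗ[B] P) (φ : M →ₗ[B] N) (z : κ ⊗[R] M) :
    bc R κ (ψ ∘ₗ φ) z = bc R κ ψ (bc R κ φ z) := by
  change ((ψ.restrictScalars R ∘ₗ φ.restrictScalars R).baseChange κ) z = _
  rw [LinearMap.baseChange_comp]
  rfl

theorem bc_eq_zero {φ : M →ₗ[B] N} (h : φ = 0) (z : κ ⊗[R] M) : bc R κ φ z = 0 := by
  subst h
  change ((0 : M →ₗ[R] N).baseChange κ) z = 0
  rw [LinearMap.baseChange_zero]
  rfl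

theorem bc_surjective {φ : M →ₗ[B] N} (h : Surjective φ) : Surjective (bc R κ φ) := by
  have : Surjective ((φ.restrictScalars R).lTensor κ) := LinearMap.lTensor_surjective κ h
  intro y
  obtain ⟨x, hx⟩ := this y
  exact ⟨x, by rw [← hx]; rfl⟩

end BC

section Fibre

variable {R B : Type u} [CommRing R] [IsDomain R] [CommRing B] [Algebra R B]
  [Algebra.FiniteType R B]

/-- a finite module with nonzero generic fibre has nonzero fibres over a nonempty open -/
theorem exists_nontrivial_fibre (N : Type u) [AddCommGroup N] [Module B N] [Module R N]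
    [IsScalarTower R B N] [Module.Finite B N] (hN : Nontrivial (FractionRing R ⊗[R] N)) :
    ∃ f : R, f ≠ 0 ∧ ∀ p : PrimeSpectrum R, f ∉ p.asIdeal →
      Nontrivial (p.asIdeal.ResidueField ⊗[R] N) := by
  obtain ⟨f, hf, Hs⟩ := GenFree.exists_spec (genFree_of_finiteType (R := R) B N)
  refine ⟨f, hf, fun p hp => ?_⟩
  set A := Localization.Away f
  haveI : Module.Free A (A ⊗[R] N) := (Hs f dvd_rfl hf).1
  -- `A ⊗ N` is nonzero
  have hle : Submonoid.powers f ≤ nonZeroDivisors R :=
    powers_le_nonZeroDivisors_of_noZeroDivisors hf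
  have huK : IsUnit (algebraMap R (FractionRing R) f) := by
    rw [isUnit_iff_ne_zero]
    intro h0
    exact hf ((IsFractionRing.injective R (FractionRing R)) (by rw [h0, map_zero]))
  letI : Algebra A (FractionRing R) := (IsLocalization.Away.lift f huK).toAlgebra
  haveI : IsScalarTower R A (FractionRing R) := IsScalarTower.of_algebraMap_eq
    (fun r => (IsLocalization.Away.lift_eq f huK r).symm)
  haveI hnt : Nontrivial (A ⊗[R] N) := by
    by_contra hcon
    rw [not_nontrivial_iff_subsingleton] at hcon
    haveI := hcon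
    have : Subsingleton (FractionRing R ⊗[R] N) :=
      (AlgebraTensorModule.cancelBaseChange R A (FractionRing R) (FractionRing R) N).symm.injective.subsingleton
    exact not_subsingleton _ this
  set k := p.asIdeal.ResidueField
  have hu_k : IsUnit (algebraMap R k f) := by
    rw [isUnit_iff_ne_zero]
    intro h0
    exact hp (Ideal.algebraMap_residueField_eq_zero.mp h0)
  letI : Algebra A k := (IsLocalization.Away.lift f hu_k).toAlgebra
  haveI : IsScalarTower R A k := IsScalarTower.of_algebraMap_eq
    (fun r => (IsLocalization.Away.lift_eq f hu_k r).symm)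
  haveI : Nontrivial (k ⊗[A] (A ⊗[R] N)) := Module.FaithfullyFlat.rTensor_nontrivial A _ k
  exact (AlgebraTensorModule.cancelBaseChange R A k k N).injective.nontrivial

/-- an injective map of finite modules stays injective on the fibres over a nonempty open -/
theorem exists_fibre_injective {M N : Type u} [AddCommGroup M] [Module B M] [Module R M]
    [IsScalarTower R B M] [Module.Finite B M] [AddCommGroup N] [Module B N] [Module R N]
    [IsScalarTower R B N] [Module.Finite B N] (j : M →ₗ[B] N) (hj : Injective j) :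
    ∃ f : R, f ≠ 0 ∧ ∀ p : PrimeSpectrum R, f ∉ p.asIdeal →
      Injective (bc R p.asIdeal.ResidueField j) := by
  have hgen : Exact (((0 : PUnit.{u + 1} →ₗ[B] M).restrictScalars R).baseChange (FractionRing R))
      ((j.restrictScalars R).baseChange (FractionRing R)) := by
    have h0 : ((0 : PUnit.{u + 1} →ₗ[B] M).restrictScalars R).baseChange (FractionRing R) = 0 := by
      change ((0 : PUnit.{u + 1} →ₗ[R] M).baseChange (FractionRing R)) = 0
      exact LinearMap.baseChange_zero
    rw [h0, LinearMap.exact_zero_iff_injective]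
    have : Injective ((j.restrictScalars R).lTensor (FractionRing R)) :=
      Module.Flat.lTensor_preserves_injective_linearMap _ hj
    exact this
  obtain ⟨f, hf, H⟩ := exists_fibre_exact (0 : PUnit.{u + 1} →ₗ[B] M) j hgen
  refine ⟨f, hf, fun p hp => ?_⟩
  have h1 := H p hp
  have h0 : ((0 : PUnit.{u + 1} →ₗ[B] M).restrictScalars R).baseChange p.asIdeal.ResidueField
      = 0 := by
    change ((0 : PUnit.{u + 1} →ₗ[R] M).baseChange p.asIdeal.ResidueField) = 0
    exact LinearMap.baseChange_zero
  rw [h0, LinearMap.exact_zero_iff_injective] at h1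
  exact h1

end Fibre

section Neg

variable {R B : Type u} [CommRing R] [IsDomain R] [IsNoetherianRing R] [CommRing B] [Algebra R B]
  [Algebra.FiniteType R B]
  {F G H : Type u} [AddCommGroup F] [Module B F] [Module R F] [IsScalarTower R B F]
  [Module.Finite B F]
  [AddCommGroup G] [Module B G] [Module R G] [IsScalarTower R B G] [Module.Finite B G]
  [AddCommGroup H] [Module B H] [Module R H] [IsScalarTower R B H] [Module.Finite B H]

local notation "K" => FractionRing R

/-- every element of `K ⊗ M` is a fraction `s⁻¹ (1 ⊗ m)` -/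
theorem exists_smul_eq_tmul {M : Type u} [AddCommGroup M] [Module R M] (z : K ⊗[R] M) :
    ∃ (s : R) (m : M), s ≠ 0 ∧ s • z = (1 : K) ⊗ₜ[R] m := by
  obtain ⟨⟨m, s⟩, hms⟩ := IsLocalizedModule.surj (nonZeroDivisors R)
    (TensorProduct.mk R K M 1) z
  exact ⟨s, m, nonZeroDivisors.ne_zero s.2, hms⟩

theorem exists_smul_eq_zero {M : Type u} [AddCommGroup M] [Module R M] (m : M)
    (h : (1 : K) ⊗ₜ[R] m = 0) : ∃ s : R, s ≠ 0 ∧ s • m = 0 := by
  obtain ⟨s, hs⟩ := (IsLocalizedModule.eq_zero_iff (nonZeroDivisors R)
    (TensorProduct.mk R K M 1)).mp h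
  exact ⟨s, nonZeroDivisors.ne_zero s.2, hs⟩

theorem mem_range_of_smul_mem {M N : Type u} [AddCommGroup M] [Module R M] [AddCommGroup N]
    [Module R N] (φ : K ⊗[R] M →ₗ[K] K ⊗[R] N) (s : R) (hs : s ≠ 0) (z : K ⊗[R] N)
    (h : s • z ∈ LinearMap.range φ) : z ∈ LinearMap.range φ := by
  have hu : algebraMap R K s ≠ 0 := by
    intro h0
    exact hs ((IsFractionRing.injective R K) (by rw [h0, map_zero]))
  have : z = (algebraMap R K s)⁻¹ • (s • z) := by
    rw [← algebraMap_smul K s z, smul_smul, inv_mul_cancel₀ hu, one_smul]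
  rw [this]
  exact Submodule.smul_mem _ _ h

set_option maxHeartbeats 1000000 in
/-- **Generic non-exactness of fibre sequences.** -/
theorem exists_fibre_not_exact (u : F →ₗ[B] G) (v : G →ₗ[B] H)
    (hgen : ¬ Exact ((u.restrictScalars R).baseChange K) ((v.restrictScalars R).baseChange K)) :
    ∃ f : R, f ≠ 0 ∧ ∀ p : PrimeSpectrum R, f ∉ p.asIdeal →
      ¬ Exact ((u.restrictScalars R).baseChange p.asIdeal.ResidueField)
        ((v.restrictScalars R).baseChange p.asIdeal.ResidueField) := by
  classical
  haveI : IsNoetherianRing B := Algebra.FiniteType.isNoetherianRing R B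
  haveI : IsNoetherian B G := isNoetherian_of_isNoetherianRing_of_finite B G
  by_cases hc : ∀ z, bc R K v (bc R K u z) = 0
  · -- the composite vanishes generically, so the homology is generically nonzero
    have hz₀ : ∃ z₀, bc R K v z₀ = 0 ∧ z₀ ∉ LinearMap.range (bc R K u) := by
      by_contra hcon
      push Not at hcon
      apply hgen
      intro y
      constructor
      · intro hy
        exact hcon y hy
      · rintro ⟨z, rfl⟩
        exact hc z
    obtain ⟨z₀, hz₀v, hz₀u⟩ := hz₀
    let Z : Submodule B G := LinearMap.ker v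
    let C := G ⧸ LinearMap.range u
    let j : Z →ₗ[B] C := (LinearMap.range u).mkQ ∘ₗ Z.subtype
    let N : Submodule B C := LinearMap.range j
    let jr : Z →ₗ[B] N := j.rangeRestrict
    have hjr : Surjective jr := j.surjective_rangeRestrict
    have hj : N.subtype ∘ₗ jr = j := LinearMap.ext fun x => rfl
    have hvZ : v ∘ₗ Z.subtype = 0 := by
      ext z
      exact z.2
    have hqu : (LinearMap.range u).mkQ ∘ₗ u = 0 := by
      ext x
      exact (Submodule.Quotient.mk_eq_zero _).mpr ⟨x, rfl⟩
    haveI : Module.Finite B Z := Module.IsNoetherian.finite B Z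
    haveI : Module.Finite B N := Module.Finite.range j
    -- generic nonvanishing of `N`
    have hNK : Nontrivial (K ⊗[R] N) := by
      by_contra hcon
      rw [not_nontrivial_iff_subsingleton] at hcon
      obtain ⟨s, g, hs, hsg⟩ := exists_smul_eq_tmul (R := R) z₀
      have h1 : (1 : K) ⊗ₜ[R] (v g) = 0 := by
        have := congrArg (bc R K v) hsg
        rw [LinearMap.map_smul_of_tower, hz₀v, smul_zero] at this
        exact this.symm
      obtain ⟨s', hs', hs'g⟩ := exists_smul_eq_zero (R := R) (v g) h1
      have hg' : s' • g ∈ Z := by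
        change v (s' • g) = 0
        rw [LinearMap.map_smul_of_tower, hs'g]
      let n : N := jr ⟨s' • g, hg'⟩
      have hn : (1 : K) ⊗ₜ[R] n = 0 := Subsingleton.elim _ _
      obtain ⟨t, ht, htn⟩ := exists_smul_eq_zero (R := R) n hn
      have h2 : t • (s' • g) ∈ LinearMap.range u := by
        have h3 : (N.subtype (t • n) : C) = 0 := by rw [htn, map_zero]
        have h4 : (N.subtype (t • n) : C) = (LinearMap.range u).mkQ (t • (s' • g)) := by
          rw [LinearMap.map_smul_of_tower, LinearMap.map_smul_of_tower]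
          rfl
        rw [h4] at h3
        exact (Submodule.Quotient.mk_eq_zero _).mp h3
      obtain ⟨x, hx⟩ := h2
      apply hz₀u
      apply mem_range_of_smul_mem (bc R K u) (t * s' * s) (mul_ne_zero (mul_ne_zero ht hs') hs)
      refine ⟨(1 : K) ⊗ₜ[R] x, ?_⟩
      change (1 : K) ⊗ₜ[R] (u x) = _
      rw [hx, mul_smul, mul_smul, hsg, TensorProduct.tmul_smul, TensorProduct.tmul_smul]
    obtain ⟨f₁, hf₁, H₁⟩ := exists_fibre_injective (R := R) N.subtype N.subtype_injective
    obtain ⟨f₂, hf₂, H₂⟩ := exists_nontrivial_fibre (R := R) (B := B) N hNK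
    refine ⟨f₁ * f₂, mul_ne_zero hf₁ hf₂, fun p hp hex => ?_⟩
    have hp₁ : f₁ ∉ p.asIdeal := fun h => hp (Ideal.mul_mem_right _ _ h)
    have hp₂ : f₂ ∉ p.asIdeal := fun h => hp (Ideal.mul_mem_left _ _ h)
    set κ := p.asIdeal.ResidueField
    have hinj := H₁ p hp₁
    haveI := H₂ p hp₂
    obtain ⟨x, hx⟩ := exists_ne (0 : κ ⊗[R] N)
    obtain ⟨w, rfl⟩ := bc_surjective R κ hjr x
    set z := bc R κ Z.subtype w with hz
    have hvz : bc R κ v z = 0 := by
      rw [hz, ← bc_comp]
      exact bc_eq_zero R κ hvZ w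
    obtain ⟨y, hy⟩ := (hex z).mp hvz
    have h5 : bc R κ (LinearMap.range u).mkQ z = 0 := by
      have : z = bc R κ u y := hy.symm
      rw [this, ← bc_comp]
      exact bc_eq_zero R κ hqu y
    have h6 : bc R κ (LinearMap.range u).mkQ z = bc R κ N.subtype (bc R κ jr w) := by
      rw [hz, ← bc_comp, ← bc_comp, hj]
    rw [h6] at h5
    exact hx (hinj (by rw [h5, map_zero]))
  · -- the composite is generically nonzero
    push Not at hc
    obtain ⟨z₁, hz₁⟩ := hc
    let I : Submodule B H := LinearMap.range (v ∘ₗ u)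
    let ρ : F →ₗ[B] I := (v ∘ₗ u).rangeRestrict
    have hρ : Surjective ρ := (v ∘ₗ u).surjective_rangeRestrict
    have hI : I.subtype ∘ₗ ρ = v ∘ₗ u := LinearMap.ext fun x => rfl
    haveI : Module.Finite B I := Module.Finite.range (v ∘ₗ u)
    have hIK : Nontrivial (K ⊗[R] I) := by
      by_contra hcon
      rw [not_nontrivial_iff_subsingleton] at hcon
      apply hz₁
      rw [← bc_comp, ← hI, bc_comp]
      have : bc R K ρ z₁ = 0 := Subsingleton.elim _ _
      rw [this, map_zero]
    obtain ⟨f₁, hf₁, H₁⟩ := exists_fibre_injective (R := R) I.subtype I.subtype_injective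
    obtain ⟨f₂, hf₂, H₂⟩ := exists_nontrivial_fibre (R := R) (B := B) I hIK
    refine ⟨f₁ * f₂, mul_ne_zero hf₁ hf₂, fun p hp hex => ?_⟩
    have hp₁ : f₁ ∉ p.asIdeal := fun h => hp (Ideal.mul_mem_right _ _ h)
    have hp₂ : f₂ ∉ p.asIdeal := fun h => hp (Ideal.mul_mem_left _ _ h)
    set κ := p.asIdeal.ResidueField
    have hinj := H₁ p hp₁
    haveI := H₂ p hp₂
    obtain ⟨x, hx⟩ := exists_ne (0 : κ ⊗[R] I)
    obtain ⟨y, rfl⟩ := bc_surjective R κ hρ x
    have h1 : bc R κ v (bc R κ u y) = 0 := (hex _).mpr ⟨y, rfl⟩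
    rw [← bc_comp, ← hI, bc_comp] at h1
    exact hx (hinj (by rw [h1, map_zero]))

end Neg

end Groth.Agent.Lib.Helper25.ExactGen
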