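import Mathlib
import Groth.Agent.Lib.helper11.GenFreeExact

/-!
# Exactness of fibre sequences and change of the base ring (helper25)
-/

set_option autoImplicit false
set_option linter.unusedSectionVars false
set_option linter.unusedVariables false
set_option linter.style.haveILetI false
universe u

open TensorProduct Function

namespace Groth.Agent.Lib.Helper25.ExactFib

section Defs

variable {R : Type u} [CommRing R] {F G H : Type u} [AddCommGroup F] [Module R F]
  [AddCommGroup G] [Module R G] [AddCommGroup H] [Module R H]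

/-- the fibre sequence at `p` is exact -/
def ExAt (u : F →ₗ[R] G) (v : G →ₗ[R] H) (p : PrimeSpectrum R) : Prop :=
  Exact (u.baseChange p.asIdeal.ResidueField) (v.baseChange p.asIdeal.ResidueField)

/-- the locus of exact fibre sequences -/
def ELoc (u : F →ₗ[R] G) (v : G →ₗ[R] H) : Set (PrimeSpectrum R) := {p | ExAt u v p}

end Defs

section Tower

variable {R S K : Type u} [CommRing R] [CommRing S] [CommRing K] [Algebra R S] [Algebra R K]
  [Algebra S K] [IsScalarTower R S K]
  {F G H : Type u} [AddCommGroup F] [Module R F] [AddCommGroup G] [Module R G]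
  [AddCommGroup H] [Module R H] (u : F →ₗ[R] G) (v : G →ₗ[R] H)

/-- exactness after `K ⊗_S (S ⊗_R -)` and after `K ⊗_R -` -/
theorem exact_baseChange_tower :
    Exact ((u.baseChange S).baseChange K) ((v.baseChange S).baseChange K) ↔
      Exact (u.baseChange K) (v.baseChange K) := by
  refine (Function.Exact.iff_of_ladder_linearEquiv
    (e₁ := AlgebraTensorModule.cancelBaseChange R S K K F)
    (e₂ := AlgebraTensorModule.cancelBaseChange R S K K G)
    (e₃ := AlgebraTensorModule.cancelBaseChange R S K K H) ?_ ?_).symm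
  · apply LinearMap.ext
    intro z
    exact (Groth.Agent.Lib.helper11.KerBC.cancel_nat (S := S) (K := K) u z).symm
  · apply LinearMap.ext
    intro z
    exact (Groth.Agent.Lib.helper11.KerBC.cancel_nat (S := S) (K := K) v z).symm

end Tower

section FieldExt

variable {R k₀ k : Type u} [CommRing R] [Field k₀] [Field k] [Algebra R k₀] [Algebra R k]
  [Algebra k₀ k] [IsScalarTower R k₀ k]
  {F G H : Type u} [AddCommGroup F] [Module R F] [AddCommGroup G] [Module R G]
  [AddCommGroup H] [Module R H] (u : F →ₗ[R] G) (v : G →ₗ[R] H)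

/-- exactness of the fibre sequence is insensitive to field extensions -/
theorem exact_baseChange_field_ext :
    Exact (u.baseChange k) (v.baseChange k) ↔ Exact (u.baseChange k₀) (v.baseChange k₀) := by
  rw [← exact_baseChange_tower (S := k₀) (K := k) u v]
  have h1 : ⇑((u.baseChange k₀).baseChange k) = ⇑((u.baseChange k₀).lTensor k) := by
    rw [LinearMap.baseChange_eq_ltensor]
  have h2 : ⇑((v.baseChange k₀).baseChange k) = ⇑((v.baseChange k₀).lTensor k) := by
    rw [LinearMap.baseChange_eq_ltensor]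
  rw [h1, h2]
  exact Module.FaithfullyFlat.lTensor_exact_iff_exact k₀ k _ _

end FieldExt

section BaseChange

variable {R₀ R k : Type u} [CommRing R₀] [CommRing R] [CommRing k] [Algebra R₀ R] [Algebra R k]
  [Algebra R₀ k] [IsScalarTower R₀ R k]
  {F₀ G₀ H₀ : Type u} [AddCommGroup F₀] [Module R₀ F₀] [AddCommGroup G₀] [Module R₀ G₀]
  [AddCommGroup H₀] [Module R₀ H₀] (u₀ : F₀ →ₗ[R₀] G₀) (v₀ : G₀ →ₗ[R₀] H₀)
  {F G H : Type u} [AddCommGroup F] [Module R F] [Module R₀ F] [IsScalarTower R₀ R F]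
  [AddCommGroup G] [Module R G] [Module R₀ G] [IsScalarTower R₀ R G]
  [AddCommGroup H] [Module R H] [Module R₀ H] [IsScalarTower R₀ R H]
  (u : F →ₗ[R] G) (v : G →ₗ[R] H)
  {fF : F₀ →ₗ[R₀] F} {fG : G₀ →ₗ[R₀] G} {fH : H₀ →ₗ[R₀] H}

/-- the comparison `k ⊗_{R₀} F₀ ≃ k ⊗_R F` for a base change `F₀ → F` -/
noncomputable def cmp (hF : IsBaseChange R fF) : k ⊗[R₀] F₀ ≃ₗ[k] k ⊗[R] F :=
  (hF.comp (TensorProduct.isBaseChange R F k)).equiv

theorem cmp_tmul (hF : IsBaseChange R fF) (c : k) (x : F₀) :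
    cmp (k := k) hF (c ⊗ₜ x) = c ⊗ₜ[R] fF x := by
  unfold cmp
  rw [IsBaseChange.equiv_tmul]
  change c • ((1 : k) ⊗ₜ[R] fF x) = _
  rw [TensorProduct.smul_tmul', smul_eq_mul, mul_one]

theorem cmp_nat (hF : IsBaseChange R fF) (hG : IsBaseChange R fG)
    (hu : ∀ x, u (fF x) = fG (u₀ x)) :
    (u.baseChange k) ∘ₗ (cmp (k := k) hF).toLinearMap =
      (cmp (k := k) hG).toLinearMap ∘ₗ (u₀.baseChange k) := by
  apply LinearMap.ext
  intro z
  induction z using TensorProduct.induction_on with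
  | zero => simp
  | tmul c x =>
    simp only [LinearMap.comp_apply, LinearEquiv.coe_coe, cmp_tmul, LinearMap.baseChange_tmul, hu]
  | add a b ha hb => simp only [map_add, ha, hb]

/-- exactness of fibres of a base changed sequence -/
theorem exact_baseChange_of_isBaseChange (hF : IsBaseChange R fF) (hG : IsBaseChange R fG)
    (hH : IsBaseChange R fH) (hu : ∀ x, u (fF x) = fG (u₀ x)) (hv : ∀ y, v (fG y) = fH (v₀ y)) :
    Exact (u.baseChange k) (v.baseChange k) ↔ Exact (u₀.baseChange k) (v₀.baseChange k) :=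
  Function.Exact.iff_of_ladder_linearEquiv (e₁ := cmp (k := k) hF) (e₂ := cmp (k := k) hG)
    (e₃ := cmp (k := k) hH) (cmp_nat u₀ u hF hG hu) (cmp_nat v₀ v hG hH hv)

end BaseChange

section Locus

variable {R₀ R : Type u} [CommRing R₀] [CommRing R] [Algebra R₀ R]
  {F₀ G₀ H₀ : Type u} [AddCommGroup F₀] [Module R₀ F₀] [AddCommGroup G₀] [Module R₀ G₀]
  [AddCommGroup H₀] [Module R₀ H₀] (u₀ : F₀ →ₗ[R₀] G₀) (v₀ : G₀ →ₗ[R₀] H₀)
  {F G H : Type u} [AddCommGroup F] [Module R F] [Module R₀ F] [IsScalarTower R₀ R F]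
  [AddCommGroup G] [Module R G] [Module R₀ G] [IsScalarTower R₀ R G]
  [AddCommGroup H] [Module R H] [Module R₀ H] [IsScalarTower R₀ R H]
  (u : F →ₗ[R] G) (v : G →ₗ[R] H)
  {fF : F₀ →ₗ[R₀] F} {fG : G₀ →ₗ[R₀] G} {fH : H₀ →ₗ[R₀] H}

theorem exAt_iff_comap (hF : IsBaseChange R fF) (hG : IsBaseChange R fG)
    (hH : IsBaseChange R fH) (hu : ∀ x, u (fF x) = fG (u₀ x)) (hv : ∀ y, v (fG y) = fH (v₀ y))
    (p : PrimeSpectrum R) :
    ExAt u v p ↔ ExAt u₀ v₀ (PrimeSpectrum.comap (algebraMap R₀ R) p) := by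
  set p₀ := PrimeSpectrum.comap (algebraMap R₀ R) p with hp₀
  let ψ : p₀.asIdeal.ResidueField →+* p.asIdeal.ResidueField :=
    Ideal.ResidueField.map p₀.asIdeal p.asIdeal (algebraMap R₀ R) rfl
  letI : Algebra p₀.asIdeal.ResidueField p.asIdeal.ResidueField := ψ.toAlgebra
  letI : Algebra R₀ p.asIdeal.ResidueField :=
    ((algebraMap R p.asIdeal.ResidueField).comp (algebraMap R₀ R)).toAlgebra
  haveI : IsScalarTower R₀ R p.asIdeal.ResidueField := IsScalarTower.of_algebraMap_eq fun _ => rfl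
  haveI : IsScalarTower R₀ p₀.asIdeal.ResidueField p.asIdeal.ResidueField :=
    IsScalarTower.of_algebraMap_eq fun r =>
      (Ideal.ResidueField.map_algebraMap p₀.asIdeal p.asIdeal (algebraMap R₀ R) rfl r).symm
  unfold ExAt
  rw [exact_baseChange_of_isBaseChange (k := p.asIdeal.ResidueField) u₀ v₀ u v hF hG hH hu hv]
  exact exact_baseChange_field_ext (k₀ := p₀.asIdeal.ResidueField) (k := p.asIdeal.ResidueField)
    u₀ v₀

theorem eLoc_eq_preimage (hF : IsBaseChange R fF) (hG : IsBaseChange R fG)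
    (hH : IsBaseChange R fH) (hu : ∀ x, u (fF x) = fG (u₀ x)) (hv : ∀ y, v (fG y) = fH (v₀ y)) :
    ELoc u v = PrimeSpectrum.comap (algebraMap R₀ R) ⁻¹' ELoc u₀ v₀ := by
  ext p
  exact exAt_iff_comap u₀ v₀ u v hF hG hH hu hv p

end Locus

section Top

variable {R₀ R : Type u} [CommRing R₀] [CommRing R]

/-- preimages of constructible sets under `Spec R → Spec R₀` are constructible -/
theorem isConstructible_preimage_comap (φ : R₀ →+* R) {E : Set (PrimeSpectrum R₀)}
    (hE : Topology.IsConstructible E) :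
    Topology.IsConstructible (PrimeSpectrum.comap φ ⁻¹' E) := by
  refine hE.preimage (PrimeSpectrum.continuous_comap φ) ?_
  intro s hs hsr
  have hc : IsCompact s := (QuasiSeparatedSpace.isRetrocompact_iff_isCompact hs).mp hsr
  obtain ⟨t, rfl⟩ := PrimeSpectrum.isCompact_isOpen_iff.mp ⟨hc, hs⟩
  rw [Set.preimage_compl, PrimeSpectrum.preimage_comap_zeroLocus]
  exact PrimeSpectrum.isRetrocompact_zeroLocus_compl (t.finite_toSet.image _)

end Top

end Groth.Agent.Lib.Helper25.ExactFib
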