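import Mathlib
import Groth.Agent.Lib.Helper29.FPModel
import Groth.Agent.Lib.Helper25.ExactFib

/-!
# Concrete presentations of a pair of composable maps of finitely presented modules over a
polynomial ring, and their models over subrings of finite type (helper25)
-/

set_option autoImplicit false
set_option linter.unusedSectionVars false
set_option linter.unusedVariables false
set_option linter.style.haveILetI false
universe u

open TensorProduct Function

namespace Groth.Agent.Lib.Helper25.ExactModel

open Groth.Agent.Lib.Helper29.FPModel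

section Concrete

variable {B : Type u} [CommRing B]

/-- the module presented by the relations `g` -/
abbrev QM {a : ℕ} {ι : Type} (g : ι → (Fin a → B)) : Type u :=
  (Fin a → B) ⧸ Submodule.span B (Set.range g)

variable {a b : ℕ} {ιF ιG : Type}

/-- the map of presented modules induced by a matrix -/
def qmap (M : Matrix (Fin b) (Fin a) B) (gF : ιF → Fin a → B) (gG : ιG → Fin b → B)
    (h : ∀ k, M.mulVec (gF k) ∈ Submodule.span B (Set.range gG)) : QM gF →ₗ[B] QM gG :=
  Submodule.mapQ _ _ (Matrix.toLin' M) (by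
    rw [Submodule.span_le]
    rintro _ ⟨k, rfl⟩
    change Matrix.toLin' M (gF k) ∈ Submodule.span B (Set.range gG)
    rw [Matrix.toLin'_apply]
    exact h k)

theorem qmap_mk (M : Matrix (Fin b) (Fin a) B) (gF : ιF → Fin a → B) (gG : ιG → Fin b → B)
    (h : ∀ k, M.mulVec (gF k) ∈ Submodule.span B (Set.range gG)) (w : Fin a → B) :
    qmap M gF gG h (Submodule.Quotient.mk w) = Submodule.Quotient.mk (M.mulVec w) := by
  unfold qmap
  rw [Submodule.mapQ_apply, Matrix.toLin'_apply]

end Concrete

section BaseChange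

variable {B₀ B : Type u} [CommRing B₀] [CommRing B] [Algebra B₀ B]
variable {a b : ℕ} {ιF ιG : Type}

theorem mapVec_mulVec (M : Matrix (Fin b) (Fin a) B₀) (w : Fin a → B₀) :
    mapVec (B := B) b (M.mulVec w) = (M.map (algebraMap B₀ B)).mulVec (mapVec a w) := by
  ext i
  rw [mapVec_apply, RingHom.map_mulVec]
  rfl

theorem mapVec_mem_span (g : ιG → Fin b → B₀) {x : Fin b → B₀}
    (hx : x ∈ Submodule.span B₀ (Set.range g)) :
    mapVec (B := B) b x ∈ Submodule.span B (Set.range fun l => mapVec (B := B) b (g l)) := by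
  induction hx using Submodule.span_induction with
  | mem y hy =>
    obtain ⟨l, rfl⟩ := hy
    exact Submodule.subset_span ⟨l, rfl⟩
  | zero => rw [map_zero]; exact Submodule.zero_mem _
  | add y z _ _ hy hz => rw [map_add]; exact Submodule.add_mem _ hy hz
  | smul r y _ hy =>
    rw [map_smul, ← algebraMap_smul B r (mapVec (B := B) b y)]
    exact Submodule.smul_mem _ _ hy

theorem map_h {M : Matrix (Fin b) (Fin a) B₀} {gF : ιF → Fin a → B₀} {gG : ιG → Fin b → B₀}
    (h : ∀ k, M.mulVec (gF k) ∈ Submodule.span B₀ (Set.range gG)) (k : ιF) :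
    (M.map (algebraMap B₀ B)).mulVec (mapVec (B := B) a (gF k)) ∈
      Submodule.span B (Set.range fun l => mapVec (B := B) b (gG l)) := by
  rw [← mapVec_mulVec]
  exact mapVec_mem_span gG (h k)

theorem qmap_quotMap (M : Matrix (Fin b) (Fin a) B₀) (gF : ιF → Fin a → B₀)
    (gG : ιG → Fin b → B₀) (h : ∀ k, M.mulVec (gF k) ∈ Submodule.span B₀ (Set.range gG))
    (x : QM gF) :
    qmap (M.map (algebraMap B₀ B)) (fun k => mapVec (B := B) a (gF k))
        (fun l => mapVec (B := B) b (gG l)) (map_h h) (quotMap (B := B) a gF x) =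
      quotMap (B := B) b gG (qmap M gF gG h x) := by
  obtain ⟨w, rfl⟩ := Submodule.Quotient.mk_surjective _ x
  rw [quotMap_mk, qmap_mk, qmap_mk, quotMap_mk, mapVec_mulVec]

end BaseChange

section Pushout

variable {R₀ R B₀ B : Type u} [CommRing R₀] [CommRing R] [CommRing B₀] [CommRing B]
  [Algebra R₀ R] [Algebra R₀ B₀] [Algebra R₀ B] [Algebra R B] [Algebra B₀ B]
  [IsScalarTower R₀ R B] [IsScalarTower R₀ B₀ B] [Algebra.IsPushout R₀ R B₀ B]
  {M₀ M : Type u} [AddCommGroup M₀] [Module B₀ M₀] [Module R₀ M₀] [IsScalarTower R₀ B₀ M₀]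
  [AddCommGroup M] [Module B M] [Module B₀ M] [IsScalarTower B₀ B M] [Module R M]
  [IsScalarTower R B M] [Module R₀ M] [IsScalarTower R₀ R M] [IsScalarTower R₀ B₀ M]

/-- a base change along `B₀ → B = R ⊗_{R₀} B₀` is a base change along `R₀ → R` -/
theorem isBaseChange_restrictScalars {f : M₀ →ₗ[B₀] M} (hf : IsBaseChange B f) :
    IsBaseChange R (f.restrictScalars R₀) := by
  let e : R ⊗[R₀] M₀ ≃ₗ[R] M :=
    (Algebra.IsPushout.cancelBaseChange R₀ R B₀ B M₀).symm ≪≫ₗ hf.equiv.restrictScalars R
  refine IsBaseChange.of_equiv e (fun x => ?_)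
  change hf.equiv ((Algebra.IsPushout.cancelBaseChange R₀ R B₀ B M₀).symm (1 ⊗ₜ x)) = f x
  rw [Algebra.IsPushout.cancelBaseChange_symm_tmul, map_one, IsBaseChange.equiv_tmul, one_smul]

end Pushout

end Groth.Agent.Lib.Helper25.ExactModel
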