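import Mathlib
import Groth.Agent.Lib.Helper25.ExactModel

/-!
# Models of concrete presentations over subrings of finite type (helper25)
-/

set_option autoImplicit false
set_option linter.unusedSectionVars false
set_option linter.unusedVariables false
set_option linter.style.haveILetI false
universe u

open TensorProduct Function

namespace Groth.Agent.Lib.Helper25.ExactModel

open Groth.Agent.Lib.Helper29.FPModel

attribute [local instance] MvPolynomial.algebraMvPolynomial

section Model

variable {R : Type u} [CommRing R] (n : ℕ)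

theorem exists_map_eq (R₀ : Subalgebra ℤ R) (p : MvPolynomial (Fin n) R)
    (h : (p.coeffs : Set R) ⊆ R₀) :
    ∃ p₀ : MvPolynomial (Fin n) R₀,
      algebraMap (MvPolynomial (Fin n) R₀) (MvPolynomial (Fin n) R) p₀ = p := by
  have : p ∈ Set.range (MvPolynomial.map (σ := Fin n) (algebraMap R₀ R)) := by
    rw [MvPolynomial.mem_range_map_iff_coeffs_subset]
    intro x hx
    exact ⟨⟨x, h hx⟩, rfl⟩
  obtain ⟨p₀, hp₀⟩ := this
  exact ⟨p₀, hp₀⟩

theorem mapVec_injective (R₀ : Subalgebra ℤ R) (b : ℕ) :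
    Function.Injective (mapVec (B₀ := MvPolynomial (Fin n) R₀) (B := MvPolynomial (Fin n) R) b) := by
  intro x y hxy
  ext1 i
  have := congrFun hxy i
  rw [mapVec_apply, mapVec_apply] at this
  exact MvPolynomial.map_injective _ Subtype.val_injective this

set_option maxHeartbeats 1000000 in
theorem exists_model {a b c : ℕ} {ιF ιG ιH : Type} [Finite ιF] [Finite ιG] [Finite ιH]
    (gF : ιF → Fin a → MvPolynomial (Fin n) R) (gG : ιG → Fin b → MvPolynomial (Fin n) R)
    (gH : ιH → Fin c → MvPolynomial (Fin n) R)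
    (MU : Matrix (Fin b) (Fin a) (MvPolynomial (Fin n) R))
    (MV : Matrix (Fin c) (Fin b) (MvPolynomial (Fin n) R))
    (hU : ∀ k, MU.mulVec (gF k) ∈ Submodule.span (MvPolynomial (Fin n) R) (Set.range gG))
    (hV : ∀ l, MV.mulVec (gG l) ∈ Submodule.span (MvPolynomial (Fin n) R) (Set.range gH)) :
    ∃ (R₀ : Subalgebra ℤ R) (_ : R₀.FG)
      (gF₀ : ιF → Fin a → MvPolynomial (Fin n) R₀) (gG₀ : ιG → Fin b → MvPolynomial (Fin n) R₀)
      (gH₀ : ιH → Fin c → MvPolynomial (Fin n) R₀)
      (MU₀ : Matrix (Fin b) (Fin a) (MvPolynomial (Fin n) R₀))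
      (MV₀ : Matrix (Fin c) (Fin b) (MvPolynomial (Fin n) R₀)),
      (∀ k, MU₀.mulVec (gF₀ k) ∈ Submodule.span (MvPolynomial (Fin n) R₀) (Set.range gG₀)) ∧
      (∀ l, MV₀.mulVec (gG₀ l) ∈ Submodule.span (MvPolynomial (Fin n) R₀) (Set.range gH₀)) ∧
      gF = (fun k => mapVec (B := MvPolynomial (Fin n) R) a (gF₀ k)) ∧
      gG = (fun l => mapVec (B := MvPolynomial (Fin n) R) b (gG₀ l)) ∧
      gH = (fun m => mapVec (B := MvPolynomial (Fin n) R) c (gH₀ m)) ∧
      MU = MU₀.map (algebraMap (MvPolynomial (Fin n) R₀) (MvPolynomial (Fin n) R)) ∧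
      MV = MV₀.map (algebraMap (MvPolynomial (Fin n) R₀) (MvPolynomial (Fin n) R)) := by
  classical
  cases nonempty_fintype ιF
  cases nonempty_fintype ιG
  cases nonempty_fintype ιH
  choose cU hcU using fun k => (Submodule.mem_span_range_iff_exists_fun _).mp (hU k)
  choose cV hcV using fun l => (Submodule.mem_span_range_iff_exists_fun _).mp (hV l)
  let A1 : Set R := ⋃ k, ⋃ i, ((gF k i).coeffs : Set R)
  let A2 : Set R := ⋃ l, ⋃ i, ((gG l i).coeffs : Set R)
  let A3 : Set R := ⋃ m, ⋃ i, ((gH m i).coeffs : Set R)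
  let A4 : Set R := ⋃ i, ⋃ j, ((MU i j).coeffs : Set R)
  let A5 : Set R := ⋃ i, ⋃ j, ((MV i j).coeffs : Set R)
  let A6 : Set R := ⋃ k, ⋃ l, ((cU k l).coeffs : Set R)
  let A7 : Set R := ⋃ l, ⋃ m, ((cV l m).coeffs : Set R)
  let T : Set R := A1 ∪ (A2 ∪ (A3 ∪ (A4 ∪ (A5 ∪ (A6 ∪ A7)))))
  have hfin : ∀ {ι κ : Type} [Finite ι] [Finite κ] (f : ι → κ → MvPolynomial (Fin n) R),
      (⋃ i, ⋃ j, ((f i j).coeffs : Set R)).Finite := fun f =>
    Set.finite_iUnion fun i => Set.finite_iUnion fun j => Finset.finite_toSet _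
  have hT : T.Finite :=
    (hfin _).union ((hfin _).union ((hfin _).union ((hfin _).union ((hfin _).union
      ((hfin _).union (hfin _))))))
  let R₀ : Subalgebra ℤ R := Algebra.adjoin ℤ T
  have hfg : R₀.FG := ⟨hT.toFinset, by rw [Set.Finite.coe_toFinset]⟩
  have hTR : T ⊆ R₀ := Algebra.subset_adjoin
  have h1 : A1 ⊆ T := Set.subset_union_left
  have h2 : A2 ⊆ T := Set.subset_union_left.trans Set.subset_union_right
  have h3 : A3 ⊆ T := Set.subset_union_left.trans (Set.subset_union_right.trans
    Set.subset_union_right)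
  have h4 : A4 ⊆ T := Set.subset_union_left.trans (Set.subset_union_right.trans
    (Set.subset_union_right.trans Set.subset_union_right))
  have h5 : A5 ⊆ T := Set.subset_union_left.trans (Set.subset_union_right.trans
    (Set.subset_union_right.trans (Set.subset_union_right.trans Set.subset_union_right)))
  have h6 : A6 ⊆ T := Set.subset_union_left.trans (Set.subset_union_right.trans
    (Set.subset_union_right.trans (Set.subset_union_right.trans (Set.subset_union_right.trans
      Set.subset_union_right))))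
  have h7 : A7 ⊆ T := Set.subset_union_right.trans (Set.subset_union_right.trans
    (Set.subset_union_right.trans (Set.subset_union_right.trans (Set.subset_union_right.trans
      Set.subset_union_right))))
  choose gF₀ hgF₀ using fun k i => exists_map_eq n R₀ (gF k i)
    ((Set.subset_iUnion₂ (s := fun k i => ((gF k i).coeffs : Set R)) k i).trans (h1.trans hTR))
  choose gG₀ hgG₀ using fun l i => exists_map_eq n R₀ (gG l i)
    ((Set.subset_iUnion₂ (s := fun l i => ((gG l i).coeffs : Set R)) l i).trans (h2.trans hTR))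
  choose gH₀ hgH₀ using fun m i => exists_map_eq n R₀ (gH m i)
    ((Set.subset_iUnion₂ (s := fun m i => ((gH m i).coeffs : Set R)) m i).trans (h3.trans hTR))
  choose MU₀ hMU₀ using fun i j => exists_map_eq n R₀ (MU i j)
    ((Set.subset_iUnion₂ (s := fun i j => ((MU i j).coeffs : Set R)) i j).trans (h4.trans hTR))
  choose MV₀ hMV₀ using fun i j => exists_map_eq n R₀ (MV i j)
    ((Set.subset_iUnion₂ (s := fun i j => ((MV i j).coeffs : Set R)) i j).trans (h5.trans hTR))
  choose cU₀ hcU₀ using fun k l => exists_map_eq n R₀ (cU k l)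
    ((Set.subset_iUnion₂ (s := fun k l => ((cU k l).coeffs : Set R)) k l).trans (h6.trans hTR))
  choose cV₀ hcV₀ using fun l m => exists_map_eq n R₀ (cV l m)
    ((Set.subset_iUnion₂ (s := fun l m => ((cV l m).coeffs : Set R)) l m).trans (h7.trans hTR))
  have egF : gF = (fun k => mapVec (B := MvPolynomial (Fin n) R) a (gF₀ k)) := by
    funext k i
    rw [mapVec_apply, hgF₀]
  have egG : gG = (fun l => mapVec (B := MvPolynomial (Fin n) R) b (gG₀ l)) := by
    funext l i
    rw [mapVec_apply, hgG₀]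
  have egH : gH = (fun m => mapVec (B := MvPolynomial (Fin n) R) c (gH₀ m)) := by
    funext m i
    rw [mapVec_apply, hgH₀]
  have eMU : MU = (Matrix.of MU₀).map
      (algebraMap (MvPolynomial (Fin n) R₀) (MvPolynomial (Fin n) R)) := by
    ext i j
    rw [Matrix.map_apply, Matrix.of_apply, hMU₀]
  have eMV : MV = (Matrix.of MV₀).map
      (algebraMap (MvPolynomial (Fin n) R₀) (MvPolynomial (Fin n) R)) := by
    ext i j
    rw [Matrix.map_apply, Matrix.of_apply, hMV₀]
  refine ⟨R₀, hfg, gF₀, gG₀, gH₀, Matrix.of MU₀, Matrix.of MV₀, ?_, ?_, egF, egG, egH, eMU, eMV⟩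
  · intro k
    rw [Submodule.mem_span_range_iff_exists_fun]
    refine ⟨cU₀ k, ?_⟩
    apply mapVec_injective n R₀ b
    rw [mapVec_mulVec, ← eMU, map_sum]
    have : (mapVec (B := MvPolynomial (Fin n) R) a (gF₀ k)) = gF k := (congrFun egF k).symm
    rw [this, ← hcU k]
    refine Finset.sum_congr rfl fun l _ => ?_
    rw [map_smul, ← algebraMap_smul (MvPolynomial (Fin n) R) (cU₀ k l), hcU₀]
    congr 1
    exact (congrFun egG l).symm
  · intro l
    rw [Submodule.mem_span_range_iff_exists_fun]
    refine ⟨cV₀ l, ?_⟩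
    apply mapVec_injective n R₀ c
    rw [mapVec_mulVec, ← eMV, map_sum]
    have : (mapVec (B := MvPolynomial (Fin n) R) b (gG₀ l)) = gG l := (congrFun egG l).symm
    rw [this, ← hcV l]
    refine Finset.sum_congr rfl fun m _ => ?_
    rw [map_smul, ← algebraMap_smul (MvPolynomial (Fin n) R) (cV₀ l m), hcV₀]
    congr 1
    exact (congrFun egH m).symm

end Model

end Groth.Agent.Lib.Helper25.ExactModel
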