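import Mathlib
import Groth.Agent.Lib.Helper25.ExactModelB
import Groth.Agent.Lib.Helper25.ExactGen
import Groth.Agent.Lib.helper11.ConstrTop

/-!
# Constructibility of the locus of exact fibre sequences (EGA IV 9.4.2-9.4.5, affine form) (helper25)
-/

set_option autoImplicit false
set_option linter.unusedSectionVars false
set_option linter.unusedVariables false
set_option linter.style.haveILetI false
universe u

open TensorProduct Function

namespace Groth.Agent.Lib.Helper25.ExactCons

open Groth.Agent.Lib.Helper29.FPModel Groth.Agent.Lib.Helper25.ExactModel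
  Groth.Agent.Lib.Helper25.ExactFib Groth.Agent.Lib.Helper25.ExactGen

attribute [local instance] MvPolynomial.algebraMvPolynomial

section MapLoc

variable {R₀ R : Type u} [CommRing R₀] [CommRing R] [Algebra R₀ R] (n : ℕ)
  {a b c : ℕ} {ιF ιG ιH : Type}
  (gF : ιF → Fin a → MvPolynomial (Fin n) R₀) (gG : ιG → Fin b → MvPolynomial (Fin n) R₀)
  (gH : ιH → Fin c → MvPolynomial (Fin n) R₀)
  (MU : Matrix (Fin b) (Fin a) (MvPolynomial (Fin n) R₀))
  (MV : Matrix (Fin c) (Fin b) (MvPolynomial (Fin n) R₀))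
  (hU : ∀ k, MU.mulVec (gF k) ∈ Submodule.span (MvPolynomial (Fin n) R₀) (Set.range gG))
  (hV : ∀ l, MV.mulVec (gG l) ∈ Submodule.span (MvPolynomial (Fin n) R₀) (Set.range gH))

/-- the locus of exactness of the concrete data -/
def CLoc : Set (PrimeSpectrum R₀) :=
  ELoc ((qmap MU gF gG hU).restrictScalars R₀) ((qmap MV gG gH hV).restrictScalars R₀)

/-- the locus of exactness of the base change of concrete data -/
theorem cLoc_map :
    CLoc (R₀ := R) n (fun k => mapVec (B := MvPolynomial (Fin n) R) a (gF k))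
        (fun l => mapVec (B := MvPolynomial (Fin n) R) b (gG l))
        (fun m => mapVec (B := MvPolynomial (Fin n) R) c (gH m))
        (MU.map (algebraMap (MvPolynomial (Fin n) R₀) (MvPolynomial (Fin n) R)))
        (MV.map (algebraMap (MvPolynomial (Fin n) R₀) (MvPolynomial (Fin n) R)))
        (map_h hU) (map_h hV) =
      PrimeSpectrum.comap (algebraMap R₀ R) ⁻¹' CLoc n gF gG gH MU MV hU hV := by
  unfold CLoc
  refine eLoc_eq_preimage _ _ _ _
    (fF := (quotMap (B := MvPolynomial (Fin n) R) a gF).restrictScalars R₀)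
    (fG := (quotMap (B := MvPolynomial (Fin n) R) b gG).restrictScalars R₀)
    (fH := (quotMap (B := MvPolynomial (Fin n) R) c gH).restrictScalars R₀)
    (isBaseChange_restrictScalars (isBaseChange_quotMap a gF))
    (isBaseChange_restrictScalars (isBaseChange_quotMap b gG))
    (isBaseChange_restrictScalars (isBaseChange_quotMap c gH)) ?_ ?_
  · intro x
    exact qmap_quotMap MU gF gG hU x
  · intro y
    exact qmap_quotMap MV gG gH hV y

end MapLoc

section Noeth

open Groth.Agent.Lib.helper11.ConstrTop Groth.Agent.Lib.helper11.GenFreeExact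

variable {R₀ : Type u} [CommRing R₀] [IsNoetherianRing R₀] (n : ℕ)
  {a b c : ℕ} {ιF ιG ιH : Type}
  (gF : ιF → Fin a → MvPolynomial (Fin n) R₀) (gG : ιG → Fin b → MvPolynomial (Fin n) R₀)
  (gH : ιH → Fin c → MvPolynomial (Fin n) R₀)
  (MU : Matrix (Fin b) (Fin a) (MvPolynomial (Fin n) R₀))
  (MV : Matrix (Fin c) (Fin b) (MvPolynomial (Fin n) R₀))
  (hU : ∀ k, MU.mulVec (gF k) ∈ Submodule.span (MvPolynomial (Fin n) R₀) (Set.range gG))
  (hV : ∀ l, MV.mulVec (gG l) ∈ Submodule.span (MvPolynomial (Fin n) R₀) (Set.range gH))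

/-- generic fibre vs. fraction field, for a domain -/
theorem exAt_bot_iff {D : Type u} [CommRing D] [IsDomain D]
    {F G H : Type u} [AddCommGroup F] [Module D F] [AddCommGroup G] [Module D G]
    [AddCommGroup H] [Module D H] (u : F →ₗ[D] G) (v : G →ₗ[D] H) :
    ExAt u v (⟨⊥, Ideal.isPrime_bot⟩ : PrimeSpectrum D) ↔
      Exact (u.baseChange (FractionRing D)) (v.baseChange (FractionRing D)) := by
  unfold ExAt
  set k := (⊥ : Ideal D).ResidueField
  letI : Algebra (FractionRing D) k := FractionRing.liftAlgebra D k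
  haveI : IsScalarTower D (FractionRing D) k := FractionRing.isScalarTower_liftAlgebra D k
  exact exact_baseChange_field_ext (k₀ := FractionRing D) (k := k) u v

set_option maxHeartbeats 1000000 in
/-- **Constructibility of the exactness locus over a Noetherian base.** -/
theorem isConstructible_cLoc : Topology.IsConstructible (CLoc n gF gG gH MU MV hU hV) := by
  classical
  rw [isConstructible_iff_forall_irreducible]
  intro Y hYc hYi
  set q : Ideal R₀ := PrimeSpectrum.vanishingIdeal Y with hqdef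
  haveI hq : q.IsPrime := (PrimeSpectrum.isIrreducible_iff_vanishingIdeal_isPrime).mp hYi
  have hY : Y = PrimeSpectrum.zeroLocus (q : Set R₀) := by
    rw [hqdef, PrimeSpectrum.zeroLocus_vanishingIdeal_eq_closure, hYc.closure_eq]
  let D := R₀ ⧸ q
  have hmap := cLoc_map (R := D) n gF gG gH MU MV hU hV
  set uD := qmap (MU.map (algebraMap (MvPolynomial (Fin n) R₀) (MvPolynomial (Fin n) D)))
    (fun k => mapVec (B := MvPolynomial (Fin n) D) a (gF k))
    (fun l => mapVec (B := MvPolynomial (Fin n) D) b (gG l)) (map_h hU) with huD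
  set vD := qmap (MV.map (algebraMap (MvPolynomial (Fin n) R₀) (MvPolynomial (Fin n) D)))
    (fun l => mapVec (B := MvPolynomial (Fin n) D) b (gG l))
    (fun m => mapVec (B := MvPolynomial (Fin n) D) c (gH m)) (map_h hV) with hvD
  -- points of `Y` come from `Spec D`
  have hYpt : ∀ p ∈ Y, ∃ p' : PrimeSpectrum D,
      PrimeSpectrum.comap (algebraMap R₀ D) p' = p := by
    intro p hp
    have : p ∈ Set.range (PrimeSpectrum.comap (Ideal.Quotient.mk q)) := by
      rw [_root_.range_comap_of_surjective _ _ Ideal.Quotient.mk_surjective,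
        Ideal.mk_ker]
      rw [hY] at hp
      exact hp
    obtain ⟨p', hp'⟩ := this
    exact ⟨p', hp'⟩
  have hqY : (⟨q, hq⟩ : PrimeSpectrum R₀) ∈ Y := by
    rw [hY]
    exact fun x hx => hx
  by_cases hgen : Exact ((uD.restrictScalars D).baseChange (FractionRing D))
      ((vD.restrictScalars D).baseChange (FractionRing D))
  · right
    obtain ⟨f', hf', H⟩ := exists_fibre_exact (R := D) uD vD hgen
    obtain ⟨f, rfl⟩ := Ideal.Quotient.mk_surjective f'
    have hfq : f ∉ q := fun h => hf' (Ideal.Quotient.eq_zero_iff_mem.mpr h)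
    refine ⟨PrimeSpectrum.basicOpen f, (PrimeSpectrum.basicOpen f).isOpen, ⟨⟨q, hq⟩, hfq, hqY⟩, ?_⟩
    rintro p ⟨hpf, hpY⟩
    obtain ⟨p', rfl⟩ := hYpt p hpY
    have h1 : p' ∈ CLoc (R₀ := D) n (fun k => mapVec (B := MvPolynomial (Fin n) D) a (gF k))
        (fun l => mapVec (B := MvPolynomial (Fin n) D) b (gG l))
        (fun m => mapVec (B := MvPolynomial (Fin n) D) c (gH m))
        (MU.map (algebraMap (MvPolynomial (Fin n) R₀) (MvPolynomial (Fin n) D)))
        (MV.map (algebraMap (MvPolynomial (Fin n) R₀) (MvPolynomial (Fin n) D)))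
        (map_h hU) (map_h hV) := H p' hpf
    rw [hmap] at h1
    exact h1
  · left
    obtain ⟨f', hf', H⟩ := exists_fibre_not_exact (R := D) uD vD hgen
    obtain ⟨f, rfl⟩ := Ideal.Quotient.mk_surjective f'
    have hfq : f ∉ q := fun h => hf' (Ideal.Quotient.eq_zero_iff_mem.mpr h)
    refine not_dense_of_open_inter_subset_compl (U := PrimeSpectrum.basicOpen f)
      (PrimeSpectrum.basicOpen f).isOpen ⟨⟨q, hq⟩, hfq, hqY⟩ ?_
    rintro p ⟨hpf, hpY⟩ hpE
    obtain ⟨p', rfl⟩ := hYpt p hpY
    have h1 : p' ∈ PrimeSpectrum.comap (algebraMap R₀ D) ⁻¹' CLoc n gF gG gH MU MV hU hV := hpE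
    rw [← hmap] at h1
    exact H p' hpf h1

end Noeth

section Concrete

variable {R : Type u} [CommRing R] (n : ℕ)
  {a b c : ℕ} {ιF ιG ιH : Type} [Finite ιF] [Finite ιG] [Finite ιH]
  (gF : ιF → Fin a → MvPolynomial (Fin n) R) (gG : ιG → Fin b → MvPolynomial (Fin n) R)
  (gH : ιH → Fin c → MvPolynomial (Fin n) R)
  (MU : Matrix (Fin b) (Fin a) (MvPolynomial (Fin n) R))
  (MV : Matrix (Fin c) (Fin b) (MvPolynomial (Fin n) R))
  (hU : ∀ k, MU.mulVec (gF k) ∈ Submodule.span (MvPolynomial (Fin n) R) (Set.range gG))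
  (hV : ∀ l, MV.mulVec (gG l) ∈ Submodule.span (MvPolynomial (Fin n) R) (Set.range gH))

/-- **Constructibility of the exactness locus of concrete data over any ring.** -/
theorem isConstructible_cLoc' : Topology.IsConstructible (CLoc n gF gG gH MU MV hU hV) := by
  obtain ⟨R₀, hfg, gF₀, gG₀, gH₀, MU₀, MV₀, hU₀, hV₀, rfl, rfl, rfl, rfl, rfl⟩ :=
    exists_model n gF gG gH MU MV hU hV
  haveI : Algebra.FiniteType ℤ R₀ := (Subalgebra.fg_iff_finiteType R₀).mp hfg
  haveI : IsNoetherianRing R₀ := Algebra.FiniteType.isNoetherianRing ℤ R₀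
  have h := cLoc_map (R := R) n gF₀ gG₀ gH₀ MU₀ MV₀ hU₀ hV₀
  rw [h]
  exact isConstructible_preimage_comap _ (isConstructible_cLoc n gF₀ gG₀ gH₀ MU₀ MV₀ hU₀ hV₀)

end Concrete

end Groth.Agent.Lib.Helper25.ExactCons
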