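import Mathlib

/-!
# helper25 — ExactCrit: criteria for a functor between abelian categories to send a morphism to a monomorphism /
a pair of morphisms to an exact sequence, in terms of the vanishing of the images of auxiliary morphisms.
-/

set_option autoImplicit false
universe u v w
open CategoryTheory Limits

namespace Groth.Agent.Lib.Helper25.ExactCrit

variable {C : Type u} [Category.{v} C] [Abelian C] {D : Type w} [Category.{v} D] [Abelian D]
  (P : C ⥤ D) [P.Additive]

/-- a left exact functor sends `f` to a monomorphism iff it kills `ker f → F` -/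
theorem mono_map_iff [PreservesFiniteLimits P] {F G : C} (f : F ⟶ G) :
    Mono (P.map f) ↔ P.map (kernel.ι f) = 0 := by
  constructor
  · intro h
    rw [← cancel_mono (P.map f), ← P.map_comp, kernel.condition, P.map_zero, zero_comp]
  · intro h
    have hlim := KernelFork.mapIsLimit _ (kernelIsKernel f) P
    refine Preadditive.mono_of_cancel_zero _ (fun {Z} k hk => ?_)
    obtain ⟨l, hl⟩ : ∃ l : Z ⟶ P.obj (kernel f), l ≫ P.map (kernel.ι f) = k :=
      ⟨(KernelFork.IsLimit.lift' hlim k hk).1, (KernelFork.IsLimit.lift' hlim k hk).2⟩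
    rw [← hl, h, comp_zero]

/-- an exact functor sends `F → G → H` to an exact sequence iff it kills `im f → H` and `ker g → coker f` -/
theorem exists_exact_iff [PreservesFiniteLimits P] [PreservesFiniteColimits P] {F G H : C} (f : F ⟶ G)
    (g : G ⟶ H) :
    (∃ w : P.map f ≫ P.map g = 0, (ShortComplex.mk _ _ w).Exact) ↔
      P.map (image.ι f ≫ g) = 0 ∧ P.map (kernel.ι g ≫ cokernel.π f) = 0 := by
  have hw : P.map f ≫ P.map g = 0 ↔ P.map (image.ι f ≫ g) = 0 := by
    have h1 : P.map f ≫ P.map g = P.map (factorThruImage f) ≫ P.map (image.ι f ≫ g) := by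
      rw [← P.map_comp, ← P.map_comp, ← Category.assoc, image.fac]
    rw [h1]
    constructor
    · intro h
      rw [← cancel_epi (P.map (factorThruImage f)), h, comp_zero]
    · intro h
      rw [h, comp_zero]
  have hex : ∀ w : P.map f ≫ P.map g = 0,
      (ShortComplex.mk _ _ w).Exact ↔ P.map (kernel.ι g ≫ cokernel.π f) = 0 := by
    intro w
    rw [ShortComplex.exact_iff_kernel_ι_comp_cokernel_π_zero]
    change kernel.ι (P.map g) ≫ cokernel.π (P.map f) = 0 ↔ _
    rw [← PreservesKernel.iso_inv_ι P g, ← PreservesCokernel.π_iso_hom P f, P.map_comp]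
    constructor
    · intro h
      have h2 : (PreservesKernel.iso P g).inv ≫ (P.map (kernel.ι g) ≫ P.map (cokernel.π f)) ≫
          (PreservesCokernel.iso P f).hom = 0 := by
        simpa only [Category.assoc] using h
      rw [← cancel_epi (PreservesKernel.iso P g).inv, ← cancel_mono (PreservesCokernel.iso P f).hom,
        Category.assoc, h2, comp_zero, zero_comp]
    · intro h
      have : ((PreservesKernel.iso P g).inv ≫ P.map (kernel.ι g)) ≫ P.map (cokernel.π f) ≫
          (PreservesCokernel.iso P f).hom = (PreservesKernel.iso P g).inv ≫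
            (P.map (kernel.ι g) ≫ P.map (cokernel.π f)) ≫ (PreservesCokernel.iso P f).hom := by
        simp only [Category.assoc]
      rw [this, h, zero_comp, comp_zero]
  constructor
  · rintro ⟨w, h⟩
    exact ⟨hw.1 w, (hex w).1 h⟩
  · rintro ⟨h1, h2⟩
    exact ⟨hw.2 h1, (hex _).2 h2⟩

end Groth.Agent.Lib.Helper25.ExactCrit
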