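import Mathlib
import Groth.Agent.Lib.Helper25.ExactCons

/-!
# Constructibility of the locus of exact fibre sequences: reduction to concrete data (helper25)
-/

set_option autoImplicit false
set_option linter.unusedSectionVars false
set_option linter.unusedVariables false
set_option linter.style.haveILetI false
universe u

open TensorProduct Function

namespace Groth.Agent.Lib.Helper25.ExactRed

open Groth.Agent.Lib.Helper29.FPModel Groth.Agent.Lib.Helper25.ExactModel
  Groth.Agent.Lib.Helper25.ExactFib Groth.Agent.Lib.Helper25.ExactCons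

section Congr

variable {R : Type u} [CommRing R] {F G H F' G' H' : Type u}
  [AddCommGroup F] [Module R F] [AddCommGroup G] [Module R G] [AddCommGroup H] [Module R H]
  [AddCommGroup F'] [Module R F'] [AddCommGroup G'] [Module R G'] [AddCommGroup H'] [Module R H']

/-- the exactness locus only depends on the isomorphism class of the pair of maps -/
theorem eLoc_congr (u : F →ₗ[R] G) (v : G →ₗ[R] H) (u' : F' →ₗ[R] G') (v' : G' →ₗ[R] H')
    (eF : F ≃ₗ[R] F') (eG : G ≃ₗ[R] G') (eH : H ≃ₗ[R] H')
    (hu : ∀ x, u' (eF x) = eG (u x)) (hv : ∀ y, v' (eG y) = eH (v y)) :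
    ELoc u v = ELoc u' v' := by
  ext p
  change ExAt u v p ↔ ExAt u' v' p
  unfold ExAt
  set κ := p.asIdeal.ResidueField
  refine (Function.Exact.iff_of_ladder_linearEquiv
    (e₁ := LinearEquiv.baseChange R κ F F' eF) (e₂ := LinearEquiv.baseChange R κ G G' eG)
    (e₃ := LinearEquiv.baseChange R κ H H' eH) ?_ ?_).symm
  · apply LinearMap.ext
    intro z
    induction z using TensorProduct.induction_on with
    | zero => simp
    | tmul c x =>
      simp only [LinearMap.comp_apply, LinearEquiv.coe_coe, LinearEquiv.baseChange_tmul,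
        LinearMap.baseChange_tmul, hu]
    | add a b ha hb => simp only [map_add, ha, hb]
  · apply LinearMap.ext
    intro z
    induction z using TensorProduct.induction_on with
    | zero => simp
    | tmul c x =>
      simp only [LinearMap.comp_apply, LinearEquiv.coe_coe, LinearEquiv.baseChange_tmul,
        LinearMap.baseChange_tmul, hv]
    | add a b ha hb => simp only [map_add, ha, hb]

end Congr

section Matrix

variable {B : Type u} [CommRing B] {a b : ℕ} {ιF ιG : Type}

/-- every map of presented modules is induced by a matrix -/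
theorem exists_qmap_eq (gF : ιF → Fin a → B) (gG : ιG → Fin b → B) (φ : QM gF →ₗ[B] QM gG) :
    ∃ (M : Matrix (Fin b) (Fin a) B)
      (h : ∀ k, M.mulVec (gF k) ∈ Submodule.span B (Set.range gG)), qmap M gF gG h = φ := by
  classical
  have hs : ∀ j : Fin a, ∃ w : Fin b → B,
      (Submodule.Quotient.mk w : QM gG) = φ (Submodule.Quotient.mk (Pi.single j 1)) :=
    fun j => Submodule.Quotient.mk_surjective _ _
  choose w hw using hs
  let M : Matrix (Fin b) (Fin a) B := Matrix.of fun i j => w j i
  have hM : (Submodule.span B (Set.range gG)).mkQ ∘ₗ Matrix.toLin' M =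
      φ ∘ₗ (Submodule.span B (Set.range gF)).mkQ := by
    apply LinearMap.pi_ext'
    intro j
    apply LinearMap.ext_ring
    simp only [LinearMap.comp_apply, LinearMap.single_apply, Matrix.toLin'_apply,
      Submodule.mkQ_apply]
    rw [← hw j]
    congr 1
    ext i
    rw [Matrix.mulVec_single_one]
    rfl
  have key : ∀ x : Fin a → B,
      (Submodule.Quotient.mk (M.mulVec x) : QM gG) = φ (Submodule.Quotient.mk x) := by
    intro x
    have := LinearMap.congr_fun hM x
    simpa only [LinearMap.comp_apply, Matrix.toLin'_apply, Submodule.mkQ_apply] using this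
  have hU : ∀ k, M.mulVec (gF k) ∈ Submodule.span B (Set.range gG) := by
    intro k
    rw [← Submodule.Quotient.mk_eq_zero, key]
    have : (Submodule.Quotient.mk (gF k) : QM gF) = 0 :=
      (Submodule.Quotient.mk_eq_zero _).mpr (Submodule.subset_span ⟨k, rfl⟩)
    rw [this, map_zero]
  refine ⟨M, hU, ?_⟩
  apply LinearMap.ext
  intro x
  obtain ⟨w', rfl⟩ := Submodule.Quotient.mk_surjective _ x
  rw [qmap_mk, key]

/-- a finitely presented module is a `QM` -/
theorem exists_equiv_qm (F : Type u) [AddCommGroup F] [Module B F] [Module.FinitePresentation B F] :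
    ∃ (a m : ℕ) (g : Fin m → Fin a → B), Nonempty (F ≃ₗ[B] QM g) := by
  obtain ⟨a, K, e, hK⟩ := Module.FinitePresentation.exists_fin B F
  obtain ⟨m, g, hg⟩ := Submodule.fg_iff_exists_fin_generating_family.mp hK
  subst hg
  exact ⟨a, m, g, ⟨e⟩⟩

end Matrix

section Poly

attribute [local instance] MvPolynomial.algebraMvPolynomial

variable {R : Type u} [CommRing R] (n : ℕ)

variable {F G H : Type u} [AddCommGroup F] [Module (MvPolynomial (Fin n) R) F] [Module R F] [IsScalarTower R (MvPolynomial (Fin n) R) F]
  [Module.FinitePresentation (MvPolynomial (Fin n) R) F]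
  [AddCommGroup G] [Module (MvPolynomial (Fin n) R) G] [Module R G] [IsScalarTower R (MvPolynomial (Fin n) R) G] [Module.FinitePresentation (MvPolynomial (Fin n) R) G]
  [AddCommGroup H] [Module (MvPolynomial (Fin n) R) H] [Module R H] [IsScalarTower R (MvPolynomial (Fin n) R) H] [Module.FinitePresentation (MvPolynomial (Fin n) R) H]

/-- constructibility of the exactness locus over a polynomial ring -/
theorem isConstructible_eLoc_poly (u : F →ₗ[(MvPolynomial (Fin n) R)] G) (v : G →ₗ[(MvPolynomial (Fin n) R)] H) :
    Topology.IsConstructible (ELoc (u.restrictScalars R) (v.restrictScalars R)) := by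
  obtain ⟨a, mF, gF, ⟨eF⟩⟩ := exists_equiv_qm (B := (MvPolynomial (Fin n) R)) F
  obtain ⟨b, mG, gG, ⟨eG⟩⟩ := exists_equiv_qm (B := (MvPolynomial (Fin n) R)) G
  obtain ⟨c, mH, gH, ⟨eH⟩⟩ := exists_equiv_qm (B := (MvPolynomial (Fin n) R)) H
  obtain ⟨MU, hU, hMU⟩ := exists_qmap_eq gF gG (eG.toLinearMap ∘ₗ u ∘ₗ eF.symm.toLinearMap)
  obtain ⟨MV, hV, hMV⟩ := exists_qmap_eq gG gH (eH.toLinearMap ∘ₗ v ∘ₗ eG.symm.toLinearMap)
  have h := eLoc_congr (u.restrictScalars R) (v.restrictScalars R)
    ((qmap MU gF gG hU).restrictScalars R) ((qmap MV gG gH hV).restrictScalars R)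
    (eF.restrictScalars R) (eG.restrictScalars R) (eH.restrictScalars R) ?_ ?_
  · rw [h]
    exact isConstructible_cLoc' n gF gG gH MU MV hU hV
  · intro x
    change qmap MU gF gG hU (eF x) = eG (u x)
    rw [hMU]
    simp
  · intro y
    change qmap MV gG gH hV (eG y) = eH (v y)
    rw [hMV]
    simp

end Poly

section General

variable {R B : Type u} [CommRing R] [CommRing B] [Algebra R B] [Algebra.FinitePresentation R B]
  {F G H : Type u} [AddCommGroup F] [Module B F] [Module R F] [IsScalarTower R B F]
  [Module.FinitePresentation B F]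
  [AddCommGroup G] [Module B G] [Module R G] [IsScalarTower R B G] [Module.FinitePresentation B G]
  [AddCommGroup H] [Module B H] [Module R H] [IsScalarTower R B H] [Module.FinitePresentation B H]

/-- **EGA IV 9.4.5 (affine form)**: the locus of exact fibre sequences is constructible. -/
theorem isConstructible_eLoc (u : F →ₗ[B] G) (v : G →ₗ[B] H) :
    Topology.IsConstructible (ELoc (u.restrictScalars R) (v.restrictScalars R)) := by
  obtain ⟨n, π, hπ, hker⟩ := Algebra.FinitePresentation.out (R := R) (A := B)
  letI : Algebra (MvPolynomial (Fin n) R) B := π.toRingHom.toAlgebra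
  haveI : IsScalarTower R (MvPolynomial (Fin n) R) B :=
    IsScalarTower.of_algebraMap_eq (fun r => (π.commutes r).symm)
  haveI : Module.FinitePresentation (MvPolynomial (Fin n) R) B := by
    refine Module.finitePresentation_of_surjective
      (Algebra.linearMap (MvPolynomial (Fin n) R) B) hπ ?_
    exact hker
  letI : Module (MvPolynomial (Fin n) R) F := Module.compHom F (π : MvPolynomial (Fin n) R →+* B)
  haveI : IsScalarTower (MvPolynomial (Fin n) R) B F := ⟨fun p b y => by
    change (π p * b) • y = π p • (b • y)
    rw [mul_smul]⟩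
  haveI : IsScalarTower R (MvPolynomial (Fin n) R) F := ⟨fun r p y => by
    change π (r • p) • y = r • (π p • y)
    rw [map_smul, smul_assoc]⟩
  haveI : Module.FinitePresentation (MvPolynomial (Fin n) R) F :=
    Module.FinitePresentation.trans (MvPolynomial (Fin n) R) F B
  letI : Module (MvPolynomial (Fin n) R) G := Module.compHom G (π : MvPolynomial (Fin n) R →+* B)
  haveI : IsScalarTower (MvPolynomial (Fin n) R) B G := ⟨fun p b y => by
    change (π p * b) • y = π p • (b • y)
    rw [mul_smul]⟩
  haveI : IsScalarTower R (MvPolynomial (Fin n) R) G := ⟨fun r p y => by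
    change π (r • p) • y = r • (π p • y)
    rw [map_smul, smul_assoc]⟩
  haveI : Module.FinitePresentation (MvPolynomial (Fin n) R) G :=
    Module.FinitePresentation.trans (MvPolynomial (Fin n) R) G B
  letI : Module (MvPolynomial (Fin n) R) H := Module.compHom H (π : MvPolynomial (Fin n) R →+* B)
  haveI : IsScalarTower (MvPolynomial (Fin n) R) B H := ⟨fun p b y => by
    change (π p * b) • y = π p • (b • y)
    rw [mul_smul]⟩
  haveI : IsScalarTower R (MvPolynomial (Fin n) R) H := ⟨fun r p y => by
    change π (r • p) • y = r • (π p • y)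
    rw [map_smul, smul_assoc]⟩
  haveI : Module.FinitePresentation (MvPolynomial (Fin n) R) H :=
    Module.FinitePresentation.trans (MvPolynomial (Fin n) R) H B
  exact isConstructible_eLoc_poly n (u.restrictScalars (MvPolynomial (Fin n) R))
    (v.restrictScalars (MvPolynomial (Fin n) R))

end General

end Groth.Agent.Lib.Helper25.ExactRed
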