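import Groth.Prelude.Def_HopfRep
import Mathlib

/-! The exterior algebra of a comodule over a commutative bialgebra, as a comodule algebra. -/

set_option autoImplicit false
universe u v w
open TensorProduct

namespace Groth.Agent.Lib.Helper25.ExtComod

section Sq
variable (k : Type u) [CommRing k] (W : Type w) [AddCommGroup W] [Module k W]
  (B : Type v) [CommRing B] [Algebra k B]

/-- `w ⊗ b ↦ ι w ⊗ b` -/
noncomputable def jB : W ⊗[k] B →ₗ[k] ExteriorAlgebra k W ⊗[k] B :=
  (ExteriorAlgebra.ι k).rTensor B

variable {k W B}

@[simp] theorem jB_tmul (w : W) (b : B) : jB k W B (w ⊗ₜ[k] b) = ExteriorAlgebra.ι k w ⊗ₜ[k] b := by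
  simp [jB]

theorem jB_anticomm (x y : W ⊗[k] B) :
    jB k W B x * jB k W B y + jB k W B y * jB k W B x = 0 := by
  induction x using TensorProduct.induction_on with
  | zero => simp
  | tmul w a =>
    induction y using TensorProduct.induction_on with
    | zero => simp
    | tmul w' a' =>
      rw [jB_tmul, jB_tmul, Algebra.TensorProduct.tmul_mul_tmul, Algebra.TensorProduct.tmul_mul_tmul,
        mul_comm a' a, ← TensorProduct.add_tmul, ExteriorAlgebra.ι_add_mul_swap,
        TensorProduct.zero_tmul]
    | add y₁ y₂ h₁ h₂ =>
      rw [map_add, mul_add, add_mul]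
      calc _ = (jB k W B (w ⊗ₜ[k] a) * jB k W B y₁ + jB k W B y₁ * jB k W B (w ⊗ₜ[k] a)) +
            (jB k W B (w ⊗ₜ[k] a) * jB k W B y₂ + jB k W B y₂ * jB k W B (w ⊗ₜ[k] a)) := by abel
        _ = 0 := by rw [h₁, h₂, add_zero]
  | add x₁ x₂ h₁ h₂ =>
    rw [map_add, mul_add, add_mul]
    calc _ = (jB k W B x₁ * jB k W B y + jB k W B y * jB k W B x₁) +
          (jB k W B x₂ * jB k W B y + jB k W B y * jB k W B x₂) := by abel
      _ = 0 := by rw [h₁, h₂, add_zero]

theorem jB_sq (x : W ⊗[k] B) : jB k W B x * jB k W B x = 0 := by
  induction x using TensorProduct.induction_on with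
  | zero => simp
  | tmul w a =>
    rw [jB_tmul, Algebra.TensorProduct.tmul_mul_tmul, ExteriorAlgebra.ι_sq_zero,
      TensorProduct.zero_tmul]
  | add x₁ x₂ h₁ h₂ =>
    rw [map_add, mul_add, add_mul, add_mul, h₁, h₂]
    have := jB_anticomm x₁ x₂
    calc _ = jB k W B x₁ * jB k W B x₂ + jB k W B x₂ * jB k W B x₁ := by abel
      _ = 0 := this

end Sq

section Coact
variable {k : Type u} [CommRing k] {A : Type v} [CommRing A] [Bialgebra k A]
  {W : Type w} [AddCommGroup W] [Module k W] [HopfRep.Comod k A W]

local notation "E" => ExteriorAlgebra k W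
local notation "ρW" => HopfRep.Comod.coact (k := k) (A := A) (V := W)

variable (k A W) in
/-- the coaction on the exterior algebra, as an algebra map -/
noncomputable def coactAlg : E →ₐ[k] E ⊗[k] A :=
  ExteriorAlgebra.lift k ⟨jB k W A ∘ₗ ρW, fun w => jB_sq _⟩

@[simp] theorem coactAlg_ι (w : W) :
    coactAlg k A W (ExteriorAlgebra.ι k w) = jB k W A (ρW w) := by
  simp [coactAlg, ExteriorAlgebra.lift_ι_apply]

theorem coactAlg_comp_ι :
    (coactAlg k A W).toLinearMap ∘ₗ ExteriorAlgebra.ι k = jB k W A ∘ₗ ρW :=
  LinearMap.ext fun w => coactAlg_ι w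

theorem coactAlg_coassoc :
    ((Algebra.TensorProduct.assoc k k k E A A).toAlgHom.comp
      ((Algebra.TensorProduct.map (coactAlg k A W) (AlgHom.id k A)).comp (coactAlg k A W))) =
    (Algebra.TensorProduct.map (AlgHom.id k E) (Bialgebra.comulAlgHom k A)).comp (coactAlg k A W) := by
  apply ExteriorAlgebra.hom_ext
  ext w
  simp only [LinearMap.comp_apply, AlgHom.toLinearMap_apply, AlgHom.comp_apply, coactAlg_ι]
  have h := LinearMap.congr_fun (HopfRep.Comod.coassoc (k := k) (A := A) (V := W)) w
  simp only [LinearMap.comp_apply, LinearEquiv.coe_coe] at h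
  -- RHS
  have hR : ∀ z : W ⊗[k] A, (Algebra.TensorProduct.map (AlgHom.id k E) (Bialgebra.comulAlgHom k A))
      (jB k W A z) = (ExteriorAlgebra.ι k).rTensor (A ⊗[k] A)
        ((CoalgebraStruct.comul (R := k) (A := A)).lTensor W z) := by
    intro z
    induction z using TensorProduct.induction_on with
    | zero => simp
    | tmul x a => simp
    | add z₁ z₂ h₁ h₂ => simp only [map_add, h₁, h₂]
  have hL : ∀ z : W ⊗[k] A, (Algebra.TensorProduct.assoc k k k E A A).toAlgHom
      ((Algebra.TensorProduct.map (coactAlg k A W) (AlgHom.id k A)) (jB k W A z)) =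
      (ExteriorAlgebra.ι k).rTensor (A ⊗[k] A)
        (TensorProduct.assoc k W A A ((ρW).rTensor A z)) := by
    intro z
    induction z using TensorProduct.induction_on with
    | zero => simp
    | tmul x a =>
      simp only [jB_tmul, Algebra.TensorProduct.map_tmul, coactAlg_ι, AlgHom.coe_id, id_eq,
        LinearMap.rTensor_tmul]
      generalize ρW x = y
      induction y using TensorProduct.induction_on with
      | zero => simp
      | tmul x' a' => simp
      | add y₁ y₂ h₁ h₂ => simp only [map_add, TensorProduct.add_tmul, h₁, h₂]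
    | add z₁ z₂ h₁ h₂ => simp only [map_add, h₁, h₂]
  rw [hL, hR, h]

theorem coactAlg_counit :
    (Algebra.TensorProduct.map (AlgHom.id k E) (Bialgebra.counitAlgHom k A)).comp (coactAlg k A W) =
      Algebra.TensorProduct.includeLeft := by
  apply ExteriorAlgebra.hom_ext
  ext w
  simp only [LinearMap.comp_apply, AlgHom.toLinearMap_apply, AlgHom.comp_apply, coactAlg_ι]
  have h := LinearMap.congr_fun (HopfRep.Comod.counit_comp (k := k) (A := A) (V := W)) w
  simp only [LinearMap.comp_apply, LinearMap.flip_apply, TensorProduct.mk_apply] at h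
  have hR : ∀ z : W ⊗[k] A, (Algebra.TensorProduct.map (AlgHom.id k E) (Bialgebra.counitAlgHom k A))
      (jB k W A z) = (ExteriorAlgebra.ι k).rTensor k
        ((CoalgebraStruct.counit (R := k) (A := A)).lTensor W z) := by
    intro z
    induction z using TensorProduct.induction_on with
    | zero => simp
    | tmul x a => simp
    | add z₁ z₂ h₁ h₂ => simp only [map_add, h₁, h₂]
  rw [hR, h]
  simp

variable (k A W) in
/-- the exterior algebra of a comodule, as a comodule -/
@[reducible] noncomputable def extComod : HopfRep.Comod k A E where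
  coact := (coactAlg k A W).toLinearMap
  coassoc := by
    have h := congrArg AlgHom.toLinearMap (coactAlg_coassoc (k := k) (A := A) (W := W))
    apply LinearMap.ext
    intro e
    have h2 := LinearMap.congr_fun h e
    simp only [AlgHom.toLinearMap_apply, AlgHom.comp_apply] at h2
    simp only [LinearMap.comp_apply, LinearEquiv.coe_coe, AlgHom.toLinearMap_apply]
    convert h2 using 1
    · generalize coactAlg k A W e = z
      induction z using TensorProduct.induction_on with
      | zero => simp
      | tmul x a =>
        simp only [LinearMap.rTensor_tmul, AlgHom.toLinearMap_apply, Algebra.TensorProduct.map_tmul,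
          AlgHom.coe_id, id_eq]
        generalize coactAlg k A W x = y
        induction y using TensorProduct.induction_on with
        | zero => simp
        | tmul x' a' => simp
        | add y₁ y₂ h₁ h₂ => simp only [map_add, TensorProduct.add_tmul, h₁, h₂]
      | add z₁ z₂ h₁ h₂ => simp only [map_add, h₁, h₂]
    · generalize coactAlg k A W e = z
      induction z using TensorProduct.induction_on with
      | zero => simp
      | tmul x a => simp
      | add z₁ z₂ h₁ h₂ => simp only [map_add, h₁, h₂]
  counit_comp := by
    have h := congrArg AlgHom.toLinearMap (coactAlg_counit (k := k) (A := A) (W := W))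
    apply LinearMap.ext
    intro e
    have h2 := LinearMap.congr_fun h e
    simp only [AlgHom.toLinearMap_apply, AlgHom.comp_apply] at h2
    simp only [LinearMap.comp_apply, AlgHom.toLinearMap_apply, LinearMap.flip_apply,
      TensorProduct.mk_apply]
    rw [Algebra.TensorProduct.includeLeft_apply] at h2
    rw [← h2]
    generalize coactAlg k A W e = z
    induction z using TensorProduct.induction_on with
    | zero => simp
    | tmul x a => simp
    | add z₁ z₂ h₁ h₂ => simp only [map_add, h₁, h₂]

theorem extComod_coact (e : E) :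
    (extComod k A W).coact e = coactAlg k A W e := rfl

end Coact

end Groth.Agent.Lib.Helper25.ExtComod
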