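import Mathlib

/-!
# A field extension as the filtered colimit of its finitely generated subalgebras (helper25)
-/

set_option autoImplicit false
set_option linter.unusedSectionVars false
set_option linter.unusedVariables false
set_option linter.style.haveILetI false
universe u

open CategoryTheory CategoryTheory.Limits

namespace Groth.Agent.Lib.Helper25.FgSubalg

section Ring

variable (k K : Type u) [CommRing k] [CommRing K] [Algebra k K]

/-- the subalgebra generated by a finite set -/
abbrev Adj (σ : Finset K) : Subalgebra k K := Algebra.adjoin k (σ : Set K)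

variable {k K}

lemma adj_mono {σ τ : Finset K} (h : σ ⊆ τ) : Adj k K σ ≤ Adj k K τ :=
  Algebra.adjoin_mono (by exact_mod_cast h)

instance (σ : Finset K) : Algebra.FiniteType k (Adj k K σ) :=
  (Subalgebra.fg_iff_finiteType _).mp ⟨σ, rfl⟩

variable (k K)

/-- the diagram of finitely generated subalgebras -/
noncomputable def adjDiag : Finset K ⥤ CommRingCat.{u} where
  obj σ := CommRingCat.of (Adj k K σ)
  map {σ τ} f := CommRingCat.ofHom (Subalgebra.inclusion (adj_mono (leOfHom f))).toRingHom
  map_id σ := by
    ext x
    rfl
  map_comp {σ τ ρ} f g := by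
    ext x
    rfl

/-- the cocone with vertex `K` -/
noncomputable def adjCocone : Cocone (adjDiag k K) where
  pt := CommRingCat.of K
  ι :=
    { app := fun σ => CommRingCat.ofHom (Adj k K σ).val.toRingHom
      naturality := fun σ τ f => by
        ext x
        rfl }

/-- `K` is the colimit of its finitely generated subalgebras -/
noncomputable def adjIsColimit : IsColimit (adjCocone k K) := by
  haveI : ReflectsColimit (adjDiag k K) (forget CommRingCat.{u}) :=
    reflectsColimit_of_reflectsIsomorphisms _ _
  apply isColimitOfReflects (forget CommRingCat.{u})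
  apply Types.FilteredColimit.isColimitOf
  · intro x
    exact ⟨({(x : K)} : Finset K), ⟨x, Algebra.subset_adjoin
      (Finset.mem_coe.mpr (Finset.mem_singleton_self (x : K)))⟩, rfl⟩
  · intro σ τ x y hxy
    classical
    refine ⟨σ ∪ τ, homOfLE Finset.subset_union_left, homOfLE Finset.subset_union_right, ?_⟩
    apply Subtype.ext
    exact hxy

end Ring

section Sch

open AlgebraicGeometry

variable (k K : Type u) [CommRing k] [CommRing K] [Algebra k K]

/-- the diagram of spectra -/
noncomputable def specDiag : (Finset K)ᵒᵖ ⥤ Scheme.{u} := (adjDiag k K).op ⋙ Scheme.Spec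

/-- the cone with vertex `Spec K` -/
noncomputable def specCone : Cone (specDiag k K) := Scheme.Spec.mapCone (adjCocone k K).op

/-- it is a limit cone -/
noncomputable def specIsLimit : IsLimit (specCone k K) :=
  isLimitOfPreserves Scheme.Spec (adjIsColimit k K).op

instance (s : (Finset K)ᵒᵖ) : IsAffine ((specDiag k K).obj s) := by
  dsimp [specDiag]; infer_instance

instance {s t : (Finset K)ᵒᵖ} (f : s ⟶ t) : IsAffineHom ((specDiag k K).map f) := by
  infer_instance

/-- structure map to `Spec k` -/
noncomputable def specStr (s : (Finset K)ᵒᵖ) : (specDiag k K).obj s ⟶ Spec (CommRingCat.of k) :=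
  Spec.map (CommRingCat.ofHom (algebraMap k (Adj k K s.unop)))

lemma specDiag_map_str {s t : (Finset K)ᵒᵖ} (f : s ⟶ t) :
    (specDiag k K).map f ≫ specStr k K t = specStr k K s :=
  (Spec.map_comp (CommRingCat.ofHom (algebraMap k (Adj k K t.unop)))
    ((adjDiag k K).map f.unop)).symm.trans (congrArg Spec.map (by
      ext x
      rfl))

lemma specCone_π_str (s : (Finset K)ᵒᵖ) :
    (specCone k K).π.app s ≫ specStr k K s =
      Spec.map (CommRingCat.ofHom (algebraMap k K)) :=
  (Spec.map_comp (CommRingCat.ofHom (algebraMap k (Adj k K s.unop)))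
    ((adjCocone k K).ι.app s.unop)).symm.trans (congrArg Spec.map (by
      ext x
      rfl))

/-- the bottom stage is `Spec k` when `k` is a field -/
instance isIso_specStr_empty (k K : Type u) [Field k] [CommRing K] [Nontrivial K] [Algebra k K] :
    IsIso (specStr k K (Opposite.op ∅)) := by
  dsimp only [specStr]
  have hb : Function.Bijective (algebraMap k (Adj k K (∅ : Finset K))) := by
    constructor
    · exact (algebraMap k _).injective
    · intro x
      have hx : (x : K) ∈ (⊥ : Subalgebra k K) := by
        have := x.2
        simpa [Adj, Algebra.adjoin_empty] using this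
      obtain ⟨c, hc⟩ := Algebra.mem_bot.mp hx
      exact ⟨c, Subtype.ext hc⟩
  have : IsIso (CommRingCat.ofHom (algebraMap k (Adj k K (∅ : Finset K)))) := by
    rw [ConcreteCategory.isIso_iff_bijective]
    exact hb
  exact inferInstanceAs (IsIso (Spec.map
    (CommRingCat.ofHom (algebraMap k (Adj k K (∅ : Finset K))))))

end Sch

end Groth.Agent.Lib.Helper25.FgSubalg
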