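import Mathlib

/-!
# Field valued points of an affine open of the base and the affine pieces of the fibre
-/

set_option autoImplicit false
set_option linter.style.haveILetI false
universe u
open CategoryTheory CategoryTheory.Limits AlgebraicGeometry TensorProduct

namespace Groth.Agent.Lib.Helper25.FibField

variable {X Y : Scheme.{u}} (f : X ⟶ Y) {V : Y.Opens} (hV : IsAffineOpen V)

/-- the `L`-valued point of `Y` given by a ring homomorphism `Γ(Y, V) → L`. -/
noncomputable def fieldPt (L : Type u) [Field L] (ψ : Γ(Y, V) →+* L) :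
    Spec (CommRingCat.of L) ⟶ Y :=
  Spec.map (CommRingCat.ofHom ψ) ≫ hV.fromSpec

theorem fieldPt_mem (L : Type u) [Field L] (ψ : Γ(Y, V) →+* L) (t : Spec (CommRingCat.of L)) :
    fieldPt hV L ψ t ∈ V := by
  have : fieldPt hV L ψ t ∈ Set.range hV.fromSpec := by
    rw [fieldPt, Scheme.Hom.comp_apply]
    exact ⟨_, rfl⟩
  rwa [hV.range_fromSpec] at this

/-- the open immersion of an affine piece into the pullback. -/
theorem exists_piece (L : Type u) [Field L] (ψ : Γ(Y, V) →+* L) {U : X.Opens}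
    (hU : IsAffineOpen U) (e : U ≤ f ⁻¹ᵁ V) :
    letI := (f.appLE V U e).hom.toAlgebra
    letI := ψ.toAlgebra
    ∃ j : Spec (CommRingCat.of (L ⊗[Γ(Y, V)] Γ(X, U))) ⟶ pullback f (fieldPt hV L ψ),
      IsOpenImmersion j ∧ Set.range j = (pullback.fst f (fieldPt hV L ψ)) ⁻¹' (U : Set X) := by
  letI := (f.appLE V U e).hom.toAlgebra
  letI := ψ.toAlgebra
  let φ : Γ(Y, V) ⟶ Γ(X, U) := f.appLE V U e
  let ψ' : Γ(Y, V) ⟶ CommRingCat.of L := CommRingCat.ofHom ψ
  have e₁ : Spec.map φ ≫ hV.fromSpec = hU.fromSpec ≫ f := hV.SpecMap_appLE_fromSpec f hU e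
  have e₂ : Spec.map ψ' ≫ hV.fromSpec = 𝟙 _ ≫ fieldPt hV L ψ := by
    rw [Category.id_comp, fieldPt]
  let j₁ := pullback.map (Spec.map φ) (Spec.map ψ') f (fieldPt hV L ψ) hU.fromSpec (𝟙 _)
    hV.fromSpec e₁ e₂
  let c : Γ(X, U) ⊗[Γ(Y, V)] L ≃ₐ[Γ(Y, V)] L ⊗[Γ(Y, V)] Γ(X, U) :=
    Algebra.TensorProduct.comm Γ(Y, V) Γ(X, U) L
  let j₀ : Spec (CommRingCat.of (L ⊗[Γ(Y, V)] Γ(X, U))) ⟶
      Spec (CommRingCat.of (Γ(X, U) ⊗[Γ(Y, V)] L)) :=
    Spec.map (CommRingCat.ofHom (c : Γ(X, U) ⊗[Γ(Y, V)] L →+* L ⊗[Γ(Y, V)] Γ(X, U)))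
  haveI : IsIso j₀ := by
    have : IsIso (CommRingCat.ofHom (c : Γ(X, U) ⊗[Γ(Y, V)] L →+* L ⊗[Γ(Y, V)] Γ(X, U))) :=
      (ConcreteCategory.isIso_iff_bijective _).mpr c.bijective
    infer_instance
  refine ⟨j₀ ≫ (pullbackSpecIso Γ(Y, V) Γ(X, U) L).inv ≫ j₁, inferInstance, ?_⟩
  rw [Scheme.Hom.comp_base, TopCat.coe_comp, Set.range_comp,
    Set.range_eq_univ.mpr (by exact (j₀.homeomorph).surjective), Set.image_univ,
    Scheme.Hom.comp_base, TopCat.coe_comp, Set.range_comp,
    Set.range_eq_univ.mpr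
      (by exact ((pullbackSpecIso Γ(Y, V) Γ(X, U) L).symm.hom.homeomorph).surjective),
    Set.image_univ, Scheme.Pullback.range_map, hU.range_fromSpec]
  simp

/-- reducedness of the pullback to a field valued point, in terms of affine pieces. -/
theorem isReduced_pullback_iff (L : Type u) [Field L] (ψ : Γ(Y, V) →+* L) :
    IsReduced (pullback f (fieldPt hV L ψ)) ↔
      ∀ (U : X.Opens) (_ : IsAffineOpen U) (e : U ≤ f ⁻¹ᵁ V),
        letI := (f.appLE V U e).hom.toAlgebra
        letI := ψ.toAlgebra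
        _root_.IsReduced (L ⊗[Γ(Y, V)] Γ(X, U)) := by
  constructor
  · intro hred U hU e
    letI := (f.appLE V U e).hom.toAlgebra
    letI := ψ.toAlgebra
    obtain ⟨j, hj, -⟩ := exists_piece f hV L ψ hU e
    have : IsReduced (Spec (CommRingCat.of (L ⊗[Γ(Y, V)] Γ(X, U)))) :=
      isReduced_of_isOpenImmersion j
    exact (affine_isReduced_iff _).1 this
  · intro h
    have hst : ∀ z : ↥(pullback f (fieldPt hV L ψ)),
        _root_.IsReduced ((pullback f (fieldPt hV L ψ)).presheaf.stalk z) := by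
      intro z
      have hxV : pullback.fst f (fieldPt hV L ψ) z ∈ f ⁻¹ᵁ V := by
        change f (pullback.fst f (fieldPt hV L ψ) z) ∈ V
        rw [← Scheme.Hom.comp_apply, pullback.condition, Scheme.Hom.comp_apply]
        exact fieldPt_mem hV L ψ _
      obtain ⟨_, ⟨U, hU, rfl⟩, hxU, hUV⟩ :=
        X.isBasis_affineOpens.exists_subset_of_mem_open hxV (f ⁻¹ᵁ V).isOpen
      have e : U ≤ f ⁻¹ᵁ V := hUV
      letI := (f.appLE V U e).hom.toAlgebra
      letI := ψ.toAlgebra
      obtain ⟨j, hj, hjr⟩ := exists_piece f hV L ψ hU e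
      have hz : z ∈ Set.range j := by
        rw [hjr]
        exact hxU
      obtain ⟨w, rfl⟩ := hz
      haveI : _root_.IsReduced (L ⊗[Γ(Y, V)] Γ(X, U)) := h U hU e
      haveI : IsReduced (Spec (CommRingCat.of (L ⊗[Γ(Y, V)] Γ(X, U)))) :=
        (affine_isReduced_iff _).2 inferInstance
      have hinj : Function.Injective (j.stalkMap w).hom :=
        ((ConcreteCategory.isIso_iff_bijective (j.stalkMap w)).mp inferInstance).1
      exact isReduced_of_injective (j.stalkMap w).hom hinj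
    exact isReduced_of_isReduced_stalk _

/-- reducedness of the pullback from a covering family of affine pieces. -/
theorem isReduced_pullback_of_cover (L : Type u) [Field L] (ψ : Γ(Y, V) →+* L)
    (𝒰 : Set X.Opens) (hcov : ∀ x : X, f x ∈ V → ∃ U ∈ 𝒰, x ∈ U)
    (h : ∀ U ∈ 𝒰, ∃ (_ : IsAffineOpen U) (e : U ≤ f ⁻¹ᵁ V),
      letI := (f.appLE V U e).hom.toAlgebra
      letI := ψ.toAlgebra
      _root_.IsReduced (L ⊗[Γ(Y, V)] Γ(X, U))) :
    IsReduced (pullback f (fieldPt hV L ψ)) := by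
  have hst : ∀ z : ↥(pullback f (fieldPt hV L ψ)),
      _root_.IsReduced ((pullback f (fieldPt hV L ψ)).presheaf.stalk z) := by
    intro z
    have hxV : f (pullback.fst f (fieldPt hV L ψ) z) ∈ V := by
      rw [← Scheme.Hom.comp_apply, pullback.condition, Scheme.Hom.comp_apply]
      exact fieldPt_mem hV L ψ _
    obtain ⟨U, hU𝒰, hxU⟩ := hcov _ hxV
    obtain ⟨hU, e, hred⟩ := h U hU𝒰
    letI := (f.appLE V U e).hom.toAlgebra
    letI := ψ.toAlgebra
    obtain ⟨j, hj, hjr⟩ := exists_piece f hV L ψ hU e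
    have hz : z ∈ Set.range j := by
      rw [hjr]
      exact hxU
    obtain ⟨w, rfl⟩ := hz
    haveI : _root_.IsReduced (L ⊗[Γ(Y, V)] Γ(X, U)) := hred
    haveI : IsReduced (Spec (CommRingCat.of (L ⊗[Γ(Y, V)] Γ(X, U)))) :=
      (affine_isReduced_iff _).2 inferInstance
    have hinj : Function.Injective (j.stalkMap w).hom :=
      ((ConcreteCategory.isIso_iff_bijective (j.stalkMap w)).mp inferInstance).1
    exact isReduced_of_injective (j.stalkMap w).hom hinj
  exact isReduced_of_isReduced_stalk _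

section Points

/-- evaluation at a point of `V`, as a ring homomorphism to the residue field. -/
noncomputable def resHom (y : Y) (hy : y ∈ V) : Γ(Y, V) →+* Y.residueField y :=
  (Y.evaluation V y hy).hom

theorem fieldPt_resHom (y : Y) (hy : y ∈ V) :
    fieldPt hV (Y.residueField y) (resHom y hy) = Y.fromSpecResidueField y := by
  rw [fieldPt, Scheme.fromSpecResidueField]
  have h1 : CommRingCat.ofHom (resHom y hy) = Y.presheaf.germ V y hy ≫ Y.residue y := rfl
  rw [h1, Spec.map_comp, Category.assoc]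
  congr 1
  exact hV.fromSpecStalk_eq_fromSpecStalk hy

theorem fieldPt_comp (y : Y) (hy : y ∈ V) (K : Type u) [Field K] (χ : Y.residueField y →+* K) :
    fieldPt hV K (χ.comp (resHom y hy)) =
      Spec.map (CommRingCat.ofHom χ) ≫ Y.fromSpecResidueField y := by
  rw [← fieldPt_resHom hV y hy, fieldPt, fieldPt, ← Category.assoc, ← Spec.map_comp]
  rfl

theorem resHom_ne_zero_iff (y : Y) (hy : y ∈ V) (a : Γ(Y, V)) :
    resHom y hy a ≠ 0 ↔ y ∈ Y.basicOpen a :=
  Y.evaluation_ne_zero_iff_mem_basicOpen y hy a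

include hV in
/-- every element of the residue field is a quotient of evaluations. -/
theorem resHom_surj (y : Y) (hy : y ∈ V) (z : Y.residueField y) :
    ∃ a s : Γ(Y, V), z = resHom y hy a / resHom y hy s := by
  obtain ⟨w, rfl⟩ := Y.residue_surjective y z
  letI : Algebra Γ(Y, V) (Y.presheaf.stalk y) := (Y.presheaf.germ V y hy).hom.toAlgebra
  haveI := hV.isLocalization_stalk ⟨y, hy⟩
  obtain ⟨⟨a, s⟩, has⟩ := IsLocalization.surj (hV.primeIdealOf ⟨y, hy⟩).asIdeal.primeCompl w
  have hu : IsUnit (algebraMap Γ(Y, V) (Y.presheaf.stalk y) s) :=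
    IsLocalization.map_units (Y.presheaf.stalk y) s
  refine ⟨a, s, ?_⟩
  have hs0 : resHom y hy s ≠ 0 := by
    change (Y.residue y).hom (algebraMap Γ(Y, V) (Y.presheaf.stalk y) s) ≠ 0
    exact (hu.map (Y.residue y).hom).ne_zero
  rw [eq_div_iff hs0]
  change (Y.residue y).hom w * (Y.residue y).hom (algebraMap Γ(Y, V) (Y.presheaf.stalk y) s) =
    (Y.residue y).hom (algebraMap Γ(Y, V) (Y.presheaf.stalk y) a)
  rw [← map_mul, has]

end Points

section Fibre

include hV in
theorem isReduced_fiber_iff (y : Y) (hy : y ∈ V) :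
    IsReduced (f.fiber y) ↔
      ∀ (U : X.Opens) (_ : IsAffineOpen U) (e : U ≤ f ⁻¹ᵁ V),
        letI := (f.appLE V U e).hom.toAlgebra
        letI := (resHom y hy).toAlgebra
        _root_.IsReduced (Y.residueField y ⊗[Γ(Y, V)] Γ(X, U)) := by
  have h := isReduced_pullback_iff f hV (Y.residueField y) (resHom y hy)
  rw [fieldPt_resHom] at h
  exact h

theorem geometricallyReduced_fiber_iff (y : Y) (hy : y ∈ V) :
    GeometricallyReduced (f.fiberToSpecResidueField y) ↔
      ∀ (K : Type u) [Field K] (χ : Y.residueField y →+* K),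
        IsReduced (pullback f (fieldPt hV K (χ.comp (resHom y hy)))) := by
  rw [geometricallyReduced_iff, geometrically_iff_of_isClosedUnderIsomorphisms]
  constructor
  · intro h K _ χ
    have h1 := h K (Spec.map (CommRingCat.ofHom χ))
    rw [fieldPt_comp]
    have e : pullback (f.fiberToSpecResidueField y) (Spec.map (CommRingCat.ofHom χ)) ≅
        pullback f (Spec.map (CommRingCat.ofHom χ) ≫ Y.fromSpecResidueField y) :=
      pullbackLeftPullbackSndIso f (Y.fromSpecResidueField y) (Spec.map (CommRingCat.ofHom χ))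
    exact isReduced_of_isOpenImmersion e.inv
  · intro h K _ t
    obtain ⟨φ, rfl⟩ := Spec.map_surjective t
    have h1 := h K φ.hom
    rw [fieldPt_comp] at h1
    have e : pullback (f.fiberToSpecResidueField y) (Spec.map φ) ≅
        pullback f (Spec.map φ ≫ Y.fromSpecResidueField y) :=
      pullbackLeftPullbackSndIso f (Y.fromSpecResidueField y) (Spec.map φ)
    exact isReduced_of_isOpenImmersion e.hom

end Fibre

end Groth.Agent.Lib.Helper25.FibField
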