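import Mathlib

/-!
# helper25 — FibProdAff: affine opens of a fibre product and their rings of sections
-/

set_option backward.isDefEq.respectTransparency.types false
set_option autoImplicit false
set_option linter.unusedVariables false
set_option linter.style.haveILetI false
universe u
open AlgebraicGeometry CategoryTheory Limits Opposite

namespace Groth.Agent.Lib.Helper25.FibProdAff

variable {X S T : Scheme.{u}}

theorem pullback_affine (p : X ⟶ S) (q : T ⟶ S) {US : S.Opens} {UX : X.Opens} {UT : T.Opens}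
    (hUS : IsAffineOpen US) (hUX : IsAffineOpen UX) (hUT : IsAffineOpen UT)
    (hXS : UX ≤ p ⁻¹ᵁ US) (hTS : UT ≤ q ⁻¹ᵁ US) :
    IsAffineOpen (pullback.fst p q ⁻¹ᵁ UX ⊓ pullback.snd p q ⁻¹ᵁ UT) ∧
    IsPushout (p.appLE US UX hXS) (q.appLE US UT hTS)
      ((pullback.fst p q).appLE UX (pullback.fst p q ⁻¹ᵁ UX ⊓ pullback.snd p q ⁻¹ᵁ UT) inf_le_left)
      ((pullback.snd p q).appLE UT (pullback.fst p q ⁻¹ᵁ UX ⊓ pullback.snd p q ⁻¹ᵁ UT) inf_le_right) := by
  have H := IsPullback.of_hasPullback p q
  constructor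
  · have : IsAffine _ := hUS
    have : IsAffine _ := hUT
    have : IsAffine _ := hUX
    exact .of_isIso (Scheme.Hom.isPullback_resLE H hTS hXS rfl).isoPullback.hom
  · exact (isIso_pushoutSection_iff H hTS hXS rfl).1
      (isIso_pushoutSection_of_isAffineOpen H hTS hXS rfl hUS hUT hUX)

end Groth.Agent.Lib.Helper25.FibProdAff
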