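import Mathlib

/-! A filtered direct summand of a module with a filtration split by a grading is split. -/

set_option autoImplicit false
set_option linter.unusedSectionVars false
universe u v w
open DirectSum

namespace Groth.Agent.Lib.Helper25.FiltSplit

section
variable {Γ : Type w} [LinearOrder Γ] {R : Type u} [CommRing R]
  {P : Type v} [AddCommGroup P] [Module R P] (G : Γ → Submodule R P)

/-- `⨆_{η ≥ γ} G η` -/
def Fil (γ : Γ) : Submodule R P := ⨆ η : Set.Ici γ, G η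
/-- `⨆_{η > γ} G η` -/
def Up (γ : Γ) : Submodule R P := ⨆ η : Set.Ioi γ, G η

theorem Fil_eq (γ : Γ) : Fil G γ = ⨆ η ∈ Set.Ici γ, G η := by
  rw [Fil, iSup_subtype']

theorem le_Fil {γ η : Γ} (h : γ ≤ η) : G η ≤ Fil G γ :=
  le_iSup (fun η : Set.Ici γ => G η) ⟨η, h⟩

theorem le_Up {γ η : Γ} (h : γ < η) : G η ≤ Up G γ :=
  le_iSup (fun η : Set.Ioi γ => G η) ⟨η, h⟩

theorem Up_le_Fil (γ : Γ) : Up G γ ≤ Fil G γ :=
  iSup_le fun η => le_Fil G (le_of_lt η.2)

theorem Fil_le_Up {γ η : Γ} (h : γ < η) : Fil G η ≤ Up G γ :=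
  iSup_le fun ζ => le_Up G (lt_of_lt_of_le h ζ.2)

theorem Fil_anti {γ η : Γ} (h : γ ≤ η) : Fil G η ≤ Fil G γ :=
  iSup_le fun ζ => le_Fil G (le_trans h ζ.2)

variable (hG : Function.Bijective (DirectSum.coeLinearMap G))

/-- the component projection, valued in `P` -/
noncomputable def q (γ : Γ) : P →ₗ[R] P :=
  (G γ).subtype ∘ₗ DirectSum.component R Γ (fun γ => G γ) γ ∘ₗ
    (LinearEquiv.ofBijective (DirectSum.coeLinearMap G) hG).symm.toLinearMap

theorem q_mem (γ : Γ) (x : P) : q G hG γ x ∈ G γ := by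
  simp only [q, LinearMap.comp_apply, Submodule.subtype_apply]
  exact Submodule.coe_mem _

theorem q_of_mem {η : Γ} {g : P} (hg : g ∈ G η) (γ : Γ) :
    q G hG γ g = if η = γ then g else 0 := by
  have h1 : (LinearEquiv.ofBijective (DirectSum.coeLinearMap G) hG).symm g =
      DirectSum.of (fun γ => G γ) η ⟨g, hg⟩ := by
    rw [LinearEquiv.symm_apply_eq, LinearEquiv.ofBijective_apply]
    exact (DirectSum.coeLinearMap_of G η ⟨g, hg⟩).symm
  simp only [q, LinearMap.comp_apply, LinearEquiv.coe_coe, h1, Submodule.subtype_apply]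
  by_cases h : η = γ
  · subst h
    rw [if_pos rfl, ← DirectSum.lof_eq_of R, DirectSum.component.lof_self]
  · rw [if_neg h, ← DirectSum.lof_eq_of R, DirectSum.component.of, dif_neg h]; rfl

theorem sub_q_mem_Up {γ : Γ} {x : P} (hx : x ∈ Fil G γ) : x - q G hG γ x ∈ Up G γ := by
  rw [Fil] at hx
  induction hx using Submodule.iSup_induction' with
  | mem η g hg =>
    rw [q_of_mem G hG hg]
    rcases eq_or_lt_of_le η.2 with h | h
    · rw [if_pos h.symm, sub_self]; exact zero_mem _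
    · rw [if_neg (ne_of_gt h), sub_zero]; exact le_Up G h hg
  | zero => simp
  | add x y _ _ hx hy =>
    rw [map_add, add_sub_add_comm]; exact add_mem hx hy

theorem q_eq_zero_of_mem_Up {γ : Γ} {x : P} (hx : x ∈ Up G γ) : q G hG γ x = 0 := by
  rw [Up] at hx
  induction hx using Submodule.iSup_induction' with
  | mem η g hg =>
    rw [q_of_mem G hG hg, if_neg (ne_of_gt η.2)]
  | zero => simp
  | add x y _ _ hx hy => rw [map_add, hx, hy, add_zero]

end


section Summand
variable {Γ : Type w} [LinearOrder Γ] {R : Type u} [CommRing R]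
  {P : Type v} [AddCommGroup P] [Module R P] (G : Γ → Submodule R P)
  (hG : Function.Bijective (DirectSum.coeLinearMap G))
  {N : Type v} [AddCommGroup N] [Module R N] (i : N →ₗ[R] P) (p : P →ₗ[R] N)
  (hpi : ∀ x, p (i x) = x) (FN : Γ → Submodule R N)
  (h1 : ∀ γ, (Fil G γ).map p = FN γ) (h2 : ∀ γ, (FN γ).map i ≤ Fil G γ)

include h1 h2 in
theorem ip_mem_Fil {γ : Γ} {x : P} (hx : x ∈ Fil G γ) : i (p x) ∈ Fil G γ := by
  apply h2 γ
  refine Submodule.mem_map_of_mem ?_
  rw [← h1 γ]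
  exact Submodule.mem_map_of_mem hx

include h1 h2 in
theorem ip_mem_Up {γ : Γ} {x : P} (hx : x ∈ Up G γ) : i (p x) ∈ Up G γ := by
  rw [Up] at hx
  induction hx using Submodule.iSup_induction' with
  | mem η g hg =>
    exact Fil_le_Up G η.2 (ip_mem_Fil G i p FN h1 h2 (le_Fil G le_rfl hg))
  | zero => simp
  | add x y _ _ hx hy => rw [map_add, map_add]; exact add_mem hx hy

/-- the candidate graded pieces of `N` -/
noncomputable def Hs (γ : Γ) : Submodule R N :=
  (G γ).map (p ∘ₗ q G hG γ ∘ₗ i ∘ₗ p)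

include h1 in
theorem Hs_le (γ : Γ) : Hs G hG i p γ ≤ FN γ := by
  rintro _ ⟨g, _, rfl⟩
  rw [← h1 γ]
  simp only [LinearMap.comp_apply]
  exact Submodule.mem_map_of_mem (le_Fil G le_rfl (q_mem G hG γ _))

include hpi h1 h2 in
theorem p_mem_sup {γ : Γ} {g : P} (hg : g ∈ G γ) :
    p g ∈ Hs G hG i p γ ⊔ (Up G γ).map p := by
  have h3 : i (p g) ∈ Fil G γ := ip_mem_Fil G i p FN h1 h2 (le_Fil G le_rfl hg)
  have h4 := sub_q_mem_Up G hG h3
  have h5 : p g = p (q G hG γ (i (p g))) + p (i (p g) - q G hG γ (i (p g))) := by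
    rw [← map_add, add_sub_cancel, hpi]
  rw [h5]
  exact Submodule.add_mem_sup ⟨g, hg, rfl⟩ (Submodule.mem_map_of_mem h4)

include hpi h1 h2 in
theorem disjoint_Hs_Up (γ : Γ) : Disjoint (Hs G hG i p γ) ((Up G γ).map p) := by
  rw [Submodule.disjoint_def]
  rintro _ ⟨g, hg, rfl⟩ ⟨r, hr, hry⟩
  simp only [LinearMap.comp_apply] at hry ⊢
  set Eg := q G hG γ (i (p g)) with hEg
  -- E (E g) = E g
  have h3 : i (p g) ∈ Fil G γ := ip_mem_Fil G i p FN h1 h2 (le_Fil G le_rfl hg)
  have h4 : i (p g) - Eg ∈ Up G γ := sub_q_mem_Up G hG h3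
  have h5 := q_eq_zero_of_mem_Up G hG (ip_mem_Up G i p FN h1 h2 h4)
  rw [map_sub, map_sub, map_sub, hpi, sub_eq_zero] at h5
  -- E (E g) = 0
  have h6 : i (p Eg) ∈ Up G γ := by
    rw [← hry]; exact ip_mem_Up G i p FN h1 h2 hr
  have h7 := q_eq_zero_of_mem_Up G hG h6
  rw [← h5] at h7
  rw [← hEg] at h7
  rw [h7, map_zero]

end Summand


section Final
variable {Γ : Type w} [LinearOrder Γ] {R : Type u} [CommRing R]
  {P : Type v} [AddCommGroup P] [Module R P] (G : Γ → Submodule R P)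
  (hG : Function.Bijective (DirectSum.coeLinearMap G))
  {N : Type v} [AddCommGroup N] [Module R N] (i : N →ₗ[R] P) (p : P →ₗ[R] N)
  (hpi : ∀ x, p (i x) = x) (FN : Γ → Submodule R N)
  (h1 : ∀ γ, (Fil G γ).map p = FN γ) (h2 : ∀ γ, (FN γ).map i ≤ Fil G γ)

include hG in
theorem exists_finset_support [Module.Finite R P] : ∃ s : Finset Γ, ∀ γ ∉ s, G γ = ⊥ := by
  have hI : DirectSum.IsInternal G := hG
  have htop : (⊤ : Submodule R P) ≤ ⨆ γ, G γ := by rw [hI.submodule_iSup_eq_top]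
  have hc : IsCompactElement (⊤ : Submodule R P) :=
    (Submodule.fg_iff_compact _).mp Module.Finite.fg_top
  obtain ⟨s, hs⟩ := CompleteLattice.IsCompactElement.exists_finset_of_le_iSup _ hc G htop
  refine ⟨s, fun γ hγ => ?_⟩
  have hind := hI.submodule_iSupIndep γ
  apply hind.eq_bot_of_le
  refine le_trans le_top (hs.trans ?_)
  apply iSup₂_le
  intro η hη
  exact le_iSup₂_of_le η (fun h => hγ (h ▸ hη)) le_rfl

include hpi h1 h2 in
theorem map_p_le (s : Finset Γ) (hs : ∀ γ ∉ s, G γ = ⊥) (η : Γ) :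
    (G η).map p ≤ ⨆ ζ : Set.Ici η, Hs G hG i p ζ := by
  induction' hn : (s.filter (fun ζ => η < ζ)).card using Nat.strong_induction_on with n ih
    generalizing η
  rintro _ ⟨g, hg, rfl⟩
  have h := p_mem_sup G hG i p hpi FN h1 h2 hg
  refine (sup_le ?_ ?_ : _ ≤ ⨆ ζ : Set.Ici η, Hs G hG i p ζ) h
  · exact le_iSup (fun ζ : Set.Ici η => Hs G hG i p ζ) ⟨η, le_rfl⟩
  · rw [Up, Submodule.map_iSup]
    apply iSup_le
    intro ζ
    by_cases hζ : (ζ : Γ) ∈ s
    · have hlt : (s.filter (fun ξ => (ζ : Γ) < ξ)).card < n := by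
        rw [← hn]
        apply Finset.card_lt_card
        rw [Finset.ssubset_iff_of_subset]
        · exact ⟨ζ, Finset.mem_filter.mpr ⟨hζ, ζ.2⟩, fun h => lt_irrefl _ (Finset.mem_filter.mp h).2⟩
        · intro ξ hξ
          rw [Finset.mem_filter] at hξ ⊢
          exact ⟨hξ.1, lt_trans ζ.2 hξ.2⟩
      have := ih _ hlt (ζ : Γ) rfl
      refine this.trans (iSup_le fun ξ => ?_)
      exact le_iSup (fun ξ : Set.Ici η => Hs G hG i p ξ) ⟨ξ, le_trans (le_of_lt ζ.2) ξ.2⟩
    · rw [hs ζ hζ, Submodule.map_bot]; exact bot_le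

include hG hpi h1 h2 in
theorem exists_split [Module.Finite R P] :
    ∃ H : Γ → Submodule R N, DirectSum.IsInternal H ∧ ∀ γ, FN γ = ⨆ η ∈ Set.Ici γ, H η := by
  classical
  obtain ⟨s, hs⟩ := exists_finset_support G hG
  have hQ := map_p_le G hG i p hpi FN h1 h2 s hs
  have hFN : ∀ γ, FN γ = ⨆ η : Set.Ici γ, Hs G hG i p η := by
    intro γ
    apply le_antisymm
    · rw [← h1 γ, Fil, Submodule.map_iSup]
      apply iSup_le
      intro η
      refine (hQ η).trans (iSup_le fun ξ => ?_)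
      exact le_iSup (fun ξ : Set.Ici γ => Hs G hG i p ξ) ⟨ξ, le_trans η.2 ξ.2⟩
    · apply iSup_le
      intro η
      refine (Hs_le G hG i p FN h1 η).trans ?_
      rw [← h1 η, ← h1 γ]
      exact Submodule.map_mono (Fil_anti G η.2)
  refine ⟨Hs G hG i p, ?_, fun γ => by rw [hFN γ, iSup_subtype']⟩
  apply DirectSum.isInternal_submodule_of_iSupIndep_of_iSup_eq_top
  · apply iSupIndep_of_dfinsupp_lsum_injective
    rw [injective_iff_map_eq_zero]
    intro v hv
    by_contra hne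
    have hsupp : v.support.Nonempty := by
      rw [Finset.nonempty_iff_ne_empty, Ne, DFinsupp.support_eq_empty]
      exact hne
    set γ₀ := v.support.min' hsupp with hγ₀
    have hγ₀mem : γ₀ ∈ v.support := Finset.min'_mem _ _
    rw [DFinsupp.lsum_apply_apply, DFinsupp.sumAddHom_apply, DFinsupp.sum,
      ← Finset.add_sum_erase _ _ hγ₀mem] at hv
    have h3 : ((v γ₀ : Hs G hG i p γ₀) : N) ∈ (Up G γ₀).map p := by
      have : ((v γ₀ : Hs G hG i p γ₀) : N) =
          - ∑ x ∈ v.support.erase γ₀, ((v x : Hs G hG i p x) : N) := by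
        rw [eq_neg_iff_add_eq_zero]
        exact hv
      rw [this]
      apply neg_mem
      apply sum_mem
      intro η hη
      have hη' := Finset.mem_erase.mp hη
      have hlt : γ₀ < η := lt_of_le_of_ne (Finset.min'_le _ _ hη'.2) (Ne.symm hη'.1)
      have h4 : ((v η : Hs G hG i p η) : N) ∈ FN η := Hs_le G hG i p FN h1 η (v η).2
      rw [← h1 η] at h4
      exact Submodule.map_mono (Fil_le_Up G hlt) h4
    have h5 := (Submodule.disjoint_def.mp (disjoint_Hs_Up G hG i p hpi FN h1 h2 γ₀)) _ (v γ₀).2 h3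
    have h6 : v γ₀ = 0 := Subtype.ext h5
    exact (DFinsupp.mem_support_iff.mp hγ₀mem) h6
  · rw [eq_top_iff]
    intro x _
    have hI : DirectSum.IsInternal G := hG
    have hx : i x ∈ ⨆ γ, G γ := by rw [hI.submodule_iSup_eq_top]; trivial
    have : p (i x) ∈ (⨆ γ, G γ).map p := Submodule.mem_map_of_mem hx
    rw [hpi, Submodule.map_iSup] at this
    refine (iSup_le fun γ => ?_ : _ ≤ ⨆ γ, Hs G hG i p γ) this
    refine (hQ γ).trans (iSup_le fun ξ => ?_)
    exact le_iSup (Hs G hG i p) (ξ : Γ)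

end Final

end Groth.Agent.Lib.Helper25.FiltSplit
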