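import Mathlib

/-!
# Finite free models of finite field extensions (helper25)

`R → k → K'` with `k` a field of fractions of the image of `R` and `K'/k` finite.  Then there is a
finite free `R`-algebra `S` with an `R`-algebra map `φ : S → K'` whose image generates `K'` as a
field.
-/

set_option autoImplicit false
set_option linter.style.haveILetI false
set_option linter.unusedSectionVars false
universe u

namespace Groth.Agent.Lib.Helper25.FinFree

open Polynomial

section

variable (R k K' : Type u) [CommRing R] [Field k] [Field K'] [Algebra R k] [Algebra k K']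
  [Algebra R K'] [IsScalarTower R k K'] [FiniteDimensional k K']

/-- every element of `K'` has a multiple by an element of `R`, nonzero in `K'`, integral over `R`. -/
theorem exists_integral_multiple
    (hk : ∀ y : k, ∃ a b : R, algebraMap R k b ≠ 0 ∧ y * algebraMap R k b = algebraMap R k a)
    (x : K') : ∃ y : R, algebraMap R K' y ≠ 0 ∧ IsIntegral R (algebraMap R K' y * x) := by
  classical
  set f₀ := algebraMap R k with hf₀
  let Rb := R ⧸ RingHom.ker f₀
  haveI : (RingHom.ker f₀).IsPrime := RingHom.ker_isPrime f₀
  letI : Algebra Rb k := (RingHom.kerLift f₀).toAlgebra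
  letI : Algebra Rb K' := ((algebraMap k K').comp (RingHom.kerLift f₀)).toAlgebra
  haveI : IsScalarTower Rb k K' := IsScalarTower.of_algebraMap_eq' rfl
  haveI : IsScalarTower R Rb k := IsScalarTower.of_algebraMap_eq' (by
    ext r; rfl)
  haveI : IsScalarTower R Rb K' := IsScalarTower.of_algebraMap_eq' (by
    ext r
    change algebraMap R K' r = algebraMap k K' (RingHom.kerLift f₀ (Ideal.Quotient.mk _ r))
    rw [RingHom.kerLift_mk, IsScalarTower.algebraMap_apply R k K'])
  have hinj : Function.Injective (algebraMap Rb k) := RingHom.kerLift_injective f₀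
  have hinj' : Function.Injective (algebraMap Rb K') :=
    (algebraMap k K').injective.comp hinj
  haveI : Algebra.IsAlgebraic Rb k := ⟨fun y => by
    obtain ⟨a, b, hb, hab⟩ := hk y
    refine ⟨C (Ideal.Quotient.mk _ b) * X - C (Ideal.Quotient.mk _ a), ?_, ?_⟩
    · intro h0
      have h1 := congrArg (fun p => p.coeff 1) h0
      simp only [coeff_sub, coeff_C_mul, coeff_X_one, mul_one, coeff_C_succ, sub_zero,
        coeff_zero] at h1
      apply hb
      have h2 : algebraMap Rb k (Ideal.Quotient.mk _ b) = 0 := by rw [h1, map_zero]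
      exact h2
    · simp only [map_sub, map_mul, aeval_C, aeval_X]
      have e1 : algebraMap Rb k (Ideal.Quotient.mk _ b) = f₀ b := rfl
      have e2 : algebraMap Rb k (Ideal.Quotient.mk _ a) = f₀ a := rfl
      rw [e1, e2, mul_comm, hab, sub_self]⟩
  haveI : Algebra.IsAlgebraic k K' := Algebra.IsAlgebraic.of_finite k K'
  haveI : Algebra.IsAlgebraic Rb K' := Algebra.IsAlgebraic.trans Rb k K'
  obtain ⟨yb, hyb, hint⟩ := (Algebra.IsAlgebraic.isAlgebraic (R := Rb) x).exists_integral_multiple
  obtain ⟨y, rfl⟩ := Ideal.Quotient.mk_surjective yb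
  have hy' : algebraMap Rb K' (Ideal.Quotient.mk _ y) = algebraMap R K' y := by
    rw [IsScalarTower.algebraMap_apply R Rb K']; rfl
  refine ⟨y, ?_, ?_⟩
  · rw [← hy']
    intro h0
    exact hyb (hinj' (by rw [h0, map_zero]))
  · haveI : Algebra.IsIntegral R Rb :=
      Algebra.isIntegral_of_surjective Ideal.Quotient.mk_surjective
    rw [Algebra.smul_def, hy'] at hint
    exact isIntegral_trans _ hint

end

section Step

variable (R K' : Type u) [CommRing R] [Field K'] [Algebra R K']

/-- one step: adjoin (a multiple of) `x`. -/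
theorem exists_step
    (hint : ∀ x : K', ∃ y : R, algebraMap R K' y ≠ 0 ∧ IsIntegral R (algebraMap R K' y * x))
    (S : Type u) [CommRing S] [Algebra R S] [Module.Finite R S] [Module.Free R S]
    (φ : S →ₐ[R] K') (x : K') :
    ∃ (S' : Type u) (_ : CommRing S') (_ : Algebra R S') (_ : Module.Finite R S')
      (_ : Module.Free R S') (φ' : S' →ₐ[R] K'),
      Subfield.closure (Set.range φ) ≤ Subfield.closure (Set.range φ') ∧
      x ∈ Subfield.closure (Set.range φ') := by
  classical
  obtain ⟨y, hy, f, hf, hfx⟩ := hint x
  set fS : S[X] := f.map (algebraMap R S) with hfS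
  have hfS_monic : fS.Monic := hf.map _
  have hev : fS.eval₂ (φ : S →+* K') (algebraMap R K' y * x) = 0 := by
    rw [hfS, eval₂_map]
    have : (φ : S →+* K').comp (algebraMap R S) = algebraMap R K' := φ.comp_algebraMap
    rw [this]
    exact hfx
  haveI : Module.Finite S (AdjoinRoot fS) := hfS_monic.finite_adjoinRoot
  haveI : Module.Free S (AdjoinRoot fS) := hfS_monic.free_adjoinRoot
  haveI : Module.Finite R (AdjoinRoot fS) := Module.Finite.trans S _
  haveI : Module.Free R (AdjoinRoot fS) := Module.Free.trans (R := R) (S := S)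
  let φ' : AdjoinRoot fS →ₐ[R] K' := AdjoinRoot.liftAlgHom fS φ (algebraMap R K' y * x) hev
  have hφ'of : ∀ s : S, φ' (AdjoinRoot.of fS s) = φ s := fun s => by
    simp [φ']
  have hφ'root : φ' (AdjoinRoot.root fS) = algebraMap R K' y * x := by
    simp [φ']
  refine ⟨AdjoinRoot fS, inferInstance, inferInstance, inferInstance, inferInstance, φ', ?_, ?_⟩
  · apply Subfield.closure_mono
    rintro _ ⟨s, rfl⟩
    exact ⟨AdjoinRoot.of fS s, hφ'of s⟩
  · have h1 : algebraMap R K' y * x ∈ Subfield.closure (Set.range φ') :=
      Subfield.subset_closure ⟨_, hφ'root⟩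
    have h2 : algebraMap R K' y ∈ Subfield.closure (Set.range φ') :=
      Subfield.subset_closure ⟨algebraMap R _ y, φ'.commutes y⟩
    have h3 : x = (algebraMap R K' y)⁻¹ * (algebraMap R K' y * x) := by
      field_simp
    rw [h3]
    exact mul_mem (inv_mem h2) h1

end Step

section Main

variable (R k K' : Type u) [CommRing R] [Field k] [Field K'] [Algebra R k] [Algebra k K']
  [Algebra R K'] [IsScalarTower R k K'] [FiniteDimensional k K']

theorem exists_model
    (hk : ∀ y : k, ∃ a b : R, algebraMap R k b ≠ 0 ∧ y * algebraMap R k b = algebraMap R k a) :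
    ∃ (S : Type u) (_ : CommRing S) (_ : Algebra R S) (_ : Module.Finite R S)
      (_ : Module.Free R S) (φ : S →ₐ[R] K'), Subfield.closure (Set.range φ) = ⊤ := by
  classical
  have hint := exists_integral_multiple R k K' hk
  -- finite generating set
  obtain ⟨s, hs⟩ := (Module.Finite.fg_top : (⊤ : Submodule k K').FG)
  have key : ∀ t : Finset K', ∃ (S : Type u) (_ : CommRing S) (_ : Algebra R S)
      (_ : Module.Finite R S) (_ : Module.Free R S) (φ : S →ₐ[R] K'),
      (t : Set K') ⊆ Subfield.closure (Set.range φ) := by
    intro t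
    induction t using Finset.induction_on with
    | empty =>
      exact ⟨R, inferInstance, inferInstance, inferInstance, inferInstance, Algebra.ofId R K',
        by simp⟩
    | insert x t _ ih =>
      obtain ⟨S, _, _, _, _, φ, hφ⟩ := ih
      obtain ⟨S', i1, i2, i3, i4, φ', hle, hx⟩ := exists_step R K' hint S φ x
      refine ⟨S', i1, i2, i3, i4, φ', ?_⟩
      intro z hz
      rw [Finset.coe_insert, Set.mem_insert_iff] at hz
      rcases hz with rfl | hz
      · exact hx
      · exact hle (hφ hz)
  obtain ⟨S, i1, i2, i3, i4, φ, hφ⟩ := key s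
  refine ⟨S, i1, i2, i3, i4, φ, ?_⟩
  rw [eq_top_iff]
  intro z _
  set C := Subfield.closure (Set.range φ) with hC
  have hRC : ∀ r : R, algebraMap R K' r ∈ C := fun r =>
    Subfield.subset_closure ⟨algebraMap R S r, φ.commutes r⟩
  have hkC : ∀ c : k, algebraMap k K' c ∈ C := by
    intro c
    obtain ⟨a, b, hb, hab⟩ := hk c
    have hb' : algebraMap R K' b ≠ 0 := by
      rw [IsScalarTower.algebraMap_apply R k K']
      exact fun h => hb ((algebraMap k K').injective (by rw [h, map_zero]))
    have h1 : algebraMap k K' c = algebraMap R K' a * (algebraMap R K' b)⁻¹ := by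
      rw [eq_mul_inv_iff_mul_eq₀ hb', IsScalarTower.algebraMap_apply R k K' b, ← map_mul, hab,
        ← IsScalarTower.algebraMap_apply]
    rw [h1]
    exact mul_mem (hRC a) (inv_mem (hRC b))
  let N : Submodule k K' :=
    { carrier := C
      add_mem' := fun ha hb => add_mem ha hb
      zero_mem' := zero_mem C
      smul_mem' := fun c x hx => by
        rw [Algebra.smul_def]
        exact mul_mem (hkC c) hx }
  have hN : (⊤ : Submodule k K') ≤ N := by
    rw [← hs, Submodule.span_le]
    exact hφ
  exact hN (Submodule.mem_top : z ∈ (⊤ : Submodule k K'))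

end Main

end Groth.Agent.Lib.Helper25.FinFree
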