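import Mathlib
import Groth.Agent.Lib.Helper22.GRingI

/-!
# The local rings of `R̂' ⊗[R'] B'` at maximal ideals are completions (helper25)

Variant of `Helper22.GRing.exists_model` where the maximal ideal of `R̂' ⊗[R'] B'` is given.
-/

set_option autoImplicit false
set_option linter.style.haveILetI false
set_option linter.unusedSectionVars false
universe u

namespace Groth.Agent.Lib.Helper25.FinFree

open TensorProduct IsLocalRing
open Groth.Agent.Lib.Helper12
open Groth.Agent.Lib.Helper22.GRing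

attribute [local instance] Algebra.TensorProduct.rightAlgebra

section Model

variable (A : Type u) [CommRing A] [IsNoetherianRing A]
  (R' : Type u) [CommRing R'] [IsLocalRing R'] [IsNoetherianRing R']
  (B' : Type u) [CommRing B'] [Algebra R' B'] [Module.Finite R' B'] [Algebra A B']

local notation "Rh" => AdicCompletion (maximalIdeal R') R'

theorem exists_model_of_maximal (S : Submonoid A) [IsLocalization S B']
    (𝔐 : Ideal (Rh ⊗[R'] B')) [h𝔐 : 𝔐.IsMaximal] :
    letI := algT A R' B'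
    ∃ (P : Ideal A) (_ : P.IsPrime), P = 𝔐.comap (algebraMap A (Rh ⊗[R'] B')) ∧
      Nonempty (EGA4.Cpl (Localization.AtPrime P) ≃ₐ[A] Localization.AtPrime 𝔐) := by
  classical
  letI := algT A R' B'
  -- the setup of `exists_maximal_over`
  have hFL : AUn.FormalLike R' Rh := AUn.FormalLike.cpl R'
  haveI : IsNoetherianRing Rh := hFL.noeth
  haveI : Module.Flat R' Rh := hFL.flat
  haveI : IsLocalHom (algebraMap R' Rh) := ⟨fun a ha => by
    by_contra hna
    have h1 : algebraMap R' Rh a ∈ maximalIdeal Rh := by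
      rw [← hFL.map_max]
      exact Ideal.mem_map_of_mem _ ((mem_maximalIdeal a).mpr hna)
    exact (mem_maximalIdeal _).mp h1 ha⟩
  haveI : Module.FaithfullyFlat R' Rh := Module.FaithfullyFlat.of_flat_of_isLocalHom
  haveI : Module.FaithfullyFlat B' (Rh ⊗[R'] B') :=
    Groth.Agent.Lib.Helper22.BranchCount.faithfullyFlat_right R' Rh B'
  haveI : IsNoetherianRing (Rh ⊗[R'] B') := IsNoetherianRing.of_finite Rh _
  haveI : IsNoetherianRing B' := IsNoetherianRing.of_finite R' B'
  haveI : Algebra.IsIntegral R' B' := inferInstance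
  have hgen : ∀ b : Rh ⊗[R'] B', ∃ c : B', b - algebraMap B' (Rh ⊗[R'] B') c ∈
      (maximalIdeal R').map (algebraMap R' (Rh ⊗[R'] B')) :=
    Groth.Agent.Lib.Helper22.Multicross.hgen_of_formalLike R' Rh B' hFL
  have hbij := Groth.Agent.Lib.Helper22.BranchCount.bijOn_comap_maximal (A := R') (C := B')
      (B := Rh ⊗[R'] B') hgen Rh
  -- the maximal ideal `n` of `B'` below `𝔐`
  set n : Ideal B' := 𝔐.comap (algebraMap B' (Rh ⊗[R'] B')) with hn
  have hnmax : n.IsMaximal := hbij.mapsTo (show 𝔐 ∈ {m : Ideal (Rh ⊗[R'] B') | m.IsMaximal} from h𝔐)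
  haveI := hnmax
  obtain ⟨𝔑, h𝔑max, h𝔑n, hmap, hdense, hNT, hflatT, hcomplD⟩ := exists_maximal_over R' B' n
  have h𝔑𝔐 : 𝔑 = 𝔐 := hbij.injOn (show 𝔑 ∈ {m : Ideal (Rh ⊗[R'] B') | m.IsMaximal} from h𝔑max)
    (show 𝔐 ∈ {m : Ideal (Rh ⊗[R'] B') | m.IsMaximal} from h𝔐) (by rw [h𝔑n])
  subst h𝔑𝔐
  haveI := hNT
  haveI := hflatT
  haveI := hcomplD
  haveI : IsScalarTower A B' (Rh ⊗[R'] B') := IsScalarTower.of_algebraMap_eq' rfl
  haveI : Module.Flat A B' := IsLocalization.flat B' S
  haveI : Module.Flat A (Rh ⊗[R'] B') := Module.Flat.trans A B' _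
  set P : Ideal A := n.comap (algebraMap A B') with hP
  haveI hPprime : P.IsPrime := Ideal.comap_isPrime _ _
  have hPn : P.map (algebraMap A B') = n := IsLocalization.map_under S B' n
  have hdisj : Disjoint (S : Set A) (P : Set A) :=
    (IsLocalization.disjoint_under_iff S B' n).mpr hnmax.ne_top
  have h𝔑P : 𝔑.comap (algebraMap A (Rh ⊗[R'] B')) = P := by
    rw [IsScalarTower.algebraMap_eq A B' (Rh ⊗[R'] B'), ← Ideal.comap_comap]
  haveI : 𝔑.LiesOver P := ⟨h𝔑P.symm⟩
  have hmapP : P.map (algebraMap A (Rh ⊗[R'] B')) = 𝔑 := by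
    rw [IsScalarTower.algebraMap_eq A B' (Rh ⊗[R'] B'), ← Ideal.map_map, hPn, hmap]
  have hdenseP : ∀ t : Rh ⊗[R'] B', ∃ c s : A, s ∉ P ∧
      algebraMap A _ s * t - algebraMap A _ c ∈ 𝔑 := by
    intro t
    obtain ⟨b, hb⟩ := hdense t
    obtain ⟨a, s, rfl⟩ := IsLocalization.exists_mk'_eq S b
    refine ⟨a, s, fun hs => Set.disjoint_left.mp hdisj s.2 hs, ?_⟩
    have h1 : algebraMap A (Rh ⊗[R'] B') s * t -
        algebraMap A _ a = algebraMap A _ s *
          (t - algebraMap B' (Rh ⊗[R'] B')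
            (IsLocalization.mk' B' a s)) := by
      rw [mul_sub, IsScalarTower.algebraMap_apply A B' (Rh ⊗[R'] B'),
        IsScalarTower.algebraMap_apply A B' (Rh ⊗[R'] B'),
        ← map_mul, mul_comm (algebraMap A B' s), IsLocalization.mk'_spec]
    rw [h1]
    exact 𝔑.mul_mem_left _ hb
  exact ⟨P, hPprime, h𝔑P.symm,
    Groth.Agent.Lib.Helper22.GenFib.nonempty_cpl_algEquiv_localization_complete P 𝔑 hmapP hdenseP⟩

end Model

end Groth.Agent.Lib.Helper25.FinFree
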