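import Mathlib
import Groth.Agent.Lib.Helper25.FinFreeB
import Groth.Agent.Lib.Helper5.RegularProd

/-!
# Regularity of `K' ⊗[A] Â` from regularity of formal fibres of a finite model (helper25)
-/

set_option autoImplicit false
set_option linter.style.haveILetI false
set_option linter.unusedSectionVars false
universe u

namespace Groth.Agent.Lib.Helper25.FinFree

open TensorProduct IsLocalRing
open Groth.Agent.Lib.Helper22.GRing

attribute [local instance] Algebra.TensorProduct.rightAlgebra

/-- the localization at a prime of a ring with a regular localization -/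
theorem isRegularLocalRing_atPrime_of_localization {W : Type u} [CommRing W] (M' : Submonoid W)
    [IsRegularRing (Localization M')] (P : Ideal W) [hP : P.IsPrime]
    (hd : Disjoint (M' : Set W) (P : Set W)) :
    IsRegularLocalRing (Localization.AtPrime P) := by
  set P' : Ideal (Localization M') := P.map (algebraMap W (Localization M')) with hP'
  haveI hP'prime : P'.IsPrime := IsLocalization.isPrime_of_isPrime_disjoint M' _ P hP hd
  have hcomap : P'.comap (algebraMap W (Localization M')) = P :=
    IsLocalization.under_map_of_isPrime_disjoint M' _ hP hd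
  have e := IsLocalization.localizationLocalizationAtPrimeIsoLocalization M' P'
  have h1 : IsRegularLocalRing (Localization.AtPrime (P'.comap (algebraMap W (Localization M')))) :=
    IsRegularLocalRing.of_ringEquiv e.symm.toRingEquiv
  have key : ∀ (I : Ideal W) [I.IsPrime], I = P → IsRegularLocalRing (Localization.AtPrime I) →
      IsRegularLocalRing (Localization.AtPrime P) := by
    intro I _ h hI
    subst h
    exact hI
  exact key _ hcomap h1

section FormalFibre

variable (S : Type u) [CommRing S] (K' : Type u) [Field K'] [Algebra S K']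

/-- `K' ⊗[S] (S_Q)^` is a formal fibre of `S_Q` when `K'` is generated by the image of `S`. -/
theorem isRegularRing_tensor_cpl_localization
    (hgen : Subfield.closure (Set.range (algebraMap S K')) = ⊤)
    (Q : Ideal S) [Q.IsPrime] (hQ : RingHom.ker (algebraMap S K') ≤ Q)
    (hreg : ∀ (𝔮 : Ideal (Localization.AtPrime Q)) [𝔮.IsPrime],
      IsRegularRing (EGA4.formalFibre (Localization.AtPrime Q) 𝔮)) :
    IsRegularRing (K' ⊗[S] EGA4.Cpl (Localization.AtPrime Q)) := by
  classical
  have hunit : ∀ s : Q.primeCompl, IsUnit (algebraMap S K' s) := by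
    intro s
    rw [isUnit_iff_ne_zero]
    intro h0
    exact s.2 (hQ ((RingHom.mem_ker).mpr h0))
  letI : Algebra (Localization.AtPrime Q) K' := (IsLocalization.lift hunit).toAlgebra
  haveI : IsScalarTower S (Localization.AtPrime Q) K' :=
    IsScalarTower.of_algebraMap_eq' (IsLocalization.lift_comp hunit).symm
  set 𝔮 : Ideal (Localization.AtPrime Q) := RingHom.ker (algebraMap (Localization.AtPrime Q) K')
    with h𝔮
  haveI : 𝔮.IsPrime := RingHom.ker_isPrime _
  have hf₂ : 𝔮.primeCompl ≤ (IsUnit.submonoid K').comap (Algebra.ofId (Localization.AtPrime Q) K') := by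
    intro x hx
    rw [Submonoid.mem_comap, IsUnit.mem_submonoid_iff, isUnit_iff_ne_zero]
    intro h0
    exact hx ((RingHom.mem_ker).mpr h0)
  let ι : 𝔮.ResidueField →ₐ[Localization.AtPrime Q] K' :=
    Ideal.ResidueField.liftₐ 𝔮 (Algebra.ofId (Localization.AtPrime Q) K') le_rfl hf₂
  have hιinj : Function.Injective ι := (ι : 𝔮.ResidueField →+* K').injective
  have hιsurj : Function.Surjective ι := by
    have hle : Subfield.closure (Set.range (algebraMap S K')) ≤
        (ι : 𝔮.ResidueField →+* K').fieldRange := by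
      rw [Subfield.closure_le]
      rintro _ ⟨s, rfl⟩
      refine ⟨algebraMap (Localization.AtPrime Q) 𝔮.ResidueField (algebraMap S _ s), ?_⟩
      change ι (algebraMap (Localization.AtPrime Q) 𝔮.ResidueField (algebraMap S _ s)) = _
      rw [ι.commutes, ← IsScalarTower.algebraMap_apply]
    rw [hgen, top_le_iff] at hle
    exact (RingHom.fieldRange_eq_top_iff).mp hle
  let e1 : 𝔮.ResidueField ≃ₐ[Localization.AtPrime Q] K' := AlgEquiv.ofBijective ι ⟨hιinj, hιsurj⟩
  let e2 : 𝔮.ResidueField ⊗[Localization.AtPrime Q] EGA4.Cpl (Localization.AtPrime Q) ≃ₐ[Localization.AtPrime Q]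
      K' ⊗[Localization.AtPrime Q] EGA4.Cpl (Localization.AtPrime Q) :=
    Algebra.TensorProduct.congr e1 AlgEquiv.refl
  let e3 : K' ⊗[Localization.AtPrime Q] EGA4.Cpl (Localization.AtPrime Q) ≃ₐ[Localization.AtPrime Q]
      K' ⊗[S] EGA4.Cpl (Localization.AtPrime Q) :=
    IsLocalization.algebraTensorEquiv Q.primeCompl (Localization.AtPrime Q) K' _
  haveI : IsRegularRing (EGA4.formalFibre (Localization.AtPrime Q) 𝔮) := hreg 𝔮
  exact IsRegularRing.of_ringEquiv (R := EGA4.formalFibre (Localization.AtPrime Q) 𝔮)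
    (e2.trans e3).toRingEquiv

end FormalFibre


section Abstract

variable (S : Type u) [CommRing S] (L : Type u) [CommRing L] [Algebra S L]
  (T : Type u) [CommRing T] [Algebra S T]

/-- abstract localization step: if `C ≃ T_𝔐` over `S` and `L ⊗[S] C` is regular, then the local
rings of `L ⊗[S] T` at primes lying over primes contained in `𝔐` are regular. -/
theorem isRegularLocalRing_tensor_atPrime (𝔐 : Ideal T) [𝔐.IsPrime]
    (C : Type u) [CommRing C] [Algebra S C] (e : C ≃ₐ[S] Localization.AtPrime 𝔐)
    [IsRegularRing (L ⊗[S] C)] (P : Ideal (L ⊗[S] T)) [P.IsPrime]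
    (hle : P.comap (Algebra.TensorProduct.includeRight : T →ₐ[S] L ⊗[S] T).toRingHom ≤ 𝔐) :
    IsRegularLocalRing (Localization.AtPrime P) := by
  let M' : Submonoid (L ⊗[S] T) :=
    𝔐.primeCompl.map (Algebra.TensorProduct.includeRight (R := S) (A := L))
  have hdisj : Disjoint (M' : Set (L ⊗[S] T)) (P : Set _) := by
    rw [Set.disjoint_left]
    rintro _ ⟨t, ht, rfl⟩ htP
    exact ht (hle htP)
  let e₁ := IsLocalization.tensorProductEquivOfMapIncludeRight S L 𝔐.primeCompl
    (Localization.AtPrime 𝔐) (Localization M')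
  let e₂ : L ⊗[S] C ≃ₐ[S] L ⊗[S] Localization.AtPrime 𝔐 :=
    Algebra.TensorProduct.congr (AlgEquiv.refl (R := S) (A₁ := L)) e
  haveI : IsRegularRing (Localization M') :=
    IsRegularRing.of_ringEquiv (e₂.toRingEquiv.trans e₁.toRingEquiv)
  exact isRegularLocalRing_atPrime_of_localization M' P hdisj

end Abstract

section Main

variable (S : Type u) [CommRing S] [IsNoetherianRing S]
  (A : Type u) [CommRing A] [IsLocalRing A] [IsNoetherianRing A]
  (B' : Type u) [CommRing B'] [Algebra A B'] [Module.Finite A B'] [Algebra S B']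
  (K' : Type u) [Field K'] [Algebra S K'] [Algebra B' K'] [IsScalarTower S B' K']
  [Algebra A K'] [IsScalarTower A B' K']

/-- If `B'` is a localization of `S` finite over the local ring `A`, `K'` is a field generated by
the image of `S`, and the formal fibres of the local rings of `S` are regular, then `K' ⊗[A] Â`
is regular. -/
theorem isRegularRing_tensor_cpl (M : Submonoid S) [IsLocalization M B']
    (hgen : Subfield.closure (Set.range (algebraMap S K')) = ⊤)
    (hreg : ∀ (Q : Ideal S) [Q.IsPrime] (𝔮 : Ideal (Localization.AtPrime Q)) [𝔮.IsPrime],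
      IsRegularRing (EGA4.formalFibre (Localization.AtPrime Q) 𝔮))
    [IsNoetherianRing (K' ⊗[A] EGA4.Cpl A)] :
    IsRegularRing (K' ⊗[A] EGA4.Cpl A) := by
  classical
  letI := algT S A B'
  obtain ⟨eW⟩ := nonempty_tensor_model_equiv S A B' M K'
  haveI : IsNoetherianRing (K' ⊗[S] (EGA4.Cpl A ⊗[A] B')) :=
    isNoetherianRing_of_ringEquiv _ eW.symm
  suffices h : IsRegularRing (K' ⊗[S] (EGA4.Cpl A ⊗[A] B')) from
    IsRegularRing.of_ringEquiv (R := K' ⊗[S] (EGA4.Cpl A ⊗[A] B')) eW
  rw [isRegularRing_iff]
  intro P hP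
  -- prime of `T` below `P`
  let incl : (EGA4.Cpl A ⊗[A] B') →ₐ[S] K' ⊗[S] (EGA4.Cpl A ⊗[A] B') :=
    Algebra.TensorProduct.includeRight
  set PT : Ideal (EGA4.Cpl A ⊗[A] B') := P.comap incl.toRingHom with hPT
  haveI : PT.IsPrime := Ideal.comap_isPrime _ _
  obtain ⟨𝔐, h𝔐max, hle⟩ := Ideal.exists_le_maximal PT (Ideal.IsPrime.ne_top inferInstance)
  haveI := h𝔐max
  obtain ⟨Q, hQprime, hQ, ⟨e⟩⟩ := exists_model_of_maximal S A B' M 𝔐
  haveI := hQprime
  have hkerQ : RingHom.ker (algebraMap S K') ≤ Q := by
    intro s hs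
    rw [hQ, Ideal.mem_comap]
    apply hle
    change incl (algebraMap S _ s) ∈ P
    rw [AlgHom.commutes, Algebra.TensorProduct.algebraMap_apply, (RingHom.mem_ker).mp hs,
      TensorProduct.zero_tmul]
    exact P.zero_mem
  haveI : IsRegularRing (K' ⊗[S] EGA4.Cpl (Localization.AtPrime Q)) :=
    isRegularRing_tensor_cpl_localization S K' hgen Q hkerQ (hreg Q)
  exact isRegularLocalRing_tensor_atPrime S K' (EGA4.Cpl A ⊗[A] B') 𝔐
    (EGA4.Cpl (Localization.AtPrime Q)) e P hle

end Main

end Groth.Agent.Lib.Helper25.FinFree
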