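import Mathlib
import Groth.Agent.Lib.Helper25.FinFreeA
import Groth.Agent.Lib.Helper25.FinFreeC
import Groth.Agent.Lib.Helper22.GPolyH
import Groth.Agent.Lib.Helper12.AnUnramD
import Groth.Agent.Lib.Helper5.GorFibreA

/-!
# G-rings via finite free algebras (helper25)
-/

set_option autoImplicit false
set_option linter.style.haveILetI false
set_option linter.unusedSectionVars false
universe u

namespace Groth.Agent.Lib.Helper25.FinFree

open TensorProduct IsLocalRing

section Fractions

variable (R : Type u) [CommRing R] (p : Ideal R) [p.IsPrime]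
  (𝔭 : Ideal (Localization.AtPrime p)) [𝔭.IsPrime]

/-- the residue field of a prime of `R_p` consists of fractions of elements of `R`. -/
theorem residueField_fractions (y : 𝔭.ResidueField) :
    ∃ a b : R, algebraMap R 𝔭.ResidueField b ≠ 0 ∧
      y * algebraMap R 𝔭.ResidueField b = algebraMap R 𝔭.ResidueField a := by
  obtain ⟨z, rfl⟩ := IsLocalRing.residue_surjective (R := Localization.AtPrime 𝔭) y
  obtain ⟨a', s', rfl⟩ := IsLocalization.exists_mk'_eq 𝔭.primeCompl z
  obtain ⟨⟨r, u⟩, hru⟩ := IsLocalization.surj p.primeCompl a'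
  obtain ⟨⟨r', u'⟩, hru'⟩ := IsLocalization.surj p.primeCompl (s' : Localization.AtPrime p)
  simp only at hru hru'
  have hK : ∀ x : R, algebraMap R 𝔭.ResidueField x =
      algebraMap (Localization.AtPrime p) 𝔭.ResidueField (algebraMap R (Localization.AtPrime p) x) :=
    fun x => IsScalarTower.algebraMap_apply R (Localization.AtPrime p) 𝔭.ResidueField x
  have hres : ∀ x : Localization.AtPrime p, algebraMap (Localization.AtPrime p) 𝔭.ResidueField x =
      IsLocalRing.residue _ (algebraMap (Localization.AtPrime p) (Localization.AtPrime 𝔭) x) :=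
    fun x => rfl
  have hs'ne : algebraMap (Localization.AtPrime p) 𝔭.ResidueField (s' : Localization.AtPrime p) ≠ 0 := by
    rw [Ne, Ideal.algebraMap_residueField_eq_zero]
    exact s'.2
  have hunit : ∀ v : p.primeCompl, algebraMap (Localization.AtPrime p) 𝔭.ResidueField
      (algebraMap R (Localization.AtPrime p) v) ≠ 0 := by
    intro v
    have hv : IsUnit (algebraMap R (Localization.AtPrime p) v) :=
      IsLocalization.map_units (Localization.AtPrime p) v
    exact (hv.map (algebraMap (Localization.AtPrime p) 𝔭.ResidueField)).ne_zero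
  have hy : IsLocalRing.residue _ (IsLocalization.mk' (Localization.AtPrime 𝔭) a' s') *
      algebraMap (Localization.AtPrime p) 𝔭.ResidueField (s' : Localization.AtPrime p) =
      algebraMap (Localization.AtPrime p) 𝔭.ResidueField a' := by
    rw [hres, hres, ← map_mul, IsLocalization.mk'_spec]
  refine ⟨r * u', r' * u, ?_, ?_⟩
  · rw [hK, map_mul, map_mul, ← hru', map_mul]
    exact mul_ne_zero (mul_ne_zero hs'ne (hunit u')) (hunit u)
  · rw [hK, hK, map_mul, map_mul, map_mul, map_mul, ← hru', ← hru, map_mul, map_mul, ← hy]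
    ring

end Fractions

section Transfer

/-- cancelling the intermediate field -/
theorem isRegularRing_tensor_tensor (A κ K' C : Type u) [CommRing A] [Field κ] [Field K'] [CommRing C]
    [Algebra A κ] [Algebra κ K'] [Algebra A K'] [IsScalarTower A κ K'] [Algebra A C]
    (h : IsRegularRing (K' ⊗[A] C)) : IsRegularRing (K' ⊗[κ] (κ ⊗[A] C)) := by
  let e6 : K' ⊗[κ] (κ ⊗[A] C) ≃ₐ[K'] K' ⊗[A] C :=
    Algebra.TensorProduct.cancelBaseChange A κ K' K' C
  exact IsRegularRing.of_ringEquiv (R := K' ⊗[A] C) e6.symm.toRingEquiv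

end Transfer

section Backward

variable (R : Type u) [CommRing R] [IsNoetherianRing R] (p : Ideal R) [p.IsPrime]
  (𝔭 : Ideal (Localization.AtPrime p)) [𝔭.IsPrime]
  (K' : Type u) [Field K'] [Algebra 𝔭.ResidueField K'] [Module.Finite 𝔭.ResidueField K']

local notation "Ap" => Localization.AtPrime p

set_option maxHeartbeats 800000 in
set_option synthInstance.maxHeartbeats 200000 in
theorem isRegularRing_tensor_fiber
    (H : ∀ (S : Type u) [CommRing S] [Algebra R S] [Module.Finite R S] [Module.Free R S]
        (q : Ideal S) [q.IsPrime] (p : Ideal (Localization.AtPrime q)) [p.IsPrime],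
        IsRegularRing (EGA4.formalFibre (Localization.AtPrime q) p)) :
    IsRegularRing (K' ⊗[𝔭.ResidueField] (𝔭.Fiber (EGA4.Cpl Ap))) := by
  classical
  haveI : IsNoetherianRing Ap := IsLocalization.isNoetherianRing p.primeCompl Ap inferInstance
  haveI : IsNoetherianRing (EGA4.Cpl Ap) := Groth.Agent.Lib.Helper12.AnUnram.isNoetherianRing_cpl Ap
  -- algebra structures on `K'`
  letI : Algebra Ap K' :=
    ((algebraMap 𝔭.ResidueField K').comp (algebraMap Ap 𝔭.ResidueField)).toAlgebra
  haveI : IsScalarTower Ap 𝔭.ResidueField K' := IsScalarTower.of_algebraMap_eq' rfl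
  letI : Algebra R K' := ((algebraMap Ap K').comp (algebraMap R Ap)).toAlgebra
  haveI : IsScalarTower R Ap K' := IsScalarTower.of_algebraMap_eq' rfl
  haveI : IsScalarTower R 𝔭.ResidueField K' := IsScalarTower.of_algebraMap_eq' (by
    ext r
    change algebraMap 𝔭.ResidueField K' (algebraMap Ap 𝔭.ResidueField (algebraMap R Ap r)) = _
    rw [RingHom.comp_apply, ← IsScalarTower.algebraMap_apply R Ap 𝔭.ResidueField])
  obtain ⟨S, _, _, _, _, φ, hφ⟩ := exists_model R 𝔭.ResidueField K'
    (residueField_fractions R p 𝔭)
  letI : Algebra S K' := φ.toRingHom.toAlgebra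
  haveI : IsScalarTower R S K' := IsScalarTower.of_algebraMap_eq' (by
    ext r
    exact (φ.commutes r).symm)
  haveI : IsNoetherianRing S := IsNoetherianRing.of_finite R S
  -- the semi-local ring `B'`
  have hunits : ∀ s : Algebra.algebraMapSubmonoid S p.primeCompl, IsUnit (algebraMap S K' s) := by
    rintro ⟨_, r, hr, rfl⟩
    change IsUnit (algebraMap S K' (algebraMap R S r))
    rw [← IsScalarTower.algebraMap_apply R S K', IsScalarTower.algebraMap_apply R Ap K']
    exact (IsLocalization.map_units Ap (⟨r, hr⟩ : p.primeCompl)).map _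
  letI : Algebra (Localization (Algebra.algebraMapSubmonoid S p.primeCompl)) K' :=
    (IsLocalization.lift hunits).toAlgebra
  haveI : IsScalarTower S (Localization (Algebra.algebraMapSubmonoid S p.primeCompl)) K' :=
    IsScalarTower.of_algebraMap_eq' (IsLocalization.lift_comp hunits).symm
  haveI : IsScalarTower Ap (Localization (Algebra.algebraMapSubmonoid S p.primeCompl)) K' :=
    IsScalarTower.of_algebraMap_eq' (by
    apply IsLocalization.ringHom_ext p.primeCompl
    ext r
    change algebraMap Ap K' (algebraMap R Ap r) =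
      algebraMap (Localization (Algebra.algebraMapSubmonoid S p.primeCompl)) K'
        (algebraMap Ap (Localization (Algebra.algebraMapSubmonoid S p.primeCompl)) (algebraMap R Ap r))
    rw [← IsScalarTower.algebraMap_apply R Ap (Localization (Algebra.algebraMapSubmonoid S p.primeCompl)),
      IsScalarTower.algebraMap_apply R S (Localization (Algebra.algebraMapSubmonoid S p.primeCompl)),
      ← IsScalarTower.algebraMap_apply S (Localization (Algebra.algebraMapSubmonoid S p.primeCompl)) K',
      ← IsScalarTower.algebraMap_apply R S K',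
      ← IsScalarTower.algebraMap_apply R Ap K'])
  have hgen : Subfield.closure (Set.range (algebraMap S K')) = ⊤ := hφ
  -- Noetherianity of `K' ⊗[A] Â`
  haveI : IsNoetherianRing (K' ⊗[Ap] EGA4.Cpl Ap) := by
    haveI : Algebra.EssFiniteType Ap 𝔭.ResidueField := inferInstance
    haveI : Algebra.EssFiniteType 𝔭.ResidueField K' := inferInstance
    haveI : Algebra.EssFiniteType Ap K' := Algebra.EssFiniteType.comp Ap 𝔭.ResidueField K'
    haveI : Algebra.EssFiniteType (EGA4.Cpl Ap) (EGA4.Cpl Ap ⊗[Ap] K') := inferInstance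
    haveI : IsNoetherianRing (EGA4.Cpl Ap ⊗[Ap] K') :=
      Algebra.EssFiniteType.isNoetherianRing (EGA4.Cpl Ap) (EGA4.Cpl Ap ⊗[Ap] K')
    exact isNoetherianRing_of_ringEquiv _
      (Algebra.TensorProduct.comm Ap (EGA4.Cpl Ap) K').toRingEquiv
  have hmain : IsRegularRing (K' ⊗[Ap] EGA4.Cpl Ap) :=
    isRegularRing_tensor_cpl S Ap (Localization (Algebra.algebraMapSubmonoid S p.primeCompl)) K'
      (Algebra.algebraMapSubmonoid S p.primeCompl) hgen (fun Q _ 𝔮 _ => H S Q 𝔮)
  exact isRegularRing_tensor_tensor Ap 𝔭.ResidueField K' (EGA4.Cpl Ap) hmain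

end Backward

section Backward2

variable (R : Type u) [CommRing R] [IsNoetherianRing R]

/-- the converse direction: regular formal fibres of all finite free algebras imply G-ring -/
theorem isGRing_of_finite_free
    (H : ∀ (S : Type u) [CommRing S] [Algebra R S] [Module.Finite R S] [Module.Free R S]
        (q : Ideal S) [q.IsPrime] (p : Ideal (Localization.AtPrime q)) [p.IsPrime],
        IsRegularRing (EGA4.formalFibre (Localization.AtPrime q) p)) :
    CAlg.IsGRing R := by
  classical
  refine ⟨inferInstance, fun p hp => ?_⟩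
  haveI : IsNoetherianRing (Localization.AtPrime p) :=
    IsLocalization.isNoetherianRing p.primeCompl _ inferInstance
  haveI : IsNoetherianRing (EGA4.Cpl (Localization.AtPrime p)) :=
    Groth.Agent.Lib.Helper12.AnUnram.isNoetherianRing_cpl _
  haveI : Module.FaithfullyFlat (Localization.AtPrime p) (EGA4.Cpl (Localization.AtPrime p)) :=
    Groth.Agent.Lib.Helper12.AnUnram.faithfullyFlat_cpl _
  refine ⟨inferInstance, fun 𝔭 h𝔭 => ⟨?_, ?_⟩⟩
  · exact Groth.Agent.Lib.Helper5.GorFibre.isNoetherianRing_fiber (Localization.AtPrime p)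
      (EGA4.Cpl (Localization.AtPrime p)) 𝔭
  intro K' _ _ hfin
  haveI := hfin
  exact isRegularRing_tensor_fiber R p 𝔭 K' H

end Backward2

section Forward

variable (R : Type u) [CommRing R]

/-- the direct direction -/
theorem regular_formalFibre_of_isGRing (hR : CAlg.IsGRing R)
    (S : Type u) [CommRing S] [Algebra R S] [Module.Finite R S]
    (q : Ideal S) [q.IsPrime] (p : Ideal (Localization.AtPrime q)) [p.IsPrime] :
    IsRegularRing (EGA4.formalFibre (Localization.AtPrime q) p) := by
  haveI : Algebra.FiniteType R S := inferInstance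
  have hS : CAlg.IsGRing S := Groth.Agent.Lib.Helper22.GRing.isGRing_of_finiteType R hR S
  obtain ⟨-, hgr⟩ := (hS.2 q).2 p
  have h1 : IsRegularRing (p.ResidueField ⊗[p.ResidueField]
      (p.Fiber (EGA4.Cpl (Localization.AtPrime q)))) :=
    hgr p.ResidueField (Module.Finite.self _)
  exact IsRegularRing.of_ringEquiv
    (R := p.ResidueField ⊗[p.ResidueField] (p.Fiber (EGA4.Cpl (Localization.AtPrime q))))
    (Algebra.TensorProduct.lid p.ResidueField _).toRingEquiv

end Forward

end Groth.Agent.Lib.Helper25.FinFree
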