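import Mathlib
import Groth.Agent.S4787
import Groth.Agent.Lib.Helper9.FlatLim
import Groth.Agent.Lib.Helper20.SubtrPC

/-!
# Closures of preimages of pro-constructible sets under flat morphisms, and limits (EGA IV 8.3.x)
(helper25)
-/

set_option autoImplicit false
set_option linter.unusedSectionVars false
set_option linter.unusedVariables false
set_option linter.style.haveILetI false
universe u

open CategoryTheory CategoryTheory.Limits AlgebraicGeometry Topology Set

namespace Groth.Agent.Lib.Helper25.FlatClosure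

open Groth.Agent.Lib.Helper25.PC Groth.Agent.Lib.Helper20.SubtrPC

/-- EGA IV 2.3.10: for a flat morphism, taking preimages commutes with closures of
pro-constructible sets -/
theorem preimage_closure_eq {X Y : Scheme.{u}} (f : X ⟶ Y) [Flat f] {Z : Set Y}
    (hZ : ProCons.IsProConstructible Z) : f ⁻¹' closure Z = closure (f ⁻¹' Z) := by
  apply Subset.antisymm
  · intro x hx
    obtain ⟨z, hzZ, hzx⟩ := exists_specializes_of_proC ((isPro_iff Y).mp hZ) hx
    obtain ⟨x', hx'x, hfx'⟩ := Flat.generalizingMap (f := f) hzx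
    have hx'mem : x' ∈ f ⁻¹' Z := by
      show f x' ∈ Z
      rw [hfx']; exact hzZ
    exact hx'x.mem_closed isClosed_closure (subset_closure hx'mem)
  · exact f.continuous.closure_preimage_subset Z

section Lim

variable {I : Type u} [SmallCategory I] [IsCofiltered I]
  (D : I ⥤ Scheme.{u}) (c : Limits.Cone D) (hc : Limits.IsLimit c)
  [∀ (i j : I) (f : i ⟶ j), IsAffineHom (D.map f)] (i₁ : I) [CompactSpace (D.obj i₁)]

include hc in
set_option maxHeartbeats 1000000 in
theorem main (hfl : ∀ (i j : I) (φ : i ⟶ j), Flat (D.map φ))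
    (Z' Z'' : Set (D.obj i₁)) (hZ' : ProCons.IsProConstructible Z')
    (hZ'' : ProCons.IsProConstructible Z'')
    (hcl : Topology.IsConstructible (closure Z')) :
    (⇑(c.π.app i₁) ⁻¹' Z'' : Set c.pt) ⊆ closure (⇑(c.π.app i₁) ⁻¹' Z' : Set c.pt) ↔
      ∃ (j : I) (φ : j ⟶ i₁), ⇑(D.map φ) ⁻¹' Z'' ⊆ closure (⇑(D.map φ) ⁻¹' Z') := by
  haveI : ∀ {i j : I} (f : i ⟶ j), IsAffineHom (D.map f) := fun f => inferInstance
  haveI : Flat (c.π.app i₁) :=
    Groth.Agent.Lib.Helper9.FlatLim.flat_π D c hc i₁ (fun j φ => hfl j i₁ φ)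
  rw [← preimage_closure_eq (c.π.app i₁) hZ']
  constructor
  · intro h
    let D' : Over i₁ ⥤ Scheme.{u} := Over.forget i₁ ⋙ D
    let c' : Limits.Cone D' := c.whisker (Over.forget i₁)
    have hc' : Limits.IsLimit c' :=
      (Functor.Initial.isLimitWhiskerEquiv (Over.forget i₁) c).symm hc
    haveI : ∀ (a b : Over i₁) (f : a ⟶ b), IsAffineHom (D'.map f) := fun a b f => by
      dsimp [D']; infer_instance
    haveI : CompactSpace (D'.obj (Over.mk (𝟙 i₁))) := ‹CompactSpace (D.obj i₁)›
    have hmap : ∀ (a b : Over i₁) (ψ : a ⟶ b) (x : D.obj a.left),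
        (D.map b.hom) ((D.map ψ.left) x) = (D.map a.hom) x := by
      intro a b ψ x
      rw [← Scheme.Hom.comp_apply, ← D.map_comp, Over.w ψ]
    have hW : IndC (closure Z') :=
      ((isLocallyConstructible_iff (locSpectral _)).mp hcl.isLocallyConstructible).1
    have key := (Groth.Agent.S4787.result D' c' hc' (Over.mk (𝟙 i₁))
      (fun a => ⇑(D.map a.hom) ⁻¹' Z'') (fun a => ⇑(D.map a.hom) ⁻¹' closure Z')
      (fun a => (isPro_iff _).mpr (ProC.preimage (D.map a.hom) ((isPro_iff _).mp hZ'')))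
      (fun a => (isInd_iff _).mpr (IndC.preimage (D.map a.hom) hW))
      (fun a b ψ x hx => by
        have h1 : (D.map a.hom) x ∈ Z'' := hx
        have h2 : (D.map b.hom) ((D.map ψ.left) x) ∈ Z'' := by rw [hmap a b ψ x]; exact h1
        exact h2)
      (fun a b ψ x hx => by
        have h1 : (D.map b.hom) ((D.map ψ.left) x) ∈ closure Z' := hx
        have h2 : (D.map a.hom) x ∈ closure Z' := by rw [← hmap a b ψ x]; exact h1
        exact h2)).mp ?_
    · obtain ⟨a, _, H⟩ := key
      refine ⟨a.left, a.hom, ?_⟩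
      haveI := hfl a.left i₁ a.hom
      rw [← preimage_closure_eq (D.map a.hom) hZ']
      exact H a (𝟙 a)
    · intro x hx
      rw [Set.mem_iInter] at hx
      have h1 := hx (Over.mk (𝟙 i₁))
      have h2 : (c.π.app i₁) x ∈ Z'' := by
        change (D.map (𝟙 i₁)) ((c.π.app i₁) x) ∈ Z'' at h1
        rw [D.map_id] at h1
        exact h1
      have h3 := h h2
      rw [Set.mem_iUnion]
      refine ⟨Over.mk (𝟙 i₁), ?_⟩
      change (D.map (𝟙 i₁)) ((c.π.app i₁) x) ∈ closure Z'
      rw [D.map_id]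
      exact h3
  · rintro ⟨j, φ, hj⟩
    haveI := hfl j i₁ φ
    rw [← preimage_closure_eq (D.map φ) hZ'] at hj
    intro x hx
    have hw : c.π.app j ≫ D.map φ = c.π.app i₁ := c.w φ
    have h1 : (c.π.app j) x ∈ ⇑(D.map φ) ⁻¹' Z'' := by
      change (D.map φ) ((c.π.app j) x) ∈ Z''
      rw [← Scheme.Hom.comp_apply, hw]
      exact hx
    have h2 := hj h1
    change (D.map φ) ((c.π.app j) x) ∈ closure Z' at h2
    rw [← Scheme.Hom.comp_apply, hw] at h2
    exact h2

end Lim

end Groth.Agent.Lib.Helper25.FlatClosure
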