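import Mathlib
import Groth.Agent.Lib.Helper1.FlatPullback

/-!
# helper25 — StalkDescent: the pullback functors along a jointly surjective family of flat morphisms jointly
reflect isomorphisms, monomorphisms and epimorphisms, and are jointly faithful (descent of properties of morphisms
of modules for the fpqc topology, quasi-compactness not needed).
-/

set_option autoImplicit false
set_option linter.unusedVariables false
set_option linter.style.haveILetI false
universe u
open AlgebraicGeometry CategoryTheory Limits Opposite

namespace Groth.Agent.Lib.Helper25.StalkDescent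

open Groth.Agent.Lib.Helper16.Stk

/-- the stalk maps of a flat morphism are faithfully flat -/
theorem faithfullyFlat_stalkMap {X Y : Scheme.{u}} (f : X ⟶ Y) [Flat f] (x : X) :
    (φs f x).FaithfullyFlat := by
  unfold φs
  algebraize [(f.stalkMap x).hom]
  exact @Module.FaithfullyFlat.of_flat_of_isLocalHom _ _ _ _ _ _ _
    (Flat.stalkMap f x) (f.toLRSHom.prop x)

/-- the stalk functors jointly reflect isomorphisms -/
theorem stk_jointlyReflectIsomorphisms (Y : Scheme.{u}) :
    JointlyReflectIsomorphisms (fun y : Y => (stk y : Y.Modules ⥤ _)) where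
  isIso {M N} f h := by
    haveI : Mono f := mono_of_forall_stalk f fun y => by
      haveI := h y
      infer_instance
    haveI : Epi f := epi_of_forall_stalk f fun y => by
      haveI := h y
      infer_instance
    exact isIso_of_mono_of_epi f

variable {Y : Scheme.{u}} {ι : Type*} (Y' : ι → Scheme.{u}) (g : ∀ i, Y' i ⟶ Y)

/-- **the pullbacks along a flat jointly surjective family jointly reflect isomorphisms** -/
theorem pullback_jointlyReflectIsomorphisms [∀ i, Flat (g i)]
    (hsurj : ∀ y : Y, ∃ i, y ∈ Set.range (g i)) :
    JointlyReflectIsomorphisms (fun i => Scheme.Modules.pullback (g i)) where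
  isIso {M N} f h := by
    haveI : ∀ y : Y, IsIso ((stk y).map f) := by
      intro y
      obtain ⟨i, x, rfl⟩ := hsurj y
      haveI := h i
      have h1 : IsIso ((Scheme.Modules.pullback (g i) ⋙ stk x).map f) := by
        change IsIso ((stk x).map ((Scheme.Modules.pullback (g i)).map f))
        infer_instance
      have h2 := (NatIso.isIso_map_iff (pullbackStkIso (g i) x) f).1 h1
      haveI := ModuleCat.reflectsIsomorphisms_extendScalars_of_faithfullyFlat.{u}
        (faithfullyFlat_stalkMap (g i) x)
      haveI : IsIso ((ModuleCat.extendScalars.{u, u, u} (φs (g i) x)).map ((stk (g i x)).map f)) := h2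
      exact isIso_of_reflects_iso _ (ModuleCat.extendScalars.{u, u, u} (φs (g i) x))
    exact (stk_jointlyReflectIsomorphisms Y).isIso f

theorem pullback_jointlyFaithful [∀ i, Flat (g i)] (hsurj : ∀ y : Y, ∃ i, y ∈ Set.range (g i)) :
    JointlyFaithful (fun i => Scheme.Modules.pullback (g i)) :=
  (pullback_jointlyReflectIsomorphisms Y' g hsurj).jointlyFaithful

theorem pullback_jointlyReflectMonomorphisms [∀ i, Flat (g i)]
    (hsurj : ∀ y : Y, ∃ i, y ∈ Set.range (g i)) :
    JointlyReflectMonomorphisms (fun i => Scheme.Modules.pullback (g i)) :=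
  (pullback_jointlyFaithful Y' g hsurj).jointlyReflectMonomorphisms

theorem pullback_jointlyReflectEpimorphisms [∀ i, Flat (g i)]
    (hsurj : ∀ y : Y, ∃ i, y ∈ Set.range (g i)) :
    JointlyReflectEpimorphisms (fun i => Scheme.Modules.pullback (g i)) :=
  (pullback_jointlyFaithful Y' g hsurj).jointlyReflectEpimorphisms

end Groth.Agent.Lib.Helper25.StalkDescent
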