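import Mathlib
import Groth.Agent.Lib.Helper17.FibreStalk
import Groth.Agent.Lib.Helper17.FlatTensor
import Groth.Agent.Lib.Helper25.StalkDescent

/-!
# helper25 — FlatDescPt: descent of pointwise flatness of a module along a flat base change.
-/

set_option backward.isDefEq.respectTransparency.types false
set_option autoImplicit false
set_option linter.unusedVariables false
set_option linter.style.haveILetI false
universe u
open AlgebraicGeometry CategoryTheory Limits TensorProduct

namespace Groth.Agent.Lib.Helper25.FlatDescPt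

open Groth.Agent.Lib.Helper17.ModStalk Groth.Agent.Lib.Helper17.FibreStalk in
/-- **Descent of flatness at a point along a flat base change** (EGA IV 2.2.11 (iii) pointwise): in a pullback
square with `g` flat, if `g'^* F` is flat over `S'` at `x'` then `F` is flat over `S` at `g' x'`. -/
theorem isFlatOverAt_of_baseChange {X S X' S' : Scheme.{u}} (f : X ⟶ S) (f' : X' ⟶ S') (g' : X' ⟶ X)
    (g : S' ⟶ S) (hc : IsPullback g' f' f g) [Flat g] (F : X.Modules) [F.IsQuasicoherent] (x' : X')
    (h : FlatMod.IsFlatOverAt f' ((Scheme.Modules.pullback g').obj F) x') :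
    FlatMod.IsFlatOverAt f F (g' x') := by
  haveI : Flat g' := MorphismProperty.of_isPullback (P := @Flat) hc.flip inferInstance
  obtain ⟨US, UX, UT, hUSX, hUST, hUS, hUX, hUT, hUY, hxUX, hxUT, hpo⟩ := exists_affine_chart hc x'
  set UY := g' ⁻¹ᵁ UX ⊓ f' ⁻¹ᵁ UT with hUYdef
  have hxUY : x' ∈ UY := ⟨hxUX, hxUT⟩
  have hsUS : f (g' x') ∈ US := hUSX hxUX
  obtain ⟨e⟩ := nonempty_linearEquiv_stalk_pullback g' F x'
  -- rings
  letI algRA : Algebra Γ(S, US) Γ(X, UX) := (f.appLE US UX hUSX).hom.toAlgebra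
  letI algRB : Algebra Γ(S, US) Γ(S', UT) := (g.appLE US UT hUST).hom.toAlgebra
  letI algAC : Algebra Γ(X, UX) Γ(X', UY) := (g'.appLE UX UY inf_le_left).hom.toAlgebra
  letI algBC : Algebra Γ(S', UT) Γ(X', UY) := (f'.appLE UT UY inf_le_right).hom.toAlgebra
  letI algRC : Algebra Γ(S, US) Γ(X', UY) :=
    ((algebraMap Γ(X, UX) Γ(X', UY)).comp (algebraMap Γ(S, US) Γ(X, UX))).toAlgebra
  haveI : IsScalarTower Γ(S, US) Γ(X, UX) Γ(X', UY) := IsScalarTower.of_algebraMap_eq (fun _ => rfl)
  haveI : IsScalarTower Γ(S, US) Γ(S', UT) Γ(X', UY) := by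
    refine IsScalarTower.of_algebraMap_eq' ?_
    exact congrArg CommRingCat.Hom.hom hpo.w
  -- `R → R'` is flat
  haveI hRR' : Module.Flat Γ(S, US) Γ(S', UT) := by
    have := HasRingHomProperty.appLE (P := @Flat) g inferInstance ⟨US, hUS⟩ ⟨UT, hUT⟩ hUST
    exact this
  -- stalk rings
  letI algAAp : Algebra Γ(X, UX) (X.presheaf.stalk (g' x')) := (X.presheaf.germ UX (g' x') hxUX).hom.toAlgebra
  letI algCCp : Algebra Γ(X', UY) (X'.presheaf.stalk x') := (X'.presheaf.germ UY x' hxUY).hom.toAlgebra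
  letI algApCp : Algebra (X.presheaf.stalk (g' x')) (X'.presheaf.stalk x') := (g'.stalkMap x').hom.toAlgebra
  letI algACp : Algebra Γ(X, UX) (X'.presheaf.stalk x') :=
    ((algebraMap Γ(X', UY) (X'.presheaf.stalk x')).comp (algebraMap Γ(X, UX) Γ(X', UY))).toAlgebra
  letI algBCp : Algebra Γ(S', UT) (X'.presheaf.stalk x') :=
    ((algebraMap Γ(X', UY) (X'.presheaf.stalk x')).comp (algebraMap Γ(S', UT) Γ(X', UY))).toAlgebra
  letI algRCp : Algebra Γ(S, US) (X'.presheaf.stalk x') :=
    ((algebraMap Γ(X', UY) (X'.presheaf.stalk x')).comp (algebraMap Γ(S, US) Γ(X', UY))).toAlgebra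
  letI algRAp : Algebra Γ(S, US) (X.presheaf.stalk (g' x')) :=
    ((algebraMap Γ(X, UX) (X.presheaf.stalk (g' x'))).comp (algebraMap Γ(S, US) Γ(X, UX))).toAlgebra
  haveI : IsScalarTower Γ(X, UX) Γ(X', UY) (X'.presheaf.stalk x') := IsScalarTower.of_algebraMap_eq (fun _ => rfl)
  haveI : IsScalarTower Γ(S', UT) Γ(X', UY) (X'.presheaf.stalk x') := IsScalarTower.of_algebraMap_eq (fun _ => rfl)
  haveI : IsScalarTower Γ(S, US) Γ(X', UY) (X'.presheaf.stalk x') := IsScalarTower.of_algebraMap_eq (fun _ => rfl)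
  haveI : IsScalarTower Γ(S, US) Γ(X, UX) (X.presheaf.stalk (g' x')) := IsScalarTower.of_algebraMap_eq (fun _ => rfl)
  haveI : IsScalarTower Γ(X, UX) (X.presheaf.stalk (g' x')) (X'.presheaf.stalk x') := by
    refine IsScalarTower.of_algebraMap_eq (fun a => ?_)
    change X'.presheaf.germ UY x' hxUY (g'.appLE UX UY inf_le_left a) =
      g'.stalkMap x' (X.presheaf.germ UX (g' x') hxUX a)
    rw [Scheme.Hom.germ_stalkMap_apply, Scheme.Hom.appLE]
    exact (TopCat.Presheaf.germ_res_apply X'.presheaf (homOfLE inf_le_left) x' hxUY _)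
  haveI : IsScalarTower Γ(S, US) Γ(S', UT) (X'.presheaf.stalk x') := by
    refine IsScalarTower.of_algebraMap_eq (fun r => ?_)
    change algebraMap Γ(X', UY) (X'.presheaf.stalk x') (algebraMap Γ(S, US) Γ(X', UY) r) =
      algebraMap Γ(X', UY) (X'.presheaf.stalk x') (algebraMap Γ(S', UT) Γ(X', UY) (algebraMap Γ(S, US) Γ(S', UT) r))
    rw [← IsScalarTower.algebraMap_apply Γ(S, US) Γ(S', UT) Γ(X', UY)]
  haveI : IsScalarTower Γ(S, US) (X.presheaf.stalk (g' x')) (X'.presheaf.stalk x') := by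
    refine IsScalarTower.of_algebraMap_eq (fun r => ?_)
    change algebraMap Γ(X', UY) (X'.presheaf.stalk x') (algebraMap Γ(X, UX) Γ(X', UY) (algebraMap Γ(S, US) Γ(X, UX) r)) =
      algebraMap (X.presheaf.stalk (g' x')) (X'.presheaf.stalk x')
        (algebraMap Γ(X, UX) (X.presheaf.stalk (g' x')) (algebraMap Γ(S, US) Γ(X, UX) r))
    rw [← IsScalarTower.algebraMap_apply Γ(X, UX) Γ(X', UY) (X'.presheaf.stalk x'),
      ← IsScalarTower.algebraMap_apply Γ(X, UX) (X.presheaf.stalk (g' x')) (X'.presheaf.stalk x')]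
  -- faithful flatness of `B → B'`
  haveI hff : Module.FaithfullyFlat (X.presheaf.stalk (g' x')) (X'.presheaf.stalk x') :=
    Groth.Agent.Lib.Helper25.StalkDescent.faithfullyFlat_stalkMap g' x'
  -- the module Np = F_x
  letI mA : Module Γ(X, UX) (F.presheaf.stalk (g' x')) := moduleStalkSections F UX (g' x') hxUX
  haveI : IsScalarTower Γ(X, UX) (X.presheaf.stalk (g' x')) (F.presheaf.stalk (g' x')) :=
    IsScalarTower.of_compHom _ _ _
  letI mR : Module Γ(S, US) (F.presheaf.stalk (g' x')) :=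
    Module.compHom (F.presheaf.stalk (g' x')) (algebraMap Γ(S, US) (X.presheaf.stalk (g' x')))
  haveI : IsScalarTower Γ(S, US) (X.presheaf.stalk (g' x')) (F.presheaf.stalk (g' x')) :=
    IsScalarTower.of_compHom _ _ _
  -- the stalk of the pullback
  letI mB' : Module Γ(S', UT) (((Scheme.Modules.pullback g').obj F).presheaf.stalk x') :=
    Module.compHom _ (algebraMap Γ(S', UT) (X'.presheaf.stalk x'))
  haveI : IsScalarTower Γ(S', UT) (X'.presheaf.stalk x') (((Scheme.Modules.pullback g').obj F).presheaf.stalk x') :=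
    IsScalarTower.of_compHom _ _ _
  letI mR' : Module Γ(S, US) (((Scheme.Modules.pullback g').obj F).presheaf.stalk x') :=
    Module.compHom _ (algebraMap Γ(S, US) (X'.presheaf.stalk x'))
  haveI : IsScalarTower Γ(S, US) (X'.presheaf.stalk x') (((Scheme.Modules.pullback g').obj F).presheaf.stalk x') :=
    IsScalarTower.of_compHom _ _ _
  haveI : IsScalarTower Γ(S, US) Γ(S', UT) (((Scheme.Modules.pullback g').obj F).presheaf.stalk x') := by
    refine ⟨fun r t n => ?_⟩
    change algebraMap Γ(S', UT) (X'.presheaf.stalk x') (r • t) • n =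
      algebraMap Γ(S, US) (X'.presheaf.stalk x') r • (algebraMap Γ(S', UT) (X'.presheaf.stalk x') t • n)
    rw [Algebra.smul_def, map_mul, mul_smul,
      ← IsScalarTower.algebraMap_apply Γ(S, US) Γ(S', UT) (X'.presheaf.stalk x')]
  -- flatness over `R'`
  have hB' : Module.Flat Γ(S', UT) (((Scheme.Modules.pullback g').obj F).presheaf.stalk x') := by
    letI algBBq : Algebra Γ(S', UT) (S'.presheaf.stalk (f' x')) :=
      (S'.presheaf.germ UT (f' x') hxUT).hom.toAlgebra
    haveI : IsLocalization (hUT.primeIdealOf ⟨f' x', hxUT⟩).asIdeal.primeCompl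
        (S'.presheaf.stalk (f' x')) := hUT.isLocalization_stalk ⟨f' x', hxUT⟩
    letI mBq : Module (S'.presheaf.stalk (f' x')) (((Scheme.Modules.pullback g').obj F).presheaf.stalk x') :=
      FlatMod.moduleStalkOver f' ((Scheme.Modules.pullback g').obj F) x'
    haveI : IsScalarTower Γ(S', UT) (S'.presheaf.stalk (f' x'))
        (((Scheme.Modules.pullback g').obj F).presheaf.stalk x') := by
      refine ⟨fun r t n => ?_⟩
      change (f'.stalkMap x').hom (r • t) • n =
        X'.presheaf.germ UY x' hxUY (f'.appLE UT UY inf_le_right r) • ((f'.stalkMap x').hom t • n)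
      rw [Algebra.smul_def, map_mul, mul_smul]
      congr 1
      change (f'.stalkMap x') (S'.presheaf.germ UT (f' x') hxUT r) = _
      rw [Scheme.Hom.germ_stalkMap_apply, Scheme.Hom.appLE]
      exact (TopCat.Presheaf.germ_res_apply X'.presheaf (homOfLE inf_le_right) x' hxUY _).symm
    exact (Module.flat_iff_of_isLocalization (S'.presheaf.stalk (f' x'))
      (hUT.primeIdealOf ⟨f' x', hxUT⟩).asIdeal.primeCompl
      (((Scheme.Modules.pullback g').obj F).presheaf.stalk x')).1 h
  -- flatness over `R`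
  have hR' : Module.Flat Γ(S, US) (((Scheme.Modules.pullback g').obj F).presheaf.stalk x') :=
    Module.Flat.trans Γ(S, US) Γ(S', UT) _
  have hT : Module.Flat Γ(S, US)
      ((X'.presheaf.stalk x') ⊗[X.presheaf.stalk (g' x')] (F.presheaf.stalk (g' x'))) :=
    Module.Flat.of_linearEquiv (e.symm.restrictScalars Γ(S, US))
  have hR : Module.Flat Γ(S, US) (F.presheaf.stalk (g' x')) :=
    Groth.Agent.Lib.Helper17.FlatTensor.flat_of_flat_tensor (C := Γ(S, US)) (B := X.presheaf.stalk (g' x'))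
      (A := X'.presheaf.stalk x') (F.presheaf.stalk (g' x')) hT
  -- pass to the stalk of `S`
  letI algRRr : Algebra Γ(S, US) (S.presheaf.stalk (f (g' x'))) :=
    (S.presheaf.germ US (f (g' x')) hsUS).hom.toAlgebra
  haveI : IsLocalization (hUS.primeIdealOf ⟨f (g' x'), hsUS⟩).asIdeal.primeCompl
      (S.presheaf.stalk (f (g' x'))) := hUS.isLocalization_stalk ⟨f (g' x'), hsUS⟩
  letI mRr : Module (S.presheaf.stalk (f (g' x'))) (F.presheaf.stalk (g' x')) :=
    FlatMod.moduleStalkOver f F (g' x')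
  haveI : IsScalarTower Γ(S, US) (S.presheaf.stalk (f (g' x'))) (F.presheaf.stalk (g' x')) := by
    refine ⟨fun r t n => ?_⟩
    change (f.stalkMap (g' x')).hom (r • t) • n = X.presheaf.germ UX (g' x') hxUX (f.appLE US UX hUSX r) •
      ((f.stalkMap (g' x')).hom t • n)
    rw [Algebra.smul_def, map_mul, mul_smul]
    congr 1
    change (f.stalkMap (g' x')) (S.presheaf.germ US (f (g' x')) hsUS r) = _
    rw [Scheme.Hom.germ_stalkMap_apply, Scheme.Hom.appLE]
    exact (TopCat.Presheaf.germ_res_apply X.presheaf (homOfLE hUSX) (g' x') hxUX _).symm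
  exact (Module.flat_iff_of_isLocalization (S.presheaf.stalk (f (g' x')))
    (hUS.primeIdealOf ⟨f (g' x'), hsUS⟩).asIdeal.primeCompl (F.presheaf.stalk (g' x'))).2 hR

end Groth.Agent.Lib.Helper25.FlatDescPt
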