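import Mathlib
import Groth.Agent.Lib.Helper21.FlatDescG

/-!
# Helper25 — FlatFibreStage: descent of flatness along the fibre over an ideal to a finitely
generated subalgebra stage (polynomial family `A ↦ A[X₁..Xₙ] ⊗_{R₀[X]} M₀`), and passage to the
localization of the stage.
-/

set_option autoImplicit false
set_option synthInstance.maxHeartbeats 200000
set_option linter.style.haveILetI false
set_option linter.unusedSectionVars false

namespace Groth.Agent.Lib.Helper25.FlatFibreStage

open TensorProduct Function MvPolynomial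
open Groth.Agent.Lib.Helper21 Groth.Agent.Lib.Helper21.FlatDesc

attribute [local instance] MvPolynomial.algebraMvPolynomial

universe u

section Core

variable {R₀ : Type u} [CommRing R₀] {n : ℕ}
  (M₀ : Type u) [AddCommGroup M₀] [Module (MvPolynomial (Fin n) R₀) M₀] [Module R₀ M₀]
  [IsScalarTower R₀ (MvPolynomial (Fin n) R₀) M₀]

variable [IsNoetherianRing R₀] [Module.Finite (MvPolynomial (Fin n) R₀) M₀]

set_option maxHeartbeats 1600000 in
/-- if `A[X] ⊗ M₀` is `A`-flat at all the primes of `A[X]` containing `𝔪 A[X]`, then the same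
holds over a finitely generated subalgebra `A''` (for the ideal `𝔪 ∩ A''`). -/
theorem exists_fg_flat_over_ideal (A : Type u) [CommRing A] [Algebra R₀ A] (𝔪 : Ideal A)
    (H : ∀ (Q : Ideal (MvPolynomial (Fin n) A)) [Q.IsPrime], Ideal.map C 𝔪 ≤ Q →
      Module.Flat A (LocalizedModule Q.primeCompl (St R₀ n M₀ A))) :
    ∃ A'' : Subalgebra R₀ A, A''.FG ∧
      ∀ (Q'' : Ideal (MvPolynomial (Fin n) A'')) [Q''.IsPrime],
        Ideal.map C (𝔪.comap (algebraMap A'' A)) ≤ Q'' →
        Module.Flat A'' (LocalizedModule Q''.primeCompl (St R₀ n M₀ A'')) := by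
  classical
  -- local data at every prime over `𝔪`
  have hloc : ∀ q : {q : PrimeSpectrum (MvPolynomial (Fin n) A) // Ideal.map C 𝔪 ≤ q.asIdeal},
      ∃ (A' : Subalgebra R₀ A) (g : MvPolynomial (Fin n) A'), A'.FG ∧
      algebraMap (MvPolynomial (Fin n) A') (MvPolynomial (Fin n) A) g ∉ q.1.asIdeal ∧
      ∀ (Q' : Ideal (MvPolynomial (Fin n) A')) [Q'.IsPrime], g ∉ Q' →
        Module.Flat A' (LocalizedModule Q'.primeCompl (St R₀ n M₀ A')) := by
    intro q
    haveI := H q.1.asIdeal q.2
    exact exists_fg_basicOpen_flat (R₀ := R₀) M₀ A q.1.asIdeal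
  choose Aq g hfg hg Hg using hloc
  let gh : {q : PrimeSpectrum (MvPolynomial (Fin n) A) // Ideal.map C 𝔪 ≤ q.asIdeal} →
      MvPolynomial (Fin n) A := fun q =>
    algebraMap (MvPolynomial (Fin n) (Aq q)) (MvPolynomial (Fin n) A) (g q)
  have hspan : Ideal.span (Set.range gh) ⊔ Ideal.map C 𝔪 = ⊤ := by
    by_contra hne
    obtain ⟨m, hm, hle⟩ := Ideal.exists_le_maximal _ hne
    have hq : Ideal.map C 𝔪 ≤ m := le_sup_right.trans hle
    exact hg ⟨⟨m, hm.isPrime⟩, hq⟩
      (hle (Ideal.mem_sup_left (Ideal.subset_span ⟨⟨⟨m, hm.isPrime⟩, hq⟩, rfl⟩)))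
  have h1 : (1 : MvPolynomial (Fin n) A) ∈ Ideal.span (Set.range gh) ⊔ Ideal.map C 𝔪 := by
    rw [hspan]; trivial
  obtain ⟨u, hu, c0, hc0, huc⟩ := Submodule.mem_sup.1 h1
  have hu' : u ∈ Submodule.span (MvPolynomial (Fin n) A) (Set.range gh) := hu
  obtain ⟨c, hc⟩ := Finsupp.mem_span_range_iff_exists_finsupp.1 hu'
  -- a subalgebra over which all the coefficients are defined
  have hcdef : ∀ p : MvPolynomial (Fin n) A, ∃ A' : Subalgebra R₀ A, A'.FG ∧ p ∈ polDef n A' :=
    fun p => exists_fg_mem_polDef p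
  choose Ac hAcfg hAc using hcdef
  let A'' : Subalgebra R₀ A := (c.support.sup fun q => Aq q ⊔ Ac (c q)) ⊔ Ac c0
  have hA''fg : A''.FG := by
    refine Subalgebra.FG.sup ?_ (hAcfg _)
    refine Finset.sup_induction Subalgebra.fg_bot (fun a ha b hb => ha.sup hb) ?_
    intro q _; exact (hfg q).sup (hAcfg _)
  have hle : ∀ q ∈ c.support, Aq q ≤ A'' := fun q hq =>
    (le_sup_left.trans (Finset.le_sup (f := fun q => Aq q ⊔ Ac (c q)) hq)).trans le_sup_left
  have hle' : ∀ q ∈ c.support, Ac (c q) ≤ A'' := fun q hq =>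
    (le_sup_right.trans (Finset.le_sup (f := fun q => Aq q ⊔ Ac (c q)) hq)).trans le_sup_left
  have hle0 : Ac c0 ≤ A'' := le_sup_right
  refine ⟨A'', hA''fg, ?_⟩
  -- lift the partition of unity to `A''[X]`
  have hc'' : ∀ q ∈ c.support, ∃ c'' : MvPolynomial (Fin n) A'',
      algebraMap (MvPolynomial (Fin n) A'') (MvPolynomial (Fin n) A) c'' = c q :=
    fun q hq => polDef_mono (hle' q hq) (hAc (c q))
  obtain ⟨c0'', hc0''⟩ : ∃ c0'' : MvPolynomial (Fin n) A'',
      algebraMap (MvPolynomial (Fin n) A'') (MvPolynomial (Fin n) A) c0'' = c0 :=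
    polDef_mono hle0 (hAc c0)
  let g'' : ∀ q ∈ c.support, MvPolynomial (Fin n) A'' := fun q hq =>
    MvPolynomial.map (Subalgebra.inclusion (hle q hq)).toRingHom (g q)
  have hg'' : ∀ q (hq : q ∈ c.support),
      algebraMap (MvPolynomial (Fin n) A'') (MvPolynomial (Fin n) A) (g'' q hq) = gh q := by
    intro q hq
    simp only [g'', gh, MvPolynomial.algebraMap_def, MvPolynomial.map_map]
    rfl
  have hinj : Injective (algebraMap (MvPolynomial (Fin n) A'') (MvPolynomial (Fin n) A)) :=
    MvPolynomial.map_injective _ Subtype.val_injective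
  intro P _ hP
  -- `c0''` lies in `(𝔪 ∩ A'')[X]`
  have hc0P : c0'' ∈ P := by
    apply hP
    rw [MvPolynomial.mem_map_C_iff]
    intro m
    rw [Ideal.mem_comap]
    have h2 : algebraMap A'' A (MvPolynomial.coeff m c0'') = MvPolynomial.coeff m c0 := by
      rw [← hc0'', MvPolynomial.algebraMap_def, MvPolynomial.coeff_map]
    rw [h2]
    exact (MvPolynomial.mem_map_C_iff.1 hc0) m
  -- some `g'' q` is not in `P`
  have hex : ∃ q, ∃ hq : q ∈ c.support, g'' q hq ∉ P := by
    by_contra hall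
    push Not at hall
    apply (Ideal.IsPrime.ne_top (inferInstance : P.IsPrime))
    rw [Ideal.eq_top_iff_one]
    choose! c'' hc''eq using hc''
    have hsum : (1 : MvPolynomial (Fin n) A'') =
        ∑ q ∈ c.support.attach, c'' q.1 * g'' q.1 q.2 + c0'' := by
      apply hinj
      rw [map_one, map_add, map_sum, hc0'', ← huc, ← hc, Finsupp.sum, ← Finset.sum_attach]
      congr 1
      refine Finset.sum_congr rfl fun q _ => ?_
      rw [map_mul, hc''eq q.1 q.2, hg'' q.1 q.2, smul_eq_mul]
    rw [hsum]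
    exact Ideal.add_mem _ (Ideal.sum_mem _ fun q _ => Ideal.mul_mem_left _ _ (hall q.1 q.2)) hc0P
  obtain ⟨q, hq, hgP⟩ := hex
  refine stage_mono M₀ (hle q hq) P ?_
  exact Hg q (P.comap (MvPolynomial.map (Subalgebra.inclusion (hle q hq)).toRingHom)) hgP

/-- passage to the localization of a stage at a prime. -/
theorem flat_localization_stage (A'' : Type u) [CommRing A''] [Algebra R₀ A''] (p : Ideal A'')
    [p.IsPrime]
    (H : ∀ (Q'' : Ideal (MvPolynomial (Fin n) A'')) [Q''.IsPrime], Ideal.map C p ≤ Q'' →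
      Module.Flat A'' (LocalizedModule Q''.primeCompl (St R₀ n M₀ A'')))
    (Q : Ideal (MvPolynomial (Fin n) (Localization.AtPrime p))) [Q.IsPrime]
    (hQ : Ideal.map C (IsLocalRing.maximalIdeal (Localization.AtPrime p)) ≤ Q) :
    Module.Flat (Localization.AtPrime p)
      (LocalizedModule Q.primeCompl (St R₀ n M₀ (Localization.AtPrime p))) := by
  have hle : Ideal.map C p ≤ Q.comap (algebraMap (MvPolynomial (Fin n) A'')
      (MvPolynomial (Fin n) (Localization.AtPrime p))) := by
    rw [Ideal.map_le_iff_le_comap]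
    intro a ha
    rw [Ideal.mem_comap, Ideal.mem_comap]
    apply hQ
    rw [MvPolynomial.algebraMap_def, MvPolynomial.map_C]
    apply Ideal.mem_map_of_mem
    exact (IsLocalization.AtPrime.to_map_mem_maximal_iff (Localization.AtPrime p) p a).2 ha
  haveI := H _ hle
  exact stage_baseChange M₀ A'' (Localization.AtPrime p) Q

end Core

end Groth.Agent.Lib.Helper25.FlatFibreStage
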