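import Mathlib
import Groth.Agent.Lib.Helper25.StratFree
import Groth.Agent.Lib.Helper25.PlainModel

/-!
# helper25 — FlatIdealGen: the generic flattening ideal (EGA IV 11.4-type, algebra core)

`exists_flattening_ideal`: `A` with prime nilradical, `B` a finitely presented `A`-algebra, `M` a
finitely presented `B`-module.  There are a non-nilpotent `h : A` and a finitely generated ideal
`J ≤ nilradical A` such that for every `A`-algebra `A'` in which `h` is invertible,
`A' ⊗ M` is `A'`-flat iff `J A' = 0`.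
-/

set_option linter.style.haveILetI false

namespace Groth.Agent.Lib.Helper25.FlatIdealGen

open TensorProduct
open Groth.Agent.Lib.Helper25.StratFree

universe u

section GenFree

variable {R : Type u} [CommRing R] {S : Type u} [CommRing S] [Algebra R S]
  [Algebra.FiniteType R S] (M : Type u) [AddCommGroup M] [Module S M] [Module R M]
  [IsScalarTower R S M] [Module.Finite S M]

attribute [local instance] Algebra.TensorProduct.rightAlgebra

include S in
/-- Generic freeness modulo the radical of a proper ideal (no flatness, no Noetherian hypothesis). -/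
theorem exists_free_mod_radical (I : Ideal R) (hI : I ≠ ⊤) :
    ∃ f : R, f ∉ I.radical ∧ ∀ (T : Type u) [CommRing T] [Algebra R T],
      IsUnit (algebraMap R T f) → (∀ a ∈ I.radical, algebraMap R T a = 0) →
      Module.Free T (T ⊗[R] M) := by
  set N := I.radical with hN
  have hNtop : N ≠ ⊤ := by rwa [hN, Ne, Ideal.radical_eq_top]
  haveI : IsReduced (R ⧸ N) := (Ideal.isRadical_iff_quotient_reduced N).1 (Ideal.radical_isRadical I)
  haveI : Nontrivial (R ⧸ N) := Ideal.Quotient.nontrivial_iff.2 hNtop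
  obtain ⟨U, hUo, hUd, hU⟩ := Groth.Agent.S9158.result (R ⧸ N) ((R ⧸ N) ⊗[R] S)
    (((R ⧸ N) ⊗[R] S) ⊗[S] M)
  obtain ⟨u, hu⟩ := hUd.nonempty
  obtain ⟨f', hf'u, -, hfree, -⟩ := hU u hu
  obtain ⟨f, rfl⟩ := Ideal.Quotient.mk_surjective f'
  refine ⟨f, ?_, ?_⟩
  · intro hfN
    apply hf'u
    rw [Ideal.Quotient.eq_zero_iff_mem.2 hfN]; exact zero_mem _
  · intro T _ _ hunit hker
    letI : Algebra (R ⧸ N) T := RingHom.toAlgebra (Ideal.Quotient.lift N (algebraMap R T) hker)
    haveI : IsScalarTower R (R ⧸ N) T := IsScalarTower.of_algebraMap_eq fun r => rfl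
    have hunit' : IsUnit (algebraMap (R ⧸ N) T (Ideal.Quotient.mk N f)) := hunit
    haveI h1 : Module.Free T (T ⊗[R ⧸ N] (((R ⧸ N) ⊗[R] S) ⊗[S] M)) :=
      free_of_localizedModule_free _ _ hfree T hunit'
    let e₁ : ((R ⧸ N) ⊗[R] S) ⊗[S] M ≃ₗ[R ⧸ N] (R ⧸ N) ⊗[R] M :=
      Algebra.IsPushout.cancelBaseChange R (R ⧸ N) S ((R ⧸ N) ⊗[R] S) M
    let e₂ : T ⊗[R ⧸ N] (((R ⧸ N) ⊗[R] S) ⊗[S] M) ≃ₗ[T] T ⊗[R ⧸ N] ((R ⧸ N) ⊗[R] M) :=
      AlgebraTensorModule.congr (LinearEquiv.refl T T) e₁
    let e₃ : T ⊗[R ⧸ N] ((R ⧸ N) ⊗[R] M) ≃ₗ[T] T ⊗[R] M :=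
      AlgebraTensorModule.cancelBaseChange R (R ⧸ N) T T M
    exact Module.Free.of_equiv (e₂ ≪≫ₗ e₃)

end GenFree

section Noeth

variable {R : Type u} [CommRing R] [IsNoetherianRing R] {S : Type u} [CommRing S] [Algebra R S]
  [Algebra.FiniteType R S] (M : Type u) [AddCommGroup M] [Module S M] [Module R M]
  [IsScalarTower R S M] [Module.Finite S M]

include S in
/-- The Noetherian case with prime nilradical. -/
theorem exists_flattening_ideal_noeth (hR : (nilradical R).IsPrime) :
    ∃ (h : R) (J : Ideal R), h ∉ nilradical R ∧ J ≤ nilradical R ∧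
      ∀ (A' : Type u) [CommRing A'] [Algebra R A'], IsUnit (algebraMap R A' h) →
        (Module.Flat A' (A' ⊗[R] M) ↔ J.map (algebraMap R A') = ⊥) := by
  have hne : (⊥ : Ideal R) ≠ ⊤ := by
    intro h
    exact hR.ne_top (top_le_iff.1 (h ▸ bot_le))
  obtain ⟨h, hh, hfree⟩ := exists_free_mod_radical (S := S) M (⊥ : Ideal R) hne
  have hrad : (⊥ : Ideal R).radical = nilradical R := rfl
  rw [hrad] at hh hfree
  -- the localization and the nilpotent ideal
  have hnilp : IsNilpotent (nilradical R) := IsNoetherianRing.isNilpotent_nilradical R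
  have hJ₁ : IsNilpotent ((nilradical R).map (algebraMap R (Localization.Away h))) := by
    obtain ⟨k, hk⟩ := hnilp
    refine ⟨k, ?_⟩
    rw [← Ideal.map_pow, hk, Ideal.zero_eq_bot, Ideal.map_bot]
    rfl
  set J₁ : Ideal (Localization.Away h) := (nilradical R).map (algebraMap R (Localization.Away h))
    with hJ₁def
  have hunit₁ : IsUnit (algebraMap R (Localization.Away h ⧸ J₁) h) := by
    rw [IsScalarTower.algebraMap_apply R (Localization.Away h) (Localization.Away h ⧸ J₁)]
    exact (IsLocalization.Away.algebraMap_isUnit h).map _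
  have hker₁ : ∀ a ∈ nilradical R, algebraMap R (Localization.Away h ⧸ J₁) a = 0 := by
    intro a ha
    rw [IsScalarTower.algebraMap_apply R (Localization.Away h) (Localization.Away h ⧸ J₁),
      Ideal.Quotient.algebraMap_eq, Ideal.Quotient.eq_zero_iff_mem]
    exact Ideal.mem_map_of_mem _ ha
  haveI hfree₁ : Module.Free (Localization.Away h ⧸ J₁) ((Localization.Away h ⧸ J₁) ⊗[R] M) :=
    hfree _ hunit₁ hker₁
  let e₄ : (Localization.Away h ⧸ J₁) ⊗[Localization.Away h] (Localization.Away h ⊗[R] M)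
      ≃ₗ[Localization.Away h ⧸ J₁] (Localization.Away h ⧸ J₁) ⊗[R] M :=
    AlgebraTensorModule.cancelBaseChange R (Localization.Away h) (Localization.Away h ⧸ J₁)
      (Localization.Away h ⧸ J₁) M
  have hfree₂ : Module.Free (Localization.Away h ⧸ J₁)
      ((Localization.Away h ⧸ J₁) ⊗[Localization.Away h] (Localization.Away h ⊗[R] M)) :=
    Module.Free.of_equiv e₄.symm
  obtain ⟨R₁, hR₁⟩ := Groth.Agent.Lib.Helper2.NilpFree2.exists_ideal_forall_free_iff
    (Localization.Away h ⊗[R] M) J₁ hJ₁ hfree₂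
  -- `R₁ ≤ J₁`
  have hR₁J₁ : R₁ ≤ J₁ := by
    have h1 := (hR₁ (Localization.Away h ⧸ J₁)).1.1 hfree₂
    rw [Ideal.Quotient.algebraMap_eq, Ideal.map_eq_bot_iff_le_ker, Ideal.mk_ker] at h1
    exact h1
  refine ⟨h, R₁.comap (algebraMap R (Localization.Away h)), hh, ?_, ?_⟩
  · intro x hx
    have hx1 : algebraMap R (Localization.Away h) x ∈ J₁ := hR₁J₁ hx
    obtain ⟨k, hk⟩ := hJ₁
    have hx2 : (algebraMap R (Localization.Away h) x) ^ k = 0 := by
      have : (algebraMap R (Localization.Away h) x) ^ k ∈ J₁ ^ k := Ideal.pow_mem_pow hx1 k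
      rw [hk] at this
      exact this
    rw [← map_pow, IsLocalization.map_eq_zero_iff (Submonoid.powers h)] at hx2
    obtain ⟨⟨_, s, rfl⟩, hs⟩ := hx2
    have h3 : h ^ s * x ^ k ∈ nilradical R := by
      change h ^ s * x ^ k = 0 at hs
      rw [hs]; exact zero_mem _
    rcases hR.mem_or_mem h3 with h4 | h4
    · exact absurd (hR.mem_of_pow_mem s h4) hh
    · exact hR.mem_of_pow_mem k h4
  · intro A' _ _ hunit
    letI : Algebra (Localization.Away h) A' :=
      (IsLocalization.Away.lift (S := Localization.Away h) h (g := algebraMap R A') hunit).toAlgebra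
    haveI : IsScalarTower R (Localization.Away h) A' := IsScalarTower.of_algebraMap_eq fun r => by
      change _ = IsLocalization.Away.lift (S := Localization.Away h) h (g := algebraMap R A') hunit _
      rw [IsLocalization.Away.lift_eq]
    let e₅ : A' ⊗[Localization.Away h] (Localization.Away h ⊗[R] M) ≃ₗ[A'] A' ⊗[R] M :=
      AlgebraTensorModule.cancelBaseChange R (Localization.Away h) A' A' M
    rw [← (Module.Flat.equiv_iff e₅), (hR₁ A').2,
      IsScalarTower.algebraMap_eq R (Localization.Away h) A', ← Ideal.map_map,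
      IsLocalization.map_under (Submonoid.powers h)]

end Noeth

section General

open Groth.Agent.Lib.Helper25.PlainModel

/-- **Generic flattening ideal** (algebra core of EGA IV 11.4-type statements). -/
theorem exists_flattening_ideal {A B : Type u} [CommRing A] [CommRing B] [Algebra A B]
    [Algebra.FinitePresentation A B] (hA : (nilradical A).IsPrime) (M : Type u) [AddCommGroup M]
    [Module B M] [Module A M] [IsScalarTower A B M] [Module.FinitePresentation B M] :
    ∃ (h : A) (J : Ideal A), ¬ IsNilpotent h ∧ J.FG ∧ J ≤ nilradical A ∧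
      ∀ (A' : Type u) [CommRing A'] [Algebra A A'], IsUnit (algebraMap A A' h) →
        (Module.Flat A' (A' ⊗[A] M) ↔ J.map (algebraMap A A') = ⊥) := by
  obtain ⟨R₀, _, _, S₀, _, _, _, _, _, _, M₀, _, _, _, _, _, _, f₀, hinj, hR₀ft, hS₀ft, hM₀fin,
    hpush, hf₀⟩ := exists_model A B M
  haveI : IsNoetherianRing R₀ := Algebra.FiniteType.isNoetherianRing ℤ R₀
  let e : A ⊗[R₀] M₀ ≃ₗ[A] M :=
    (Algebra.IsPushout.cancelBaseChange R₀ A S₀ B M₀).symm ≪≫ₗ hf₀.equiv.restrictScalars A
  have hcomap : nilradical R₀ = (nilradical A).comap (algebraMap R₀ A) := by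
    ext x
    rw [Ideal.mem_comap, mem_nilradical, mem_nilradical]
    exact (IsNilpotent.map_iff hinj).symm
  have hR₀ : (nilradical R₀).IsPrime := by
    rw [hcomap]
    exact Ideal.comap_isPrime _ _
  obtain ⟨h₀, J₀, hh₀, hJ₀, hprop⟩ := exists_flattening_ideal_noeth (S := S₀) M₀ hR₀
  refine ⟨algebraMap R₀ A h₀, J₀.map (algebraMap R₀ A), ?_, ?_, ?_, ?_⟩
  · rw [← mem_nilradical]
    intro hmem
    apply hh₀
    rw [hcomap]
    exact hmem
  · exact Ideal.FG.map (IsNoetherian.noetherian J₀) _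
  · rw [Ideal.map_le_iff_le_comap, ← hcomap]
    exact hJ₀
  · intro A' _ _ hunit
    letI : Algebra R₀ A' := ((algebraMap A A').comp (algebraMap R₀ A)).toAlgebra
    haveI : IsScalarTower R₀ A A' := IsScalarTower.of_algebraMap_eq fun _ => rfl
    have h1 := hprop A' hunit
    let e' : A' ⊗[A] M ≃ₗ[A'] A' ⊗[R₀] M₀ :=
      (AlgebraTensorModule.congr (LinearEquiv.refl A' A') e.symm) ≪≫ₗ
        AlgebraTensorModule.cancelBaseChange R₀ A A' A' M₀
    rw [Module.Flat.equiv_iff e', h1, Ideal.map_map]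
    rfl

/-- Finite families. -/
theorem exists_flattening_ideal_family {A : Type u} [CommRing A] (hA : (nilradical A).IsPrime)
    {ι : Type*} [Finite ι] (B : ι → Type u) [∀ i, CommRing (B i)] [∀ i, Algebra A (B i)]
    [∀ i, Algebra.FinitePresentation A (B i)] (M : ι → Type u) [∀ i, AddCommGroup (M i)]
    [∀ i, Module (B i) (M i)] [∀ i, Module A (M i)] [∀ i, IsScalarTower A (B i) (M i)]
    [∀ i, Module.FinitePresentation (B i) (M i)] :
    ∃ (h : A) (J : Ideal A), ¬ IsNilpotent h ∧ J.FG ∧ J ≤ nilradical A ∧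
      ∀ (A' : Type u) [CommRing A'] [Algebra A A'], IsUnit (algebraMap A A' h) →
        ((∀ i, Module.Flat A' (A' ⊗[A] M i)) ↔ J.map (algebraMap A A') = ⊥) := by
  classical
  haveI := Fintype.ofFinite ι
  choose h J hh hJfg hJnil hprop using fun i => exists_flattening_ideal (B := B i) hA (M i)
  refine ⟨∏ i, h i, ⨆ i, J i, ?_, ?_, ?_, ?_⟩
  · rw [← mem_nilradical, hA.prod_mem_iff]
    rintro ⟨i, -, hi⟩
    exact hh i (mem_nilradical.1 hi)
  · exact Submodule.fg_iSup _ hJfg
  · exact iSup_le hJnil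
  · intro A' _ _ hunit
    have hu : ∀ i, IsUnit (algebraMap A A' (h i)) := fun i =>
      isUnit_of_dvd_unit (map_dvd _ (Finset.dvd_prod_of_mem h (Finset.mem_univ i))) hunit
    rw [Ideal.map_iSup, iSup_eq_bot]
    exact forall_congr' fun i => hprop i A' (hu i)

end General

end Groth.Agent.Lib.Helper25.FlatIdealGen
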