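import Mathlib
import Groth.Agent.Lib.Helper21.FlatDescI
import Groth.Agent.Lib.Helper25.FlatFibreStage

/-!
# Helper25 — FlatStTrans: translation between flatness at primes of an abstract base change
`(S_A, M_A)` of `(S, M)` along `R → A` and flatness at primes of the polynomial family
`St R n M A = A[X] ⊗_{R[X]} M` (for a presentation `R[X] ↠ S`).
-/

set_option autoImplicit false
set_option synthInstance.maxHeartbeats 200000
set_option linter.style.haveILetI false
set_option linter.unusedSectionVars false

namespace Groth.Agent.Lib.Helper25.FlatStTrans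

open TensorProduct Function MvPolynomial
open Groth.Agent.Lib.Helper21 Groth.Agent.Lib.Helper21.FlatDesc

attribute [local instance] MvPolynomial.algebraMvPolynomial

universe u

section Tr

variable (R : Type u) [CommRing R] (n : ℕ) (S : Type u) [CommRing S] [Algebra R S]
  [Algebra (MvPolynomial (Fin n) R) S] [IsScalarTower R (MvPolynomial (Fin n) R) S]
  (A : Type u) [CommRing A] [Algebra R A]
  (SA : Type u) [CommRing SA] [Algebra S SA] [Algebra A SA] [Algebra R SA]
  [IsScalarTower R S SA] [IsScalarTower R A SA]

/-- the canonical map `A[X] → S_A`. -/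
noncomputable def polyTo : MvPolynomial (Fin n) A →ₐ[A] SA :=
  MvPolynomial.aeval (fun i => algebraMap S SA (algebraMap (MvPolynomial (Fin n) R) S (X i)))

theorem polyTo_map (p : MvPolynomial (Fin n) R) :
    polyTo R n S A SA (MvPolynomial.map (algebraMap R A) p) =
      algebraMap S SA (algebraMap (MvPolynomial (Fin n) R) S p) := by
  induction p using MvPolynomial.induction_on with
  | C r =>
    rw [MvPolynomial.map_C, polyTo, MvPolynomial.aeval_C, ← IsScalarTower.algebraMap_apply R A SA,
      IsScalarTower.algebraMap_apply R S SA]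
    congr 1
    rw [IsScalarTower.algebraMap_apply R (MvPolynomial (Fin n) R) S]
    rfl
  | add p q hp hq => rw [map_add, map_add, map_add, map_add, hp, hq]
  | mul_X p i hp =>
    rw [map_mul, map_mul, map_mul, map_mul, hp, MvPolynomial.map_X, polyTo, MvPolynomial.aeval_X]

variable [Algebra.IsPushout R S A SA]

theorem polyTo_surjective (hsurj : Surjective (algebraMap (MvPolynomial (Fin n) R) S)) :
    Surjective (polyTo R n S A SA) := by
  intro x
  have H : Algebra.IsPushout R S A SA := inferInstance
  have hb : IsBaseChange S (IsScalarTower.toAlgHom R A SA).toLinearMap := H.out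
  refine hb.inductionOn x (motive := fun x => ∃ p, polyTo R n S A SA p = x) ⟨0, map_zero _⟩ ?_ ?_ ?_
  · intro a
    exact ⟨C a, by rw [polyTo, MvPolynomial.aeval_C]; rfl⟩
  · rintro s x ⟨p, rfl⟩
    obtain ⟨p₀, rfl⟩ := hsurj s
    refine ⟨MvPolynomial.map (algebraMap R A) p₀ * p, ?_⟩
    rw [map_mul, polyTo_map, Algebra.smul_def]
  · rintro x y ⟨p, rfl⟩ ⟨q, rfl⟩
    exact ⟨p + q, map_add _ _ _⟩

variable {M : Type u} [AddCommGroup M] [Module S M] [Module (MvPolynomial (Fin n) R) M]
  [Module R M] [IsScalarTower R S M] [IsScalarTower (MvPolynomial (Fin n) R) S M]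
  [IsScalarTower R (MvPolynomial (Fin n) R) M]
  {MA : Type u} [AddCommGroup MA] [Module SA MA] [Module A MA] [IsScalarTower A SA MA]
  [Module S MA] [IsScalarTower S SA MA]

set_option maxHeartbeats 1600000 in
/-- **translation**: flatness of the abstract base change `M_A` at a prime `q'` of `S_A` is
flatness of the stage module `A[X] ⊗_{R[X]} M` at the preimage of `q'` in `A[X]`; and the stage
module is trivially flat at the primes of `A[X]` which are not preimages. -/
theorem translation (hsurj : Surjective (algebraMap (MvPolynomial (Fin n) R) S))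
    (f : M →ₗ[S] MA) (hf : IsBaseChange SA f) :
    (∀ (q' : Ideal SA) [q'.IsPrime],
      Module.Flat A (LocalizedModule q'.primeCompl MA) ↔
        Module.Flat A (LocalizedModule (q'.comap (polyTo R n S A SA).toRingHom).primeCompl
          (St R n M A))) ∧
    (∀ (Q : Ideal (MvPolynomial (Fin n) A)) [Q.IsPrime],
      ¬ RingHom.ker (polyTo R n S A SA).toRingHom ≤ Q →
        Module.Flat A (LocalizedModule Q.primeCompl (St R n M A))) := by
  letI algPS : Algebra (MvPolynomial (Fin n) A) SA := (polyTo R n S A SA).toRingHom.toAlgebra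
  have halg : ∀ p, algebraMap (MvPolynomial (Fin n) A) SA p = polyTo R n S A SA p := fun _ => rfl
  haveI t1 : IsScalarTower A (MvPolynomial (Fin n) A) SA :=
    IsScalarTower.of_algebraMap_eq (fun a => ((polyTo R n S A SA).commutes a).symm)
  letI algRS : Algebra (MvPolynomial (Fin n) R) SA :=
    ((algebraMap S SA).comp (algebraMap (MvPolynomial (Fin n) R) S)).toAlgebra
  haveI t2 : IsScalarTower (MvPolynomial (Fin n) R) S SA :=
    IsScalarTower.of_algebraMap_eq (fun _ => rfl)
  haveI t3 : IsScalarTower (MvPolynomial (Fin n) R) (MvPolynomial (Fin n) A) SA :=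
    IsScalarTower.of_algebraMap_eq (fun p => by
      rw [halg, MvPolynomial.algebraMap_def, polyTo_map]
      rfl)
  haveI t4 : IsScalarTower R (MvPolynomial (Fin n) R) SA :=
    IsScalarTower.of_algebraMap_eq (fun r => by
      rw [IsScalarTower.algebraMap_apply R S SA,
        IsScalarTower.algebraMap_apply R (MvPolynomial (Fin n) R) S]
      rfl)
  haveI t5 : IsScalarTower R (MvPolynomial (Fin n) A) SA :=
    IsScalarTower.of_algebraMap_eq (fun r => by
      rw [IsScalarTower.algebraMap_apply R A SA, IsScalarTower.algebraMap_apply A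
        (MvPolynomial (Fin n) A) SA, ← IsScalarTower.algebraMap_apply R A (MvPolynomial (Fin n) A)])
  have hpo : Algebra.IsPushout (MvPolynomial (Fin n) R) S (MvPolynomial (Fin n) A) SA :=
    (Algebra.IsPushout.comp_iff R (MvPolynomial (Fin n) R) A (MvPolynomial (Fin n) A)
      (T := S) (T' := SA)).1 inferInstance
  haveI hpo' : Algebra.IsPushout (MvPolynomial (Fin n) R) (MvPolynomial (Fin n) A) S SA :=
    hpo.symm
  letI modPA : Module (MvPolynomial (Fin n) A) MA :=
    Module.compHom MA (algebraMap (MvPolynomial (Fin n) A) SA)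
  haveI t6 : IsScalarTower (MvPolynomial (Fin n) A) SA MA := IsScalarTower.of_compHom _ _ _
  haveI t7 : IsScalarTower A (MvPolynomial (Fin n) A) MA := ⟨fun a p m => by
    show algebraMap (MvPolynomial (Fin n) A) SA (a • p) • m =
      a • (algebraMap (MvPolynomial (Fin n) A) SA p • m)
    rw [Algebra.smul_def, map_mul, ← IsScalarTower.algebraMap_apply A (MvPolynomial (Fin n) A) SA,
      mul_smul, algebraMap_smul]⟩
  let e₁ : SA ⊗[S] M ≃ₗ[MvPolynomial (Fin n) A] St R n M A :=
    Algebra.IsPushout.cancelBaseChange (MvPolynomial (Fin n) R) (MvPolynomial (Fin n) A) S SA M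
  let e₂ : SA ⊗[S] M ≃ₗ[SA] MA := hf.equiv
  let e : St R n M A ≃ₗ[MvPolynomial (Fin n) A] MA :=
    e₁.symm ≪≫ₗ (e₂.restrictScalars (MvPolynomial (Fin n) A))
  have hsurjA : Surjective (algebraMap (MvPolynomial (Fin n) A) SA) :=
    polyTo_surjective R n S A SA hsurj
  refine ⟨fun q' _ => ?_, fun Q _ hQ => ?_⟩
  · rw [flat_localized_comap_iff (R := A) (P := MvPolynomial (Fin n) A) (S := SA) (M := MA)
      hsurjA q']
    constructor
    · intro h
      haveI := h
      exact flat_localized_congr A e.symm _
    · intro h
      haveI : Module.Flat A (LocalizedModule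
          (Ideal.comap (algebraMap (MvPolynomial (Fin n) A) SA) q').primeCompl (St R n M A)) := h
      exact flat_localized_congr A e _
  · obtain ⟨j, hjk, hjQ⟩ := Set.not_subset.1 hQ
    have hj0 : algebraMap (MvPolynomial (Fin n) A) SA j = 0 := hjk
    haveI : Subsingleton (LocalizedModule Q.primeCompl (St R n M A)) := by
      rw [LocalizedModule.subsingleton_iff]
      intro x
      refine ⟨j, hjQ, ?_⟩
      apply e.injective
      rw [map_smul, map_zero]
      show algebraMap (MvPolynomial (Fin n) A) SA j • e x = 0
      rw [hj0, zero_smul]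
    infer_instance

end Tr

end Groth.Agent.Lib.Helper25.FlatStTrans
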