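import Mathlib
import Groth.Agent.Lib.Helper7.FlatIdealUniversal
import Groth.Agent.Lib.Helper25.FlatStTrans

/-!
# Helper25 — FlatIdealLocal: universality of the least flattening ideal of a complete Noetherian
local ring along local homomorphisms to ARBITRARY local rings (S6927)

Reduction to helper7's Noetherian case (`FlatIdealUniversal.main`) by descent of flatness along the
closed fibre to a Noetherian local stage `R'' = A''_{𝔪' ∩ A''}`, `A'' ⊆ R'` a finitely generated
`R`-subalgebra.
-/

set_option autoImplicit false
set_option synthInstance.maxHeartbeats 200000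
set_option linter.style.haveILetI false
set_option linter.unusedSectionVars false

namespace Groth.Agent.Lib.Helper25.FlatIdealLocal

open TensorProduct Function MvPolynomial
open Groth.Agent.Lib.Helper21 Groth.Agent.Lib.Helper21.FlatDesc
open Groth.Agent.Lib.Helper25.FlatStTrans Groth.Agent.Lib.Helper25.FlatFibreStage

attribute [local instance] MvPolynomial.algebraMvPolynomial
attribute [local instance] Algebra.TensorProduct.rightAlgebra

universe u

theorem flat_localized_ideal_congr {A B X : Type u} [CommRing A] [CommRing B] [Algebra A B]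
    [AddCommGroup X] [Module B X] [Module A X] [IsScalarTower A B X]
    (Q₁ Q₂ : Ideal B) [Q₁.IsPrime] [Q₂.IsPrime] (h : Q₁ = Q₂)
    (hfl : Module.Flat A (LocalizedModule Q₁.primeCompl X)) :
    Module.Flat A (LocalizedModule Q₂.primeCompl X) := by
  subst h
  exact hfl

section Pres

variable {R : Type u} [CommRing R] {n : ℕ} {S : Type u} [CommRing S] [Algebra R S]
  [Algebra (MvPolynomial (Fin n) R) S] [IsScalarTower R (MvPolynomial (Fin n) R) S]
  {M : Type u} [AddCommGroup M] [Module S M] [Module (MvPolynomial (Fin n) R) M]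
  [Module R M] [IsScalarTower R S M] [IsScalarTower (MvPolynomial (Fin n) R) S M]
  [IsScalarTower R (MvPolynomial (Fin n) R) M]

section A

variable {R' S' : Type u} [CommRing R'] [IsLocalRing R'] [CommRing S'] [Algebra R R']
  [Algebra S S'] [Algebra R' S']
  [Algebra R S'] [IsScalarTower R S S'] [IsScalarTower R R' S'] [Algebra.IsPushout R S R' S']
  {M' : Type u} [AddCommGroup M'] [Module S' M'] [Module R' M'] [IsScalarTower R' S' M']
  [Module S M'] [IsScalarTower S S' M']

set_option maxHeartbeats 1600000 in
/-- the hypothesis of flatness along the closed fibre, in terms of the polynomial family. -/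
theorem hSt_of_flat (hsurj : Surjective (algebraMap (MvPolynomial (Fin n) R) S))
    (f : M →ₗ[S] M') (hf : IsBaseChange S' f)
    (H : ∀ (q' : Ideal S') [q'.IsPrime],
      q'.comap (algebraMap R' S') = IsLocalRing.maximalIdeal R' →
        Module.Flat R' (LocalizedModule q'.primeCompl M'))
    (Q : Ideal (MvPolynomial (Fin n) R')) [Q.IsPrime]
    (hQ : Ideal.map C (IsLocalRing.maximalIdeal R') ≤ Q) :
    Module.Flat R' (LocalizedModule Q.primeCompl (St R n M R')) := by
  obtain ⟨tr1, tr2⟩ := translation R n S R' S' (M := M) (MA := M') hsurj f hf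
  have hsurj' : Surjective (polyTo R n S R' S').toRingHom := polyTo_surjective R n S R' S' hsurj
  by_cases hk : RingHom.ker (polyTo R n S R' S').toRingHom ≤ Q
  · haveI hq'p : (Q.map (polyTo R n S R' S').toRingHom).IsPrime :=
      Ideal.map_isPrime_of_surjective hsurj' hk
    have hcm : (Q.map (polyTo R n S R' S').toRingHom).comap (polyTo R n S R' S').toRingHom = Q := by
      rw [Ideal.comap_map_of_surjective (polyTo R n S R' S').toRingHom hsurj']
      exact sup_eq_left.2 hk
    have hq'm : (Q.map (polyTo R n S R' S').toRingHom).comap (algebraMap R' S') =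
        IsLocalRing.maximalIdeal R' := by
      have h1 : IsLocalRing.maximalIdeal R' ≤
          (Q.map (polyTo R n S R' S').toRingHom).comap (algebraMap R' S') := by
        intro a ha
        rw [Ideal.mem_comap]
        have h2 : algebraMap R' S' a = (polyTo R n S R' S').toRingHom (C a) := by
          show _ = polyTo R n S R' S' (C a)
          rw [polyTo, MvPolynomial.aeval_C]
        rw [h2]
        exact Ideal.mem_map_of_mem _ (hQ (Ideal.mem_map_of_mem _ ha))
      exact ((IsLocalRing.maximalIdeal.isMaximal R').eq_of_le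
        (Ideal.IsPrime.ne_top (Ideal.comap_isPrime _ _)) h1).symm
    have h3 := (tr1 (Q.map (polyTo R n S R' S').toRingHom)).1 (H _ hq'm)
    exact flat_localized_ideal_congr _ Q hcm h3
  · exact tr2 Q hk

end A

section B

variable [IsLocalRing R] {R'' : Type u} [CommRing R''] [IsLocalRing R''] [IsNoetherianRing R'']
  [Algebra R R''] [IsLocalHom (algebraMap R R'')]

set_option maxHeartbeats 1600000 in
/-- from flatness of the polynomial family along the closed fibre of a Noetherian local
`R`-algebra `R''` to the vanishing of the flattening ideal in `R''` (helper7's Noetherian case). -/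
theorem ker_of_St (hsurj : Surjective (algebraMap (MvPolynomial (Fin n) R) S)) (I : Ideal R)
    (hI : ∀ (q : Ideal S) [q.IsPrime], q.comap (algebraMap R S) = IsLocalRing.maximalIdeal R →
      Module.Flat (R ⧸ I) ((R ⧸ I) ⊗[R] LocalizedModule q.primeCompl M))
    (hmin : ∀ J : Ideal R, (∀ (q : Ideal S) [q.IsPrime],
      q.comap (algebraMap R S) = IsLocalRing.maximalIdeal R →
        Module.Flat (R ⧸ J) ((R ⧸ J) ⊗[R] LocalizedModule q.primeCompl M)) → I ≤ J)
    (HSt : ∀ (Q : Ideal (MvPolynomial (Fin n) R'')) [Q.IsPrime],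
      Ideal.map C (IsLocalRing.maximalIdeal R'') ≤ Q →
      Module.Flat R'' (LocalizedModule Q.primeCompl (St R n M R''))) :
    I ≤ RingHom.ker (algebraMap R R'') := by
  have hf'' : IsBaseChange (S ⊗[R] R'') (TensorProduct.mk S (S ⊗[R] R'') M 1) :=
    TensorProduct.isBaseChange S M _
  obtain ⟨tr1'', -⟩ := translation R n S R'' (S ⊗[R] R'') (M := M) hsurj _ hf''
  have H'' : ∀ (q'' : Ideal (S ⊗[R] R'')) [q''.IsPrime],
      q''.comap (algebraMap R'' (S ⊗[R] R'')) = IsLocalRing.maximalIdeal R'' →
      Module.Flat R'' (LocalizedModule q''.primeCompl ((S ⊗[R] R'') ⊗[S] M)) := by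
    intro q'' _ hq''
    refine (tr1'' q'').2 (HSt _ ?_)
    rw [Ideal.map_le_iff_le_comap]
    intro a ha
    rw [Ideal.mem_comap, Ideal.mem_comap]
    show polyTo R n S R'' (S ⊗[R] R'') (C a) ∈ q''
    rw [polyTo, MvPolynomial.aeval_C]
    rw [← hq''] at ha
    exact ha
  exact (Groth.Agent.Lib.Helper7.FlatIdealUniversal.main (R' := R'')
    (TensorProduct.mk S (S ⊗[R] R'') M 1) hf'' I hI hmin).1 H''

end B

end Pres

section Main

variable {R S R' S' : Type u} [CommRing R] [IsLocalRing R] [IsNoetherianRing R] [CommRing S]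
  [CommRing R'] [IsLocalRing R'] [CommRing S']
  [Algebra R S] [Algebra.FiniteType R S] [Algebra R R'] [IsLocalHom (algebraMap R R')]
  [Algebra S S'] [Algebra R' S']
  [Algebra R S'] [IsScalarTower R S S'] [IsScalarTower R R' S'] [Algebra.IsPushout R S R' S']
  {M M' : Type u} [AddCommGroup M] [Module S M] [Module R M] [IsScalarTower R S M]
  [Module.Finite S M]
  [AddCommGroup M'] [Module S' M'] [Module R' M'] [IsScalarTower R' S' M'] [Module S M']
  [IsScalarTower S S' M']

set_option maxHeartbeats 1600000 in
/-- the forward direction for an arbitrary local ring `R'`. -/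
theorem forward (f : M →ₗ[S] M') (hf : IsBaseChange S' f) (I : Ideal R)
    (hI : ∀ (q : Ideal S) [q.IsPrime], q.comap (algebraMap R S) = IsLocalRing.maximalIdeal R →
      Module.Flat (R ⧸ I) ((R ⧸ I) ⊗[R] LocalizedModule q.primeCompl M))
    (hmin : ∀ J : Ideal R, (∀ (q : Ideal S) [q.IsPrime],
      q.comap (algebraMap R S) = IsLocalRing.maximalIdeal R →
        Module.Flat (R ⧸ J) ((R ⧸ J) ⊗[R] LocalizedModule q.primeCompl M)) → I ≤ J)
    (H : ∀ (q' : Ideal S') [q'.IsPrime],
      q'.comap (algebraMap R' S') = IsLocalRing.maximalIdeal R' →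
        Module.Flat R' (LocalizedModule q'.primeCompl M')) :
    I ≤ RingHom.ker (algebraMap R R') := by
  classical
  -- a presentation of `S`
  obtain ⟨n, f₀, hf₀⟩ := Algebra.FiniteType.iff_quotient_mvPolynomial''.1
    (inferInstance : Algebra.FiniteType R S)
  letI algPS : Algebra (MvPolynomial (Fin n) R) S := f₀.toRingHom.toAlgebra
  letI modPM : Module (MvPolynomial (Fin n) R) M := Module.compHom M f₀.toRingHom
  haveI : IsScalarTower (MvPolynomial (Fin n) R) S M :=
    IsScalarTower.of_algebraMap_smul fun _ _ => rfl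
  haveI : IsScalarTower R (MvPolynomial (Fin n) R) S :=
    IsScalarTower.of_algebraMap_eq fun r => (f₀.commutes r).symm
  haveI : IsScalarTower R (MvPolynomial (Fin n) R) M := ⟨fun r p m => by
    show f₀ (r • p) • m = r • (f₀ p • m)
    rw [map_smul, smul_assoc]⟩
  haveI : Module.Finite (MvPolynomial (Fin n) R) S :=
    Module.Finite.of_surjective (Algebra.linearMap (MvPolynomial (Fin n) R) S) hf₀
  haveI : Module.Finite (MvPolynomial (Fin n) R) M := Module.Finite.trans S M
  have hsurj : Surjective (algebraMap (MvPolynomial (Fin n) R) S) := hf₀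
  -- descent to a finitely generated subalgebra
  obtain ⟨A'', hfg, Hcore⟩ := exists_fg_flat_over_ideal (R₀ := R) M R'
    (IsLocalRing.maximalIdeal R') (fun Q _ hQ => hSt_of_flat hsurj f hf H Q hQ)
  haveI hp'' : ((IsLocalRing.maximalIdeal R').comap (algebraMap A'' R')).IsPrime :=
    Ideal.comap_isPrime _ _
  haveI : Algebra.FiniteType R A'' := (Subalgebra.fg_iff_finiteType A'').1 hfg
  haveI : IsNoetherianRing A'' := Algebra.FiniteType.isNoetherianRing R A''
  haveI : IsNoetherianRing (Localization.AtPrime
      ((IsLocalRing.maximalIdeal R').comap (algebraMap A'' R'))) :=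
    IsLocalization.isNoetherianRing
      ((IsLocalRing.maximalIdeal R').comap (algebraMap A'' R')).primeCompl _ inferInstance
  -- the structure map `R → R''` is local
  haveI : IsLocalHom (algebraMap R (Localization.AtPrime
      ((IsLocalRing.maximalIdeal R').comap (algebraMap A'' R')))) := by
    refine ⟨fun x hx => ?_⟩
    rw [IsScalarTower.algebraMap_apply R A'' (Localization.AtPrime
      ((IsLocalRing.maximalIdeal R').comap (algebraMap A'' R'))),
      IsLocalization.AtPrime.isUnit_to_map_iff _
        ((IsLocalRing.maximalIdeal R').comap (algebraMap A'' R'))] at hx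
    have h1 : algebraMap A'' R' (algebraMap R A'' x) ∉ IsLocalRing.maximalIdeal R' := hx
    rw [← IsScalarTower.algebraMap_apply R A'' R'] at h1
    have h2 : IsUnit (algebraMap R R' x) := IsLocalRing.notMem_maximalIdeal.1 h1
    exact IsLocalHom.map_nonunit x h2
  have hker := ker_of_St (M := M) (R'' := Localization.AtPrime
      ((IsLocalRing.maximalIdeal R').comap (algebraMap A'' R'))) hsurj I hI hmin
    (fun Q _ hQ => flat_localization_stage M A''
      ((IsLocalRing.maximalIdeal R').comap (algebraMap A'' R')) Hcore Q hQ)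
  intro x hx
  have h0 : algebraMap R (Localization.AtPrime
      ((IsLocalRing.maximalIdeal R').comap (algebraMap A'' R'))) x = 0 := hker hx
  rw [IsScalarTower.algebraMap_apply R A'' (Localization.AtPrime
      ((IsLocalRing.maximalIdeal R').comap (algebraMap A'' R'))),
    IsLocalization.map_eq_zero_iff
      ((IsLocalRing.maximalIdeal R').comap (algebraMap A'' R')).primeCompl] at h0
  obtain ⟨s, hs⟩ := h0
  have hs' : algebraMap A'' R' (s : A'') * algebraMap R R' x = 0 := by
    rw [IsScalarTower.algebraMap_apply R A'' R', ← map_mul, hs, map_zero]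
  have hsu : IsUnit (algebraMap A'' R' (s : A'')) :=
    IsLocalRing.notMem_maximalIdeal.1 s.2
  rw [RingHom.mem_ker]
  exact (hsu.mul_right_eq_zero).1 hs'

/-- **S6927**: universality of the least flattening ideal along a local homomorphism to an
arbitrary local ring. -/
theorem main (f : M →ₗ[S] M') (hf : IsBaseChange S' f) (I : Ideal R)
    (hI : ∀ (q : Ideal S) [q.IsPrime], q.comap (algebraMap R S) = IsLocalRing.maximalIdeal R →
      Module.Flat (R ⧸ I) ((R ⧸ I) ⊗[R] LocalizedModule q.primeCompl M))
    (hmin : ∀ J : Ideal R, (∀ (q : Ideal S) [q.IsPrime],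
      q.comap (algebraMap R S) = IsLocalRing.maximalIdeal R →
        Module.Flat (R ⧸ J) ((R ⧸ J) ⊗[R] LocalizedModule q.primeCompl M)) → I ≤ J) :
    (∀ (q' : Ideal S') [q'.IsPrime],
      q'.comap (algebraMap R' S') = IsLocalRing.maximalIdeal R' →
        Module.Flat R' (LocalizedModule q'.primeCompl M')) ↔
      I ≤ RingHom.ker (algebraMap R R') := by
  refine ⟨fun H => forward f hf I hI hmin H, ?_⟩
  intro hle q' _ hq'
  have hloc : IsLocalHom (algebraMap R R') := inferInstance
  have hcomap : (IsLocalRing.maximalIdeal R').comap (algebraMap R R') =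
      IsLocalRing.maximalIdeal R :=
    ((IsLocalRing.local_hom_TFAE (algebraMap R R')).out 0 4).mp hloc
  haveI : (q'.comap (algebraMap S S')).IsPrime := Ideal.comap_isPrime _ _
  have hqm : (q'.comap (algebraMap S S')).comap (algebraMap R S) = IsLocalRing.maximalIdeal R := by
    rw [Ideal.comap_comap, ← IsScalarTower.algebraMap_eq R S S',
      IsScalarTower.algebraMap_eq R R' S', ← Ideal.comap_comap, hq', hcomap]
  haveI h1 := hI (q'.comap (algebraMap S S')) hqm
  letI : Algebra (R ⧸ I) R' :=
    (Ideal.Quotient.lift I (algebraMap R R') (fun a ha => hle ha)).toAlgebra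
  haveI : IsScalarTower R (R ⧸ I) R' := IsScalarTower.of_algebraMap_eq (fun x => rfl)
  have h3 : Module.Flat R' (R' ⊗[R] LocalizedModule (q'.comap (algebraMap S S')).primeCompl M) :=
    Module.Flat.of_linearEquiv
      (AlgebraTensorModule.cancelBaseChange R (R ⧸ I) R' R'
        (LocalizedModule (q'.comap (algebraMap S S')).primeCompl M)).symm
  exact Groth.Agent.Lib.Helper7.FlatIdealUniversal.flat_localizedModule_of_flat_baseChange R f hf q'
    (q'.comap (algebraMap S S')) rfl h3

end Main

end Groth.Agent.Lib.Helper25.FlatIdealLocal
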