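import Mathlib
import Groth.Prelude.Def_FlatFun

/-!
# helper25 — GenPSpSheaf: the subsingleton-valued presheaves `FlatFun.genPSp S P` are fpqc sheaves as soon as
`P` is stable under morphisms and local for flat jointly surjective families.
-/

set_option autoImplicit false
set_option linter.unusedVariables false
universe u
open AlgebraicGeometry CategoryTheory Limits Opposite

namespace Groth.Agent.Lib.Helper25.GenPSpSheaf

/-- **criterion**: for a condition `P` on schemes over `S` which is stable under morphisms over `S` and local for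
families of flat jointly surjective morphisms, `genPSp S P` is a sheaf for the fpqc topology. -/
theorem isSheaf_genPSp_fpqc {S : Scheme.{u}} (P : Over S → Prop)
    (hstab : ∀ ⦃T T₀ : Over S⦄ (_ : T ⟶ T₀), P T₀ → P T)
    (hloc : ∀ (T : Over S) {ι : Type (u + 1)} (Ti : ι → Over S) (g : ∀ i, Ti i ⟶ T),
      (∀ x : T.left, ∃ i, x ∈ Set.range (g i).left) → (∀ i, Flat (g i).left) →
      (∀ i, P (Ti i)) → P T) :
    Presheaf.IsSheaf (QuotSh.J Scheme.fpqcPrecoverage S) (FlatFun.genPSp S P) := by
  rw [isSheaf_iff_isSheaf_of_type]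
  unfold QuotSh.J
  rw [over_toGrothendieck_eq_toGrothendieck_comap_forget,
    Precoverage.isSheaf_toGrothendieck_iff_of_isStableUnderBaseChange]
  intro T R hR
  obtain ⟨ι, Y, g, rfl⟩ := R.exists_eq_ofArrows
  rw [Precoverage.mem_comap_iff, Presieve.map_ofArrows] at hR
  have hR2 := (Scheme.ofArrows_mem_precoverage_iff (P := @Flat)).1 hR.2
  intro x hx
  have hPi : ∀ i, P (Y i) := by
    intro i
    obtain ⟨T₀, k, hT₀⟩ := (FlatFun.genPSp_nonempty_iff P (Y i)).1 ⟨x (g i) (Presieve.ofArrows.mk i)⟩
    exact hstab k hT₀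
  have hPT : P T := hloc T Y g hR2.1 hR2.2 hPi
  obtain ⟨t⟩ := FlatFun.genPSp_nonempty_of P hPT
  refine ⟨t, ?_, ?_⟩
  · intro Z f hf
    exact (FlatFun.genPSp_subsingleton S P (op Z)).elim _ _
  · intro t' _
    exact (FlatFun.genPSp_subsingleton S P (op T)).elim _ _

end Groth.Agent.Lib.Helper25.GenPSpSheaf
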