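import Mathlib
import Groth.Prelude.Def_FlatFun

/-!
# helper25 — LimPresGen: limit preservation of the subsingleton-valued presheaves `FlatFun.genPSp S P`
-/

set_option autoImplicit false
set_option linter.unusedVariables false
universe u
open AlgebraicGeometry CategoryTheory Limits Opposite

namespace Groth.Agent.Lib.Helper25.LimPresGen

/-- **criterion**: for a condition `P` stable under morphisms over `S`, the presheaf `genPSp S P` is
limit preserving as soon as `P` descends from an affine limit to a stage. -/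
theorem isLimitPreserving_genPSp {S : Scheme.{u}} (P : Over S → Prop)
    (hstab : ∀ ⦃T T₀ : Over S⦄ (_ : T ⟶ T₀), P T₀ → P T)
    (hdesc : ∀ ⦃I : Type u⦄ [SmallCategory I] [IsCofiltered I] (D : I ⥤ Over S) (c : Cone D),
      IsLimit ((Over.forget S).mapCone c) → (∀ i, IsAffine (D.obj i).left) → IsAffine c.pt.left →
        P c.pt → ∃ i, P (D.obj i)) :
    AlgSp.IsLimitPreserving (FlatFun.genPSp S P) := by
  intro I _ _ D c hc hD hT
  refine ⟨Types.FilteredColimit.isColimitOf' _ _ ?_ ?_⟩
  · intro x
    obtain ⟨T₀, k, hT₀⟩ := (FlatFun.genPSp_nonempty_iff P c.pt).1 ⟨x⟩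
    obtain ⟨i, hi⟩ := hdesc D c hc hD hT (hstab k hT₀)
    obtain ⟨xi⟩ := FlatFun.genPSp_nonempty_of P hi
    exact ⟨op i, xi, (FlatFun.genPSp_subsingleton S P (op c.pt)).elim _ _⟩
  · intro i x y _
    exact ⟨i, 𝟙 i, (FlatFun.genPSp_subsingleton S P (op (D.obj i.unop))).elim _ _⟩

end Groth.Agent.Lib.Helper25.LimPresGen
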