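import Mathlib
import Groth.Prelude.Def_FlatFun
import Groth.Prelude.Def_MorSch
import Groth.Agent.Lib.Helper25.LimPresGen

/-!
# helper25 — XTTower: the tower `X ×_S T_i` of a cofiltered system of `S`-schemes, its limit, and a criterion
for limit preservation of the functors `T ↦ Q (X_T ⟶ X)`.
-/

set_option autoImplicit false
set_option linter.unusedVariables false
set_option linter.style.haveILetI false
set_option linter.unusedSectionVars false
universe u
open AlgebraicGeometry CategoryTheory Limits Opposite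

namespace Groth.Agent.Lib.Helper25.XTTower

variable {X S : Scheme.{u}} (f : X ⟶ S)

theorem XTmap_snd {T T' : Over S} (k : T' ⟶ T) :
    PicF.XTmap f k ≫ PicF.XTproj f T = PicF.XTproj f T' ≫ k.left := by
  simp only [PicF.XTmap, pullback.map, pullback.lift_snd]

theorem isPullback_XTmap {T T' : Over S} (k : T' ⟶ T) :
    IsPullback (PicF.XTmap f k) (PicF.XTproj f T') (PicF.XTproj f T) k.left := by
  refine IsPullback.of_right ?_ (XTmap_snd f k) (IsPullback.of_hasPullback f T.hom)
  rw [FGA.XTmap_fst, Over.w k]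
  exact IsPullback.of_hasPullback f T'.hom

variable {I : Type u} [SmallCategory I] (D : I ⥤ Over S)

/-- the tower `i ↦ X ×_S T_i` -/
noncomputable def tower : I ⥤ Scheme.{u} where
  obj i := PicF.XT f (D.obj i)
  map φ := PicF.XTmap f (D.map φ)
  map_id i := by rw [D.map_id, MorSch.XTmap_id]
  map_comp φ ψ := by rw [D.map_comp, MorSch.XTmap_comp]

/-- the legs of a cone over `D`, with clean types -/
def cπ {D : I ⥤ Over S} (c : Cone D) (i : I) : c.pt ⟶ D.obj i := c.π.app i

theorem cπ_w {D : I ⥤ Over S} (c : Cone D) (i : I) : (cπ c i).left ≫ (D.obj i).hom = c.pt.hom :=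
  Over.w (c.π.app i)

theorem cπ_map {D : I ⥤ Over S} (c : Cone D) {i j : I} (φ : i ⟶ j) : cπ c i ≫ D.map φ = cπ c j :=
  c.w φ

/-- the cone over the tower given by a cone over `D` -/
noncomputable def towerCone (c : Cone D) : Cone (tower f D) where
  pt := PicF.XT f c.pt
  π :=
    { app := fun i => PicF.XTmap f (cπ c i)
      naturality := fun i j φ => by
        change 𝟙 _ ≫ PicF.XTmap f (cπ c j) = PicF.XTmap f (cπ c i) ≫ PicF.XTmap f (D.map φ)
        rw [Category.id_comp, ← MorSch.XTmap_comp, cπ_map] }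

variable [IsCofiltered I]

section Lift

variable {f D}
variable (s : Cone (tower f D))

/-- the legs of a cone over the tower, with clean types -/
noncomputable def sπ (i : I) : s.pt ⟶ PicF.XT f (D.obj i) := s.π.app i

omit [IsCofiltered I] in
theorem sπ_map {i j : I} (φ : i ⟶ j) : sπ s i ≫ PicF.XTmap f (D.map φ) = sπ s j := s.w φ

omit [IsCofiltered I] in
theorem π_fst_eq_of_hom {i j : I} (φ : i ⟶ j) :
    sπ s j ≫ pullback.fst f (D.obj j).hom = sπ s i ≫ pullback.fst f (D.obj i).hom := by
  rw [← sπ_map s φ, Category.assoc, FGA.XTmap_fst]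

theorem π_fst_eq (i j : I) :
    sπ s i ≫ pullback.fst f (D.obj i).hom = sπ s j ≫ pullback.fst f (D.obj j).hom := by
  rw [π_fst_eq_of_hom s (IsCofiltered.minToLeft i j), π_fst_eq_of_hom s (IsCofiltered.minToRight i j)]

/-- the cone over `D ⋙ Over.forget S` given by the second projections -/
noncomputable def sndCone : Cone (D ⋙ Over.forget S) where
  pt := s.pt
  π :=
    { app := fun i => sπ s i ≫ PicF.XTproj f (D.obj i)
      naturality := fun i j φ => by
        change 𝟙 _ ≫ sπ s j ≫ PicF.XTproj f (D.obj j) =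
          (sπ s i ≫ PicF.XTproj f (D.obj i)) ≫ (D.map φ).left
        rw [Category.id_comp, ← sπ_map s φ, Category.assoc, XTmap_snd, Category.assoc] }

variable {c : Cone D} (hc : IsLimit ((Over.forget S).mapCone c))

/-- the induced map to the limit of the base -/
noncomputable def lft : s.pt ⟶ c.pt.left := hc.lift (sndCone s)

omit [IsCofiltered I] in
theorem lft_left (i : I) : lft s hc ≫ (cπ c i).left = sπ s i ≫ PicF.XTproj f (D.obj i) :=
  hc.fac (sndCone s) i

omit [IsCofiltered I] in
include hc in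
theorem hom_ext_left {W : Scheme.{u}} {a b : W ⟶ c.pt.left}
    (h : ∀ i, a ≫ (cπ c i).left = b ≫ (cπ c i).left) : a = b :=
  hc.hom_ext h

end Lift

/-- **the tower cone over a limit cone is a limit cone** -/
noncomputable def towerIsLimit (c : Cone D) (hc : IsLimit ((Over.forget S).mapCone c)) :
    IsLimit (towerCone f D c) := by
  have i₁ : I := (IsCofiltered.nonempty (C := I)).some
  have hsnd : ∀ i, PicF.XTmap f (cπ c i) ≫ pullback.snd f (D.obj i).hom =
      pullback.snd f c.pt.hom ≫ (cπ c i).left := fun i => XTmap_snd f (cπ c i)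
  have hcond : ∀ s : Cone (tower f D),
      (sπ s i₁ ≫ pullback.fst f (D.obj i₁).hom) ≫ f = lft s hc ≫ c.pt.hom := by
    intro s
    rw [← cπ_w c i₁, ← Category.assoc, lft_left s hc i₁, Category.assoc, Category.assoc,
      pullback.condition]
  refine
    { lift := fun s => pullback.lift (sπ s i₁ ≫ pullback.fst f (D.obj i₁).hom)
        (lft s hc) (hcond s)
      fac := fun s i => ?_
      uniq := fun s m hm => ?_ }
  · change pullback.lift (sπ s i₁ ≫ pullback.fst f (D.obj i₁).hom) (lft s hc) (hcond s) ≫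
      PicF.XTmap f (cπ c i) = sπ s i
    apply pullback.hom_ext
    · rw [Category.assoc, FGA.XTmap_fst, pullback.lift_fst, π_fst_eq s i₁ i]
    · rw [Category.assoc, hsnd i, pullback.lift_snd_assoc]
      exact lft_left s hc i
  · obtain ⟨m', hmm'⟩ : ∃ m' : s.pt ⟶ pullback f c.pt.hom, m' = m := ⟨m, rfl⟩
    have hm' : ∀ i, m' ≫ PicF.XTmap f (cπ c i) = sπ s i := fun i => by rw [hmm']; exact hm i
    rw [← hmm']
    change m' = pullback.lift (sπ s i₁ ≫ pullback.fst f (D.obj i₁).hom) (lft s hc) (hcond s)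
    apply pullback.hom_ext
    · rw [pullback.lift_fst, ← hm' i₁, Category.assoc, FGA.XTmap_fst]
    · rw [pullback.lift_snd]
      refine hom_ext_left hc fun i => ?_
      rw [lft_left s hc i, ← hm' i, Category.assoc, Category.assoc, hsnd i]

omit [IsCofiltered I] in
theorem isAffineHom_tower_map (hD : ∀ i, IsAffine (D.obj i).left) {i j : I} (φ : i ⟶ j) :
    IsAffineHom ((tower f D).map φ) := by
  haveI := hD i
  haveI := hD j
  haveI : IsAffineHom (D.map φ).left := isAffineHom_of_isAffine _
  exact MorphismProperty.of_isPullback (P := @IsAffineHom) (isPullback_XTmap f (D.map φ)).flip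
    inferInstance

omit [IsCofiltered I] in
theorem compactSpace_tower_obj [QuasiCompact f] (hD : ∀ i, IsAffine (D.obj i).left) (i : I) :
    CompactSpace ↥((tower f D).obj i) := by
  haveI := hD i
  haveI : QuasiCompact (PicF.XTproj f (D.obj i)) :=
    show QuasiCompact (pullback.snd f (D.obj i).hom) from inferInstance
  change CompactSpace ↥(PicF.XT f (D.obj i))
  exact QuasiCompact.compactSpace_of_compactSpace (PicF.XTproj f (D.obj i))

/-- **criterion for limit preservation** of the functor `T ↦ Q (X ×_S T ⟶ X)`: it is enough that `Q` is stable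
under precomposition and descends from the limit of a tower with affine transition maps to a stage. -/
theorem isLimitPreserving_pullback_fst [QuasiCompact f]
    (Q : ∀ ⦃Y : Scheme.{u}⦄, (Y ⟶ X) → Prop)
    (hcomp : ∀ ⦃Y Y' : Scheme.{u}⦄ (h : Y' ⟶ Y) (g : Y ⟶ X), Q g → Q (h ≫ g))
    (hdesc : ∀ ⦃J : Type u⦄ [SmallCategory J] [IsCofiltered J] (E : J ⥤ Scheme.{u}) (e : Cone E),
      IsLimit e → (∀ (i j : J) (φ : i ⟶ j), IsAffineHom (E.map φ)) → ∀ (j₀ : J),
      CompactSpace ↥(E.obj j₀) → ∀ g₀ : E.obj j₀ ⟶ X, Q (e.π.app j₀ ≫ g₀) →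
        ∃ (j : J) (φ : j ⟶ j₀), Q (E.map φ ≫ g₀)) :
    AlgSp.IsLimitPreserving (FlatFun.genPSp S (fun T => Q (pullback.fst f T.hom))) := by
  refine Groth.Agent.Lib.Helper25.LimPresGen.isLimitPreserving_genPSp _ ?_ ?_
  · intro T T₀ k h
    have := hcomp (PicF.XTmap f k) _ h
    rwa [FGA.XTmap_fst] at this
  · intro I _ _ D c hc hD hT h
    obtain ⟨i₀⟩ := IsCofiltered.nonempty (C := I)
    have h1 : Q ((towerCone f D c).π.app i₀ ≫ pullback.fst f (D.obj i₀).hom) := by
      change Q (PicF.XTmap f (cπ c i₀) ≫ pullback.fst f (D.obj i₀).hom)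
      rw [FGA.XTmap_fst]
      exact h
    obtain ⟨j, φ, hj⟩ := hdesc (tower f D) (towerCone f D c) (towerIsLimit f D c hc)
      (fun i j φ => isAffineHom_tower_map f D hD φ) i₀ (compactSpace_tower_obj f D hD i₀)
      (pullback.fst f (D.obj i₀).hom) h1
    refine ⟨j, ?_⟩
    change Q (PicF.XTmap f (D.map φ) ≫ pullback.fst f (D.obj i₀).hom) at hj
    rwa [FGA.XTmap_fst] at hj

end Groth.Agent.Lib.Helper25.XTTower
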