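import Mathlib
import Groth.Agent.Lib.Helper25.GenPSpSheaf
import Groth.Agent.Lib.Helper25.XTTower

/-!
# helper25 — FpqcGenPSp: criterion for the fpqc sheaf property of the functors `T ↦ Q (X ×_S T ⟶ X)`.
-/

set_option autoImplicit false
set_option linter.unusedVariables false
set_option linter.style.haveILetI false
universe u
open AlgebraicGeometry CategoryTheory Limits Opposite

namespace Groth.Agent.Lib.Helper25.FpqcGenPSp

open Groth.Agent.Lib.Helper25.XTTower

variable {X S : Scheme.{u}} (f : X ⟶ S)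

/-- the base change of a flat morphism of `S`-schemes -/
theorem flat_XTmap {T T' : Over S} (k : T' ⟶ T) [Flat k.left] : Flat (PicF.XTmap f k) :=
  MorphismProperty.of_isPullback (P := @Flat) (isPullback_XTmap f k).flip inferInstance

/-- the base change of a jointly surjective family is jointly surjective -/
theorem surj_XTmap {T : Over S} {ι : Type*} (Ti : ι → Over S) (g : ∀ i, Ti i ⟶ T)
    (hsurj : ∀ x : T.left, ∃ i, x ∈ Set.range (g i).left) (y : ↥(PicF.XT f T)) :
    ∃ i, y ∈ Set.range (PicF.XTmap f (g i)) := by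
  obtain ⟨i, t, ht⟩ := hsurj (PicF.XTproj f T y)
  obtain ⟨p, hp, -⟩ := Scheme.exists_preimage_of_isPullback (isPullback_XTmap f (g i)) y t
    ht.symm
  exact ⟨i, p, hp⟩

/-- **criterion for the fpqc sheaf property** of the functor `T ↦ Q (X ×_S T ⟶ X)`: `Q` is stable under
precomposition and local for flat jointly surjective families. -/
theorem isSheaf_fpqc_pullback_fst (Q : ∀ ⦃Y : Scheme.{u}⦄, (Y ⟶ X) → Prop)
    (hcomp : ∀ ⦃Y Y' : Scheme.{u}⦄ (h : Y' ⟶ Y) (g : Y ⟶ X), Q g → Q (h ≫ g))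
    (hloc : ∀ ⦃Y : Scheme.{u}⦄ (g : Y ⟶ X) {ι : Type (u + 1)} (Y' : ι → Scheme.{u})
      (h : ∀ i, Y' i ⟶ Y), (∀ i, Flat (h i)) → (∀ y : Y, ∃ i, y ∈ Set.range (h i)) →
      (∀ i, Q (h i ≫ g)) → Q g) :
    Presheaf.IsSheaf (QuotSh.J Scheme.fpqcPrecoverage S)
      (FlatFun.genPSp S (fun T => Q (pullback.fst f T.hom))) := by
  refine Groth.Agent.Lib.Helper25.GenPSpSheaf.isSheaf_genPSp_fpqc _ ?_ ?_
  · intro T T₀ k h
    have := hcomp (PicF.XTmap f k) _ h
    rwa [FGA.XTmap_fst] at this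
  · intro T ι Ti g hsurj hflat hP
    refine hloc (pullback.fst f T.hom) (fun i => PicF.XT f (Ti i)) (fun i => PicF.XTmap f (g i))
      (fun i => haveI := hflat i; flat_XTmap f (g i)) (surj_XTmap f Ti g hsurj) (fun i => ?_)
    rw [FGA.XTmap_fst]
    exact hP i

end Groth.Agent.Lib.Helper25.FpqcGenPSp
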