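import Mathlib
import Groth.Agent.Lib.Helper7.FibrePD
import Groth.Agent.Lib.Helper21.FlatDescA

/-!
# helper25 — FreeBC: freeness of a relatively flat finitely presented module at a point descends from a base
change (algebra core of EGA IV 11.3.? : the free locus commutes with base change).
-/

set_option autoImplicit false
set_option linter.unusedVariables false
set_option linter.style.haveILetI false
universe u
open TensorProduct Function

namespace Groth.Agent.Lib.Helper25.FreeBC

section Tower

variable {A S₁ S₂ : Type u} [CommRing A] [CommRing S₁] [CommRing S₂] [Algebra A S₁] [Algebra S₁ S₂]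
  [Algebra A S₂] [IsScalarTower A S₁ S₂]
  {K F : Type u} [AddCommGroup K] [Module A K] [AddCommGroup F] [Module A F]

theorem cancelBaseChange_naturality (ι : K →ₗ[A] F) (z : S₂ ⊗[S₁] (S₁ ⊗[A] K)) :
    TensorProduct.AlgebraTensorModule.cancelBaseChange A S₁ S₂ S₂ F
        (((ι.baseChange S₁).baseChange S₂) z) =
      (ι.baseChange S₂) (TensorProduct.AlgebraTensorModule.cancelBaseChange A S₁ S₂ S₂ K z) := by
  induction z using TensorProduct.induction_on with
  | zero => simp
  | tmul s y =>
    induction y using TensorProduct.induction_on with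
    | zero => simp
    | tmul t k => simp
    | add y₁ y₂ h₁ h₂ => simp only [tmul_add, map_add, h₁, h₂]
  | add z₁ z₂ h₁ h₂ => simp only [map_add, h₁, h₂]

/-- base change in two steps is injective iff the one step base change is -/
theorem injective_baseChange_tower (ι : K →ₗ[A] F) :
    Injective ((ι.baseChange S₁).baseChange S₂) ↔ Injective (ι.baseChange S₂) := by
  constructor
  · intro h a b hab
    obtain ⟨a', rfl⟩ := (TensorProduct.AlgebraTensorModule.cancelBaseChange A S₁ S₂ S₂ K).surjective a
    obtain ⟨b', rfl⟩ := (TensorProduct.AlgebraTensorModule.cancelBaseChange A S₁ S₂ S₂ K).surjective b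
    rw [← cancelBaseChange_naturality, ← cancelBaseChange_naturality] at hab
    rw [h ((TensorProduct.AlgebraTensorModule.cancelBaseChange A S₁ S₂ S₂ F).injective hab)]
  · intro h a b hab
    apply (TensorProduct.AlgebraTensorModule.cancelBaseChange A S₁ S₂ S₂ K).injective
    apply h
    rw [← cancelBaseChange_naturality, ← cancelBaseChange_naturality, hab]

end Tower

section Main

open IsLocalRing

set_option maxHeartbeats 1600000 in
set_option synthInstance.maxHeartbeats 200000 in
/-- **descent of freeness from a base change**: `M` finitely presented over `B₁`, flat over `R`; `C'` a flat local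
algebra over `B₁ ⊗_R R'` and `B₀` a local `B₁`-algebra mapping locally to `C'`.  If `C' ⊗ M` is free then
`B₀ ⊗ M` is free. -/
theorem free_of_free_baseChange (R : Type u) {B₁ : Type u} [CommRing R] [CommRing B₁] [Algebra R B₁]
    (M : Type u) [AddCommGroup M] [Module B₁ M] [Module R M] [IsScalarTower R B₁ M]
    [Module.FinitePresentation B₁ M] [Module.Flat R M]
    (R' : Type u) [CommRing R'] [Algebra R R']
    (C' : Type u) [CommRing C'] [IsLocalRing C'] [Algebra (B₁ ⊗[R] R') C'] [Module.Flat (B₁ ⊗[R] R') C']
    [Algebra B₁ C'] [IsScalarTower B₁ (B₁ ⊗[R] R') C']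
    (B₀ : Type u) [CommRing B₀] [IsLocalRing B₀] [Algebra B₁ B₀] [Algebra B₀ C']
    [IsScalarTower B₁ B₀ C'] [IsLocalHom (algebraMap B₀ C')]
    (h : Module.Free C' (C' ⊗[B₁] M)) : Module.Free B₀ (B₀ ⊗[B₁] M) := by
  obtain ⟨n, π, hπ⟩ := Module.Finite.exists_fin' B₁ M
  let K := LinearMap.ker π
  let ι : K →ₗ[B₁] (Fin n → B₁) := K.subtype
  have hι : Injective ι := K.injective_subtype
  have hex : Exact ι π := LinearMap.exact_subtype_ker_map π
  haveI hKfg : Module.Finite B₁ K := Module.Finite.iff_fg.2 (Module.FinitePresentation.fg_ker π hπ)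
  -- step 1: base change to `B₁ ⊗_R R'`
  have h1 : Injective (ι.baseChange (B₁ ⊗[R] R')) :=
    (Groth.Agent.Lib.Helper7.FibrePD.baseChange_shortExact ι π hι hex hπ R').1
  -- step 2: to `C'`
  have h2 : Injective ((ι.baseChange (B₁ ⊗[R] R')).baseChange C') :=
    Module.Flat.lTensor_preserves_injective_linearMap (M := C') (ι.baseChange (B₁ ⊗[R] R')) h1
  have h2' : Injective (ι.baseChange C') := (injective_baseChange_tower ι).1 h2
  -- step 3: to the residue field of `C'`
  have hex' : Exact (ι.baseChange C') (π.baseChange C') := lTensor_exact C' hex hπ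
  have hπ' : Surjective (π.baseChange C') := LinearMap.lTensor_surjective C' hπ
  haveI : Module.Flat C' (C' ⊗[B₁] M) := Module.Flat.of_free
  have h3 : Injective ((ι.baseChange C').baseChange (ResidueField C')) :=
    Groth.Agent.Lib.Helper21.FlatDesc.lTensor_injective_of_flat_coker (ι.baseChange C') (π.baseChange C')
      h2' hex' hπ' (ResidueField C')
  have h3' : Injective (ι.baseChange (ResidueField C')) := (injective_baseChange_tower ι).1 h3
  -- step 4: descend along the residue field extension
  have h4 : Injective ((ι.baseChange (ResidueField B₀)).baseChange (ResidueField C')) :=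
    (injective_baseChange_tower ι).2 h3'
  have h4' : Injective (ι.baseChange (ResidueField B₀)) :=
    (Module.FaithfullyFlat.lTensor_injective_iff_injective (ResidueField B₀) (ResidueField C')
      (ι.baseChange (ResidueField B₀))).1 h4
  -- step 5
  have h5 : Injective ((ι.baseChange B₀).baseChange (ResidueField B₀)) :=
    (injective_baseChange_tower ι).2 h4'
  exact Module.free_of_lTensor_residueField_injective (f := ι.baseChange B₀) (g := π.baseChange B₀)
    (LinearMap.lTensor_surjective B₀ hπ) (lTensor_exact B₀ hex hπ) h5

end Main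

end Groth.Agent.Lib.Helper25.FreeBC
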