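import Mathlib

/-!
# helper25 — FreeFib: a finitely presented module over a local `A`-algebra `B`, flat over `A`, whose fibre
`M / m_A M` is free over `B / m_A B`, is free over `B` (no Noetherian hypotheses)
-/

set_option autoImplicit false
set_option linter.unusedVariables false
set_option linter.style.haveILetI false
set_option linter.unusedSectionVars false
universe u
open IsLocalRing

namespace Groth.Agent.Lib.Helper25.FreeFib

section Pure

variable {A : Type u} [CommRing A] {L M : Type u} [AddCommGroup L] [Module A L] [AddCommGroup M] [Module A M]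

/-- the kernel of a surjection onto a flat module is pure: `ker φ ∩ J L = J ker φ` -/
theorem mem_smul_ker_of_flat [Module.Flat A M] (φ : L →ₗ[A] M) (hφ : Function.Surjective φ) (J : Ideal A)
    (x : L) (hx : φ x = 0) (hxJ : x ∈ J • (⊤ : Submodule A L)) : x ∈ J • LinearMap.ker φ := by
  classical
  have hspan : (⊤ : Submodule A L) = Submodule.span A (Set.range (id : L → L)) := by
    rw [Set.range_id, Submodule.span_univ]
  rw [hspan, Submodule.mem_ideal_smul_span_iff_exists_sum] at hxJ
  obtain ⟨a, haJ, hax⟩ := hxJ
  -- the relation in `M`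
  let ι := {l : L // l ∈ a.support}
  let f : ι → A := fun l => a l.1
  let xs : ι → M := fun l => φ l.1
  have hax' : x = ∑ l ∈ a.support, a l • l := by
    rw [← hax]; rfl
  have hsum : (∑ i : ι, f i • xs i : M) = 0 := by
    have h1 : (∑ i : ι, f i • xs i : M) = ∑ l ∈ a.support, a l • φ l :=
      Finset.sum_coe_sort a.support (fun l => a l • φ l)
    rw [h1, ← hx, hax', map_sum]
    exact Finset.sum_congr rfl fun l _ => (map_smul φ _ _).symm
  obtain ⟨k, c, y, hxy, hc⟩ := Module.Flat.isTrivialRelation_of_sum_smul_eq_zero hsum
  choose l' hl' using fun j => hφ (y j)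
  let κ : ι → L := fun i => i.1 - ∑ j, c i j • l' j
  have hκ : ∀ i, κ i ∈ LinearMap.ker φ := by
    intro i
    rw [LinearMap.mem_ker]
    show φ (i.1 - ∑ j, c i j • l' j) = 0
    rw [map_sub, map_sum]
    have : ∑ j, φ (c i j • l' j) = ∑ j, c i j • y j :=
      Finset.sum_congr rfl fun j _ => by rw [map_smul, hl']
    rw [this, ← hxy i, sub_self]
  have hx' : x = ∑ i : ι, f i • κ i := by
    have h1 : x = ∑ i : ι, f i • i.1 := by
      rw [hax']
      exact (Finset.sum_coe_sort a.support (fun l => a l • l)).symm
    have h2 : ∑ i : ι, f i • ∑ j, c i j • l' j = 0 := by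
      have : ∑ i : ι, f i • ∑ j, c i j • l' j = ∑ j, (∑ i : ι, f i * c i j) • l' j := by
        simp_rw [Finset.smul_sum, smul_smul, Finset.sum_smul]
        exact Finset.sum_comm
      rw [this]
      exact Finset.sum_eq_zero fun j _ => by rw [hc j, zero_smul]
    calc x = ∑ i : ι, f i • i.1 := h1
      _ = ∑ i : ι, f i • i.1 - ∑ i : ι, f i • ∑ j, c i j • l' j := by rw [h2, sub_zero]
      _ = ∑ i : ι, f i • κ i := by
        rw [← Finset.sum_sub_distrib]
        exact Finset.sum_congr rfl fun i _ => by rw [← smul_sub]
  rw [hx']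
  exact Submodule.sum_mem _ fun i _ => Submodule.smul_mem_smul (haJ i.1) (hκ i)

end Pure

section Endo

/-- a surjective endomorphism of a Noetherian ring is injective -/
theorem injective_of_surjective_endo {R : Type u} [CommRing R] [IsNoetherianRing R] (σ : R →+* R)
    (hσ : Function.Surjective σ) : Function.Injective σ := by
  let K : ℕ →o Ideal R := ⟨fun n => RingHom.ker (σ ^ n), by
    refine monotone_nat_of_le_succ fun n x hx => ?_
    rw [RingHom.mem_ker] at hx ⊢
    rw [pow_succ', RingHom.mul_def, RingHom.comp_apply, hx, map_zero]⟩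
  obtain ⟨n, hn⟩ := monotone_stabilizes_iff_noetherian.mpr (inferInstance : IsNoetherian R R) K
  have hsn : Function.Surjective (σ ^ n) := by
    rw [RingHom.coe_pow]
    exact hσ.iterate n
  rw [injective_iff_map_eq_zero]
  intro x hx
  obtain ⟨y, rfl⟩ := hsn x
  have hy : y ∈ RingHom.ker (σ ^ (n + 1)) := by
    rw [RingHom.mem_ker, pow_succ', RingHom.mul_def, RingHom.comp_apply, hx]
  have h1 : RingHom.ker (σ ^ n) = RingHom.ker (σ ^ (n + 1)) := hn (n + 1) (Nat.le_succ n)
  rw [← h1, RingHom.mem_ker] at hy
  exact hy

/-- if `R' ≃ B / I` abstractly, `R'` is Noetherian and `φ : B → R'` is surjective with `I ≤ ker φ`, then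
`ker φ = I` -/
theorem ker_le_of_ringEquiv {B R' : Type u} [CommRing B] [CommRing R'] [IsNoetherianRing R'] (I : Ideal B)
    (ε : R' ≃+* B ⧸ I) (φ : B →+* R') (hφ : Function.Surjective φ) (hI : I ≤ RingHom.ker φ) :
    RingHom.ker φ ≤ I := by
  let ψ : B ⧸ I →+* R' := Ideal.Quotient.lift I φ (fun a ha => hI ha)
  have hψ : Function.Surjective ψ := Ideal.Quotient.lift_surjective_of_surjective I _ hφ
  have hσ : Function.Surjective (ψ.comp ε.toRingHom) := hψ.comp ε.surjective
  have hinj := injective_of_surjective_endo _ hσ
  have hψinj : Function.Injective ψ := by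
    intro a b hab
    obtain ⟨a', rfl⟩ := ε.surjective a
    obtain ⟨b', rfl⟩ := ε.surjective b
    exact congrArg ε (hinj hab)
  intro x hx
  rw [RingHom.mem_ker] at hx
  have : ψ (Ideal.Quotient.mk I x) = ψ 0 := by
    rw [map_zero]; exact hx
  exact Ideal.Quotient.eq_zero_iff_mem.mp (hψinj this)

end Endo

section Main

variable (A B : Type u) [CommRing A] [CommRing B] [IsLocalRing A] [IsLocalRing B] [Algebra A B]
  [IsLocalHom (algebraMap A B)]
  (M : Type u) [AddCommGroup M] [Module B M] [Module A M] [IsScalarTower A B M]
  [Module.FinitePresentation B M] [Module.Flat A M]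

set_option maxHeartbeats 800000 in
/-- **freeness from the fibre**: `A → B` local, `M` a finitely presented `B`-module flat over `A`; if the fibre
`M / m_A M` is free (expressed through a semilinear isomorphism with a free module `N` over a quotient `R'` of `B`
by an ideal contained in `m_A B`), then `M` is free. -/
theorem free_of_fibre_free
    (R' : Type u) [CommRing R'] (N : Type u) [AddCommGroup N] [Module R' N] [Module.Free R' N]
    [Module.Finite R' N]
    (φ : B →+* R') (hφ : Function.Surjective φ)
    (I : Ideal B) (hI : I = (maximalIdeal A).map (algebraMap A B))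
    (hker : RingHom.ker φ ≤ I)
    (e : (M ⧸ I • (⊤ : Submodule B M)) ≃+ N)
    (he : ∀ (b : B) (x : M ⧸ I • (⊤ : Submodule B M)), e (b • x) = φ b • e x) : Module.Free B M := by
  classical
  have hIm : I ≤ maximalIdeal B := by
    rw [hI]
    exact ((IsLocalRing.local_hom_TFAE (algebraMap A B)).out 0 2).mp
      (inferInstance : IsLocalHom (algebraMap A B))
  have hIjac : I ≤ Ideal.jacobson ⊥ := by
    rw [IsLocalRing.jacobson_eq_maximalIdeal ⊥ bot_ne_top]; exact hIm
  let ι := Module.Free.ChooseBasisIndex R' N
  let bN : Module.Basis ι R' N := Module.Free.chooseBasis R' N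
  have hm : ∀ i, ∃ m : M, e (Submodule.Quotient.mk m) = bN i := fun i => by
    obtain ⟨q, hq⟩ := e.surjective (bN i)
    obtain ⟨m, rfl⟩ := Submodule.Quotient.mk_surjective _ q
    exact ⟨m, hq⟩
  choose m hm using hm
  let φL : (ι →₀ B) →ₗ[B] M := Finsupp.linearCombination B m
  have hemk : ∀ l : ι →₀ B, e (Submodule.Quotient.mk (φL l)) = ∑ i ∈ l.support, φ (l i) • bN i := by
    intro l
    show e ((Submodule.mkQ (I • (⊤ : Submodule B M))) (Finsupp.linearCombination B m l)) = _
    rw [Finsupp.linearCombination_apply, Finsupp.sum, map_sum, map_sum]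
    refine Finset.sum_congr rfl fun i _ => ?_
    rw [map_smul, he]
    show φ (l i) • e (Submodule.Quotient.mk (m i)) = _
    rw [hm]
  -- surjectivity
  have hsurj : Function.Surjective φL := by
    rw [← LinearMap.range_eq_top, eq_top_iff]
    refine Submodule.le_of_le_smul_of_le_jacobson_bot (I := I) Module.Finite.fg_top hIjac ?_
    intro x _
    -- write `e (mk x)` in the basis
    obtain ⟨l, hl⟩ : ∃ l : ι →₀ B, ∀ i, φ (l i) = bN.repr (e (Submodule.Quotient.mk x)) i := by
      choose g hg using fun i => hφ (bN.repr (e (Submodule.Quotient.mk x)) i)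
      refine ⟨Finsupp.onFinset (bN.repr (e (Submodule.Quotient.mk x))).support
        (fun i => if i ∈ (bN.repr (e (Submodule.Quotient.mk x))).support then g i else 0) ?_, ?_⟩
      · intro i hi
        by_contra hni
        exact hi (if_neg hni)
      · intro i
        rw [Finsupp.onFinset_apply]
        split_ifs with h
        · exact hg i
        · rw [map_zero]
          exact (Finsupp.notMem_support_iff.mp h).symm
    have hxl : e (Submodule.Quotient.mk x) = e (Submodule.Quotient.mk (φL l)) := by
      rw [hemk]
      conv_lhs => rw [← bN.linearCombination_repr (e (Submodule.Quotient.mk x)),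
        Finsupp.linearCombination_apply, Finsupp.sum]
      have h1 : ∑ i ∈ (bN.repr (e (Submodule.Quotient.mk x))).support,
          (bN.repr (e (Submodule.Quotient.mk x))) i • bN i =
          ∑ i ∈ (bN.repr (e (Submodule.Quotient.mk x))).support ∪ l.support,
            (bN.repr (e (Submodule.Quotient.mk x))) i • bN i := by
        refine Finset.sum_subset Finset.subset_union_left fun i _ hi => ?_
        rw [Finsupp.notMem_support_iff.mp hi, zero_smul]
      have h2 : ∑ i ∈ l.support, φ (l i) • bN i =
          ∑ i ∈ (bN.repr (e (Submodule.Quotient.mk x))).support ∪ l.support, φ (l i) • bN i := by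
        refine Finset.sum_subset Finset.subset_union_right fun i _ hi => ?_
        rw [Finsupp.notMem_support_iff.mp hi, map_zero, zero_smul]
      rw [h1, h2]
      exact Finset.sum_congr rfl fun i _ => by rw [hl]
    have hmem : x - φL l ∈ I • (⊤ : Submodule B M) := by
      have := e.injective hxl
      rwa [Submodule.Quotient.eq] at this
    have hx : x = φL l + (x - φL l) := by abel
    rw [hx]
    exact Submodule.add_mem_sup (LinearMap.mem_range_self φL l) hmem
  -- injectivity
  have hK : (LinearMap.ker φL).FG := Module.FinitePresentation.fg_ker φL hsurj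
  have hKI : LinearMap.ker φL ≤ I • LinearMap.ker φL := by
    intro x hx
    rw [LinearMap.mem_ker] at hx
    -- coordinates of `x` lie in `I`
    have hcoord : ∀ i, x i ∈ I := by
      intro i
      apply hker
      rw [RingHom.mem_ker]
      have h0 : ∑ j ∈ x.support, φ (x j) • bN j = 0 := by
        rw [← hemk, hx, Submodule.Quotient.mk_zero, map_zero]
      have h1 : (Finsupp.linearCombination R' bN) (Finsupp.onFinset x.support (fun j => φ (x j)) (by
          intro j hj
          by_contra hnj
          exact hj (by rw [Finsupp.notMem_support_iff.mp hnj, map_zero]))) = 0 := by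
        rw [Finsupp.linearCombination_apply, Finsupp.sum]
        rw [← h0]
        refine (Finset.sum_subset (Finsupp.support_onFinset_subset) fun j _ hj => ?_)
        rw [Finsupp.notMem_support_iff.mp hj, zero_smul]
      have h2 := (LinearMap.ker_eq_bot.mpr bN.linearIndependent) ▸ (LinearMap.mem_ker.mpr h1)
      rw [Submodule.mem_bot] at h2
      have := DFunLike.congr_fun h2 i
      simpa [Finsupp.onFinset_apply] using this
    have hxI : x ∈ I • (⊤ : Submodule B (ι →₀ B)) := by
      have hx' : x = ∑ i ∈ x.support, x i • Finsupp.single i (1 : B) := by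
        conv_lhs => rw [← Finsupp.sum_single x, Finsupp.sum]
        exact Finset.sum_congr rfl fun i _ => by rw [Finsupp.smul_single, smul_eq_mul, mul_one]
      rw [hx']
      exact Submodule.sum_mem _ fun i _ => Submodule.smul_mem_smul (hcoord i) Submodule.mem_top
    -- pass to `A`
    have hxA : x ∈ (maximalIdeal A) • (⊤ : Submodule A (ι →₀ B)) := by
      have h1 : (I • (⊤ : Submodule B (ι →₀ B))).restrictScalars A =
          (maximalIdeal A) • ((⊤ : Submodule B (ι →₀ B)).restrictScalars A) := by
        rw [hI]; exact Ideal.smul_restrictScalars _ _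
      rw [Submodule.restrictScalars_top] at h1
      rw [← h1]
      exact hxI
    have h3 := mem_smul_ker_of_flat (φL.restrictScalars A) hsurj (maximalIdeal A) x hx hxA
    have h4 : (I • LinearMap.ker φL).restrictScalars A =
        (maximalIdeal A) • ((LinearMap.ker φL).restrictScalars A) := by
      rw [hI]; exact Ideal.smul_restrictScalars _ _
    have h5 : x ∈ (I • LinearMap.ker φL).restrictScalars A := by
      rw [h4]
      exact h3
    exact h5
  have hKbot : LinearMap.ker φL = ⊥ :=
    Submodule.eq_bot_of_le_smul_of_le_jacobson_bot I _ hK hKI hIjac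
  exact Module.Free.of_equiv (LinearEquiv.ofBijective φL ⟨LinearMap.ker_eq_bot.mp hKbot, hsurj⟩)

end Main

end Groth.Agent.Lib.Helper25.FreeFib
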