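import Mathlib
import Groth.Prelude.Def_CInt
import Groth.Prelude.Def_TorSh
import Groth.Prelude.Def_CohB1
import Groth.Prelude.Def_FlatMod2
import Groth.Agent.Lib.Helper25.FreeFib
import Groth.Agent.Lib.Helper25.FlatChartGen
import Groth.Agent.Lib.Helper21.MCopT
import Groth.Agent.Lib.Helper21.FibreStalk
import Groth.Agent.Lib.Helper5.RegSmoothScheme2
import Groth.Agent.Lib.Helper13.RegDimOne
import Groth.Agent.Lib.Helper29.FPFree

/-!
# helper25 — FreeFibSch: an `S`-flat finitely presented module on a smooth `S`-scheme with torsion-free fibres is free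
near the points of fibre codimension at most one
-/

set_option autoImplicit false
set_option linter.unusedVariables false
set_option linter.style.haveILetI false
set_option linter.unusedSectionVars false
universe u
open AlgebraicGeometry CategoryTheory Limits IsLocalRing

namespace Groth.Agent.Lib.Helper25.FreeFibSch

open Groth.Agent.Lib.Helper21.FibreStalk Groth.Agent.Lib.Helper21.MCop

set_option maxHeartbeats 1600000 in
set_option synthInstance.maxHeartbeats 200000 in
/-- the stalk at `x` is free -/
theorem free_stalk_of_smooth {X S : Scheme.{u}} (f : X ⟶ S) [Smooth f] (F : X.Modules)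
    [SheafOfModules.IsFinitePresentation.{u} (R := X.ringCatSheaf) F]
    (hfl : FlatMod.IsFlatOver f F)
    (htf : ∀ s : S, TorSh.IsTorsionFree ((Scheme.Modules.pullback (f.fiberι s)).obj F))
    (x : X) (hx : ringKrullDim (CInt.fiberStalk f x) ≤ 1) :
    Module.Free (X.presheaf.stalk x) (F.presheaf.stalk x) := by
  haveI : F.IsQuasicoherent :=
    Groth.Agent.Lib.Helper29.FPDict.isQuasicoherent_of_isFinitePresentation F
  letI aO : Algebra (S.presheaf.stalk (f x)) (X.presheaf.stalk x) := (f.stalkMap x).hom.toAlgebra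
  haveI : IsLocalHom (algebraMap (S.presheaf.stalk (f x)) (X.presheaf.stalk x)) :=
    inferInstanceAs (IsLocalHom (f.stalkMap x).hom)
  letI mA : Module (S.presheaf.stalk (f x)) (F.presheaf.stalk x) := FlatMod.moduleStalkOver f F x
  haveI : IsScalarTower (S.presheaf.stalk (f x)) (X.presheaf.stalk x) (F.presheaf.stalk x) :=
    IsScalarTower.of_algebraMap_smul fun _ _ => rfl
  haveI : Module.FinitePresentation (X.presheaf.stalk x) (F.presheaf.stalk x) :=
    Groth.Agent.Lib.Helper29.FPFree.fp_stalk F x
  haveI : Module.Flat (S.presheaf.stalk (f x)) (F.presheaf.stalk x) := hfl x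
  -- the fibre
  haveI : Smooth (f.fiberToSpecResidueField (f x)) :=
    inferInstanceAs (Smooth (pullback.snd f (S.fromSpecResidueField (f x))))
  haveI hreg : IsRegularLocalRing (CInt.fiberStalk f x) :=
    Groth.Agent.Lib.Helper5.RegSmooth.regular_stalk_of_smooth (S.residueField (f x)) (f.fiber (f x))
      (f.fiberToSpecResidueField (f x)) (f.asFiber x)
  obtain ⟨hdom, hval⟩ := Groth.Agent.Lib.Helper13.RegDimOne.isDomain_and_valuationRing
    (CInt.fiberStalk f x) hx
  haveI : IsPrincipalIdealRing (CInt.fiberStalk f x) :=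
    ((IsBezout.TFAE (R := CInt.fiberStalk f x)).out 0 1).mp
      (inferInstance : IsNoetherianRing (CInt.fiberStalk f x))
  -- the fibre module
  haveI := Groth.Agent.Lib.Helper25.FlatChartGen.isFinitePresentation_pullback (f.fiberι (f x)) F
  haveI : Module.FinitePresentation (CInt.fiberStalk f x)
      (((Scheme.Modules.pullback (f.fiberι (f x))).obj F).presheaf.stalk (f.asFiber x)) :=
    Groth.Agent.Lib.Helper29.FPFree.fp_stalk _ (f.asFiber x)
  haveI : Module.IsTorsionFree (CInt.fiberStalk f x)
      (((Scheme.Modules.pullback (f.fiberι (f x))).obj F).presheaf.stalk (f.asFiber x)) :=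
    htf (f x) (f.asFiber x)
  haveI hNfree : Module.Free (CInt.fiberStalk f x)
      (((Scheme.Modules.pullback (f.fiberι (f x))).obj F).presheaf.stalk (f.asFiber x)) :=
    Module.free_of_finite_type_torsion_free'
  obtain ⟨φ, e, hφ, he⟩ := semiEquiv_fibre f F x
  by_cases hN : Subsingleton
      (((Scheme.Modules.pullback (f.fiberι (f x))).obj F).presheaf.stalk (f.asFiber x))
  · -- the zero case
    haveI : Subsingleton (F.presheaf.stalk x ⧸ (fibIdeal f x •
        (⊤ : Submodule (X.presheaf.stalk x) (F.presheaf.stalk x)))) := e.toEquiv.subsingleton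
    have htop : fibIdeal f x • (⊤ : Submodule (X.presheaf.stalk x) (F.presheaf.stalk x)) = ⊤ :=
      Submodule.Quotient.subsingleton_iff.mp inferInstance
    have hjac : fibIdeal f x ≤ Ideal.jacobson ⊥ := by
      rw [IsLocalRing.jacobson_eq_maximalIdeal ⊥ bot_ne_top]
      exact fibIdeal_le_maximalIdeal f x
    have hbot : (⊤ : Submodule (X.presheaf.stalk x) (F.presheaf.stalk x)) = ⊥ :=
      Submodule.eq_bot_of_le_smul_of_le_jacobson_bot (fibIdeal f x) ⊤ Module.Finite.fg_top
        (le_of_eq htop.symm) hjac
    haveI : Subsingleton (F.presheaf.stalk x) := by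
      rw [← Submodule.subsingleton_iff (X.presheaf.stalk x)]
      exact subsingleton_of_bot_eq_top hbot.symm
    exact Module.Free.of_subsingleton _ _
  · rw [not_subsingleton_iff_nontrivial] at hN
    -- `fibIdeal ≤ ker φ`
    have hIker : fibIdeal f x ≤ RingHom.ker φ := by
      intro a ha
      rw [RingHom.mem_ker]
      obtain ⟨n, hn⟩ := exists_ne (0 : ((Scheme.Modules.pullback (f.fiberι (f x))).obj F).presheaf.stalk
        (f.asFiber x))
      by_contra hne
      have h1 : φ a • n = 0 := by
        obtain ⟨q, rfl⟩ := e.surjective n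
        rw [← he]
        obtain ⟨m, rfl⟩ := Submodule.Quotient.mk_surjective _ q
        rw [← Submodule.Quotient.mk_smul]
        have : (Submodule.Quotient.mk (a • m) : F.presheaf.stalk x ⧸ (fibIdeal f x •
            (⊤ : Submodule (X.presheaf.stalk x) (F.presheaf.stalk x)))) = 0 := by
          rw [Submodule.Quotient.mk_eq_zero]
          exact Submodule.smul_mem_smul ha Submodule.mem_top
        rw [this, map_zero]
      rcases smul_eq_zero.mp h1 with h | h
      · exact hne h
      · exact hn h
    obtain ⟨ε⟩ := nonempty_fibreStalkEquiv f x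
    have hker : RingHom.ker φ ≤ fibIdeal f x :=
      Groth.Agent.Lib.Helper25.FreeFib.ker_le_of_ringEquiv (fibIdeal f x) ε φ hφ hIker
    exact Groth.Agent.Lib.Helper25.FreeFib.free_of_fibre_free (S.presheaf.stalk (f x)) (X.presheaf.stalk x)
      (F.presheaf.stalk x) (CInt.fiberStalk f x) _ φ hφ (fibIdeal f x) rfl hker e he

/-- **free near points of fibre codimension at most one** -/
theorem exists_free_nhd_of_smooth {X S : Scheme.{u}} (f : X ⟶ S) [Smooth f] (F : X.Modules)
    (hfp : CohB1.IsFP F) (hfl : FlatMod.IsFlatOver f F)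
    (htf : ∀ s : S, TorSh.IsTorsionFree ((Scheme.Modules.pullback (f.fiberι s)).obj F))
    (x : X) (hx : ringKrullDim (CInt.fiberStalk f x) ≤ 1) :
    ∃ (V : X.Opens) (n : ℕ), x ∈ V ∧ Nonempty (F.restrict V.ι ≅ FlatMod.freeMod (↑V) n) := by
  haveI : SheafOfModules.IsFinitePresentation.{u} (R := X.ringCatSheaf) F := hfp
  have hfree := free_stalk_of_smooth f F hfl htf x hx
  obtain ⟨U, hU, hxU, -⟩ := (TopologicalSpace.Opens.isBasis_iff_nbhd.1 X.isBasis_affineOpens)
    (show x ∈ (⊤ : X.Opens) from trivial)
  obtain ⟨g, n, τ, hxg, hτ⟩ :=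
    Groth.Agent.Lib.Helper29.FPFree.exists_isBasisOn_of_free_stalk F hU x hxU hfree
  exact ⟨X.basicOpen g, n, hxg, hτ.nonempty_iso⟩

end Groth.Agent.Lib.Helper25.FreeFibSch
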