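import Mathlib
import Groth.Agent.Lib.Helper17.FibreStalk
import Groth.Agent.Lib.Helper7.FPKerScheme
import Groth.Agent.Lib.Helper29.FPDict
import Groth.Agent.Lib.Helper25.FreeBC

/-!
# helper25 — FreeLocusBC: the free locus of a relatively flat finitely presented module commutes with base change.
-/

set_option backward.isDefEq.respectTransparency.types false
set_option autoImplicit false
set_option linter.unusedVariables false
set_option linter.style.haveILetI false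
universe u
open AlgebraicGeometry CategoryTheory Limits TensorProduct

namespace Groth.Agent.Lib.Helper25.FreeLocusBC

open Groth.Agent.Lib.Helper17.ModStalk Groth.Agent.Lib.Helper17.FibreStalk in
set_option maxHeartbeats 1600000 in
set_option synthInstance.maxHeartbeats 200000 in
/-- the two stalks in a pullback square, in terms of the sections of `F` over an affine chart -/
theorem exists_chart_data {X S X' S' : Scheme.{u}} (f : X ⟶ S) (f' : X' ⟶ S') (g' : X' ⟶ X)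
    (g : S' ⟶ S) (hc : IsPullback g' f' f g) (F : X.Modules)
    [SheafOfModules.IsFinitePresentation.{u} (R := X.ringCatSheaf) F]
    (hfl : FlatMod.IsFlatOver f F) (x' : X') :
    letI := (g'.stalkMap x').hom.toAlgebra
    (Module.Free (X'.presheaf.stalk x') ((X'.presheaf.stalk x') ⊗[X.presheaf.stalk (g' x')]
        (F.presheaf.stalk (g' x'))) →
      Module.Free (X.presheaf.stalk (g' x')) (F.presheaf.stalk (g' x'))) := by
  haveI : F.IsQuasicoherent := Groth.Agent.Lib.Helper29.FPDict.isQuasicoherent_of_isFinitePresentation F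
  obtain ⟨US, UX, UT, hUSX, hUST, hUS, hUX, hUT, hUY, hxUX, hxUT, hpo⟩ := exists_affine_chart hc x'
  set UY := g' ⁻¹ᵁ UX ⊓ f' ⁻¹ᵁ UT with hUYdef
  have hxUY : x' ∈ UY := ⟨hxUX, hxUT⟩
  -- rings
  letI algRA : Algebra Γ(S, US) Γ(X, UX) := (f.appLE US UX hUSX).hom.toAlgebra
  letI algRB : Algebra Γ(S, US) Γ(S', UT) := (g.appLE US UT hUST).hom.toAlgebra
  letI algAC : Algebra Γ(X, UX) Γ(X', UY) := (g'.appLE UX UY inf_le_left).hom.toAlgebra
  letI algBC : Algebra Γ(S', UT) Γ(X', UY) := (f'.appLE UT UY inf_le_right).hom.toAlgebra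
  letI algRC : Algebra Γ(S, US) Γ(X', UY) :=
    ((algebraMap Γ(X, UX) Γ(X', UY)).comp (algebraMap Γ(S, US) Γ(X, UX))).toAlgebra
  haveI : IsScalarTower Γ(S, US) Γ(X, UX) Γ(X', UY) := IsScalarTower.of_algebraMap_eq (fun _ => rfl)
  haveI : IsScalarTower Γ(S, US) Γ(S', UT) Γ(X', UY) := by
    refine IsScalarTower.of_algebraMap_eq' ?_
    exact congrArg CommRingCat.Hom.hom hpo.w
  haveI hpush : Algebra.IsPushout Γ(S, US) Γ(X, UX) Γ(S', UT) Γ(X', UY) :=
    CommRingCat.isPushout_iff_isPushout.mp hpo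
  -- stalk rings
  letI algAAp : Algebra Γ(X, UX) (X.presheaf.stalk (g' x')) := (X.presheaf.germ UX (g' x') hxUX).hom.toAlgebra
  letI algCCp : Algebra Γ(X', UY) (X'.presheaf.stalk x') := (X'.presheaf.germ UY x' hxUY).hom.toAlgebra
  letI algApCp : Algebra (X.presheaf.stalk (g' x')) (X'.presheaf.stalk x') := (g'.stalkMap x').hom.toAlgebra
  letI algACp : Algebra Γ(X, UX) (X'.presheaf.stalk x') :=
    ((algebraMap Γ(X', UY) (X'.presheaf.stalk x')).comp (algebraMap Γ(X, UX) Γ(X', UY))).toAlgebra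
  haveI : IsScalarTower Γ(X, UX) Γ(X', UY) (X'.presheaf.stalk x') := IsScalarTower.of_algebraMap_eq (fun _ => rfl)
  haveI : IsScalarTower Γ(X, UX) (X.presheaf.stalk (g' x')) (X'.presheaf.stalk x') := by
    refine IsScalarTower.of_algebraMap_eq (fun a => ?_)
    change X'.presheaf.germ UY x' hxUY (g'.appLE UX UY inf_le_left a) =
      g'.stalkMap x' (X.presheaf.germ UX (g' x') hxUX a)
    rw [Scheme.Hom.germ_stalkMap_apply, Scheme.Hom.appLE]
    exact (TopCat.Presheaf.germ_res_apply X'.presheaf (homOfLE inf_le_left) x' hxUY _)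
  haveI : IsLocalization (hUX.primeIdealOf ⟨g' x', hxUX⟩).asIdeal.primeCompl (X.presheaf.stalk (g' x')) :=
    hUX.isLocalization_stalk ⟨g' x', hxUX⟩
  haveI : IsLocalization (hUY.primeIdealOf ⟨x', hxUY⟩).asIdeal.primeCompl (X'.presheaf.stalk x') :=
    hUY.isLocalization_stalk ⟨x', hxUY⟩
  haveI : Module.Flat Γ(X', UY) (X'.presheaf.stalk x') :=
    IsLocalization.flat _ (hUY.primeIdealOf ⟨x', hxUY⟩).asIdeal.primeCompl
  haveI : IsLocalHom (algebraMap (X.presheaf.stalk (g' x')) (X'.presheaf.stalk x')) :=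
    g'.toLRSHom.prop x'
  -- the tensor product ring
  let eT : Γ(X, UX) ⊗[Γ(S, US)] Γ(S', UT) ≃ₐ[Γ(X, UX)] Γ(X', UY) :=
    Algebra.IsPushout.equiv Γ(S, US) Γ(X, UX) Γ(S', UT) Γ(X', UY)
  letI algTC : Algebra (Γ(X, UX) ⊗[Γ(S, US)] Γ(S', UT)) Γ(X', UY) := eT.toAlgHom.toRingHom.toAlgebra
  letI algTCp : Algebra (Γ(X, UX) ⊗[Γ(S, US)] Γ(S', UT)) (X'.presheaf.stalk x') :=
    ((algebraMap Γ(X', UY) (X'.presheaf.stalk x')).comp
      (algebraMap (Γ(X, UX) ⊗[Γ(S, US)] Γ(S', UT)) Γ(X', UY))).toAlgebra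
  haveI : IsScalarTower (Γ(X, UX) ⊗[Γ(S, US)] Γ(S', UT)) Γ(X', UY) (X'.presheaf.stalk x') :=
    IsScalarTower.of_algebraMap_eq (fun _ => rfl)
  haveI : Module.Flat (Γ(X, UX) ⊗[Γ(S, US)] Γ(S', UT)) Γ(X', UY) := by
    let eL : (Γ(X, UX) ⊗[Γ(S, US)] Γ(S', UT)) ≃ₗ[Γ(X, UX) ⊗[Γ(S, US)] Γ(S', UT)] Γ(X', UY) :=
      { eT.toLinearEquiv.toAddEquiv with
        map_smul' := fun r y => by
          change eT (r * y) = eT r * eT y
          exact map_mul eT r y }
    exact Module.Flat.of_linearEquiv eL.symm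
  haveI : Module.Flat (Γ(X, UX) ⊗[Γ(S, US)] Γ(S', UT)) (X'.presheaf.stalk x') :=
    Module.Flat.trans _ Γ(X', UY) _
  haveI : IsScalarTower Γ(X, UX) (Γ(X, UX) ⊗[Γ(S, US)] Γ(S', UT)) (X'.presheaf.stalk x') := by
    refine IsScalarTower.of_algebraMap_eq (fun a => ?_)
    change algebraMap Γ(X', UY) (X'.presheaf.stalk x') (algebraMap Γ(X, UX) Γ(X', UY) a) =
      algebraMap Γ(X', UY) (X'.presheaf.stalk x') (eT (algebraMap Γ(X, UX) _ a))
    rw [eT.commutes]
  -- the module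
  letI mR : Module Γ(S, US) Γ(F, UX) := Module.compHom _ (algebraMap Γ(S, US) Γ(X, UX))
  haveI : IsScalarTower Γ(S, US) Γ(X, UX) Γ(F, UX) := IsScalarTower.of_compHom _ _ _
  haveI : Module.FinitePresentation Γ(X, UX) Γ(F, UX) :=
    Groth.Agent.Lib.Helper29.FPDict.fp_of_isAffineOpen F hUX
  haveI : Module.Flat Γ(S, US) Γ(F, UX) :=
    Groth.Agent.Lib.Helper7.FPKer.flat_sections_of_isFlatOver f F hfl hUX hUS hUSX
  -- the stalk of `F` as a base change of the sections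
  letI mA : Module Γ(X, UX) (F.presheaf.stalk (g' x')) := moduleStalkSections F UX (g' x') hxUX
  haveI : IsScalarTower Γ(X, UX) (X.presheaf.stalk (g' x')) (F.presheaf.stalk (g' x')) :=
    IsScalarTower.of_compHom _ _ _
  haveI := isLocalizedModule_germLinear F hUX (g' x') hxUX
  have hbc : IsBaseChange (X.presheaf.stalk (g' x')) (germLinear F UX (g' x') hxUX) :=
    IsLocalizedModule.isBaseChange (hUX.primeIdealOf ⟨g' x', hxUX⟩).asIdeal.primeCompl
      (X.presheaf.stalk (g' x')) (germLinear F UX (g' x') hxUX)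
  let e₀ : (X.presheaf.stalk (g' x')) ⊗[Γ(X, UX)] Γ(F, UX) ≃ₗ[X.presheaf.stalk (g' x')]
      F.presheaf.stalk (g' x') := hbc.equiv
  intro hfree
  -- transport the hypothesis
  let e₁ : (X'.presheaf.stalk x') ⊗[X.presheaf.stalk (g' x')] (F.presheaf.stalk (g' x')) ≃ₗ[X'.presheaf.stalk x']
      (X'.presheaf.stalk x') ⊗[X.presheaf.stalk (g' x')]
        ((X.presheaf.stalk (g' x')) ⊗[Γ(X, UX)] Γ(F, UX)) :=
    TensorProduct.AlgebraTensorModule.congr (LinearEquiv.refl _ _) e₀.symm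
  let e₂ : (X'.presheaf.stalk x') ⊗[X.presheaf.stalk (g' x')]
        ((X.presheaf.stalk (g' x')) ⊗[Γ(X, UX)] Γ(F, UX)) ≃ₗ[X'.presheaf.stalk x']
      (X'.presheaf.stalk x') ⊗[Γ(X, UX)] Γ(F, UX) :=
    TensorProduct.AlgebraTensorModule.cancelBaseChange Γ(X, UX) (X.presheaf.stalk (g' x'))
      (X'.presheaf.stalk x') (X'.presheaf.stalk x') Γ(F, UX)
  haveI : Module.Free (X'.presheaf.stalk x') ((X'.presheaf.stalk x') ⊗[Γ(X, UX)] Γ(F, UX)) :=
    Module.Free.of_equiv (e₁ ≪≫ₗ e₂)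
  haveI := Groth.Agent.Lib.Helper25.FreeBC.free_of_free_baseChange Γ(S, US) (B₁ := Γ(X, UX)) Γ(F, UX) Γ(S', UT)
    (X'.presheaf.stalk x') (X.presheaf.stalk (g' x'))
    (inferInstance : Module.Free (X'.presheaf.stalk x') ((X'.presheaf.stalk x') ⊗[Γ(X, UX)] Γ(F, UX)))
  exact Module.Free.of_equiv e₀

end Groth.Agent.Lib.Helper25.FreeLocusBC
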