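import Mathlib
import Groth.Prelude.Def_FrobAlg

/-!
# Relative Frobenius of an étale algebra is bijective (universe-polymorphic copy of the helpers of S3176)
-/

set_option autoImplicit false
set_option linter.unusedSectionVars false
set_option linter.style.haveILetI false
universe u v w
open FrobAlg

namespace Groth.Agent.Lib.Helper25.FrobEtale

open TensorProduct

section generic

variable {k : Type u} {W : Type w} {B : Type v} [CommRing k] [CommRing W] [CommRing B] [Algebra k W] [Algebra k B]

theorem surjective_of_frob (p : ℕ) [Fact p.Prime] [CharP B p]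
    [Algebra.FormallyUnramified k B] [Algebra.FiniteType k B]
    (φ : W →ₐ[k] B) (V : B → W) (h2 : ∀ b, φ (V b) = b ^ p) :
    Function.Surjective φ := by
  letI := φ.toRingHom.toAlgebra
  haveI : IsScalarTower k W B := IsScalarTower.of_algebraMap_eq (fun x => (φ.commutes x).symm)
  haveI : Algebra.FormallyUnramified W B := Algebra.FormallyUnramified.of_restrictScalars k W B
  haveI : Algebra.FiniteType W B := Algebra.FiniteType.of_restrictScalars_finiteType k W B
  have hsm : ∀ (w : W) (b : B), w • b = φ w * b := fun w b => rfl
  haveI : Algebra.IsIntegral W B := ⟨fun b => ⟨Polynomial.X ^ p - Polynomial.C (V b),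
    Polynomial.monic_X_pow_sub_C _ (Fact.out : p.Prime).ne_zero, by
      rw [Polynomial.eval₂_sub, Polynomial.eval₂_pow, Polynomial.eval₂_X, Polynomial.eval₂_C]
      change b ^ p - φ (V b) = 0
      rw [h2, sub_self]⟩⟩
  haveI : Module.Finite W B := Algebra.IsIntegral.finite
  have hepi : Algebra.IsEpi W B := by
    rw [Algebra.isEpi_iff_forall_one_tmul_eq]
    obtain ⟨t, ht1, ht2⟩ := Algebra.FormallyUnramified.iff_exists_tensorProduct.mp
      (inferInstance : Algebra.FormallyUnramified W B)
    have hp0 : ((p : ℕ) : B ⊗[W] B) = 0 := by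
      have : ((p : ℕ) : B ⊗[W] B) = algebraMap B (B ⊗[W] B) ((p : ℕ) : B) := by
        rw [map_natCast]
      rw [this, CharP.cast_eq_zero, map_zero]
    have hnil : ∀ s : B, IsNilpotent ((1 : B) ⊗ₜ[W] s - s ⊗ₜ[W] (1 : B)) := by
      intro s
      rcases subsingleton_or_nontrivial (B ⊗[W] B) with h | h
      · exact ⟨1, Subsingleton.elim _ _⟩
      · haveI : CharP (B ⊗[W] B) p := (CharP.charP_iff_prime_eq_zero (Fact.out : p.Prime)).mpr hp0
        refine ⟨p, ?_⟩
        rw [sub_pow_char, Algebra.TensorProduct.tmul_pow, Algebra.TensorProduct.tmul_pow,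
          one_pow, ← h2 s]
        have : φ (V s) = (V s) • (1 : B) := by rw [hsm, mul_one]
        rw [this, TensorProduct.tmul_smul, TensorProduct.smul_tmul', sub_self]
    have hJ : KaehlerDifferential.ideal W B ≤ nilradical (B ⊗[W] B) := by
      rw [← KaehlerDifferential.span_range_eq_ideal, Ideal.span_le]
      rintro _ ⟨s, rfl⟩
      exact hnil s
    have h1t : IsNilpotent (1 - t) := by
      apply hJ
      rw [KaehlerDifferential.ideal, RingHom.mem_ker, map_sub, map_one]
      change 1 - Algebra.TensorProduct.lmul' W t = 0
      rw [ht2, sub_self]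
    have hu : IsUnit t := by
      have := h1t.isUnit_one_sub
      rwa [sub_sub_cancel] at this
    intro a
    have := ht1 a
    rw [hu.mul_left_eq_zero, sub_eq_zero] at this
    exact this
  exact (Algebra.isEpi_iff_surjective_algebraMap_of_finite).mp hepi

theorem bijective_of_frob (p : ℕ) [Fact p.Prime] [CharP B p]
    [Algebra.Etale k W] [Algebra.Etale k B]
    (φ : W →ₐ[k] B) (V : B → W) (h1 : ∀ w, V (φ w) = w ^ p) (h2 : ∀ b, φ (V b) = b ^ p) :
    Function.Bijective φ := by
  have hs : Function.Surjective φ := surjective_of_frob p φ V h2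
  have hfg : (RingHom.ker (φ : W →+* B)).FG := Algebra.FinitePresentation.ker_fG_of_surjective φ hs
  have hnil : IsNilpotent (RingHom.ker (φ : W →+* B)) := by
    rw [Ideal.FG.isNilpotent_iff_le_nilradical hfg]
    intro w hw
    refine ⟨p, ?_⟩
    have : φ w = 0 := hw
    have e1 : V 0 = 0 := by
      have := h1 0
      rwa [map_zero, zero_pow (Fact.out : p.Prime).ne_zero] at this
    rw [← h1 w, this, e1]
    exact Submodule.zero_mem _
  refine ⟨?_, hs⟩
  let σ : B →ₐ[k] W := Algebra.FormallySmooth.liftOfSurjective (AlgHom.id k B) φ hs hnil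
  have hσ : ∀ b, φ (σ b) = b := fun b =>
    Algebra.FormallySmooth.liftOfSurjective_apply (AlgHom.id k B) φ hs hnil b
  have := Algebra.FormallyUnramified.ext' (φ : W →+* B) hnil (σ.comp φ) (AlgHom.id k W)
    (fun x => by simp [hσ])
  intro x y hxy
  have hx := AlgHom.congr_fun this x
  have hy := AlgHom.congr_fun this y
  simp only [AlgHom.comp_apply, AlgHom.id_apply] at hx hy
  rw [← hx, ← hy, hxy]

end generic

section frob

variable (p : ℕ) [Fact p.Prime] (A : Type u) [CommRing A] [CharP A p]
  (B : Type v) [CommRing B] [Algebra A B] [CharP B p]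

theorem relFrob_tmul (b : B) (a : Twist p A) :
    relFrob p A B (b ⊗ₜ a) = b ^ p * algebraMap A B ((toTwist p A).symm a) := by
  simp [relFrob, frobHom, inclHom]
  rw [frobenius_def]

/-- `B` as an algebra over the twisted copy of `A` (same structure map). -/
@[reducible] def algTB : Algebra (Twist p A) B := inferInstanceAs (Algebra A B)

/-- The relative Frobenius as an algebra map over the twisted copy of `A`. -/
noncomputable def relFrobAlg :
    letI := algTB p A B
    BaseChange p A B →ₐ[Twist p A] B :=
  letI := algTB p A B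
  { relFrob p A B with
    commutes' := fun t => by
      change relFrob p A B (1 ⊗ₜ t) = _
      rw [relFrob_tmul, one_pow, one_mul]
      rfl }

theorem relFrobAlg_apply (w : BaseChange p A B) :
    letI := algTB p A B
    relFrobAlg p A B w = relFrob p A B w := rfl

theorem relFrob_includeLeft (w : BaseChange p A B) :
    (relFrob p A B w) ⊗ₜ[A] (1 : Twist p A) = w ^ p := by
  rcases subsingleton_or_nontrivial (BaseChange p A B) with h | h
  · exact Subsingleton.elim _ _
  · have hp0 : ((p : ℕ) : BaseChange p A B) = 0 := by
      have : ((p : ℕ) : BaseChange p A B) = algebraMap B (BaseChange p A B) ((p : ℕ) : B) := by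
        rw [map_natCast]
      rw [this, CharP.cast_eq_zero, map_zero]
    haveI : CharP (BaseChange p A B) p :=
      (CharP.charP_iff_prime_eq_zero (Fact.out : p.Prime)).mpr hp0
    induction w using TensorProduct.induction_on with
    | zero => rw [map_zero, TensorProduct.zero_tmul, zero_pow (Fact.out : p.Prime).ne_zero]
    | tmul b t =>
      rw [relFrob_tmul, Algebra.TensorProduct.tmul_pow, mul_comm, ← Algebra.smul_def,
        TensorProduct.smul_tmul, Algebra.smul_def, mul_one, algebraMap_twist]
      rfl
    | add x y hx hy => rw [map_add, TensorProduct.add_tmul, hx, hy, add_pow_char]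

theorem relFrob_bijective_of_etale [Algebra.Etale A B] :
    Function.Bijective (relFrob p A B) := by
  letI := algTB p A B
  haveI : Algebra.Etale (Twist p A) B := ‹Algebra.Etale A B›
  haveI : Algebra.Etale (Twist p A) (BaseChange p A B) :=
    Algebra.Etale.of_equiv (Algebra.TensorProduct.commRight A (Twist p A) B)
  exact bijective_of_frob p (relFrobAlg p A B) (fun b => b ⊗ₜ 1)
    (fun w => relFrob_includeLeft p A B w)
    (fun b => by
      rw [relFrobAlg_apply, relFrob_tmul, map_one, map_one, mul_one])

end frob

end Groth.Agent.Lib.Helper25.FrobEtale
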