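import Mathlib

set_option autoImplicit false
set_option linter.unusedSectionVars false
set_option linter.style.haveILetI false
set_option linter.unusedVariables false

/-!
# Generation of `GL_n` of a local ring by transvections and diagonal matrices
-/

namespace Groth.Agent.Lib.Helper25.LocalGen

open Matrix

universe v w

section defs
variable (ι : Type w) [Fintype ι] [DecidableEq ι] (B : Type v) [CommRing B]

/-- the generators: transvections and diagonal matrices with unit entries -/
def gens : Set (Matrix ι ι B) :=
  {M | ∃ i j x, i ≠ j ∧ M = transvection i j x} ∪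
    {M | ∃ d : ι → B, (∀ i, IsUnit (d i)) ∧ M = diagonal d}

/-- the submonoid they generate -/
def H : Submonoid (Matrix ι ι B) := Submonoid.closure (gens ι B)

end defs

section basics
variable {ι κ : Type w} [Fintype ι] [DecidableEq ι] [Fintype κ] [DecidableEq κ]
  {B : Type v} [CommRing B]

lemma transvection_mem {i j : ι} (h : i ≠ j) (x : B) : transvection i j x ∈ H ι B :=
  Submonoid.subset_closure (Or.inl ⟨i, j, x, h, rfl⟩)

lemma diagonal_mem {d : ι → B} (h : ∀ i, IsUnit (d i)) : diagonal d ∈ H ι B :=
  Submonoid.subset_closure (Or.inr ⟨d, h, rfl⟩)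

lemma submatrix_transvection (e : ι ≃ κ) (i j : κ) (x : B) :
    (transvection i j x).submatrix e e = transvection (e.symm i) (e.symm j) x := by
  ext a b
  simp only [transvection, submatrix_apply, Matrix.add_apply, Matrix.one_apply, Matrix.single, of_apply]
  have h1 : (e a = e b) ↔ (a = b) := e.injective.eq_iff
  have h2 : (i = e a) ↔ (e.symm i = a) := by
    constructor
    · rintro rfl; simp
    · rintro rfl; simp
  have h3 : (j = e b) ↔ (e.symm j = b) := by
    constructor
    · rintro rfl; simp
    · rintro rfl; simp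
  simp only [h1, h2, h3]

/-- transport along an equivalence of index types -/
lemma submatrix_mem (e : ι ≃ κ) {N : Matrix κ κ B} (hN : N ∈ H κ B) :
    N.submatrix e e ∈ H ι B := by
  induction hN using Submonoid.closure_induction with
  | mem x hx =>
    rcases hx with ⟨i, j, c, hij, rfl⟩ | ⟨d, hd, rfl⟩
    · rw [submatrix_transvection]
      exact transvection_mem (fun h => hij (e.symm.injective h)) c
    · rw [submatrix_diagonal_equiv]
      exact diagonal_mem (fun i => hd _)
  | one => rw [submatrix_one_equiv]; exact Submonoid.one_mem _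
  | mul x y _ _ hx hy => rw [← submatrix_mul_equiv x y e e e]; exact Submonoid.mul_mem _ hx hy

/-- block embedding -/
lemma fromBlocks_mem {A : Matrix ι ι B} (hA : A ∈ H ι B) :
    fromBlocks A 0 0 (1 : Matrix Unit Unit B) ∈ H (ι ⊕ Unit) B := by
  induction hA using Submonoid.closure_induction with
  | mem x hx =>
    rcases hx with ⟨i, j, c, hij, rfl⟩ | ⟨d, hd, rfl⟩
    · have := TransvectionStruct.toMatrix_sumInl Unit (⟨i, j, hij, c⟩ : TransvectionStruct ι B)
      change _ = fromBlocks (transvection i j c) 0 0 1 at this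
      rw [← this]
      exact transvection_mem (by simp [TransvectionStruct.sumInl, hij]) c
    · rw [← diagonal_one, fromBlocks_diagonal]
      apply diagonal_mem
      rintro (i | i)
      · exact hd i
      · exact isUnit_one
  | one => rw [fromBlocks_one]; exact Submonoid.one_mem _
  | mul x y _ _ hx hy =>
    have : fromBlocks (x * y) 0 0 (1 : Matrix Unit Unit B) =
        fromBlocks x 0 0 1 * fromBlocks y 0 0 1 := by
      rw [fromBlocks_multiply]
      simp
    rw [this]
    exact Submonoid.mul_mem _ hx hy

lemma fromBlocks_upper_single (i : ι) (x : B) :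
    fromBlocks (1 : Matrix ι ι B) (Matrix.single i () x) 0 (1 : Matrix Unit Unit B) =
      transvection (Sum.inl i) (Sum.inr ()) x := by
  ext (a | a) (b | b) <;> simp [transvection, Matrix.single, one_apply]

lemma fromBlocks_lower_single (i : ι) (x : B) :
    fromBlocks (1 : Matrix ι ι B) 0 (Matrix.single () i x) (1 : Matrix Unit Unit B) =
      transvection (Sum.inr ()) (Sum.inl i) x := by
  ext (a | a) (b | b) <;> simp [transvection, Matrix.single, one_apply]

lemma upper_mem (V : Matrix ι Unit B) :
    fromBlocks (1 : Matrix ι ι B) V 0 (1 : Matrix Unit Unit B) ∈ H (ι ⊕ Unit) B := by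
  induction V using Matrix.induction_on' with
  | h_zero => rw [fromBlocks_one]; exact Submonoid.one_mem _
  | h_add p q hp hq =>
    have : fromBlocks (1 : Matrix ι ι B) (p + q) 0 (1 : Matrix Unit Unit B) =
        fromBlocks 1 p 0 1 * fromBlocks 1 q 0 1 := by
      rw [fromBlocks_multiply]
      simp [add_comm]
    rw [this]
    exact Submonoid.mul_mem _ hp hq
  | h_std_basis i j x =>
    rw [fromBlocks_upper_single]
    exact transvection_mem (by simp) x

lemma lower_mem (W : Matrix Unit ι B) :
    fromBlocks (1 : Matrix ι ι B) 0 W (1 : Matrix Unit Unit B) ∈ H (ι ⊕ Unit) B := by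
  induction W using Matrix.induction_on' with
  | h_zero => rw [fromBlocks_one]; exact Submonoid.one_mem _
  | h_add p q hp hq =>
    have : fromBlocks (1 : Matrix ι ι B) 0 (p + q) (1 : Matrix Unit Unit B) =
        fromBlocks 1 0 p 1 * fromBlocks 1 0 q 1 := by
      rw [fromBlocks_multiply]
      simp
    rw [this]
    exact Submonoid.mul_mem _ hp hq
  | h_std_basis i j x =>
    rw [fromBlocks_lower_single]
    exact transvection_mem (by simp) x

end basics

section step
variable {ι : Type w} [Fintype ι] [DecidableEq ι] {B : Type v} [CommRing B]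

/-- the inductive step when the corner entry is a unit -/
lemma mem_of_corner_isUnit (IH : ∀ A : Matrix ι ι B, IsUnit A.det → A ∈ H ι B)
    (M : Matrix (ι ⊕ Unit) (ι ⊕ Unit) B) (hdet : IsUnit M.det)
    (hc : IsUnit (M (Sum.inr ()) (Sum.inr ()))) : M ∈ H (ι ⊕ Unit) B := by
  set A := M.toBlocks₁₁ with hA
  set V := M.toBlocks₁₂ with hV
  set W := M.toBlocks₂₁ with hW
  set D := M.toBlocks₂₂ with hD
  have hDdet : D.det = M (Sum.inr ()) (Sum.inr ()) := by
    rw [det_unique]; rfl
  haveI : Invertible D := by
    apply Matrix.invertibleOfIsUnitDet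
    rw [hDdet]; exact hc
  have hM : M = fromBlocks A V W D := (fromBlocks_toBlocks M).symm
  have hdet' : M.det = D.det * (A - V * ⅟D * W).det := by
    rw [hM]; exact det_fromBlocks₂₂ A V W D
  have hA' : IsUnit (A - V * ⅟D * W).det := by
    rw [hdet'] at hdet
    exact isUnit_of_mul_isUnit_right hdet
  have hDdiag : D = diagonal (fun _ => M (Sum.inr ()) (Sum.inr ())) := by
    ext a b
    simp [hD, toBlocks₂₂]
  have hmid : fromBlocks (A - V * ⅟D * W) 0 0 D =
      fromBlocks (A - V * ⅟D * W) 0 0 1 * fromBlocks 1 0 0 D := by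
    rw [fromBlocks_multiply]; simp
  have hdiagD : fromBlocks (1 : Matrix ι ι B) 0 0 D ∈ H (ι ⊕ Unit) B := by
    rw [hDdiag, ← diagonal_one, fromBlocks_diagonal]
    apply diagonal_mem
    rintro (i | i)
    · exact isUnit_one
    · exact hc
  rw [hM, fromBlocks_eq_of_invertible₂₂, hmid]
  exact Submonoid.mul_mem _ (Submonoid.mul_mem _ (upper_mem _)
    (Submonoid.mul_mem _ (fromBlocks_mem (IH _ hA')) hdiagD)) (lower_mem _)

variable [IsLocalRing B]

/-- over a local ring, some entry of the last column of an invertible matrix is a unit -/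
lemma exists_isUnit_col (M : Matrix (ι ⊕ Unit) (ι ⊕ Unit) B) (hdet : IsUnit M.det) :
    ∃ a, IsUnit (M a (Sum.inr ())) := by
  by_contra hcon
  simp only [not_exists] at hcon
  let φ := IsLocalRing.residue B
  have h0 : ∀ a, (M.map φ) a (Sum.inr ()) = 0 := by
    intro a
    rw [map_apply]
    exact (IsLocalRing.residue_eq_zero_iff _).2 ((IsLocalRing.mem_maximalIdeal _).2 (hcon a))
  have hz : (M.map φ).det = 0 := det_eq_zero_of_column_eq_zero (Sum.inr ()) h0
  have : φ M.det = 0 := by
    rw [RingHom.map_det]; exact hz
  have hm : M.det ∈ IsLocalRing.maximalIdeal B := (IsLocalRing.residue_eq_zero_iff _).1 this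
  exact (IsLocalRing.mem_maximalIdeal _).1 hm hdet

lemma mem_step (IH : ∀ A : Matrix ι ι B, IsUnit A.det → A ∈ H ι B)
    (M : Matrix (ι ⊕ Unit) (ι ⊕ Unit) B) (hdet : IsUnit M.det) : M ∈ H (ι ⊕ Unit) B := by
  by_cases hc : IsUnit (M (Sum.inr ()) (Sum.inr ()))
  · exact mem_of_corner_isUnit IH M hdet hc
  · obtain ⟨a, ha⟩ := exists_isUnit_col M hdet
    rcases a with i | u
    · -- add row `i` to the last row
      have hne : (Sum.inr () : ι ⊕ Unit) ≠ Sum.inl i := by simp
      set M' := transvection (Sum.inr ()) (Sum.inl i) (1 : B) * M with hM'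
      have hdet' : IsUnit M'.det := by
        rw [hM', det_mul, det_transvection_of_ne _ _ hne, one_mul]; exact hdet
      have hc' : IsUnit (M' (Sum.inr ()) (Sum.inr ())) := by
        rw [hM', transvection_mul_apply_same, one_mul]
        by_contra hnu
        have h1 : M (Sum.inr ()) (Sum.inr ()) ∈ nonunits B := hc
        have h2 : M (Sum.inr ()) (Sum.inr ()) + M (Sum.inl i) (Sum.inr ()) ∈ nonunits B := hnu
        have h3 : -(M (Sum.inr ()) (Sum.inr ())) ∈ nonunits B := by
          rw [mem_nonunits_iff, IsUnit.neg_iff]; exact h1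
        have := IsLocalRing.nonunits_add h2 h3
        rw [add_neg_cancel_comm] at this
        exact this ha
      have hmem := mem_of_corner_isUnit IH M' hdet' hc'
      have hback : M = transvection (Sum.inr ()) (Sum.inl i) (-1 : B) * M' := by
        rw [hM', ← Matrix.mul_assoc, transvection_mul_transvection_same _ _ hne]
        simp
      rw [hback]
      exact Submonoid.mul_mem _ (transvection_mem hne _) hmem
    · exact absurd ha hc

end step

section main
variable {B : Type v} [CommRing B] [IsLocalRing B]

/-- **Generation.** Over a local ring every matrix with unit determinant is a product of transvections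
and invertible diagonal matrices. -/
theorem mem_H_of_isUnit_det : ∀ (r : ℕ) (ι : Type) [Fintype ι] [DecidableEq ι],
    Fintype.card ι = r → ∀ M : Matrix ι ι B, IsUnit M.det → M ∈ H ι B := by
  intro r
  induction r with
  | zero =>
    intro ι _ _ hcard M _
    haveI : IsEmpty ι := Fintype.card_eq_zero_iff.1 hcard
    have : M = 1 := Subsingleton.elim _ _
    rw [this]; exact Submonoid.one_mem _
  | succ r ih =>
    intro ι _ _ hcard M hM
    have e : ι ≃ Fin r ⊕ Unit := by
      have e1 : ι ≃ Fin (r + 1) := Fintype.equivFinOfCardEq hcard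
      have e2 : Fin r ⊕ Unit ≃ Fin (r + 1) :=
        (Equiv.sumCongr (Equiv.refl _) (finOneEquiv.symm)).trans finSumFinEquiv
      exact e1.trans e2.symm
    have hN : (M.submatrix e.symm e.symm) ∈ H (Fin r ⊕ Unit) B := by
      apply mem_step (ih (Fin r) (Fintype.card_fin r))
      rw [det_submatrix_equiv_self]; exact hM
    have := submatrix_mem e hN
    rw [submatrix_submatrix] at this
    simpa using this

end main

section hom
variable {B : Type v} [CommRing B] [IsLocalRing B]

/-- A monoid homomorphism out of `GL_n` of a local ring which kills transvections and diagonal matrices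
is trivial. -/
theorem hom_trivial {ι : Type} [Fintype ι] [DecidableEq ι] {G : Type*} [Monoid G]
    (f : (Matrix ι ι B)ˣ →* G)
    (hT : ∀ g : (Matrix ι ι B)ˣ, (∃ i j x, i ≠ j ∧ g.val = transvection i j x) → f g = 1)
    (hD : ∀ g : (Matrix ι ι B)ˣ, (∃ d : ι → B, g.val = diagonal d) → f g = 1)
    (g : (Matrix ι ι B)ˣ) : f g = 1 := by
  have hmem : g.val ∈ H ι B :=
    mem_H_of_isUnit_det _ ι rfl g.val ((Matrix.isUnit_iff_isUnit_det _).1 g.isUnit)
  have key : ∀ M ∈ H ι B, IsUnit M ∧ ∀ u : (Matrix ι ι B)ˣ, u.val = M → f u = 1 := by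
    intro M hM
    induction hM using Submonoid.closure_induction with
    | mem x hx =>
      rcases hx with ⟨i, j, c, hij, rfl⟩ | ⟨d, hd, rfl⟩
      · refine ⟨?_, fun u hu => hT u ⟨i, j, c, hij, hu⟩⟩
        rw [Matrix.isUnit_iff_isUnit_det, det_transvection_of_ne _ _ hij]
        exact isUnit_one
      · refine ⟨?_, fun u hu => hD u ⟨d, hu⟩⟩
        rw [Matrix.isUnit_iff_isUnit_det, det_diagonal]
        exact IsUnit.prod_univ_iff.2 hd
    | one =>
      refine ⟨isUnit_one, fun u hu => ?_⟩
      have : u = 1 := Units.ext hu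
      rw [this, map_one]
    | mul x y _ _ hx hy =>
      obtain ⟨ux, hxf⟩ := hx
      obtain ⟨uy, hyf⟩ := hy
      refine ⟨ux.mul uy, fun u hu => ?_⟩
      have : u = ux.unit * uy.unit := Units.ext (by rw [hu]; rfl)
      rw [this, map_mul, hxf _ rfl, hyf _ rfl, one_mul]
  exact (key _ hmem).2 g rfl

end hom

end Groth.Agent.Lib.Helper25.LocalGen
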