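import Mathlib
import Groth.Agent.Lib.Helper25.LocalGen
import Groth.Agent.Lib.Helper25.GmEnd

set_option autoImplicit false
set_option linter.unusedSectionVars false
set_option linter.style.haveILetI false
set_option linter.unusedVariables false

/-!
# Natural characters of `GL_n` over a connected base are powers of the determinant
-/

namespace Groth.Agent.Lib.Helper25.GLChar

open Matrix

universe u

section diag
variable (n : ℕ) (B : Type u) [CommRing B]

/-- diagonal matrices with unit entries, as a homomorphism to `GL_n` -/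
noncomputable def diagHom : (Fin n → Bˣ) →* GL (Fin n) B :=
  (Units.map (Matrix.diagonalRingHom (Fin n) B).toMonoidHom).comp
    (MulEquiv.piUnits (ι := Fin n) (M := fun _ => B)).symm.toMonoidHom

lemma diagHom_val (d : Fin n → Bˣ) :
    ((diagHom n B d : GL (Fin n) B) : Matrix (Fin n) (Fin n) B) = diagonal (fun i => (d i : B)) := rfl

lemma det_diagHom (d : Fin n → Bˣ) :
    Matrix.GeneralLinearGroup.det (diagHom n B d) = ∏ i, d i := by
  apply Units.ext
  rw [Matrix.GeneralLinearGroup.val_det_apply, diagHom_val, det_diagonal, Units.coe_prod]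

variable {n B} in
lemma map_diagHom {C : Type u} [CommRing C] (φ : B →+* C) (d : Fin n → Bˣ) :
    Matrix.GeneralLinearGroup.map φ (diagHom n B d) =
      diagHom n C (fun i => Units.map (φ : B →* C) (d i)) := by
  apply Units.ext
  ext a b
  rw [Matrix.GeneralLinearGroup.map_apply, diagHom_val, diagHom_val, diagonal_apply, diagonal_apply]
  split_ifs
  · rfl
  · exact map_zero φ

/-- one-parameter subgroup: `x` in position `j` -/
noncomputable def oneParam (j : Fin n) : Bˣ →* GL (Fin n) B :=
  (diagHom n B).comp (MonoidHom.mulSingle (fun _ : Fin n => Bˣ) j)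

lemma oneParam_apply (j : Fin n) (x : Bˣ) : oneParam n B j x = diagHom n B (Pi.mulSingle j x) := rfl

lemma det_oneParam (j : Fin n) (x : Bˣ) : Matrix.GeneralLinearGroup.det (oneParam n B j x) = x := by
  rw [oneParam_apply, det_diagHom]
  exact Fintype.prod_pi_mulSingle' j x

end diag

section perm
variable (n : ℕ) (B : Type u) [CommRing B]

/-- permutation matrices as elements of `GL_n` -/
noncomputable def permGL (σ : Equiv.Perm (Fin n)) : GL (Fin n) B :=
  Matrix.GeneralLinearGroup.mk'' (σ.permMatrix B) (by
    rw [Matrix.det_permutation]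
    rcases Int.units_eq_one_or (Equiv.Perm.sign σ) with h | h <;> simp [h])

lemma permGL_val (σ : Equiv.Perm (Fin n)) :
    ((permGL n B σ : GL (Fin n) B) : Matrix (Fin n) (Fin n) B) = σ.permMatrix B := rfl

lemma permGL_mul_diagHom (σ : Equiv.Perm (Fin n)) (d : Fin n → Bˣ) :
    permGL n B σ * diagHom n B d = diagHom n B (d ∘ σ) * permGL n B σ := by
  apply Units.ext
  rw [Units.val_mul, Units.val_mul, permGL_val, diagHom_val, diagHom_val]
  ext a b
  rw [mul_diagonal, diagonal_mul]
  change (σ.toPEquiv.toMatrix : Matrix (Fin n) (Fin n) B) a b * _ = _ * (σ.toPEquiv.toMatrix : Matrix (Fin n) (Fin n) B) a b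
  rw [PEquiv.toMatrix_apply]
  simp only [Equiv.toPEquiv_apply, Option.mem_def, Option.some.injEq, Function.comp_apply]
  split_ifs with h
  · rw [h, one_mul, mul_one]
  · rw [zero_mul, mul_zero]

lemma hom_diagHom_comp {G : Type*} [CommGroup G] (f : GL (Fin n) B →* G) (σ : Equiv.Perm (Fin n))
    (d : Fin n → Bˣ) : f (diagHom n B (d ∘ σ)) = f (diagHom n B d) := by
  have h := congrArg f (permGL_mul_diagHom n B σ d)
  rw [map_mul, map_mul, mul_comm] at h
  exact (mul_right_cancel h).symm

lemma hom_oneParam_eq {G : Type*} [CommGroup G] (f : GL (Fin n) B →* G) (j j' : Fin n) (x : Bˣ) :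
    f (oneParam n B j x) = f (oneParam n B j' x) := by
  rw [oneParam_apply, oneParam_apply, ← hom_diagHom_comp n B f (Equiv.swap j j') (Pi.mulSingle j x)]
  congr 2
  funext a
  simp only [Function.comp_apply, Pi.mulSingle_apply]
  by_cases h : a = j'
  · subst h; simp
  · rw [if_neg h, if_neg]
    intro h'
    apply h
    have := congrArg (Equiv.swap j j') h'
    simpa using this

end perm

section transv
variable (n : ℕ) (B : Type u) [CommRing B]

/-- transvections as elements of `GL_n` -/
noncomputable def trGL (i j : Fin n) (hij : i ≠ j) (x : B) : GL (Fin n) B :=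
  Matrix.GeneralLinearGroup.mk'' (transvection i j x) (by
    rw [det_transvection_of_ne _ _ hij]; exact isUnit_one)

lemma trGL_val (i j : Fin n) (hij : i ≠ j) (x : B) :
    ((trGL n B i j hij x : GL (Fin n) B) : Matrix (Fin n) (Fin n) B) = transvection i j x := rfl

lemma trGL_add (i j : Fin n) (hij : i ≠ j) (x y : B) :
    trGL n B i j hij (x + y) = trGL n B i j hij x * trGL n B i j hij y := by
  apply Units.ext
  rw [Units.val_mul, trGL_val, trGL_val, trGL_val, transvection_mul_transvection_same _ _ hij]

lemma oneParam_mul_trGL (i j : Fin n) (hij : i ≠ j) (lam : Bˣ) (y : B) :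
    oneParam n B i lam * trGL n B i j hij y = trGL n B i j hij (lam * y) * oneParam n B i lam := by
  apply Units.ext
  rw [Units.val_mul, Units.val_mul, trGL_val, trGL_val, oneParam_apply, diagHom_val]
  ext a b
  rw [mul_diagonal, diagonal_mul]
  simp only [transvection, Matrix.add_apply, Matrix.one_apply, Matrix.single, of_apply, Pi.mulSingle_apply]
  by_cases hab : a = b
  · subst hab
    have : ¬ (i = a ∧ j = a) := fun h => hij (h.1.trans h.2.symm)
    simp [this]
  · by_cases h1 : i = a ∧ j = b
    · obtain ⟨rfl, rfl⟩ := h1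
      simp [hij.symm, hab]
    · simp [hab, h1]

variable {n B} in
lemma map_trGL {C : Type u} [CommRing C] (φ : B →+* C) (i j : Fin n) (hij : i ≠ j) (x : B) :
    Matrix.GeneralLinearGroup.map φ (trGL n B i j hij x) = trGL n C i j hij (φ x) := by
  apply Units.ext
  ext a b
  rw [Matrix.GeneralLinearGroup.map_apply, trGL_val, trGL_val]
  simp only [transvection, Matrix.add_apply, Matrix.one_apply, Matrix.single, of_apply]
  rw [map_add]
  congr 1
  · split_ifs <;> simp
  · split_ifs <;> simp

end transv

section golden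
variable (B : Type u) [CommRing B]

open Polynomial in
/-- the polynomial `X² - (X + 1)` -/
noncomputable def qq : B[X] := X ^ 2 - (X + 1)

open Polynomial in
lemma qq_monic : (qq B).Monic := by
  unfold qq
  apply monic_X_pow_sub
  have h1 : degree (X + 1 : B[X]) ≤ 1 :=
    degree_add_le_of_degree_le degree_X_le (degree_one_le.trans (by norm_num))
  exact lt_of_le_of_lt h1 (by norm_num)

open Polynomial in
lemma natDegree_qq [Nontrivial B] : (qq B).natDegree = 2 := by
  unfold qq
  have h1 : natDegree (X + 1 : B[X]) ≤ 1 := by compute_degree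
  rw [natDegree_sub_eq_left_of_natDegree_lt, natDegree_X_pow]
  rw [natDegree_X_pow]
  omega

/-- the test algebra `B[λ]/(λ² - λ - 1)` -/
abbrev GR : Type u := AdjoinRoot (qq B)

lemma root_rel : AdjoinRoot.root (qq B) ^ 2 - (AdjoinRoot.root (qq B) + 1) = 0 := by
  have h : Polynomial.eval₂ (AdjoinRoot.of (qq B)) (AdjoinRoot.root (qq B))
      (Polynomial.X ^ 2 - (Polynomial.X + 1)) = 0 := AdjoinRoot.eval₂_root (qq B)
  simpa only [Polynomial.eval₂_sub, Polynomial.eval₂_pow, Polynomial.eval₂_X, Polynomial.eval₂_add,
      Polynomial.eval₂_one] using h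

/-- the unit `λ` with `λ (λ - 1) = 1` -/
noncomputable def lam : (GR B)ˣ where
  val := AdjoinRoot.root (qq B)
  inv := AdjoinRoot.root (qq B) - 1
  val_inv := by
    have h := root_rel B
    linear_combination h
  inv_val := by
    have h := root_rel B
    linear_combination h

lemma lam_mul (y : GR B) : ((lam B : (GR B)ˣ) : GR B) * y - y = (((lam B)⁻¹ : (GR B)ˣ) : GR B) * y := by
  change AdjoinRoot.root (qq B) * y - y = (AdjoinRoot.root (qq B) - 1) * y
  ring

lemma of_injective : Function.Injective (AdjoinRoot.of (qq B)) := by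
  rcases subsingleton_or_nontrivial B with h | h
  · intro a b _; exact Subsingleton.elim _ _
  · rw [injective_iff_map_eq_zero]
    intro b hb
    by_contra hne
    have := AdjoinRoot.mk_ne_zero_of_natDegree_lt (qq_monic B) (g := Polynomial.C b)
      (Polynomial.C_ne_zero.2 hne) (by rw [Polynomial.natDegree_C, natDegree_qq]; norm_num)
    exact this hb

end golden

section triv
variable (R : Type u) [CommRing R] (n : ℕ)
  (β : ∀ (B : Type u) [CommRing B] [Algebra R B], GL (Fin n) B →* Bˣ)
  (hβ : ∀ (B C : Type u) [CommRing B] [Algebra R B] [CommRing C] [Algebra R C] (φ : B →ₐ[R] C)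
      (g : GL (Fin n) B),
      β C (Matrix.GeneralLinearGroup.map φ.toRingHom g) = Units.map (φ.toRingHom : B →* C) (β B g))
  (hD : ∀ (B : Type u) [CommRing B] [Algebra R B] (j : Fin n) (x : Bˣ), β B (oneParam n B j x) = 1)

include hD in
lemma triv_diag (B : Type u) [CommRing B] [Algebra R B] (d : Fin n → Bˣ) :
    β B (diagHom n B d) = 1 := by
  change ((β B).comp (diagHom n B)) d = 1
  rw [← Finset.univ_prod_mulSingle d, map_prod]
  apply Finset.prod_eq_one
  intro j _
  exact hD B j (d j)

include hβ hD in
lemma triv_transv (B : Type u) [CommRing B] [Algebra R B] (i j : Fin n) (hij : i ≠ j) (x : B) :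
    β B (trGL n B i j hij x) = 1 := by
  -- first in the golden-ratio extension
  have hC : ∀ y : GR B, β (GR B) (trGL n (GR B) i j hij y) = 1 := by
    have h1 : ∀ y : GR B, β (GR B) (trGL n (GR B) i j hij ((lam B : (GR B)ˣ) * y)) =
        β (GR B) (trGL n (GR B) i j hij y) := by
      intro y
      have h := congrArg (β (GR B)) (oneParam_mul_trGL n (GR B) i j hij (lam B) y)
      rw [map_mul, map_mul, mul_comm] at h
      exact (mul_right_cancel h).symm
    have h2 : ∀ y : GR B, β (GR B) (trGL n (GR B) i j hij ((lam B : (GR B)ˣ) * y - y)) = 1 := by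
      intro y
      have h := h1 y
      have e : ((lam B : (GR B)ˣ) : GR B) * y = (((lam B : (GR B)ˣ) : GR B) * y - y) + y := by ring
      rw [e, trGL_add, map_mul] at h
      exact mul_eq_right.mp h
    intro y
    have h := h2 ((lam B : (GR B)ˣ) * y)
    rw [lam_mul, ← mul_assoc, Units.inv_mul, one_mul] at h
    exact h
  let φ : B →ₐ[R] GR B := IsScalarTower.toAlgHom R B (GR B)
  have hφ : Function.Injective (φ.toRingHom : B →* GR B) := of_injective B
  have hnat := hβ B (GR B) φ (trGL n B i j hij x)
  rw [map_trGL, hC] at hnat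
  apply Units.map_injective hφ
  rw [← hnat, map_one]

include hβ hD in
lemma triv_local (B : Type u) [CommRing B] [Algebra R B] [IsLocalRing B] (g : GL (Fin n) B) :
    β B g = 1 := by
  apply Groth.Agent.Lib.Helper25.LocalGen.hom_trivial (β B)
  · rintro g ⟨i, j, x, hij, hg⟩
    have : g = trGL n B i j hij x := Units.ext hg
    rw [this]
    exact triv_transv R n β hβ hD B i j hij x
  · rintro g ⟨d, hg⟩
    have hdet : IsUnit (∏ i, d i) := by
      have := (Matrix.isUnit_iff_isUnit_det _).1 g.isUnit
      rwa [hg, det_diagonal] at this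
    have hd : ∀ i, IsUnit (d i) := IsUnit.prod_univ_iff.1 hdet
    have : g = diagHom n B (fun i => (hd i).unit) := by
      apply Units.ext
      rw [hg, diagHom_val]
      rfl
    rw [this]
    exact triv_diag R n β hD B _

include hβ hD in
theorem triv (B : Type u) [CommRing B] [Algebra R B] (g : GL (Fin n) B) : β B g = 1 := by
  apply Units.ext
  rw [Units.val_one, ← sub_eq_zero]
  apply eq_zero_of_localization
  intro J hJ
  let φ : B →ₐ[R] Localization.AtPrime J := IsScalarTower.toAlgHom R B (Localization.AtPrime J)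
  have hnat := hβ B (Localization.AtPrime J) φ g
  rw [triv_local R n β hβ hD (Localization.AtPrime J)] at hnat
  have h1 : φ ((β B g : Bˣ) : B) = 1 := by
    have := congrArg Units.val hnat
    rw [Units.val_one, Units.coe_map] at this
    exact this.symm
  rw [map_sub, map_one, sub_eq_zero]
  exact h1

end triv

section single

lemma map_oneParam {n : ℕ} {B C : Type u} [CommRing B] [CommRing C] (φ : B →+* C) (j : Fin n) (x : Bˣ) :
    Matrix.GeneralLinearGroup.map φ (oneParam n B j x) = oneParam n C j (Units.map (φ : B →* C) x) := by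
  rw [oneParam_apply, oneParam_apply, map_diagHom]
  congr 1
  funext i
  exact Pi.apply_mulSingle (fun _ => Units.map (φ : B →* C)) (fun _ => map_one _) j x i

variable (R : Type u) [CommRing R] (n : ℕ)
  (α : ∀ (B : Type u) [CommRing B] [Algebra R B], GL (Fin n) B →* Bˣ)
  (hα : ∀ (B C : Type u) [CommRing B] [Algebra R B] [CommRing C] [Algebra R C] (φ : B →ₐ[R] C)
      (g : GL (Fin n) B),
      α C (Matrix.GeneralLinearGroup.map φ.toRingHom g) = Units.map (φ.toRingHom : B →* C) (α B g))

include hα in
/-- **Characters of `GL_n`.** Over a base with connected spectrum, a natural family of characters of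
`GL_n` (`n ≥ 1`) is an integer power of the determinant. -/
theorem single [ConnectedSpace (PrimeSpectrum R)] (hn : 0 < n) :
    ∃ m : ℤ, ∀ (B : Type u) [CommRing B] [Algebra R B] (g : GL (Fin n) B),
      α B g = Matrix.GeneralLinearGroup.det g ^ m := by
  let j₀ : Fin n := ⟨0, hn⟩
  let γ : ∀ (B : Type u) [CommRing B] [Algebra R B], Bˣ →* Bˣ :=
    fun B _ _ => (α B).comp (oneParam n B j₀)
  have hγ : ∀ (B C : Type u) [CommRing B] [Algebra R B] [CommRing C] [Algebra R C] (φ : B →ₐ[R] C)
      (x : Bˣ), γ C (Units.map (φ : B →* C) x) = Units.map (φ : B →* C) (γ B x) := by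
    intro B C _ _ _ _ φ x
    have h := hα B C φ (oneParam n B j₀ x)
    rw [map_oneParam] at h
    exact h
  obtain ⟨m, hm⟩ := Groth.Agent.Lib.Helper25.GmEnd.main R γ hγ
  refine ⟨m, ?_⟩
  let β : ∀ (B : Type u) [CommRing B] [Algebra R B], GL (Fin n) B →* Bˣ :=
    fun B _ _ => α B * ((zpowGroupHom (-m) : Bˣ →* Bˣ).comp
      (Matrix.GeneralLinearGroup.det : GL (Fin n) B →* Bˣ) : GL (Fin n) B →* Bˣ)
  have hβapp : ∀ (B : Type u) [CommRing B] [Algebra R B] (g : GL (Fin n) B),
      β B g = α B g * Matrix.GeneralLinearGroup.det g ^ (-m) := fun B _ _ g => rfl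
  have hβ : ∀ (B C : Type u) [CommRing B] [Algebra R B] [CommRing C] [Algebra R C] (φ : B →ₐ[R] C)
      (g : GL (Fin n) B),
      β C (Matrix.GeneralLinearGroup.map φ.toRingHom g) = Units.map (φ.toRingHom : B →* C) (β B g) := by
    intro B C _ _ _ _ φ g
    rw [hβapp, hβapp, hα, Matrix.GeneralLinearGroup.map_det, map_mul, map_zpow]
  have hD : ∀ (B : Type u) [CommRing B] [Algebra R B] (j : Fin n) (x : Bˣ),
      β B (oneParam n B j x) = 1 := by
    intro B _ _ j x
    rw [hβapp, det_oneParam, hom_oneParam_eq n B (α B) j j₀ x]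
    have : α B (oneParam n B j₀ x) = x ^ m := hm B x
    rw [this, ← _root_.zpow_add, add_neg_cancel, zpow_zero]
  intro B _ _ g
  have h := triv R n β hβ hD B g
  rw [hβapp, _root_.zpow_neg, mul_inv_eq_one] at h
  exact h

end single

end Groth.Agent.Lib.Helper25.GLChar
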