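import Mathlib
import Groth.Agent.Lib.Helper12.HenselFinite

/-!
# Invariants of a decomposition group on a "completed local model" (helper25)

Abstract part of the proof that the decomposition group is a Galois group for the completed local
rings: flat base change of invariants and the idempotent argument.
-/

set_option autoImplicit false
set_option linter.style.haveILetI false
set_option linter.unusedSectionVars false
universe u

namespace Groth.Agent.Lib.Helper25.GalCpl

open IsLocalRing TensorProduct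

section Rho

variable {R S : Type u} [CommRing R] [CommRing S] [Algebra R S]
  {G : Type u} [Group G] [MulSemiringAction G S] [SMulCommClass G R S]
  (Rh : Type u) [CommRing Rh] [Algebra R Rh]

/-- the action of `g` on `Rh ⊗[R] S` -/
noncomputable def rho (g : G) : Rh ⊗[R] S →ₐ[Rh] Rh ⊗[R] S :=
  Algebra.TensorProduct.map (AlgHom.id Rh Rh) (MulSemiringAction.toAlgHom R S g)

@[simp] lemma rho_tmul (g : G) (a : Rh) (s : S) : rho Rh g (a ⊗ₜ[R] s) = a ⊗ₜ[R] (g • s) := by
  simp [rho]

lemma rho_mul (g h : G) (t : Rh ⊗[R] S) : rho Rh (g * h) t = rho Rh g (rho Rh h t) := by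
  induction t using TensorProduct.induction_on with
  | zero => simp
  | tmul a s => simp [mul_smul]
  | add x y hx hy => simp [hx, hy]

lemma rho_one (t : Rh ⊗[R] S) : rho Rh (1 : G) t = t := by
  induction t using TensorProduct.induction_on with
  | zero => simp
  | tmul a s => simp
  | add x y hx hy => simp [hx, hy]

lemma rho_inv_rho (g : G) (t : Rh ⊗[R] S) : rho Rh g⁻¹ (rho Rh g t) = t := by
  rw [← rho_mul, inv_mul_cancel, rho_one]

lemma rho_rho_inv (g : G) (t : Rh ⊗[R] S) : rho Rh g (rho Rh g⁻¹ t) = t := by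
  rw [← rho_mul, mul_inv_cancel, rho_one]

variable [Finite G] [Module.Flat R Rh] [Algebra.IsInvariant R S G]

/-- flat base change of invariants -/
theorem exists_eq_tmul_one_of_invariant (t : Rh ⊗[R] S) (ht : ∀ g : G, rho Rh g t = t) :
    ∃ a : Rh, t = a ⊗ₜ[R] (1 : S) := by
  classical
  haveI : Fintype G := Fintype.ofFinite G
  let δ : S →ₗ[R] (G → S) :=
    LinearMap.pi (fun g => (MulSemiringAction.toAlgHom R S g).toLinearMap - LinearMap.id)
  have hδ : ∀ (s : S) (g : G), δ s g = g • s - s := fun s g => rfl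
  have hexact : Function.Exact (Algebra.linearMap R S) δ := by
    intro s
    constructor
    · intro hs
      have hinv : ∀ g : G, g • s = s := fun g => by
        have := congrFun hs g
        rw [hδ] at this
        exact sub_eq_zero.1 this
      obtain ⟨r, hr⟩ := Algebra.IsInvariant.isInvariant (A := R) (G := G) s hinv
      exact ⟨r, hr⟩
    · rintro ⟨r, rfl⟩
      funext g
      rw [hδ, Algebra.linearMap_apply, smul_algebraMap, sub_self]
      rfl
  have hexact' := Module.Flat.lTensor_exact Rh hexact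
  have hzero : (δ.lTensor Rh) t = 0 := by
    apply (TensorProduct.piRight R R Rh (fun _ : G => S)).injective
    rw [map_zero]
    funext g
    have key : ∀ t : Rh ⊗[R] S,
        (TensorProduct.piRight R R Rh (fun _ : G => S)) ((δ.lTensor Rh) t) g = rho Rh g t - t := by
      intro t
      induction t using TensorProduct.induction_on with
      | zero => simp
      | tmul a s =>
        rw [LinearMap.lTensor_tmul, TensorProduct.piRight_apply, TensorProduct.piRightHom_tmul]
        change a ⊗ₜ[R] δ s g = _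
        rw [hδ, rho_tmul, TensorProduct.tmul_sub]
      | add x y hx hy =>
        rw [map_add, map_add, Pi.add_apply, hx, hy, map_add]
        abel
    rw [key, ht g, sub_self]
    rfl
  obtain ⟨w, hw⟩ := (hexact' t).1 hzero
  refine ⟨TensorProduct.rid R Rh w, ?_⟩
  have hw' : w = (TensorProduct.rid R Rh w) ⊗ₜ[R] (1 : R) := by
    rw [← TensorProduct.rid_symm_apply, LinearEquiv.symm_apply_apply]
  rw [← hw, hw']
  rw [LinearMap.lTensor_tmul, Algebra.linearMap_apply, map_one]
  congr 1
  simp

end Rho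

section Psi

variable {R S : Type u} [CommRing R] [CommRing S] [Algebra R S]
  (Rh : Type u) [CommRing Rh] [Algebra R Rh]
  (Sh : Type u) [CommRing Sh] [Algebra Rh Sh] [Algebra S Sh] [Algebra R Sh]
  [IsScalarTower R Rh Sh] [IsScalarTower R S Sh]

/-- the product map `Rh ⊗[R] S → Sh` -/
noncomputable def psi : Rh ⊗[R] S →ₐ[R] Sh :=
  Algebra.TensorProduct.productMap (IsScalarTower.toAlgHom R Rh Sh) (IsScalarTower.toAlgHom R S Sh)

@[simp] lemma psi_tmul (a : Rh) (s : S) :
    psi Rh Sh (a ⊗ₜ[R] s) = algebraMap Rh Sh a * algebraMap S Sh s := by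
  simp [psi]

end Psi

section Model

variable {R S : Type u} [CommRing R] [CommRing S] [Algebra R S]
  {G : Type u} [Group G] [Finite G] [MulSemiringAction G S] [SMulCommClass G R S]
  [Algebra.IsInvariant R S G] [Module.Finite R S]
  (Rh : Type u) [CommRing Rh] [Algebra R Rh] [Module.Flat R Rh] [HenselianLocalRing Rh]
  (Sh : Type u) [CommRing Sh] [IsLocalRing Sh] [Algebra Rh Sh] [Algebra S Sh] [Algebra R Sh]
  [IsScalarTower R Rh Sh] [IsScalarTower R S Sh]

omit [Finite G] [Algebra.IsInvariant R S G] [Module.Finite R S] [Module.Flat R Rh]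
  [HenselianLocalRing Rh] [IsLocalRing Sh] in
lemma psi_rho (D : Subgroup G) [MulSemiringAction D Sh]
    (hact : ∀ (d : D) (s : S), d • algebraMap S Sh s = algebraMap S Sh ((d : G) • s))
    (hφ : ∀ (d : D) (a : Rh), d • algebraMap Rh Sh a = algebraMap Rh Sh a)
    (d : D) (t : Rh ⊗[R] S) : psi Rh Sh (rho Rh (d : G) t) = d • psi Rh Sh t := by
  induction t using TensorProduct.induction_on with
  | zero => simp
  | tmul a s => rw [rho_tmul, psi_tmul, psi_tmul, smul_mul', hφ, hact]
  | add x y hx hy => rw [map_add, map_add, hx, hy, map_add, smul_add]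

omit [IsLocalRing Sh] in
lemma isUnit_smul_iff' (D : Type u) [Group D] [MulSemiringAction D Sh] (d : D) (x : Sh) :
    IsUnit (d • x) ↔ IsUnit x := by
  constructor
  · intro h
    have := h.map (MulSemiringAction.toRingHom D Sh d⁻¹)
    simp at this
    exact this
  · intro h
    exact h.map (MulSemiringAction.toRingHom D Sh d)

lemma idem_eq_one_of_not_mem {x : Sh} (hx : IsIdempotentElem x) (h : x ∉ maximalIdeal Sh) :
    x = 1 := by
  have hu : IsUnit x := by
    by_contra hnu
    exact h ((mem_maximalIdeal x).2 hnu)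
  have h1 : x * x = x * 1 := by rw [mul_one]; exact hx
  exact hu.mul_left_cancel h1

lemma idem_eq_zero_of_mem {x : Sh} (hx : IsIdempotentElem x) (h : x ∈ maximalIdeal Sh) :
    x = 0 := by
  have hu : IsUnit (1 - x) := by
    by_contra hnu
    have h1 : 1 - x ∈ maximalIdeal Sh := (mem_maximalIdeal _).2 hnu
    have h2 : (1 : Sh) ∈ maximalIdeal Sh := by
      have h3 := Ideal.add_mem _ h1 h
      rwa [sub_add_cancel] at h3
    exact (Ideal.ne_top_iff_one _).1 (maximalIdeal.isMaximal Sh).ne_top h2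
  have h1 : (1 - x) * x = (1 - x) * 0 := by
    rw [mul_zero, sub_mul, one_mul, hx.eq, sub_self]
  exact hu.mul_left_cancel h1

theorem isInvariant_of_model (hloc : ∀ a : Rh, a ∈ maximalIdeal Rh →
      algebraMap Rh Sh a ∈ maximalIdeal Sh)
    (D : Subgroup G) [MulSemiringAction D Sh]
    (hact : ∀ (d : D) (s : S), d • algebraMap S Sh s = algebraMap S Sh ((d : G) • s))
    (hφ : ∀ (d : D) (a : Rh), d • algebraMap Rh Sh a = algebraMap Rh Sh a)
    (hD : ∀ g : G, g ∉ D → ∃ s : S, algebraMap S Sh s ∈ maximalIdeal Sh ∧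
      algebraMap S Sh (g⁻¹ • s) ∉ maximalIdeal Sh)
    (K1 : ∀ x : Sh, ∃ t u : Rh ⊗[R] S, psi Rh Sh u ∉ maximalIdeal Sh ∧
      psi Rh Sh t = psi Rh Sh u * x)
    (K2 : ∀ t : Rh ⊗[R] S, psi Rh Sh t = 0 →
      ∃ u : Rh ⊗[R] S, psi Rh Sh u ∉ maximalIdeal Sh ∧ u * t = 0)
    (x : Sh) (hx : ∀ d : D, d • x = x) : ∃ a : Rh, algebraMap Rh Sh a = x := by
  classical
  haveI : Fintype (G ⧸ D) := Fintype.ofFinite _
  -- idempotents
  obtain ⟨ι, _, e, he, hlocal⟩ :=
    Groth.Agent.Lib.Helper12.exists_completeOrthogonalIdempotents_isLocalRing Rh (Rh ⊗[R] S)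
  have hmne : (1 : Sh) ∉ maximalIdeal Sh :=
    (Ideal.ne_top_iff_one _).1 (maximalIdeal.isMaximal Sh).ne_top
  obtain ⟨i₀, hi₀⟩ : ∃ i₀, psi Rh Sh (e i₀) ∉ maximalIdeal Sh := by
    by_contra hcon
    push Not at hcon
    apply hmne
    have h1 : psi Rh Sh (∑ i, e i) ∈ maximalIdeal Sh := by
      rw [map_sum]
      exact Ideal.sum_mem _ (fun i _ => hcon i)
    rwa [he.complete, map_one] at h1
  set ee := e i₀ with hee
  have hidem : IsIdempotentElem ee := he.idem i₀
  have hψee : psi Rh Sh ee = 1 :=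
    idem_eq_one_of_not_mem Sh (hidem.map (psi Rh Sh)) hi₀
  -- property (b)
  have hb : ∀ u : Rh ⊗[R] S, psi Rh Sh u ∉ maximalIdeal Sh → ∃ u', ee * u * u' = ee := by
    intro u hu
    haveI := hlocal i₀
    set L := (Rh ⊗[R] S) ⧸ Ideal.span {1 - ee} with hL
    have hker : ∀ a ∈ Ideal.span {1 - ee}, (psi Rh Sh).toRingHom a = 0 := by
      intro a ha
      obtain ⟨c, rfl⟩ := Ideal.mem_span_singleton'.1 ha
      change psi Rh Sh (c * (1 - ee)) = 0
      rw [map_mul, map_sub, map_one, hψee, sub_self, mul_zero]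
    let ψbar : L →+* Sh := Ideal.Quotient.lift (Ideal.span {1 - ee}) (psi Rh Sh).toRingHom hker
    have hψbar : ∀ t : Rh ⊗[R] S, ψbar (Ideal.Quotient.mk _ t) = psi Rh Sh t := fun t => rfl
    set 𝔭 : Ideal L := (maximalIdeal Sh).comap ψbar with h𝔭
    haveI : 𝔭.IsPrime := Ideal.comap_isPrime _ _
    haveI : Algebra.IsIntegral Rh L := Algebra.IsIntegral.of_finite Rh L
    have hcomap : 𝔭.comap (algebraMap Rh L) = maximalIdeal Rh := by
      have hle : maximalIdeal Rh ≤ 𝔭.comap (algebraMap Rh L) := by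
        intro a ha
        rw [Ideal.mem_comap, h𝔭, Ideal.mem_comap]
        have h1 : algebraMap Rh L a = Ideal.Quotient.mk _ (a ⊗ₜ[R] (1 : S)) := by
          rw [IsScalarTower.algebraMap_apply Rh (Rh ⊗[R] S) L,
            Algebra.TensorProduct.algebraMap_apply]
          rfl
        rw [h1, hψbar, psi_tmul, map_one, mul_one]
        exact hloc a ha
      have hne : 𝔭.comap (algebraMap Rh L) ≠ ⊤ := (Ideal.comap_isPrime _ _).ne_top
      exact ((maximalIdeal.isMaximal Rh).eq_of_le hne hle).symm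
    have hmax : 𝔭.IsMaximal :=
      Ideal.IsIntegral.isMaximal_of_isMaximal_comap (R := Rh) 𝔭
        (by rw [hcomap]; exact maximalIdeal.isMaximal Rh)
    have h𝔭eq : 𝔭 = maximalIdeal L := IsLocalRing.eq_maximalIdeal hmax
    have hunit : IsUnit (Ideal.Quotient.mk (Ideal.span {1 - ee}) u) := by
      by_contra hnu
      have h1 : Ideal.Quotient.mk (Ideal.span {1 - ee}) u ∈ maximalIdeal L :=
        (mem_maximalIdeal _).2 hnu
      rw [← h𝔭eq, h𝔭, Ideal.mem_comap, hψbar] at h1
      exact hu h1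
    obtain ⟨w, hw⟩ := hunit.exists_right_inv
    obtain ⟨v, rfl⟩ := Ideal.Quotient.mk_surjective w
    rw [← map_mul, ← map_one (Ideal.Quotient.mk (Ideal.span {1 - ee})), Ideal.Quotient.eq,
      Ideal.mem_span_singleton'] at hw
    obtain ⟨c, hc⟩ := hw
    refine ⟨v, ?_⟩
    have h2 : u * v = 1 + c * (1 - ee) := by rw [hc]; ring
    calc ee * u * v = ee * (u * v) := by ring
      _ = ee * (1 + c * (1 - ee)) := by rw [h2]
      _ = ee + c * (ee - ee * ee) := by ring
      _ = ee := by rw [hidem.eq, sub_self, mul_zero, add_zero]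
  -- uniqueness of the idempotent
  have huniq : ∀ e' : Rh ⊗[R] S, IsIdempotentElem e' → psi Rh Sh e' ∉ maximalIdeal Sh →
      (∀ u : Rh ⊗[R] S, psi Rh Sh u ∉ maximalIdeal Sh → ∃ u', e' * u * u' = e') → e' = ee := by
    intro e' he' h1 h2
    obtain ⟨u', hu'⟩ := hb e' h1
    obtain ⟨v', hv'⟩ := h2 ee hi₀
    have h3 : ee * e' = ee := by
      calc ee * e' = (ee * e' * u') * e' := by rw [hu']
        _ = ee * (e' * e') * u' := by ring
        _ = ee := by rw [he'.eq, hu']
    have h4 : e' * ee = e' := by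
      calc e' * ee = (e' * ee * v') * ee := by rw [hv']
        _ = e' * (ee * ee) * v' := by ring
        _ = e' := by rw [hidem.eq, hv']
    rw [← h4, mul_comm, h3]
  -- the action of `D` preserves the maximal ideal
  have hDm : ∀ (d : D) (y : Sh), y ∉ maximalIdeal Sh → d • y ∉ maximalIdeal Sh := by
    intro d y hy h
    apply hy
    rw [mem_maximalIdeal, mem_nonunits_iff] at h ⊢
    rwa [isUnit_smul_iff' Sh D] at h
  have hψρ := psi_rho (R := R) (S := S) Rh Sh D hact hφ
  -- `D` fixes `ee`
  have hρee : ∀ d : D, rho Rh (d : G) ee = ee := by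
    intro d
    apply huniq
    · exact hidem.map (rho Rh (d : G))
    · rw [hψρ, hψee, smul_one]
      exact hmne
    · intro u hu
      have h1 : psi Rh Sh (rho Rh ((d⁻¹ : D) : G) u) ∉ maximalIdeal Sh := by
        rw [hψρ]
        exact hDm _ _ hu
      obtain ⟨u', hu'⟩ := hb _ h1
      refine ⟨rho Rh (d : G) u', ?_⟩
      have := congrArg (rho Rh (d : G)) hu'
      rw [map_mul, map_mul] at this
      rw [← this]
      congr 2
      have h2 : ((d⁻¹ : D) : G) = ((d : G))⁻¹ := rfl
      rw [h2, rho_rho_inv]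
  -- the element `z`
  obtain ⟨t, u, hu, htu⟩ := K1 x
  obtain ⟨u', hu'⟩ := hb u hu
  have huu' : psi Rh Sh u * psi Rh Sh u' = 1 := by
    have := congrArg (psi Rh Sh) hu'
    rw [map_mul, map_mul, hψee, one_mul] at this
    exact this
  set z := ee * t * u' with hz
  have hψz : psi Rh Sh z = x := by
    rw [hz, map_mul, map_mul, hψee, one_mul, htu]
    calc psi Rh Sh u * x * psi Rh Sh u' = (psi Rh Sh u * psi Rh Sh u') * x := by ring
      _ = x := by rw [huu', one_mul]
  have heez : ee * z = z := by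
    rw [hz, ← mul_assoc, ← mul_assoc, hidem.eq]
  have hinj : ∀ z' : Rh ⊗[R] S, ee * z' = z' → psi Rh Sh z' = 0 → z' = 0 := by
    intro z' h1 h2
    obtain ⟨v, hv, hvz⟩ := K2 z' h2
    obtain ⟨v', hv'⟩ := hb v hv
    calc z' = ee * z' := h1.symm
      _ = (ee * v * v') * z' := by rw [hv']
      _ = ee * v' * (v * z') := by ring
      _ = 0 := by rw [hvz, mul_zero]
  have hzD : ∀ d : D, rho Rh (d : G) z = z := by
    intro d
    have h1 : ee * (rho Rh (d : G) z - z) = rho Rh (d : G) z - z := by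
      rw [mul_sub, heez]
      congr 1
      conv_lhs => rw [← hρee d, ← map_mul, heez]
    have h2 : psi Rh Sh (rho Rh (d : G) z - z) = 0 := by
      rw [map_sub, hψρ, hψz, hx d, sub_self]
    exact sub_eq_zero.1 (hinj _ h1 h2)
  -- `ψ (ρ g ee) = 0` for `g ∉ D`
  have hψρee : ∀ g : G, g ∉ D → psi Rh Sh (rho Rh g ee) = 0 := by
    intro g hg
    apply idem_eq_zero_of_mem Sh ((hidem.map (rho Rh g)).map (psi Rh Sh))
    obtain ⟨s, hs1, hs2⟩ := hD g hg
    have h1 : psi Rh Sh ((1 : Rh) ⊗ₜ[R] (g⁻¹ • s)) ∉ maximalIdeal Sh := by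
      rw [psi_tmul, map_one, one_mul]
      exact hs2
    obtain ⟨w, hw⟩ := hb _ h1
    have := congrArg (fun y => psi Rh Sh (rho Rh g y)) hw
    simp only [map_mul, rho_tmul, smul_inv_smul, psi_tmul, map_one, one_mul] at this
    rw [← this]
    exact Ideal.mul_mem_right _ _ (Ideal.mul_mem_left _ _ hs1)
  -- the trace-like sum
  let F : G → Rh ⊗[R] S := fun g => rho Rh g z
  have hF : ∀ (g : G) (d : D), F (g * d) = F g := fun g d => by
    change rho Rh (g * d) z = rho Rh g z
    rw [rho_mul, hzD d]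
  let Fbar : G ⧸ D → Rh ⊗[R] S := fun q => Quotient.liftOn' q F (fun a b hab => by
    have hab' : a⁻¹ * b ∈ D := QuotientGroup.leftRel_apply.1 hab
    have h1 := hF a ⟨a⁻¹ * b, hab'⟩
    simp only [mul_inv_cancel_left] at h1
    exact h1.symm)
  have hFbar : ∀ g : G, Fbar (g : G ⧸ D) = F g := fun g => rfl
  set y := ∑ q : G ⧸ D, Fbar q with hy
  have hyG : ∀ τ : G, rho Rh τ y = y := by
    intro τ
    rw [hy, map_sum]
    have h1 : ∀ q : G ⧸ D, rho Rh τ (Fbar q) = Fbar (τ • q) := by
      intro q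
      induction q using QuotientGroup.induction_on with
      | H g =>
        rw [MulAction.Quotient.smul_mk, hFbar, hFbar]
        change rho Rh τ (rho Rh g z) = rho Rh (τ • g) z
        rw [smul_eq_mul, rho_mul]
    simp_rw [h1]
    exact Equiv.sum_comp (MulAction.toPerm τ) Fbar
  obtain ⟨a, ha⟩ := exists_eq_tmul_one_of_invariant Rh y hyG
  refine ⟨a, ?_⟩
  have h1 : psi Rh Sh y = algebraMap Rh Sh a := by
    rw [ha, psi_tmul, map_one, mul_one]
  rw [← h1, hy, map_sum]
  rw [Finset.sum_eq_single ((1 : G) : G ⧸ D)]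
  · rw [hFbar]
    change psi Rh Sh (rho Rh 1 z) = x
    rw [rho_one, hψz]
  · intro q _ hq
    induction q using QuotientGroup.induction_on with
    | H g =>
      have hg : g ∉ D := by
        intro hg
        apply hq
        rw [QuotientGroup.eq]
        exact D.mul_mem (D.inv_mem hg) D.one_mem
      rw [hFbar]
      change psi Rh Sh (rho Rh g z) = 0
      rw [← heez, map_mul, map_mul, hψρee g hg, zero_mul]
  · intro h
    exact absurd (Finset.mem_univ _) h

end Model

end Groth.Agent.Lib.Helper25.GalCpl
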