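import Mathlib
import Groth.Prelude.Def_EGA4b
import Groth.Prelude.Def_Found
import Groth.Agent.S2654
import Groth.Agent.Lib.Helper12.AUnD
import Groth.Agent.Lib.Helper12.HensFCC

/-!
# Decomposition groups and completions: preliminaries (helper25)
-/

set_option autoImplicit false
set_option linter.style.haveILetI false
set_option linter.unusedSectionVars false
universe u

namespace Groth.Agent.Lib.Helper25.GalCpl

open IsLocalRing TensorProduct

section Dense

/-- two ring homomorphisms which are continuous for adic topologies and agree on a dense subring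
agree -/
theorem ringHom_ext_of_dense {C₀ C E : Type*} [CommRing C₀] [CommRing C] [CommRing E]
    (j : C₀ →+* C) (I : Ideal C) (J : Ideal E)
    (hdense : ∀ (n : ℕ) (x : C), ∃ y : C₀, x - j y ∈ I ^ n)
    (hJ : ⨅ n : ℕ, J ^ n = ⊥)
    (f₁ f₂ : C →+* E) (h₁ : I.map f₁ ≤ J) (h₂ : I.map f₂ ≤ J) (h : f₁.comp j = f₂.comp j) :
    f₁ = f₂ := by
  ext x
  rw [← sub_eq_zero, ← Ideal.mem_bot, ← hJ, Ideal.mem_iInf]
  intro n
  obtain ⟨y, hy⟩ := hdense n x
  have e1 : f₁ (j y) = f₂ (j y) := by
    have := congrArg (fun f : C₀ →+* E => f y) h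
    exact this
  have e2 : f₁ x - f₂ x = f₁ (x - j y) - f₂ (x - j y) := by
    rw [map_sub, map_sub, e1]
    ring
  rw [e2]
  have hpow : ∀ (f : C →+* E), I.map f ≤ J → f (x - j y) ∈ J ^ n := by
    intro f hf
    have h3 : f (x - j y) ∈ (I ^ n).map f := Ideal.mem_map_of_mem f hy
    rw [Ideal.map_pow] at h3
    exact Ideal.pow_right_mono hf n h3
  exact Ideal.sub_mem _ (hpow f₁ h₁) (hpow f₂ h₂)

end Dense

section CplFacts

variable (A : Type u) [CommRing A] [IsLocalRing A] [IsNoetherianRing A]

theorem cpl_comap_maximalIdeal :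
    (maximalIdeal (EGA4.Cpl A)).comap (algebraMap A (EGA4.Cpl A)) = maximalIdeal A := by
  obtain ⟨h1, h2, -⟩ := Groth.Agent.Lib.Helper12.HensFC.level_hat A
  apply le_antisymm
  · intro a ha
    rw [Ideal.mem_comap] at ha
    have := h2 1 a (by rwa [pow_one])
    rwa [pow_one] at this
  · rw [← Ideal.map_le_iff_le_comap, h1]

theorem cpl_algebraMap_injective : Function.Injective (algebraMap A (EGA4.Cpl A)) := by
  obtain ⟨-, h2, -⟩ := Groth.Agent.Lib.Helper12.HensFC.level_hat A
  rw [injective_iff_map_eq_zero]
  intro a ha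
  have hmem : ∀ n : ℕ, a ∈ maximalIdeal A ^ n := fun n => h2 n a (by rw [ha]; exact Ideal.zero_mem _)
  have hk : ⨅ n : ℕ, maximalIdeal A ^ n = ⊥ :=
    Ideal.iInf_pow_eq_bot_of_isLocalRing _ (maximalIdeal.isMaximal A).ne_top
  rw [← Ideal.mem_bot, ← hk, Ideal.mem_iInf]
  exact hmem

end CplFacts

section Finite

variable (R S : Type u) [CommRing R] [CommRing S] [IsDomain R] [IsDomain S]
  [IsIntegrallyClosed R] [Algebra R S] [FaithfulSMul R S]

attribute [local instance] FractionRing.liftAlgebra in
/-- over an excellent normal domain, a ring with a finite Galois group action is finite -/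
theorem finite_of_isExcellent (G : Type u) [Group G] [Finite G] [MulSemiringAction G S]
    [SMulCommClass G R S] [IsGaloisGroup G R S] (hR : EGA4.IsExcellent R) :
    Module.Finite R S := by
  haveI : IsNoetherianRing R := hR.1
  have hNag : CAlg.IsNagata R := Groth.Agent.S2654.result R ⟨hR.1, hR.2.2.1, hR.2.2.2⟩
  have hN2 : CAlg.IsN2 R := Groth.Agent.Lib.Helper12.AUn.isN2_of_isNagata R hNag
  letI := IsFractionRing.mulSemiringAction G S (FractionRing S)
  haveI : IsGaloisGroup G (FractionRing R) (FractionRing S) := inferInstance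
  haveI hfd : FiniteDimensional (FractionRing R) (FractionRing S) :=
    IsGaloisGroup.finiteDimensional G (FractionRing R) (FractionRing S)
  haveI hfin : Module.Finite R (integralClosure R (FractionRing S)) :=
    hN2 (FractionRing S) hfd
  haveI : Algebra.IsIntegral R S := (IsGaloisGroup.isInvariant (G := G) (A := R) (B := S)).isIntegral
  let f : S →ₐ[R] integralClosure R (FractionRing S) :=
    (IsScalarTower.toAlgHom R S (FractionRing S)).codRestrict _ (fun s =>
      (Algebra.IsIntegral.isIntegral (R := R) s).map (IsScalarTower.toAlgHom R S (FractionRing S)))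
  have hf : Function.Injective f := by
    intro a b hab
    have := congrArg Subtype.val hab
    exact IsFractionRing.injective S (FractionRing S) this
  haveI : IsNoetherian R (integralClosure R (FractionRing S)) :=
    isNoetherian_of_isNoetherianRing_of_finite R _
  exact Module.Finite.of_injective f.toLinearMap hf

end Finite

end Groth.Agent.Lib.Helper25.GalCpl
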