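import Mathlib
import Groth.Agent.Lib.Helper25.GalCplA
import Groth.Agent.Lib.Helper25.GalCplB
import Groth.Agent.Lib.Helper25.S1FibC
import Groth.Agent.Lib.Helper22.GRingF
import Groth.Agent.Lib.helper19.QFLocFin
import Groth.Agent.Lib.Helper12.ComplIntClosure
import Groth.Agent.Lib.Helper12.NoetherianAux

/-!
# Decomposition groups and completions: the model `R̂_P ⊗[R] S` (helper25)
-/

set_option autoImplicit false
set_option linter.style.haveILetI false
set_option linter.unusedSectionVars false
universe u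

namespace Groth.Agent.Lib.Helper25.GalCpl

open IsLocalRing TensorProduct

attribute [local instance] Algebra.TensorProduct.rightAlgebra

section Concrete

variable (R S : Type u) [CommRing R] [CommRing S] [Algebra R S] [IsNoetherianRing R]
  [IsNoetherianRing S]
  (P : Ideal R) [P.IsPrime] (Q : Ideal S) [Q.IsPrime] [Q.LiesOver P]

local notation "RP" => Localization.AtPrime P
local notation "SQ" => Localization.AtPrime Q
local notation "Rh" => EGA4.Cpl (Localization.AtPrime P)
local notation "Sh" => EGA4.Cpl (Localization.AtPrime Q)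

omit [IsNoetherianRing R] [Q.LiesOver P] in
theorem iota_mem_iff (s : S) : algebraMap S Sh s ∈ maximalIdeal Sh ↔ s ∈ Q := by
  have h1 : algebraMap S Sh s = algebraMap SQ Sh (algebraMap S SQ s) := rfl
  rw [h1, ← Ideal.mem_comap, cpl_comap_maximalIdeal, ← Ideal.mem_comap, ← Ideal.under_def,
    Localization.AtPrime.under_maximalIdeal]

omit [IsNoetherianRing S] [Q.LiesOver P] in
theorem maximalIdeal_Rh_eq : maximalIdeal Rh = P.map (algebraMap R Rh) := by
  obtain ⟨h1, -, -⟩ := Groth.Agent.Lib.Helper12.HensFC.level_hat RP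
  have h2 : (P.map (algebraMap R RP)).map (algebraMap RP Rh) = maximalIdeal Rh := by
    rw [Localization.AtPrime.map_eq_maximalIdeal]
    exact h1
  rw [← h2, Ideal.map_map]
  rfl

omit [IsNoetherianRing R] [Q.LiesOver P] in
theorem maximalIdeal_Sh_eq : maximalIdeal Sh = Q.map (algebraMap S Sh) := by
  obtain ⟨h1, -, -⟩ := Groth.Agent.Lib.Helper12.HensFC.level_hat SQ
  have h2 : (Q.map (algebraMap S SQ)).map (algebraMap SQ Sh) = maximalIdeal Sh := by
    rw [Localization.AtPrime.map_eq_maximalIdeal]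
    exact h1
  rw [← h2, Ideal.map_map]
  rfl

variable [Algebra (EGA4.Cpl (Localization.AtPrime P)) (EGA4.Cpl (Localization.AtPrime Q))]
  [IsScalarTower R (EGA4.Cpl (Localization.AtPrime P)) (EGA4.Cpl (Localization.AtPrime Q))]

theorem phi_local (a : Rh) (ha : a ∈ maximalIdeal Rh) : algebraMap Rh Sh a ∈ maximalIdeal Sh := by
  rw [maximalIdeal_Rh_eq R P] at ha
  have hle : P.map (algebraMap R Rh) ≤ (maximalIdeal Sh).comap (algebraMap Rh Sh) := by
    rw [Ideal.map_le_iff_le_comap]
    intro p hp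
    rw [Ideal.mem_comap, Ideal.mem_comap, ← IsScalarTower.algebraMap_apply R Rh Sh,
      IsScalarTower.algebraMap_apply R S Sh, iota_mem_iff]
    rw [Ideal.LiesOver.over (p := P) (P := Q)] at hp
    exact hp
  exact hle ha

omit [IsNoetherianRing R] [Q.LiesOver P] in
/-- the residue field of `Ŝ_Q` is the fraction field of `S/Q` -/
theorem exists_mul_sub_mem (x : Sh) : ∃ c s : S, s ∉ Q ∧
    algebraMap S Sh s * x - algebraMap S Sh c ∈ maximalIdeal Sh := by
  obtain ⟨-, -, h3⟩ := Groth.Agent.Lib.Helper12.HensFC.level_hat SQ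
  obtain ⟨b, hb⟩ := h3 1 x
  rw [pow_one] at hb
  obtain ⟨c, s, rfl⟩ := IsLocalization.exists_mk'_eq Q.primeCompl b
  refine ⟨c, s, s.2, ?_⟩
  have h1 : algebraMap S Sh s * x - algebraMap S Sh c = algebraMap S Sh s *
      (x - algebraMap SQ Sh (IsLocalization.mk' SQ c s)) := by
    rw [mul_sub]
    congr 1
    change algebraMap SQ Sh (algebraMap S SQ c) = algebraMap SQ Sh (algebraMap S SQ s) * _
    rw [← map_mul, mul_comm, IsLocalization.mk'_spec]
  rw [h1]
  exact Ideal.mul_mem_left _ _ hb

section Tmodel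

variable [Module.Finite R S]

local notation "T" => (EGA4.Cpl (Localization.AtPrime P)) ⊗[R] S

omit [IsNoetherianRing S] [Q.LiesOver P] [Module.Finite R S] in
instance flat_Rh : Module.Flat R (EGA4.Cpl (Localization.AtPrime P)) :=
  Module.Flat.trans R (Localization.AtPrime P) (EGA4.Cpl (Localization.AtPrime P))

omit [IsNoetherianRing R] [IsNoetherianRing S] [Q.LiesOver P] [Module.Finite R S] in
theorem psi_algebraMap_S (s : S) : psi Rh Sh (algebraMap S T s) = algebraMap S Sh s := by
  rw [Algebra.TensorProduct.right_algebraMap_apply, psi_tmul, map_one, one_mul]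

/-- the maximal ideal of `T` below the maximal ideal of `Ŝ_Q` -/
noncomputable def MM : Ideal T := (maximalIdeal Sh).comap (psi Rh Sh).toRingHom

theorem mem_MM (t : T) : t ∈ MM R S P Q ↔ psi Rh Sh t ∈ maximalIdeal Sh := Iff.rfl

omit [IsNoetherianRing S] [Module.Finite R S]
  [Algebra (EGA4.Cpl (Localization.AtPrime P)) (EGA4.Cpl (Localization.AtPrime Q))]
  [IsScalarTower R (EGA4.Cpl (Localization.AtPrime P)) (EGA4.Cpl (Localization.AtPrime Q))] in
theorem map_maximalIdeal_le :
    (maximalIdeal Rh).map (algebraMap Rh T) ≤ Q.map (algebraMap S T) := by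
  rw [maximalIdeal_Rh_eq R P, Ideal.map_map, ← IsScalarTower.algebraMap_eq R Rh T,
    IsScalarTower.algebraMap_eq R S T, ← Ideal.map_map]
  apply Ideal.map_mono
  rw [Ideal.map_le_iff_le_comap, ← Ideal.under_def, ← Ideal.LiesOver.over (p := P) (P := Q)]

omit [IsNoetherianRing S] [Module.Finite R S]
  [Algebra (EGA4.Cpl (Localization.AtPrime P)) (EGA4.Cpl (Localization.AtPrime Q))]
  [IsScalarTower R (EGA4.Cpl (Localization.AtPrime P)) (EGA4.Cpl (Localization.AtPrime Q))] in
theorem exists_smul_sub_mem (t : T) : ∃ (s : S) (u : R), u ∉ P ∧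
    algebraMap R T u * t - algebraMap S T s ∈ Q.map (algebraMap S T) := by
  induction t using TensorProduct.induction_on with
  | zero =>
    exact ⟨0, 1, fun h => (Ideal.ne_top_iff_one P).1 (Ideal.IsPrime.ne_top inferInstance) h,
      by simp⟩
  | tmul a s₁ =>
    obtain ⟨-, -, h3⟩ := Groth.Agent.Lib.Helper12.HensFC.level_hat RP
    obtain ⟨b, hb⟩ := h3 1 a
    rw [pow_one] at hb
    obtain ⟨r, u, rfl⟩ := IsLocalization.exists_mk'_eq P.primeCompl b
    refine ⟨r • s₁, u, u.2, ?_⟩
    have h1 : algebraMap R T u * (a ⊗ₜ[R] s₁) - algebraMap S T (r • s₁) =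
        algebraMap Rh T (algebraMap R Rh (u : R) *
          (a - algebraMap RP Rh (IsLocalization.mk' RP r u))) * ((1 : Rh) ⊗ₜ[R] s₁) := by
      have e1 : algebraMap R Rh (u : R) * algebraMap RP Rh (IsLocalization.mk' RP r u) =
          algebraMap R Rh r := by
        change algebraMap RP Rh (algebraMap R RP (u : R)) * _ = algebraMap RP Rh (algebraMap R RP r)
        rw [← map_mul, mul_comm, IsLocalization.mk'_spec]
      rw [mul_sub, e1, Algebra.TensorProduct.algebraMap_apply,
        Algebra.TensorProduct.right_algebraMap_apply, Algebra.TensorProduct.algebraMap_apply,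
        Algebra.TensorProduct.tmul_mul_tmul, Algebra.TensorProduct.tmul_mul_tmul, one_mul, mul_one,
        Algebra.algebraMap_self_apply, TensorProduct.sub_tmul, TensorProduct.tmul_smul,
        TensorProduct.smul_tmul', Algebra.smul_def, mul_one]
    rw [h1]
    apply Ideal.mul_mem_right
    apply map_maximalIdeal_le R S P Q
    apply Ideal.mem_map_of_mem
    exact Ideal.mul_mem_left _ _ hb
  | add x y hx hy =>
    obtain ⟨s₁, u₁, hu₁, h₁⟩ := hx
    obtain ⟨s₂, u₂, hu₂, h₂⟩ := hy
    refine ⟨u₂ • s₁ + u₁ • s₂, u₁ * u₂, fun h => ?_, ?_⟩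
    · rcases (inferInstance : P.IsPrime).mem_or_mem h with h | h
      · exact hu₁ h
      · exact hu₂ h
    · have e : algebraMap R T (u₁ * u₂) * (x + y) - algebraMap S T (u₂ • s₁ + u₁ • s₂) =
          algebraMap R T u₂ * (algebraMap R T u₁ * x - algebraMap S T s₁) +
          algebraMap R T u₁ * (algebraMap R T u₂ * y - algebraMap S T s₂) := by
        rw [map_mul, map_add, Algebra.smul_def, Algebra.smul_def, map_mul, map_mul,
          ← IsScalarTower.algebraMap_apply R S T, ← IsScalarTower.algebraMap_apply R S T]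
        ring
      rw [e]
      exact Ideal.add_mem _ (Ideal.mul_mem_left _ _ h₁) (Ideal.mul_mem_left _ _ h₂)

theorem map_le_MM : Q.map (algebraMap S T) ≤ MM R S P Q := by
  rw [Ideal.map_le_iff_le_comap]
  intro s hs
  rw [Ideal.mem_comap, mem_MM, psi_algebraMap_S, iota_mem_iff]
  exact hs

theorem comap_MM : (MM R S P Q).comap (algebraMap S T) = Q := by
  ext s
  rw [Ideal.mem_comap, mem_MM, psi_algebraMap_S, iota_mem_iff]

omit [IsNoetherianRing S] [Module.Finite R S]
  [Algebra (EGA4.Cpl (Localization.AtPrime P)) (EGA4.Cpl (Localization.AtPrime Q))]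
  [IsScalarTower R (EGA4.Cpl (Localization.AtPrime P)) (EGA4.Cpl (Localization.AtPrime Q))]
  [Q.LiesOver P] [Q.IsPrime] in
theorem isUnit_algebraMap_T (u : R) (hu : u ∉ P) : IsUnit (algebraMap R T u) := by
  rw [IsScalarTower.algebraMap_apply R RP T]
  exact (IsLocalization.map_units RP (⟨u, hu⟩ : P.primeCompl)).map (algebraMap RP T)

theorem MM_eq : MM R S P Q = Q.map (algebraMap S T) := by
  apply le_antisymm _ (map_le_MM R S P Q)
  intro t ht
  obtain ⟨s, u, hu, h⟩ := exists_smul_sub_mem R S P Q t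
  have h1 : algebraMap S T s ∈ MM R S P Q := by
    have h2 := map_le_MM R S P Q h
    have h3 : algebraMap R T u * t ∈ MM R S P Q := Ideal.mul_mem_left _ _ ht
    have := Ideal.sub_mem _ h3 h2
    rwa [sub_sub_cancel] at this
  have hsQ : s ∈ Q := by
    rw [← comap_MM R S P Q]
    exact h1
  have h4 : algebraMap R T u * t ∈ Q.map (algebraMap S T) := by
    have := Ideal.add_mem _ h (Ideal.mem_map_of_mem (algebraMap S T) hsQ)
    rwa [sub_add_cancel] at this
  obtain ⟨v, hv⟩ := (isUnit_algebraMap_T R S P u hu).exists_left_inv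
  have : t = v * (algebraMap R T u * t) := by rw [← mul_assoc, hv, one_mul]
  rw [this]
  exact Ideal.mul_mem_left _ _ h4

theorem MM_dense (t : T) : ∃ c s : S, s ∉ Q ∧
    algebraMap S T s * t - algebraMap S T c ∈ MM R S P Q := by
  obtain ⟨s, u, hu, h⟩ := exists_smul_sub_mem R S P Q t
  refine ⟨s, algebraMap R S u, fun hmem => hu ?_, ?_⟩
  · rw [Ideal.LiesOver.over (p := P) (P := Q)]
    exact hmem
  · rw [← IsScalarTower.algebraMap_apply R S T]
    exact map_le_MM R S P Q h

instance MM_isPrime : (MM R S P Q).IsPrime := Ideal.comap_isPrime _ _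

theorem MM_comap_Rh : (MM R S P Q).comap (algebraMap Rh T) = maximalIdeal Rh := by
  have hle : maximalIdeal Rh ≤ (MM R S P Q).comap (algebraMap Rh T) := by
    intro a ha
    rw [Ideal.mem_comap, mem_MM, Algebra.TensorProduct.algebraMap_apply,
      Algebra.algebraMap_self_apply, psi_tmul, map_one, mul_one]
    exact phi_local R S P Q a ha
  have hne : (MM R S P Q).comap (algebraMap Rh T) ≠ ⊤ := (Ideal.comap_isPrime _ _).ne_top
  exact ((maximalIdeal.isMaximal Rh).eq_of_le hne hle).symm

instance MM_isMaximal : (MM R S P Q).IsMaximal := by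
  haveI : Algebra.IsIntegral Rh T := Algebra.IsIntegral.of_finite Rh T
  exact Ideal.IsIntegral.isMaximal_of_isMaximal_comap (R := Rh) (MM R S P Q)
    (by rw [MM_comap_Rh]; exact maximalIdeal.isMaximal Rh)

instance MM_liesOver : (MM R S P Q).LiesOver Q := ⟨(comap_MM R S P Q).symm⟩

instance MM_liesOver_Rh : (MM R S P Q).LiesOver (maximalIdeal Rh) :=
  ⟨(MM_comap_Rh R S P Q).symm⟩

theorem henselian_Rh : HenselianLocalRing (EGA4.Cpl (Localization.AtPrime P)) :=
  Groth.Agent.Lib.Helper12.henselianLocalRing_of_henselianRing _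

/-- the two key properties of the model: `T_𝔐 → Ŝ_Q` is bijective -/
theorem model_K :
    (∀ x : Sh, ∃ t u : T, psi Rh Sh u ∉ maximalIdeal Sh ∧ psi Rh Sh t = psi Rh Sh u * x) ∧
    (∀ t : T, psi Rh Sh t = 0 → ∃ u : T, psi Rh Sh u ∉ maximalIdeal Sh ∧ u * t = 0) := by
  haveI := henselian_Rh R P
  haveI : IsNoetherianRing Rh := Groth.Agent.Lib.Helper12.AnUnram.isNoetherianRing_cpl RP
  haveI : IsNoetherianRing Sh := Groth.Agent.Lib.Helper12.AnUnram.isNoetherianRing_cpl SQ
  haveI : IsNoetherianRing T := IsNoetherianRing.of_finite Rh T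
  haveI : Module.Flat S T := Groth.Agent.Lib.Helper25.S1Fib.flat_right (A := R) Rh S
  haveI : Module.Finite Rh (Localization.AtPrime (MM R S P Q)) :=
    Groth.Agent.Lib.Helper19.QFLocFin.finite_localization Rh T (MM R S P Q)
  haveI hcompl := Groth.Agent.Lib.Helper12.ComplIntClosure.isAdicComplete_of_finite_local Rh
    (Localization.AtPrime (MM R S P Q))
  obtain ⟨θ⟩ := Groth.Agent.Lib.Helper22.GenFib.nonempty_cpl_algEquiv_localization_complete
    Q (MM R S P Q) (MM_eq R S P Q).symm (MM_dense R S P Q)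
  -- the induced map on the localization
  have hunits : ∀ y : (MM R S P Q).primeCompl,
      IsUnit ((psi (R := R) (S := S) Rh Sh).toRingHom (y : T)) := by
    intro y
    by_contra hnu
    exact y.2 ((mem_MM R S P Q y).2 ((mem_maximalIdeal _).2 hnu))
  let ψM : Localization.AtPrime (MM R S P Q) →+* Sh :=
    IsLocalization.lift (M := (MM R S P Q).primeCompl) hunits
  have hψM : ∀ t : T, ψM (algebraMap T (Localization.AtPrime (MM R S P Q)) t) = psi Rh Sh t :=
    fun t => IsLocalization.lift_eq hunits t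
  let f : Sh →+* Sh := ψM.comp θ.toRingEquiv.toRingHom
  have hfS : ∀ s : S, f (algebraMap S Sh s) = algebraMap S Sh s := by
    intro s
    change ψM (θ (algebraMap S Sh s)) = _
    rw [θ.commutes, IsScalarTower.algebraMap_apply S T (Localization.AtPrime (MM R S P Q)), hψM,
      psi_algebraMap_S]
  have hfj : f.comp (algebraMap SQ Sh) = (RingHom.id Sh).comp (algebraMap SQ Sh) := by
    apply IsLocalization.ringHom_ext Q.primeCompl
    exact RingHom.ext (fun s => hfS s)
  obtain ⟨hm1, -, hm3⟩ := Groth.Agent.Lib.Helper12.HensFC.level_hat SQ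
  have hkrull : ⨅ n : ℕ, maximalIdeal Sh ^ n = ⊥ :=
    Ideal.iInf_pow_eq_bot_of_isLocalRing _ (maximalIdeal.isMaximal Sh).ne_top
  have hfid : f = RingHom.id Sh := by
    apply ringHom_ext_of_dense (algebraMap SQ Sh) (maximalIdeal Sh) (maximalIdeal Sh) hm3 hkrull
      f (RingHom.id Sh) _ _ hfj
    · rw [← hm1, Ideal.map_map, hfj, RingHom.id_comp]
    · rw [Ideal.map_id]
  have hfx : ∀ x : Sh, ψM (θ x) = x := fun x => by
    have := congrArg (fun g : Sh →+* Sh => g x) hfid
    exact this
  constructor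
  · intro x
    obtain ⟨t, u, htu⟩ := IsLocalization.exists_mk'_eq (MM R S P Q).primeCompl (θ x)
    refine ⟨t, u, fun hmem => u.2 ((mem_MM R S P Q u).2 hmem), ?_⟩
    have h1 : θ x * algebraMap T (Localization.AtPrime (MM R S P Q)) u =
        algebraMap T (Localization.AtPrime (MM R S P Q)) t := by
      rw [← htu, IsLocalization.mk'_spec]
    have h2 := congrArg ψM h1
    rw [map_mul, hfx, hψM, hψM] at h2
    rw [← h2, mul_comm]
  · intro t ht
    have h1 : ψM (algebraMap T (Localization.AtPrime (MM R S P Q)) t) = 0 := by rw [hψM, ht]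
    have h2 : algebraMap T (Localization.AtPrime (MM R S P Q)) t = 0 := by
      have h3 := hfx (θ.symm (algebraMap T (Localization.AtPrime (MM R S P Q)) t))
      rw [AlgEquiv.apply_symm_apply, h1] at h3
      have h4 := congrArg θ h3
      rw [AlgEquiv.apply_symm_apply, map_zero] at h4
      exact h4.symm
    rw [IsLocalization.map_eq_zero_iff (MM R S P Q).primeCompl] at h2
    obtain ⟨u, hu⟩ := h2
    exact ⟨u, fun hmem => u.2 ((mem_MM R S P Q u).2 hmem), hu⟩

end Tmodel

end Concrete

end Groth.Agent.Lib.Helper25.GalCpl
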