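import Mathlib
import Groth.Agent.Lib.Helper25.GalCplC

/-!
# The decomposition group is a Galois group for the completed local rings (helper25)
-/

set_option autoImplicit false
set_option linter.style.haveILetI false
set_option linter.unusedSectionVars false
universe u

open scoped Pointwise

namespace Groth.Agent.Lib.Helper25.GalCpl

open IsLocalRing TensorProduct

section Incomp

variable (R S G : Type u) [CommRing R] [CommRing S] [Algebra R S] [Module.Finite R S]
  [Group G] [MulSemiringAction G S] [SMulCommClass G R S] (Q : Ideal S) [Q.IsPrime]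

include R in
/-- incomparability: an element of `Q` outside `g • Q` for `g` outside the decomposition group -/
theorem exists_mem_not_mem (g : G) (hg : g ∉ MulAction.stabilizer G Q) :
    ∃ s : S, s ∈ Q ∧ g⁻¹ • s ∉ Q := by
  by_contra hcon
  push Not at hcon
  apply hg
  rw [MulAction.mem_stabilizer_iff]
  have hle : Q ≤ g • Q := fun s hs => by
    rw [Ideal.mem_pointwise_smul_iff_inv_smul_mem]
    exact hcon s hs
  haveI : (g • Q).IsPrime := by
    rw [Ideal.pointwise_smul_def]
    exact Ideal.map_isPrime_of_equiv (MulSemiringAction.toRingEquiv G S g)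
  have hcomap : (g • Q).comap (algebraMap R S) = Q.comap (algebraMap R S) := by
    ext r
    rw [Ideal.mem_comap, Ideal.mem_comap, Ideal.mem_pointwise_smul_iff_inv_smul_mem,
      smul_algebraMap]
  haveI : Algebra.IsIntegral R S := Algebra.IsIntegral.of_finite R S
  by_contra hne
  have hlt : Q < g • Q := lt_of_le_of_ne hle (fun e => hne e.symm)
  have := Ideal.IsIntegral.comap_lt_comap (R := R) hlt
  rw [hcomap] at this
  exact lt_irrefl _ this

end Incomp

section Main

variable (R S G : Type u) [CommRing R] [CommRing S] [IsDomain S] [Algebra R S]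
  [IsNoetherianRing R] [IsNoetherianRing S] [Module.Finite R S]
  [Group G] [Finite G] [MulSemiringAction G S] [SMulCommClass G R S]
  (P : Ideal R) [P.IsPrime] (Q : Ideal S) [Q.IsPrime] [Q.LiesOver P]
  [MulSemiringAction (MulAction.stabilizer G Q) (EGA4.Cpl (Localization.AtPrime Q))]
  (hact : ∀ (g : MulAction.stabilizer G Q) (s : S),
    g • algebraMap S (EGA4.Cpl (Localization.AtPrime Q)) s =
      algebraMap S (EGA4.Cpl (Localization.AtPrime Q)) (g • s))
  [Algebra (EGA4.Cpl (Localization.AtPrime P)) (EGA4.Cpl (Localization.AtPrime Q))]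
  [IsScalarTower R (EGA4.Cpl (Localization.AtPrime P)) (EGA4.Cpl (Localization.AtPrime Q))]

local notation "RP" => Localization.AtPrime P
local notation "SQ" => Localization.AtPrime Q
local notation "Rh" => EGA4.Cpl (Localization.AtPrime P)
local notation "Sh" => EGA4.Cpl (Localization.AtPrime Q)
local notation "D" => MulAction.stabilizer G Q

omit [IsDomain S] [IsNoetherianRing R] [Module.Finite R S] [Finite G] [SMulCommClass G R S]
  [Q.LiesOver P] in
theorem smul_mem_maximalIdeal (d : D) (x : Sh) (hx : x ∈ maximalIdeal Sh) :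
    d • x ∈ maximalIdeal Sh := by
  rw [mem_maximalIdeal, mem_nonunits_iff] at hx ⊢
  rwa [isUnit_smul_iff' Sh D]

include hact in
omit [IsDomain S] [Module.Finite R S] [Finite G] in
theorem phi_fixed (d : D) (a : Rh) : d • algebraMap Rh Sh a = algebraMap Rh Sh a := by
  haveI : IsNoetherianRing Sh := Groth.Agent.Lib.Helper12.AnUnram.isNoetherianRing_cpl SQ
  obtain ⟨-, -, hm3⟩ := Groth.Agent.Lib.Helper12.HensFC.level_hat RP
  have hkrull : ⨅ n : ℕ, maximalIdeal Sh ^ n = ⊥ :=
    Ideal.iInf_pow_eq_bot_of_isLocalRing _ (maximalIdeal.isMaximal Sh).ne_top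
  let f₁ : Rh →+* Sh := algebraMap Rh Sh
  let f₂ : Rh →+* Sh := (MulSemiringAction.toRingHom D Sh d).comp (algebraMap Rh Sh)
  have h₁ : (maximalIdeal Rh).map f₁ ≤ maximalIdeal Sh := by
    rw [Ideal.map_le_iff_le_comap]
    intro a ha
    exact phi_local R S P Q a ha
  have h₂ : (maximalIdeal Rh).map f₂ ≤ maximalIdeal Sh := by
    rw [Ideal.map_le_iff_le_comap]
    intro a ha
    rw [Ideal.mem_comap]
    change d • algebraMap Rh Sh a ∈ maximalIdeal Sh
    exact smul_mem_maximalIdeal S G Q d _ (phi_local R S P Q a ha)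
  have h : f₁.comp (algebraMap RP Rh) = f₂.comp (algebraMap RP Rh) := by
    apply IsLocalization.ringHom_ext P.primeCompl
    refine RingHom.ext (fun r => ?_)
    change algebraMap Rh Sh (algebraMap R Rh r) = d • algebraMap Rh Sh (algebraMap R Rh r)
    rw [← IsScalarTower.algebraMap_apply R Rh Sh, IsScalarTower.algebraMap_apply R S Sh, hact,
      Subgroup.smul_def, smul_algebraMap]
  have hf := ringHom_ext_of_dense (algebraMap RP Rh) (maximalIdeal Rh) (maximalIdeal Sh) hm3
    hkrull f₁ f₂ h₁ h₂ h
  have := congrArg (fun g : Rh →+* Sh => g a) hf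
  exact this.symm

omit [IsNoetherianRing R] [Module.Finite R S] [Finite G] [SMulCommClass G R S] [Q.LiesOver P]
  [Algebra (EGA4.Cpl (Localization.AtPrime P)) (EGA4.Cpl (Localization.AtPrime Q))]
  [IsScalarTower R (EGA4.Cpl (Localization.AtPrime P)) (EGA4.Cpl (Localization.AtPrime Q))] in
theorem iota_injective : Function.Injective (algebraMap S Sh) := by
  have h1 : Function.Injective (algebraMap S SQ) :=
    IsLocalization.injective SQ Q.primeCompl_le_nonZeroDivisors
  exact (cpl_algebraMap_injective SQ).comp h1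

include hact in
omit [IsNoetherianRing R] [Module.Finite R S] [Finite G] [SMulCommClass G R S] [Q.LiesOver P]
  [Algebra (EGA4.Cpl (Localization.AtPrime P)) (EGA4.Cpl (Localization.AtPrime Q))]
  [IsScalarTower R (EGA4.Cpl (Localization.AtPrime P)) (EGA4.Cpl (Localization.AtPrime Q))] in
theorem faithful_D [FaithfulSMul G S] : FaithfulSMul D Sh := by
  refine ⟨fun {d₁ d₂} h => ?_⟩
  apply Subtype.ext
  apply FaithfulSMul.eq_of_smul_eq_smul (α := S)
  intro s
  apply iota_injective S Q
  have := h (algebraMap S Sh s)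
  rw [hact, hact, Subgroup.smul_def, Subgroup.smul_def] at this
  exact this

include hact in
/-- the invariants of the decomposition group on `Ŝ_Q` -/
theorem isInvariant_D [Algebra.IsInvariant R S G] :
    Algebra.IsInvariant Rh Sh D := by
  haveI := henselian_Rh R P
  refine ⟨fun x hx => ?_⟩
  obtain ⟨K1, K2⟩ := model_K R S P Q
  refine isInvariant_of_model (R := R) (S := S) (G := G) Rh Sh (phi_local R S P Q) D
    (fun d s => by rw [hact]; rfl) (phi_fixed R S G P Q hact) ?_ K1 K2 x hx
  intro g hg
  obtain ⟨s, hs1, hs2⟩ := exists_mem_not_mem R S G Q g hg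
  exact ⟨s, (iota_mem_iff S Q s).2 hs1, fun h => hs2 ((iota_mem_iff S Q _).1 h)⟩

include hact in
theorem main [IsGaloisGroup G R S] : IsGaloisGroup D Rh Sh where
  faithful :=
    haveI := IsGaloisGroup.faithful (G := G) (A := R) (B := S)
    faithful_D S G Q hact
  commutes := ⟨fun d a x => by
    rw [Algebra.smul_def, Algebra.smul_def, smul_mul', phi_fixed R S G P Q hact]⟩
  isInvariant :=
    haveI := IsGaloisGroup.isInvariant (G := G) (A := R) (B := S)
    isInvariant_D R S G P Q hact

end Main

end Groth.Agent.Lib.Helper25.GalCpl
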