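import Groth.Agent.Lib.Helper25.FreeFib
import Mathlib.RingTheory.Spectrum.Prime.FreeLocus
import Mathlib.RingTheory.Localization.Module

set_option autoImplicit false
set_option linter.style.haveILetI false

universe u

namespace Groth.Agent.Lib.Helper25.GenPure

open Groth.Agent.Lib.Helper25.FreeFib

variable {A : Type u} [CommRing A] {N M : Type u} [AddCommGroup N] [Module A N] [AddCommGroup M]
  [Module A M]

/-- Purity at a prime where the cokernel is free after localization. -/
theorem purity_at_prime (i : N →ₗ[A] M) (hi : Function.Injective i) (u : Ideal A) [u.IsPrime]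
    (hflat : Module.Flat (Localization u.primeCompl)
      (LocalizedModule u.primeCompl (M ⧸ LinearMap.range i)))
    (m : N) (s : A) (hs : s ∉ u) (hsm : s • i m ∈ u • (⊤ : Submodule A M)) :
    ∃ s' ∉ u, s' • m ∈ u • (⊤ : Submodule A N) := by
  classical
  let π : M →ₗ[A] (M ⧸ LinearMap.range i) := (LinearMap.range i).mkQ
  let φ := LocalizedModule.map u.primeCompl π
  have hφ : Function.Surjective φ := by
    intro y
    induction y using LocalizedModule.induction_on with
    | h q t =>
      obtain ⟨y₀, rfl⟩ := Submodule.mkQ_surjective _ q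
      exact ⟨LocalizedModule.mk y₀ t, LocalizedModule.map_mk u.primeCompl π y₀ t⟩
  let J : Ideal (Localization u.primeCompl) := Ideal.map (algebraMap A (Localization u.primeCompl)) u
  let x : LocalizedModule u.primeCompl M := LocalizedModule.mk (i m) 1
  have hx0 : φ x = 0 := by
    show LocalizedModule.map u.primeCompl π (LocalizedModule.mk (i m) 1) = 0
    rw [LocalizedModule.map_mk]
    have : π (i m) = 0 := by
      show (LinearMap.range i).mkQ (i m) = 0
      rw [Submodule.mkQ_apply, Submodule.Quotient.mk_eq_zero]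
      exact ⟨m, rfl⟩
    rw [this, LocalizedModule.zero_mk]
  -- `u • M` maps into `J • Mᵤ`
  have hmap : ∀ y ∈ u • (⊤ : Submodule A M),
      LocalizedModule.mkLinearMap u.primeCompl M y ∈ J • (⊤ : Submodule (Localization u.primeCompl) (LocalizedModule u.primeCompl M)) := by
    intro y hy
    refine Submodule.smul_induction_on hy ?_ ?_
    · intro a ha y' _
      rw [map_smul, ← algebraMap_smul (Localization u.primeCompl) a]
      exact Submodule.smul_mem_smul (Ideal.mem_map_of_mem _ ha) trivial
    · intro y₁ y₂ h₁ h₂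
      rw [map_add]
      exact Submodule.add_mem _ h₁ h₂
  have hxJ : x ∈ J • (⊤ : Submodule (Localization u.primeCompl) (LocalizedModule u.primeCompl M)) := by
    have h1 := hmap _ hsm
    rw [LocalizedModule.mkLinearMap_apply] at h1
    have h2 : x = (Localization.mk (1 : A) (⟨s, hs⟩ : u.primeCompl)) •
        LocalizedModule.mk (s • i m) (1 : u.primeCompl) := by
      rw [LocalizedModule.mk_smul_mk, one_smul, mul_one]
      exact (LocalizedModule.mk_cancel (⟨s, hs⟩ : u.primeCompl) (i m)).symm
    rw [h2]
    exact Submodule.smul_mem _ _ h1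
  have hker := mem_smul_ker_of_flat φ hφ J x hx0 hxJ
  -- elements of `J • ker φ`
  have hP : ∀ y ∈ J • LinearMap.ker φ, ∃ (n : N) (_ : n ∈ u • (⊤ : Submodule A N)) (t : u.primeCompl),
      y = LocalizedModule.mk (i n) t := by
    intro y hy
    refine Submodule.smul_induction_on hy ?_ ?_
    · intro j hj y hy
      obtain ⟨⟨⟨a, ha⟩, t₀⟩, hj'⟩ := (IsLocalization.mem_map_algebraMap_iff u.primeCompl _).1 hj
      have hj'' : j = Localization.mk a t₀ := by
        rw [Localization.mk_eq_mk']
        exact (IsLocalization.eq_mk'_iff_mul_eq).2 hj'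
      induction y using LocalizedModule.induction_on with
      | h y₀ t =>
        have h0 : LocalizedModule.mk (π y₀) t = 0 := by
          have := LinearMap.mem_ker.1 hy
          rwa [show φ (LocalizedModule.mk y₀ t) = LocalizedModule.mk (π y₀) t from
            LocalizedModule.map_mk u.primeCompl π y₀ t] at this
        rw [← LocalizedModule.zero_mk t, LocalizedModule.mk_eq] at h0
        obtain ⟨c, hc⟩ := h0
        simp only [Submonoid.smul_def, smul_zero] at hc
        rw [← map_smul, ← map_smul] at hc
        have hc' : (c * t) • y₀ ∈ LinearMap.range i := by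
          have : π ((c * t) • y₀) = 0 := by
            rw [Submonoid.smul_def, Submonoid.coe_mul, mul_smul]; exact hc
          rwa [show π ((c * t) • y₀) = Submodule.Quotient.mk ((c * t) • y₀) from rfl,
            Submodule.Quotient.mk_eq_zero] at this
        obtain ⟨n, hn⟩ := hc'
        refine ⟨a • n, Submodule.smul_mem_smul ha trivial, (c * t) * (t₀ * t), ?_⟩
        rw [hj'', LocalizedModule.mk_smul_mk, map_smul, hn, LocalizedModule.mk_eq]
        refine ⟨1, ?_⟩
        simp only [one_smul, Submonoid.smul_def, Submonoid.coe_mul, smul_smul]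
        congr 1
        ring
    · rintro y₁ y₂ ⟨n₁, hn₁, t₁, rfl⟩ ⟨n₂, hn₂, t₂, rfl⟩
      refine ⟨t₂ • n₁ + t₁ • n₂, Submodule.add_mem _ (Submodule.smul_mem _ _ hn₁)
        (Submodule.smul_mem _ _ hn₂), t₁ * t₂, ?_⟩
      rw [LocalizedModule.mk_add_mk, map_add]
      simp only [Submonoid.smul_def, map_smul]
  obtain ⟨n, hn, t, hnt⟩ := hP x hker
  rw [LocalizedModule.mk_eq] at hnt
  obtain ⟨c, hc⟩ := hnt
  refine ⟨(c * t : u.primeCompl), (c * t).2, ?_⟩
  have h3 : i (((c * t : u.primeCompl) : A) • m) = i ((c : A) • n) := by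
    rw [map_smul, map_smul]
    simp only [Submonoid.smul_def, one_smul] at hc
    rw [Submonoid.coe_mul, mul_smul]
    exact hc
  rw [hi h3]
  exact Submodule.smul_mem _ _ hn

theorem bot_mem_freeLocus [IsDomain A] (Q : Type u) [AddCommGroup Q] [Module A Q] :
    (⟨⊥, Ideal.isPrime_bot⟩ : PrimeSpectrum A) ∈ Module.freeLocus A Q := by
  rw [Module.mem_freeLocus]
  have hF : IsField (Localization.AtPrime (⊥ : Ideal A)) := by
    rw [IsLocalRing.isField_iff_maximalIdeal_eq, ← Localization.AtPrime.map_eq_maximalIdeal,
      Ideal.map_bot]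
  letI := hF.toField
  exact Module.Free.of_divisionRing _ _

/-- Generic purity of a submodule of a finite module over a Noetherian domain. -/
theorem exists_dense_open_pure [IsNoetherianRing A] [IsDomain A] [Module.Finite A M]
    (i : N →ₗ[A] M) (hi : Function.Injective i) :
    ∃ U : Set (PrimeSpectrum A), IsOpen U ∧ Dense U ∧ ∀ u ∈ U, ∀ m : N, ∀ s ∉ u.asIdeal,
      s • i m ∈ u.asIdeal • (⊤ : Submodule A M) →
        ∃ s' ∉ u.asIdeal, s' • m ∈ u.asIdeal • (⊤ : Submodule A N) := by
  haveI : Module.FinitePresentation A (M ⧸ LinearMap.range i) :=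
    Module.finitePresentation_of_finite A _
  refine ⟨Module.freeLocus A (M ⧸ LinearMap.range i), Module.isOpen_freeLocus,
    Module.isOpen_freeLocus.dense ⟨_, bot_mem_freeLocus _⟩, ?_⟩
  intro u hu m s hs hsm
  rw [Module.mem_freeLocus] at hu
  haveI := hu
  exact purity_at_prime i hi u.asIdeal (Module.Flat.of_free) m s hs hsm

end Groth.Agent.Lib.Helper25.GenPure
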