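import Mathlib
import Groth.Agent.Lib.Helper24.GenFreeRed.Main

/-!
# Generic behaviour of elements of fibre rings (ring level)

`A` a domain, `M` an `A`-module which becomes free after inverting `f`.  For `x : M` we compare
the vanishing of `1 ⊗ x` in `Ω ⊗[A] M` (`Ω` a field containing `A`) with its vanishing in
`L ⊗[A] M` for the "generic" fields `L` over `A`.
-/

set_option linter.style.haveILetI false
set_option linter.unusedSectionVars false
universe u
open TensorProduct

namespace Groth.Agent.Lib.Helper25.GenRedAlg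

section Free

/-- generic freeness over a domain, packaged with base change modules. -/
theorem exists_free_away (A B : Type u) [CommRing A] [IsDomain A] [CommRing B] [Algebra A B]
    [Algebra.FiniteType A B] (M : Type u) [AddCommGroup M] [Module B M] [Module A M]
    [IsScalarTower A B M] [Module.Finite B M] :
    ∃ f : A, f ≠ 0 ∧ Module.Free (Localization.Away f) (Localization.Away f ⊗[A] M) ∧
      Module.Free (Localization.Away f) (Localization.Away f ⊗[A] B) ∧
      (Localization.awayMap (algebraMap A B) f).FinitePresentation := by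
  obtain ⟨U, hUo, hUd, hU⟩ := Groth.Agent.Lib.Helper24.GenFreeRed.main A B M
  obtain ⟨u, hu⟩ := hUd.nonempty
  obtain ⟨f, hfu, -, h1, h2, h3, -⟩ := hU u hu
  refine ⟨f, fun h0 => hfu (h0 ▸ u.asIdeal.zero_mem), ?_, ?_, h3⟩
  · have hbc := IsLocalizedModule.isBaseChange (Submonoid.powers f) (Localization.Away f)
      (LocalizedModule.mkLinearMap (Submonoid.powers f) M)
    exact Module.Free.of_equiv hbc.equiv.symm
  · have hbc := IsLocalizedModule.isBaseChange (Submonoid.powers f) (Localization.Away f)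
      (LocalizedModule.mkLinearMap (Submonoid.powers f) B)
    exact Module.Free.of_equiv hbc.equiv.symm

end Free

section Generic

variable {A : Type u} [CommRing A] [IsDomain A] {M : Type u} [AddCommGroup M] [Module A M]

/-- the algebra structure on a field in which `f` is nonzero. -/
@[reducible] noncomputable def awayAlgebra (f : A) (F : Type u) [Field F] [Algebra A F]
    (hF : algebraMap A F f ≠ 0) : Algebra (Localization.Away f) F :=
  (IsLocalization.Away.lift (S := Localization.Away f) f (g := algebraMap A F)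
    (isUnit_iff_ne_zero.mpr hF)).toAlgebra

theorem awayAlgebra_tower (f : A) (F : Type u) [Field F] [Algebra A F]
    (hF : algebraMap A F f ≠ 0) :
    letI := awayAlgebra f F hF
    IsScalarTower A (Localization.Away f) F := by
  letI := awayAlgebra f F hF
  refine IsScalarTower.of_algebraMap_eq fun a => ?_
  change _ = IsLocalization.Away.lift f _ (algebraMap A (Localization.Away f) a)
  rw [IsLocalization.Away.lift_eq]

theorem generic_tmul (f : A) (hf : f ≠ 0)
    [Module.Free (Localization.Away f) (Localization.Away f ⊗[A] M)]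
    (Ω : Type u) [Field Ω] [Algebra A Ω] (hΩ : Function.Injective (algebraMap A Ω)) (x : M) :
    ((1 : Ω) ⊗ₜ[A] x = 0 → ∀ (L : Type u) [Field L] [Algebra A L], algebraMap A L f ≠ 0 →
        (1 : L) ⊗ₜ[A] x = 0) ∧
      ((1 : Ω) ⊗ₜ[A] x ≠ 0 → ∃ c : A, c ≠ 0 ∧ ∀ (L : Type u) [Field L] [Algebra A L],
        algebraMap A L f ≠ 0 → algebraMap A L c ≠ 0 → (1 : L) ⊗ₜ[A] x ≠ 0) := by
  classical
  set R := Localization.Away f with hR
  set S := R ⊗[A] M with hS
  set s : S := (1 : R) ⊗ₜ[A] x with hs
  have hinjAR : Function.Injective (algebraMap A R) :=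
    IsLocalization.injective R (powers_le_nonZeroDivisors_of_noZeroDivisors hf)
  -- transport for a field in which `f ≠ 0`
  have key : ∀ (F : Type u) [Field F] [Algebra A F] (hF : algebraMap A F f ≠ 0),
      letI := awayAlgebra f F hF
      ∃ e : F ⊗[R] S ≃ₗ[F] F ⊗[A] M, e ((1 : F) ⊗ₜ[R] s) = (1 : F) ⊗ₜ[A] x := by
    intro F _ _ hF
    letI := awayAlgebra f F hF
    haveI := awayAlgebra_tower f F hF
    refine ⟨TensorProduct.AlgebraTensorModule.cancelBaseChange A R F F M, ?_⟩
    rw [hs, TensorProduct.AlgebraTensorModule.cancelBaseChange_tmul, one_smul]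
  have hΩf : algebraMap A Ω f ≠ 0 := fun h => hf (hΩ (by rw [h, map_zero]))
  constructor
  · intro h0 L _ _ hL
    -- `s = 0`
    letI := awayAlgebra f Ω hΩf
    haveI := awayAlgebra_tower f Ω hΩf
    obtain ⟨eΩ, heΩ⟩ := key Ω hΩf
    have h1 : (1 : Ω) ⊗ₜ[R] s = 0 := by
      apply eΩ.injective
      rw [heΩ, h0, map_zero]
    have hinjRΩ : Function.Injective (algebraMap R Ω) := by
      rw [injective_iff_map_eq_zero]
      intro r hr
      obtain ⟨⟨a, t⟩, hat⟩ := IsLocalization.surj (Submonoid.powers f) r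
      have h2 : algebraMap A Ω a = 0 := by
        rw [IsScalarTower.algebraMap_apply A R Ω, ← hat, map_mul, hr, zero_mul]
      have h3 : a = 0 := hΩ (by rw [h2, map_zero])
      rw [h3, map_zero] at hat
      have hu : IsUnit (algebraMap A R t) := IsLocalization.map_units R t
      exact (hu.mul_left_eq_zero).mp hat
    have hinj := Module.Flat.rTensor_preserves_injective_linearMap (M := S)
      (Algebra.linearMap R Ω) hinjRΩ
    have h4 : (Algebra.linearMap R Ω).rTensor S ((1 : R) ⊗ₜ[R] s) = 0 := by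
      rw [LinearMap.rTensor_tmul, Algebra.linearMap_apply, map_one, h1]
    have h5 : (1 : R) ⊗ₜ[R] s = 0 := hinj (by rw [h4, map_zero])
    have h6 : s = 0 := by
      have := congrArg (TensorProduct.lid R S) h5
      rwa [TensorProduct.lid_tmul, one_smul, map_zero] at this
    letI := awayAlgebra f L hL
    obtain ⟨eL, heL⟩ := key L hL
    rw [← heL, h6, tmul_zero, map_zero]
  · intro hne
    have hs0 : s ≠ 0 := by
      intro h6
      letI := awayAlgebra f Ω hΩf
      obtain ⟨eΩ, heΩ⟩ := key Ω hΩf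
      apply hne
      rw [← heΩ, h6, tmul_zero, map_zero]
    let b := Module.Free.chooseBasis R S
    obtain ⟨i, hi⟩ : ∃ i, b.repr s i ≠ 0 := by
      by_contra hcon
      push Not at hcon
      apply hs0
      apply b.repr.injective
      ext i
      rw [hcon i, map_zero, Finsupp.zero_apply]
    obtain ⟨⟨c, t⟩, hct⟩ := IsLocalization.surj (Submonoid.powers f) (b.repr s i)
    have hc0 : c ≠ 0 := by
      intro h3
      rw [h3, map_zero] at hct
      have hu : IsUnit (algebraMap A R t) := IsLocalization.map_units R t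
      exact hi ((hu.mul_left_eq_zero).mp hct)
    refine ⟨c, hc0, ?_⟩
    intro L _ _ hL hLc
    letI := awayAlgebra f L hL
    haveI := awayAlgebra_tower f L hL
    obtain ⟨eL, heL⟩ := key L hL
    rw [← heL]
    intro h7
    have h8 : (1 : L) ⊗ₜ[R] s = 0 := eL.injective (by rw [h7, map_zero])
    have h9 := congrArg (fun z => (b.baseChange L).repr z i) h8
    simp only [Module.Basis.baseChange_repr_tmul, map_zero, Finsupp.zero_apply] at h9
    rw [Algebra.smul_def, mul_one] at h9
    apply hLc
    rw [IsScalarTower.algebraMap_apply A R L, ← hct, map_mul, h9, zero_mul]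

end Generic

section RT1

variable {A B : Type u} [CommRing A] [CommRing B] [Algebra A B]

theorem exists_nilpotent_of_not_isReduced {R : Type*} [CommRing R] (h : ¬ IsReduced R) :
    ∃ x : R, IsNilpotent x ∧ x ≠ 0 := by
  by_contra hcon
  push Not at hcon
  exact h ⟨fun x hx => hcon x hx⟩

attribute [local instance] Algebra.TensorProduct.rightAlgebra in
/-- every element of `K ⊗[A] B` is a unit multiple of some `1 ⊗ b`. -/
theorem exists_unit_mul_eq_tmul [IsDomain A] (K : Type u) [Field K] [Algebra A K]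
    [IsFractionRing A K] (ξ : K ⊗[A] B) :
    ∃ (b : B) (v : K ⊗[A] B), IsUnit v ∧ ξ * v = (1 : K) ⊗ₜ[A] b := by
  obtain ⟨⟨b, m⟩, hbm⟩ := IsLocalization.surj (Algebra.algebraMapSubmonoid B (nonZeroDivisors A)) ξ
  exact ⟨b, _, IsLocalization.map_units (K ⊗[A] B) m, hbm⟩

/-- core: an element whose image in `Ω ⊗ B` is a nonzero nilpotent. -/
theorem rt1_core [IsDomain A] [Algebra.FiniteType A B] (Ω : Type u) [Field Ω] [Algebra A Ω]
    (hinj : Function.Injective (algebraMap A Ω)) (b : B) (hb0 : (1 : Ω) ⊗ₜ[A] b ≠ 0)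
    (hbn : IsNilpotent ((1 : Ω) ⊗ₜ[A] b)) :
    ∃ a : A, a ≠ 0 ∧ ∀ (L : Type u) [Field L] [Algebra A L], algebraMap A L a ≠ 0 →
      ¬ IsReduced (L ⊗[A] B) := by
  obtain ⟨n, hn⟩ := hbn
  rw [Algebra.TensorProduct.tmul_pow, one_pow] at hn
  obtain ⟨f, hf, -, hfree, -⟩ := exists_free_away A B B
  obtain ⟨c, hc, hcL⟩ := (generic_tmul (M := B) f hf Ω hinj b).2 hb0
  have hz := (generic_tmul (M := B) f hf Ω hinj (b ^ n)).1 hn
  refine ⟨f * c, mul_ne_zero hf hc, ?_⟩
  intro L _ _ hL hred
  rw [map_mul] at hL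
  have hLf : algebraMap A L f ≠ 0 := left_ne_zero_of_mul hL
  have hLc : algebraMap A L c ≠ 0 := right_ne_zero_of_mul hL
  have h1 := hcL L hLf hLc
  have h2 := hz L hLf
  apply h1
  apply hred.eq_zero
  refine ⟨n, ?_⟩
  rw [Algebra.TensorProduct.tmul_pow, one_pow, h2]

/-- **Non-reduced generic fibre, domain case.** -/
theorem rt1_domain [IsDomain A] [Algebra.FiniteType A B] (K : Type u) [Field K] [Algebra A K]
    [IsFractionRing A K] (h : ¬ IsReduced (K ⊗[A] B)) :
    ∃ a : A, a ≠ 0 ∧ ∀ (L : Type u) [Field L] [Algebra A L], algebraMap A L a ≠ 0 →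
      ¬ IsReduced (L ⊗[A] B) := by
  obtain ⟨ξ, ⟨n, hn⟩, hξ0⟩ := exists_nilpotent_of_not_isReduced h
  obtain ⟨b, v, hv, hbv⟩ := exists_unit_mul_eq_tmul K ξ
  have hb0 : (1 : K) ⊗ₜ[A] b ≠ 0 := by
    rw [← hbv]
    intro h0
    exact hξ0 ((hv.mul_left_eq_zero).mp h0)
  have hbn : IsNilpotent ((1 : K) ⊗ₜ[A] b) := ⟨n, by rw [← hbv, mul_pow, hn, zero_mul]⟩
  exact rt1_core K (IsFractionRing.injective A K) b hb0 hbn

end RT1

section RT3

variable {A B : Type u} [CommRing A] [CommRing B] [Algebra A B]

/-- cancellation of base change for reducedness. -/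
theorem isReduced_cancel (A' : Type u) [CommRing A'] [Algebra A A'] (L : Type u) [CommRing L]
    [Algebra A L] [Algebra A' L] [IsScalarTower A A' L] :
    IsReduced (L ⊗[A'] (A' ⊗[A] B)) ↔ IsReduced (L ⊗[A] B) := by
  let e := Algebra.TensorProduct.cancelBaseChange A A' A' L B
  constructor
  · intro h
    exact isReduced_of_injective e.symm.toRingEquiv.toRingHom e.symm.injective
  · intro h
    exact isReduced_of_injective e.toRingEquiv.toRingHom e.injective

theorem rt3_aux {A' : Type u} [CommRing A'] [Algebra A A'] {A'' : Type u} [CommRing A'']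
    [Algebra A' A''] [Algebra A A''] [IsScalarTower A A' A''] (L : Type u) [Field L] [Algebra A L]
    (L' : Type u) [Field L'] (φL : L →+* L') (φ'' : A'' →+* L')
    (hcompat : ∀ x : A, φL (algebraMap A L x) = φ'' (algebraMap A A'' x))
    (a' : A') (hu : IsUnit (algebraMap A' A'' a'))
    (haL : ∀ (F : Type u) [Field F] [Algebra A' F], algebraMap A' F a' ≠ 0 →
      ¬ IsReduced (F ⊗[A'] (A' ⊗[A] B))) :
    letI := (φL.comp (algebraMap A L)).toAlgebra
    ¬ IsReduced (L' ⊗[A] B) := by
  letI algAL' : Algebra A L' := (φL.comp (algebraMap A L)).toAlgebra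
  letI algA'L' : Algebra A' L' := (φ''.comp (algebraMap A' A'')).toAlgebra
  haveI towA' : IsScalarTower A A' L' := by
    refine IsScalarTower.of_algebraMap_eq fun x => ?_
    change φL (algebraMap A L x) = φ'' (algebraMap A' A'' (algebraMap A A' x))
    rw [hcompat, ← IsScalarTower.algebraMap_apply A A' A'']
  have ha'L : algebraMap A' L' a' ≠ 0 := (hu.map φ'').ne_zero
  have h5 := haL L' ha'L
  rwa [isReduced_cancel] at h5

set_option maxHeartbeats 1600000 in
/-- **Geometrically non-reduced generic fibre, domain case**: `Ω` is any field containing `A`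
with `Ω ⊗[A] B` non-reduced. -/
theorem rt3_domain [IsDomain A] [Algebra.FiniteType A B] (Ω : Type u) [Field Ω] [Algebra A Ω]
    (hinj : Function.Injective (algebraMap A Ω)) (h : ¬ IsReduced (Ω ⊗[A] B)) :
    ∃ a : A, a ≠ 0 ∧ ∀ (L : Type u) [Field L] [Algebra A L], algebraMap A L a ≠ 0 →
      ∃ (L' : Type u) (_ : Field L') (χ : L →+* L'),
        letI := (χ.comp (algebraMap A L)).toAlgebra
        ¬ IsReduced (L' ⊗[A] B) := by
  classical
  obtain ⟨ξ, hξn, hξ0⟩ := exists_nilpotent_of_not_isReduced h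
  obtain ⟨S, hS⟩ := TensorProduct.exists_finset ξ
  -- the subalgebra generated by the coefficients
  let A' : Subalgebra A Ω := Algebra.adjoin A ((S.image Prod.fst : Finset Ω) : Set Ω)
  have hmem : ∀ i ∈ S, i.1 ∈ A' := fun i hi =>
    Algebra.subset_adjoin (Finset.mem_coe.mpr (Finset.mem_image_of_mem Prod.fst hi))
  haveI : Algebra.FiniteType A A' :=
    (Subalgebra.fg_iff_finiteType A').mp (Subalgebra.fg_adjoin_finset _)
  let ξ' : A' ⊗[A] B := ∑ i ∈ S.attach, (⟨i.1.1, hmem i.1 i.2⟩ : A') ⊗ₜ[A] i.1.2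
  let e := Algebra.TensorProduct.cancelBaseChange A A' A' Ω B
  have heξ : e ((1 : Ω) ⊗ₜ[A'] ξ') = ξ := by
    rw [hS, ← Finset.sum_attach S]
    simp only [ξ', TensorProduct.tmul_sum, map_sum]
    refine Finset.sum_congr rfl fun i _ => ?_
    rw [Algebra.TensorProduct.cancelBaseChange_tmul, Algebra.smul_def, mul_one]
    rfl
  have h0 : (1 : Ω) ⊗ₜ[A'] ξ' ≠ 0 := by
    intro h0
    apply hξ0
    rw [← heξ, h0, map_zero]
  have hn : IsNilpotent ((1 : Ω) ⊗ₜ[A'] ξ') := by
    obtain ⟨n, hn⟩ := hξn
    refine ⟨n, e.injective ?_⟩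
    rw [map_pow, heξ, hn, map_zero]
  have hinj' : Function.Injective (algebraMap A' Ω) := Subtype.val_injective
  obtain ⟨a', ha', haL⟩ := rt1_core (A := A') (B := A' ⊗[A] B) Ω hinj' ξ' h0 hn
  -- the localization of `A'` at `a'`
  let A'' := Localization.Away a'
  have hinj1 : Function.Injective (algebraMap A' A'') :=
    IsLocalization.injective (M := Submonoid.powers a') A''
      (powers_le_nonZeroDivisors_of_noZeroDivisors ha')
  have hinj2 : Function.Injective (algebraMap A A') := by
    intro x y hxy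
    apply hinj
    have := congrArg (algebraMap A' Ω) hxy
    rwa [← IsScalarTower.algebraMap_apply, ← IsScalarTower.algebraMap_apply] at this
  have hinjA : Function.Injective (algebraMap A A'') := by
    intro x y hxy
    apply hinj2
    apply hinj1
    rw [← IsScalarTower.algebraMap_apply, ← IsScalarTower.algebraMap_apply]
    exact hxy
  haveI : Algebra.FiniteType A A'' :=
    Algebra.FiniteType.trans (inferInstance : Algebra.FiniteType A A')
      (IsLocalization.finiteType_of_monoid_fg (Submonoid.powers a') A'')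
  obtain ⟨f₀, hf₀, -, hfree, -⟩ := exists_free_away A A'' A''
  refine ⟨f₀, hf₀, ?_⟩
  intro L _ _ hL
  -- nontriviality of `L ⊗[A] A''`
  let R := Localization.Away f₀
  letI := awayAlgebra f₀ L hL
  haveI := awayAlgebra_tower f₀ L hL
  haveI : Nontrivial R :=
    (IsLocalization.injective R (powers_le_nonZeroDivisors_of_noZeroDivisors hf₀)).nontrivial
  haveI : Nontrivial (R ⊗[A] A'') := by
    have hi := Module.Flat.lTensor_preserves_injective_linearMap (M := R)
      (Algebra.linearMap A A'') hinjA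
    have hne : (Algebra.linearMap A A'').lTensor R ((1 : R) ⊗ₜ[A] (1 : A)) ≠ 0 := by
      intro h1
      have h2 : (1 : R) ⊗ₜ[A] (1 : A) = 0 := hi (by rw [h1, map_zero])
      have h3 := congrArg (TensorProduct.rid A R) h2
      rw [TensorProduct.rid_tmul, one_smul, map_zero] at h3
      exact one_ne_zero h3
    exact ⟨_, _, hne⟩
  haveI hff : Module.FaithfullyFlat R (R ⊗[A] A'') := by
    haveI : Module.Free R (R ⊗[A] A'') := hfree
    exact Module.FaithfullyFlat.instOfNontrivialOfFree R _
  haveI : Nontrivial (L ⊗[R] (R ⊗[A] A'')) := Module.FaithfullyFlat.rTensor_nontrivial R _ L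
  haveI : Nontrivial (L ⊗[A] A'') :=
    (TensorProduct.AlgebraTensorModule.cancelBaseChange A R R L A'').symm.toEquiv.nontrivial
  obtain ⟨m, hm⟩ := Ideal.exists_maximal (L ⊗[A] A'')
  letI : Field ((L ⊗[A] A'') ⧸ m) := Ideal.Quotient.field m
  let φL : L →+* (L ⊗[A] A'') ⧸ m := (Ideal.Quotient.mk m).comp
    (Algebra.TensorProduct.includeLeftRingHom : L →+* L ⊗[A] A'')
  let φ'' : A'' →+* (L ⊗[A] A'') ⧸ m := (Ideal.Quotient.mk m).comp
    (Algebra.TensorProduct.includeRight : A'' →ₐ[A] L ⊗[A] A'').toRingHom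
  have hcompat : ∀ x : A, φL (algebraMap A L x) = φ'' (algebraMap A A'' x) := by
    intro x
    change Ideal.Quotient.mk m (algebraMap A L x ⊗ₜ[A] (1 : A'')) =
      Ideal.Quotient.mk m ((1 : L) ⊗ₜ[A] algebraMap A A'' x)
    congr 1
    rw [Algebra.algebraMap_eq_smul_one, Algebra.algebraMap_eq_smul_one (R := A) (A := A''),
      TensorProduct.smul_tmul]
  exact ⟨(L ⊗[A] A'') ⧸ m, inferInstance, φL,
    rt3_aux (A' := A') (A'' := A'') L ((L ⊗[A] A'') ⧸ m) φL φ'' hcompat a'
      (IsLocalization.Away.algebraMap_isUnit a') haL⟩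

end RT3

section Reduce

variable {A B : Type u} [CommRing A] [CommRing B] [Algebra A B]

/-- a field over `A` is an algebra over `A ⧸ nilradical A`. -/
@[reducible] noncomputable def redAlgebra (L : Type u) [Field L] [Algebra A L] :
    Algebra (A ⧸ nilradical A) L :=
  (Ideal.Quotient.lift (nilradical A) (algebraMap A L) (fun _ ha =>
    ((mem_nilradical.mp ha).map (algebraMap A L)).eq_zero)).toAlgebra

theorem redAlgebra_tower (L : Type u) [Field L] [Algebra A L] :
    letI := redAlgebra (A := A) L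
    IsScalarTower A (A ⧸ nilradical A) L := by
  letI := redAlgebra (A := A) L
  exact IsScalarTower.of_algebraMap_eq fun a => rfl

theorem redAlgebra_algebraMap (L : Type u) [Field L] [Algebra A L] (a : A) :
    letI := redAlgebra (A := A) L
    algebraMap (A ⧸ nilradical A) L (Ideal.Quotient.mk _ a) = algebraMap A L a := rfl

/-- transport of reducedness of fibre rings to the reduction of the base. -/
theorem red_isReduced_iff (L : Type u) [Field L] [Algebra A L] :
    letI := redAlgebra (A := A) L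
    IsReduced (L ⊗[A ⧸ nilradical A] ((A ⧸ nilradical A) ⊗[A] B)) ↔ IsReduced (L ⊗[A] B) := by
  letI := redAlgebra (A := A) L
  haveI := redAlgebra_tower (A := A) L
  let e := Algebra.TensorProduct.cancelBaseChange A (A ⧸ nilradical A) (A ⧸ nilradical A) L B
  constructor
  · intro h
    exact isReduced_of_injective e.symm.toRingEquiv.toRingHom e.symm.injective
  · intro h
    exact isReduced_of_injective e.toRingEquiv.toRingHom e.injective

/-- the generic-point hypotheses: `K₀` is the fraction field of `A ⧸ nilradical A`. -/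
structure IsGenericField (A : Type u) [CommRing A] (K₀ : Type u) [Field K₀] [Algebra A K₀] :
    Prop where
  nilp : ∀ a : A, algebraMap A K₀ a = 0 → IsNilpotent a
  surj : ∀ z : K₀, ∃ x y : A, z = algebraMap A K₀ x / algebraMap A K₀ y

theorem IsGenericField.isPrime {K₀ : Type u} [Field K₀] [Algebra A K₀]
    (h : IsGenericField A K₀) : (nilradical A).IsPrime := by
  refine ⟨fun htop => ?_, fun {a b} hab => ?_⟩
  · have h1 : (1 : A) ∈ nilradical A := htop ▸ Submodule.mem_top
    have := ((mem_nilradical.mp h1).map (algebraMap A K₀)).eq_zero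
    rw [map_one] at this
    exact one_ne_zero this
  · have h0 := ((mem_nilradical.mp hab).map (algebraMap A K₀)).eq_zero
    rw [map_mul, mul_eq_zero] at h0
    rcases h0 with h0 | h0
    · exact Or.inl (mem_nilradical.mpr (h.nilp a h0))
    · exact Or.inr (mem_nilradical.mpr (h.nilp b h0))

theorem IsGenericField.isFractionRing {K₀ : Type u} [Field K₀] [Algebra A K₀]
    (h : IsGenericField A K₀) :
    letI := redAlgebra (A := A) K₀
    IsFractionRing (A ⧸ nilradical A) K₀ := by
  letI := redAlgebra (A := A) K₀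
  haveI : FaithfulSMul (A ⧸ nilradical A) K₀ := by
    rw [faithfulSMul_iff_algebraMap_injective, injective_iff_map_eq_zero]
    intro x hx
    obtain ⟨a, rfl⟩ := Ideal.Quotient.mk_surjective x
    rw [Ideal.Quotient.eq_zero_iff_mem, mem_nilradical]
    exact h.nilp a hx
  refine IsFractionRing.of_field (A ⧸ nilradical A) K₀ fun z => ?_
  obtain ⟨x, y, hxy⟩ := h.surj z
  exact ⟨Ideal.Quotient.mk _ x, Ideal.Quotient.mk _ y, hxy⟩

/-- **Non-reduced generic fibre**: general irreducible base. -/
theorem rt1 [Algebra.FiniteType A B] (K₀ : Type u) [Field K₀] [Algebra A K₀]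
    (hK : IsGenericField A K₀) (h : ¬ IsReduced (K₀ ⊗[A] B)) :
    ∃ a : A, algebraMap A K₀ a ≠ 0 ∧ ∀ (L : Type u) [Field L] [Algebra A L],
      algebraMap A L a ≠ 0 → ¬ IsReduced (L ⊗[A] B) := by
  haveI := hK.isPrime
  letI := redAlgebra (A := A) K₀
  haveI := hK.isFractionRing
  have h' : ¬ IsReduced (K₀ ⊗[A ⧸ nilradical A] ((A ⧸ nilradical A) ⊗[A] B)) := by
    rwa [red_isReduced_iff]
  obtain ⟨a', ha', haL⟩ := rt1_domain (A := A ⧸ nilradical A)
    (B := (A ⧸ nilradical A) ⊗[A] B) K₀ h'
  obtain ⟨a, rfl⟩ := Ideal.Quotient.mk_surjective a'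
  refine ⟨a, ?_, ?_⟩
  · intro h0
    apply ha'
    rw [Ideal.Quotient.eq_zero_iff_mem, mem_nilradical]
    exact hK.nilp a h0
  · intro L _ _ hL
    letI := redAlgebra (A := A) L
    rw [← red_isReduced_iff]
    exact haL L hL

theorem isPrime_nilradical_of_nilp {Ω : Type u} [Field Ω] [Algebra A Ω]
    (hΩ : ∀ a : A, algebraMap A Ω a = 0 → IsNilpotent a) : (nilradical A).IsPrime := by
  refine ⟨fun htop => ?_, fun {a b} hab => ?_⟩
  · have h1 : (1 : A) ∈ nilradical A := htop ▸ Submodule.mem_top
    have := ((mem_nilradical.mp h1).map (algebraMap A Ω)).eq_zero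
    rw [map_one] at this
    exact one_ne_zero this
  · have h0 := ((mem_nilradical.mp hab).map (algebraMap A Ω)).eq_zero
    rw [map_mul, mul_eq_zero] at h0
    rcases h0 with h0 | h0
    · exact Or.inl (mem_nilradical.mpr (hΩ a h0))
    · exact Or.inr (mem_nilradical.mpr (hΩ b h0))

theorem redAlgebra_injective {Ω : Type u} [Field Ω] [Algebra A Ω]
    (hΩ : ∀ a : A, algebraMap A Ω a = 0 → IsNilpotent a) :
    letI := redAlgebra (A := A) Ω
    Function.Injective (algebraMap (A ⧸ nilradical A) Ω) := by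
  letI := redAlgebra (A := A) Ω
  rw [injective_iff_map_eq_zero]
  intro x hx
  obtain ⟨a, rfl⟩ := Ideal.Quotient.mk_surjective x
  rw [Ideal.Quotient.eq_zero_iff_mem, mem_nilradical]
  exact hΩ a hx

/-- **Geometrically non-reduced generic fibre**: general irreducible base. `Ω` is a field over
`A` whose kernel is the nilradical and with `Ω ⊗[A] B` non-reduced. -/
theorem rt3 [Algebra.FiniteType A B] (Ω : Type u) [Field Ω] [Algebra A Ω]
    (hΩ : ∀ a : A, algebraMap A Ω a = 0 → IsNilpotent a) (h : ¬ IsReduced (Ω ⊗[A] B)) :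
    ∃ a : A, ¬ IsNilpotent a ∧ ∀ (L : Type u) [Field L] [Algebra A L], algebraMap A L a ≠ 0 →
      ∃ (L' : Type u) (_ : Field L') (χ : L →+* L'),
        letI := (χ.comp (algebraMap A L)).toAlgebra
        ¬ IsReduced (L' ⊗[A] B) := by
  haveI := isPrime_nilradical_of_nilp hΩ
  letI := redAlgebra (A := A) Ω
  have hinj := redAlgebra_injective hΩ
  have h' : ¬ IsReduced (Ω ⊗[A ⧸ nilradical A] ((A ⧸ nilradical A) ⊗[A] B)) := by
    rwa [red_isReduced_iff]
  obtain ⟨a', ha', haL⟩ := rt3_domain (A := A ⧸ nilradical A)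
    (B := (A ⧸ nilradical A) ⊗[A] B) Ω hinj h'
  obtain ⟨a, rfl⟩ := Ideal.Quotient.mk_surjective a'
  refine ⟨a, ?_, ?_⟩
  · intro h0
    apply ha'
    rw [Ideal.Quotient.eq_zero_iff_mem, mem_nilradical]
    exact h0
  · intro L _ _ hL
    letI := redAlgebra (A := A) L
    obtain ⟨L', fL', χ, hnr⟩ := haL L hL
    refine ⟨L', fL', χ, ?_⟩
    letI algA'L' : Algebra (A ⧸ nilradical A) L' :=
      (χ.comp (algebraMap (A ⧸ nilradical A) L)).toAlgebra
    letI algAL' : Algebra A L' := (χ.comp (algebraMap A L)).toAlgebra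
    haveI tow1 : IsScalarTower A (A ⧸ nilradical A) L' :=
      IsScalarTower.of_algebraMap_eq fun _ => rfl
    rwa [isReduced_cancel (A' := A ⧸ nilradical A)] at hnr

end Reduce

end Groth.Agent.Lib.Helper25.GenRedAlg
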