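import Mathlib
import Groth.Agent.Lib.Helper25.GenRedAlg
import Groth.Agent.Lib.Helper22.DenseSm

/-!
# Geometrically reduced generic fibre: ring level (positive direction)
-/

set_option linter.style.haveILetI false
set_option linter.unusedSectionVars false
universe u
open TensorProduct

namespace Groth.Agent.Lib.Helper25.GenRedAlg2

open Groth.Agent.Lib.Helper25.GenRedAlg

section KL

variable {A : Type u} [CommRing A]

/-- injectivity after base change to `L`, when the cokernel is flat after inverting `f` and `f` is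
invertible in `L`. -/
theorem lTensor_injective_of_flat_away {M N Q : Type u} [AddCommGroup M] [AddCommGroup N]
    [AddCommGroup Q] [Module A M] [Module A N] [Module A Q] (μ : M →ₗ[A] N) (π : N →ₗ[A] Q)
    (hμ : Function.Injective μ) (hπ : Function.Surjective π) (hex : Function.Exact μ π)
    (R₂ : Type u) [CommRing R₂] [Algebra A R₂] [Module.Flat A R₂] [Module.Flat R₂ (R₂ ⊗[A] Q)]
    (L : Type u) [CommRing L] [Algebra A L] [Algebra R₂ L] [IsScalarTower A R₂ L] :
    Function.Injective (μ.lTensor L) := by
  let μ₂ : R₂ ⊗[A] M →ₗ[R₂] R₂ ⊗[A] N := TensorProduct.AlgebraTensorModule.lTensor R₂ R₂ μ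
  let π₂ : R₂ ⊗[A] N →ₗ[R₂] R₂ ⊗[A] Q := TensorProduct.AlgebraTensorModule.lTensor R₂ R₂ π
  have hμ₂ : Function.Injective μ₂ :=
    Module.Flat.lTensor_preserves_injective_linearMap (M := R₂) μ hμ
  have hπ₂ : Function.Surjective π₂ := LinearMap.lTensor_surjective R₂ hπ
  have hex₂ : Function.Exact μ₂ π₂ := Module.Flat.lTensor_exact R₂ hex
  have hinj := LinearMap.lTensor_injective_of_exact_of_flat π₂ hπ₂ μ₂ hμ₂ hex₂ L
  let eM := TensorProduct.AlgebraTensorModule.cancelBaseChange A R₂ R₂ L M
  let eN := TensorProduct.AlgebraTensorModule.cancelBaseChange A R₂ R₂ L N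
  have hcomm : ∀ z, μ.lTensor L (eM z) = eN (μ₂.lTensor L z) := by
    intro z
    induction z using TensorProduct.induction_on with
    | zero => simp
    | add x y hx hy => simp only [map_add, hx, hy]
    | tmul l w =>
      induction w using TensorProduct.induction_on with
      | zero => simp
      | add x y hx hy => simp only [tmul_add, map_add, hx, hy]
      | tmul r m => rfl
  intro x y hxy
  obtain ⟨x', rfl⟩ := eM.surjective x
  obtain ⟨y', rfl⟩ := eM.surjective y
  rw [hcomm, hcomm] at hxy
  rw [hinj (eN.injective hxy)]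

end KL

section NZD

variable {A B : Type u} [CommRing A] [CommRing B] [Algebra A B]

/-- multiplication by `g` as an `A`-linear map. -/
noncomputable def mulR (g : B) : B →ₗ[A] B := (LinearMap.mul A B).flip g

theorem mulR_apply (g x : B) : mulR (A := A) g x = x * g := rfl

theorem exact_mulR (g : B) :
    Function.Exact (mulR (A := A) g) ((Ideal.Quotient.mkₐ A (Ideal.span {g})).toLinearMap) := by
  intro y
  constructor
  · intro hy
    have : y ∈ Ideal.span {g} := Ideal.Quotient.eq_zero_iff_mem.mp hy
    obtain ⟨x, hx⟩ := Ideal.mem_span_singleton'.mp this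
    exact ⟨x, hx⟩
  · rintro ⟨x, rfl⟩
    exact Ideal.Quotient.eq_zero_iff_mem.mpr (Ideal.mem_span_singleton'.mpr ⟨x, rfl⟩)

theorem lTensor_mulR (g : B) (L : Type u) [CommRing L] [Algebra A L] (z : L ⊗[A] B) :
    (mulR (A := A) g).lTensor L z = z * ((1 : L) ⊗ₜ[A] g) := by
  induction z using TensorProduct.induction_on with
  | zero => simp
  | add x y hx hy => rw [map_add, hx, hy, add_mul]
  | tmul l b =>
    rw [LinearMap.lTensor_tmul, mulR_apply, Algebra.TensorProduct.tmul_mul_tmul, mul_one]

/-- `1 ⊗ g` is a nonzerodivisor in `L ⊗ B` when `B ⧸ g` is flat after inverting `f`. -/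
theorem tmul_mem_nonZeroDivisors (g : B) (hg : g ∈ nonZeroDivisors B)
    (R₂ : Type u) [CommRing R₂] [Algebra A R₂] [Module.Flat A R₂]
    [Module.Flat R₂ (R₂ ⊗[A] (B ⧸ Ideal.span {g}))]
    (L : Type u) [CommRing L] [Algebra A L] [Algebra R₂ L] [IsScalarTower A R₂ L] :
    (1 : L) ⊗ₜ[A] g ∈ nonZeroDivisors (L ⊗[A] B) := by
  have hμ : Function.Injective (mulR (A := A) g) := by
    intro x y hxy
    exact (mul_cancel_right_mem_nonZeroDivisors hg).mp hxy
  have hinj := lTensor_injective_of_flat_away (mulR (A := A) g)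
    ((Ideal.Quotient.mkₐ A (Ideal.span {g})).toLinearMap) hμ Ideal.Quotient.mk_surjective
    (exact_mulR g) R₂ L
  rw [mem_nonZeroDivisors_iff_right]
  intro z hz
  apply hinj
  rw [lTensor_mulR, hz, map_zero]

/-- `L ⊗ B → L ⊗ B_g` is injective when `1 ⊗ g` is a nonzerodivisor. -/
theorem map_away_injective (g : B) (L : Type u) [CommRing L] [Algebra A L]
    (h : (1 : L) ⊗ₜ[A] g ∈ nonZeroDivisors (L ⊗[A] B)) :
    Function.Injective (Algebra.TensorProduct.map (AlgHom.id A L)
      (IsScalarTower.toAlgHom A B (Localization.Away g))) := by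
  let ι : B →ₗ[B] Localization.Away g := Algebra.linearMap B (Localization.Away g)
  haveI : IsLocalizedModule (Submonoid.powers g) ι :=
    (isLocalizedModule_iff_isLocalization).mpr inferInstance
  haveI hloc : IsLocalizedModule (Submonoid.powers g)
      (TensorProduct.AlgebraTensorModule.rTensor A L ι) :=
    inferInstance
  let c := Algebra.TensorProduct.comm A L B
  let c' := Algebra.TensorProduct.comm A L (Localization.Away g)
  have hcomm : ∀ z : L ⊗[A] B,
      TensorProduct.AlgebraTensorModule.rTensor A L ι (c z) =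
        c' (Algebra.TensorProduct.map (AlgHom.id A L)
          (IsScalarTower.toAlgHom A B (Localization.Away g)) z) := by
    intro z
    induction z using TensorProduct.induction_on with
    | zero => simp
    | add x y hx hy => simp only [map_add, hx, hy]
    | tmul l b => rfl
  rw [injective_iff_map_eq_zero]
  intro z hz
  have h1 : TensorProduct.AlgebraTensorModule.rTensor A L ι (c z) = 0 := by
    rw [hcomm, hz, map_zero]
  obtain ⟨⟨_, n, rfl⟩, hn⟩ := (IsLocalizedModule.eq_zero_iff (Submonoid.powers g)
    (TensorProduct.AlgebraTensorModule.rTensor A L ι)).mp h1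
  have h2 : (g ^ n) • (c z) = 0 := hn
  rw [Algebra.smul_def, Algebra.TensorProduct.algebraMap_apply, Algebra.algebraMap_self,
    RingHom.id_apply] at h2
  have h3 : z * ((1 : L) ⊗ₜ[A] g) ^ n = 0 := by
    apply c.injective
    rw [map_mul, map_pow, map_zero, mul_comm]
    convert h2 using 2
    rw [← map_pow, Algebra.TensorProduct.tmul_pow, one_pow]
    rfl
  exact (mul_right_mem_nonZeroDivisors_eq_zero_iff (pow_mem h n)).mp h3

/-- reducedness of the fibre ring from a smooth principal open with nonzerodivisor equation. -/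
theorem isReduced_of_smooth_away (g : B) [Algebra.Smooth A (Localization.Away g)]
    (L : Type u) [Field L] [Algebra A L]
    (h : (1 : L) ⊗ₜ[A] g ∈ nonZeroDivisors (L ⊗[A] B)) : IsReduced (L ⊗[A] B) := by
  haveI : IsReduced (L ⊗[A] Localization.Away g) :=
    Groth.Agent.Lib.Helper22.RedZ.isReduced_of_smooth_field L _
  exact isReduced_of_injective _ (map_away_injective g L h)

end NZD

section SmoothLocus

variable {A B : Type u} [CommRing A] [CommRing B] [Algebra A B] [IsDomain A]
  (K : Type u) [Field K] [Algebra A K] [IsFractionRing A K]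

attribute [local instance] Algebra.TensorProduct.rightAlgebra

/-- a prime of the generic fibre at which it is smooth over `K` lies in the smooth locus of `B`
over `A`. -/
theorem comap_mem_smoothLocus (q : PrimeSpectrum (K ⊗[A] B))
    (hq : q ∈ Algebra.smoothLocus K (K ⊗[A] B)) :
    PrimeSpectrum.comap (algebraMap B (K ⊗[A] B)) q ∈ Algebra.smoothLocus A B := by
  set T := K ⊗[A] B with hT
  let M := Algebra.algebraMapSubmonoid B (nonZeroDivisors A)
  haveI : IsLocalization M T := inferInstance
  let q' : Ideal B := q.asIdeal.comap (algebraMap B T)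
  haveI : q'.IsPrime := Ideal.comap_isPrime _ _
  haveI hloc : IsLocalization.AtPrime (Localization.AtPrime q.asIdeal) q' :=
    IsLocalization.isLocalization_isLocalization_atPrime_isLocalization M
      (Localization.AtPrime q.asIdeal) q.asIdeal
  let e : Localization.AtPrime q' ≃ₐ[B] Localization.AtPrime q.asIdeal :=
    IsLocalization.algEquiv q'.primeCompl _ _
  haveI h1 : Algebra.FormallySmooth K (Localization.AtPrime q.asIdeal) := hq
  haveI h2 : Algebra.FormallySmooth A K :=
    Algebra.FormallySmooth.of_isLocalization (nonZeroDivisors A)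
  haveI h3 : Algebra.FormallySmooth A (Localization.AtPrime q.asIdeal) :=
    Algebra.FormallySmooth.comp A K _
  change Algebra.FormallySmooth A (Localization.AtPrime q')
  exact Algebra.FormallySmooth.of_equiv (e.symm.restrictScalars A)

theorem mem_nonZeroDivisors_of_notMem_minimalPrimes {T : Type*} [CommRing T] [IsReduced T] (t : T)
    (ht : ∀ p ∈ minimalPrimes T, t ∉ p) : t ∈ nonZeroDivisors T := by
  rw [mem_nonZeroDivisors_iff_right]
  intro x hx
  by_contra hx0
  have h1 : x ∉ sInf (minimalPrimes T) := by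
    have h2 : sInf (minimalPrimes T) = (⊥ : Ideal T) := by
      rw [minimalPrimes, Ideal.sInf_minimalPrimes]
      exact nilradical_eq_zero T
    rw [h2, Ideal.mem_bot]
    exact hx0
  rw [Ideal.mem_sInf] at h1
  push Not at h1
  obtain ⟨p, hp, hxp⟩ := h1
  have hprime : p.IsPrime := hp.1.1
  have : x * t ∈ p := hx ▸ p.zero_mem
  rcases hprime.mem_or_mem this with h | h
  · exact hxp h
  · exact ht p hp h

/-- **Generic smoothness with a nonzerodivisor equation**: if the generic fibre of a flat finitely
presented algebra over a domain is geometrically reduced, there is a nonzerodivisor `g` of `B` with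
`B_g` smooth over `A`. -/
theorem exists_smooth_away [Algebra.FinitePresentation A B] [Module.Flat A B]
    [Algebra.IsGeometricallyReduced K (K ⊗[A] B)] :
    ∃ g : B, g ∈ nonZeroDivisors B ∧ Algebra.Smooth A (Localization.Away g) := by
  classical
  set T := K ⊗[A] B with hT
  haveI : Algebra.FiniteType K T := inferInstance
  haveI : IsNoetherianRing T := Algebra.FiniteType.isNoetherianRing K T
  haveI : Algebra.FinitePresentation K T := inferInstance
  haveI : IsReduced T := Algebra.isReduced_of_isGeometricallyReduced K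
  let M := Algebra.algebraMapSubmonoid B (nonZeroDivisors A)
  haveI : IsLocalization M T := inferInstance
  -- minimal primes are smooth points
  have hmin : ∀ p ∈ minimalPrimes T, ∀ hp : p.IsPrime,
      (⟨p, hp⟩ : PrimeSpectrum T) ∈ Algebra.smoothLocus K T := by
    intro p hpmin hp
    haveI := hp
    haveI : Algebra.IsGeometricallyReduced K (Localization.AtPrime p) :=
      Groth.Agent.Lib.Helper22.GeomRedLoc.geomReduced_of_isLocalization K T p.primeCompl _
    exact Groth.Agent.Lib.Helper22.DenseSm.isSmoothAt_of_minimal_of_geomReduced K T p hpmin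
  -- the ideal of the non-smooth locus of the generic fibre
  let Z : Set (PrimeSpectrum T) := (Algebra.smoothLocus K T)ᶜ
  have hZ : IsClosed Z := Algebra.isOpen_smoothLocus.isClosed_compl
  let J := PrimeSpectrum.vanishingIdeal Z
  have hJ : ∀ q : PrimeSpectrum T, J ≤ q.asIdeal → q ∈ Z := by
    intro q hq
    have h1 : q ∈ PrimeSpectrum.zeroLocus (J : Set T) := hq
    rwa [PrimeSpectrum.zeroLocus_vanishingIdeal_eq_closure, hZ.closure_eq] at h1
  have hfin := minimalPrimes.finite_of_isNoetherianRing T
  have hnot : ¬ ((J : Set T) ⊆ ⋃ p ∈ (hfin.toFinset : Set (Ideal T)), (p : Set T)) := by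
    rw [Ideal.subset_union_prime (f := fun p : Ideal T => p) ⊥ ⊥]
    · rintro ⟨p, hp, hJp⟩
      have hpmin : p ∈ minimalPrimes T := hfin.mem_toFinset.mp hp
      have hprime : p.IsPrime := hpmin.1.1
      exact hJ ⟨p, hprime⟩ hJp (hmin p hpmin hprime)
    · intro p hp _ _
      exact (hfin.mem_toFinset.mp hp).1.1
  rw [Set.not_subset] at hnot
  obtain ⟨t, htJ, htU⟩ := hnot
  have htmin : ∀ p ∈ minimalPrimes T, t ∉ p := by
    intro p hp htp
    apply htU
    simp only [Set.mem_iUnion]
    exact ⟨p, Finset.mem_coe.mpr (hfin.mem_toFinset.mpr hp), htp⟩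
  have htnzd : t ∈ nonZeroDivisors T := mem_nonZeroDivisors_of_notMem_minimalPrimes t htmin
  have htD : ∀ q : PrimeSpectrum T, t ∉ q.asIdeal → q ∈ Algebra.smoothLocus K T := by
    intro q htq
    by_contra hq
    have hqZ : q ∈ Z := hq
    exact htq ((PrimeSpectrum.mem_vanishingIdeal Z t).mp htJ q hqZ)
  obtain ⟨g, v, hv, htv⟩ := exists_unit_mul_eq_tmul K t
  have hg1 : (1 : K) ⊗ₜ[A] g ∈ nonZeroDivisors T := by
    rw [← htv]
    exact mul_mem htnzd hv.mem_nonZeroDivisors
  -- the non-smooth locus of `B` over `A`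
  let Z' : Set (PrimeSpectrum B) := (Algebra.smoothLocus A B)ᶜ
  have hZ' : IsClosed Z' := Algebra.isOpen_smoothLocus.isClosed_compl
  let J' := PrimeSpectrum.vanishingIdeal Z'
  have hJ' : ∀ q : PrimeSpectrum B, J' ≤ q.asIdeal → q ∈ Z' := by
    intro q hq
    have h1 : q ∈ PrimeSpectrum.zeroLocus (J' : Set B) := hq
    rwa [PrimeSpectrum.zeroLocus_vanishingIdeal_eq_closure, hZ'.closure_eq] at h1
  have hex : ∃ (a : A) (n : ℕ), a ≠ 0 ∧ algebraMap A B a * g ^ n ∈ J' := by
    by_contra hcon
    push Not at hcon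
    let S : Submonoid B := M ⊔ Submonoid.powers g
    have hdisj : Disjoint (J' : Set B) S := by
      rw [Set.disjoint_left]
      intro x hxJ hxS
      obtain ⟨y, ⟨a, ha, rfl⟩, z, ⟨n, rfl⟩, rfl⟩ := Submonoid.mem_sup.mp hxS
      exact hcon a n (nonZeroDivisors.ne_zero ha) hxJ
    obtain ⟨q', hq'prime, hJq', hq'S⟩ := Ideal.exists_le_prime_disjoint J' S hdisj
    have hq'M : Disjoint (M : Set B) q' := by
      rw [Set.disjoint_left]
      intro x hxM hxq
      exact Set.disjoint_left.mp hq'S hxq (Submonoid.mem_sup_left hxM)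
    have hgq' : g ∉ q' := fun hgq =>
      Set.disjoint_left.mp hq'S hgq (Submonoid.mem_sup_right (Submonoid.mem_powers g))
    have hqprime : (Ideal.map (algebraMap B T) q').IsPrime :=
      IsLocalization.isPrime_of_isPrime_disjoint M T q' hq'prime hq'M
    have hcomap : (Ideal.map (algebraMap B T) q').comap (algebraMap B T) = q' :=
      IsLocalization.under_map_of_isPrime_disjoint M T hq'prime hq'M
    let q : PrimeSpectrum T := ⟨Ideal.map (algebraMap B T) q', hqprime⟩
    have htq : t ∉ q.asIdeal := by
      intro htq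
      have h2 : (1 : K) ⊗ₜ[A] g ∈ q.asIdeal := htv ▸ q.asIdeal.mul_mem_right v htq
      have h3 : g ∈ (Ideal.map (algebraMap B T) q').comap (algebraMap B T) := h2
      rw [hcomap] at h3
      exact hgq' h3
    have h4 := comap_mem_smoothLocus K q (htD q htq)
    have h5 : PrimeSpectrum.comap (algebraMap B T) q = ⟨q', hq'prime⟩ :=
      PrimeSpectrum.ext hcomap
    rw [h5] at h4
    exact hJ' ⟨q', hq'prime⟩ hJq' h4
  obtain ⟨a, n, ha, han⟩ := hex
  refine ⟨algebraMap A B a * g, ?_, ?_⟩
  · -- nonzerodivisor
    rw [mem_nonZeroDivisors_iff_right]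
    intro x hx
    have hinj : Function.Injective (algebraMap B T) :=
      Algebra.TensorProduct.includeRight_injective (IsFractionRing.injective A K)
    apply hinj
    rw [map_zero]
    have hu : IsUnit (algebraMap B T (algebraMap A B a)) :=
      IsLocalization.map_units T (⟨algebraMap A B a, a,
        mem_nonZeroDivisors_of_ne_zero ha, rfl⟩ : M)
    have h6 : algebraMap B T x * (algebraMap B T (algebraMap A B a) * ((1 : K) ⊗ₜ[A] g)) = 0 := by
      have := congrArg (algebraMap B T) hx
      rwa [map_mul, map_mul, map_zero] at this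
    exact (mul_right_mem_nonZeroDivisors_eq_zero_iff
      (mul_mem hu.mem_nonZeroDivisors hg1)).mp h6
  · rw [← Algebra.basicOpen_subset_smoothLocus_iff_smooth]
    intro q'' hq''
    by_contra hns
    have hq''Z : q'' ∈ Z' := hns
    have h7 : algebraMap A B a * g ^ n ∈ q''.asIdeal :=
      (PrimeSpectrum.mem_vanishingIdeal Z' _).mp han q'' hq''Z
    apply hq''
    rcases q''.isPrime.mem_or_mem h7 with h8 | h8
    · exact q''.asIdeal.mul_mem_right _ h8
    · exact q''.asIdeal.mul_mem_left _ (q''.isPrime.mem_of_pow_mem n h8)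

end SmoothLocus

section RT2

variable {A B : Type u} [CommRing A] [CommRing B] [Algebra A B]

/-- finite presentation of the base change to `A_f` from that of `A_f → B_f`. -/
theorem fp_away (f : A)
    (h : (Localization.awayMap (algebraMap A B) f).FinitePresentation) :
    Algebra.FinitePresentation (Localization.Away f) (Localization.Away f ⊗[A] B) := by
  let R := Localization.Away f
  let B' := Localization.Away (algebraMap A B f)
  letI : Algebra R B' := (Localization.awayMap (algebraMap A B) f).toAlgebra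
  haveI : IsScalarTower A R B' := IsScalarTower.of_algebraMap_eq' (by
    ext r
    change algebraMap A B' r = Localization.awayMap (algebraMap A B) f (algebraMap A R r)
    rw [IsScalarTower.algebraMap_apply A B B']
    simp only [Localization.awayMap, IsLocalization.Away.map]
    exact (IsLocalization.map_eq _ r).symm)
  haveI : IsLocalization (Algebra.algebraMapSubmonoid B (Submonoid.powers f)) B' := by
    rw [Algebra.algebraMapSubmonoid_powers]
    infer_instance
  haveI hpo : Algebra.IsPushout A B R B' :=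
    Algebra.isPushout_of_isLocalization (R := A) (S := Submonoid.powers f) (A := R) (T := B) (B := B')
  haveI hpo' : Algebra.IsPushout A R B B' := hpo.symm
  let e : R ⊗[A] B ≃ₐ[R] B' := Algebra.IsPushout.equiv A R B B'
  haveI : Algebra.FinitePresentation R B' := h
  exact Algebra.FinitePresentation.equiv e.symm

/-- the finitely presented and free case. -/
theorem rt2_fp [IsDomain A] [Algebra.FinitePresentation A B] [Module.Free A B]
    (K : Type u) [Field K] [Algebra A K] [IsFractionRing A K]
    [Algebra.IsGeometricallyReduced K (K ⊗[A] B)] :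
    ∃ a : A, a ≠ 0 ∧ ∀ (L : Type u) [Field L] [Algebra A L], algebraMap A L a ≠ 0 →
      IsReduced (L ⊗[A] B) := by
  obtain ⟨g, hg, hsm⟩ := exists_smooth_away (A := A) (B := B) K
  obtain ⟨f₂, hf₂, hfree, -, -⟩ := exists_free_away A B (B ⧸ Ideal.span {g})
  refine ⟨f₂, hf₂, fun L _ _ hL => ?_⟩
  letI := awayAlgebra f₂ L hL
  haveI := awayAlgebra_tower f₂ L hL
  have hnzd := tmul_mem_nonZeroDivisors (A := A) g hg (Localization.Away f₂) L
  exact isReduced_of_smooth_away g L hnzd

/-- **Geometrically reduced generic fibre, domain case.** -/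
theorem rt2_domain [IsDomain A] [Algebra.FiniteType A B]
    (K : Type u) [Field K] [Algebra A K] [IsFractionRing A K]
    [Algebra.IsGeometricallyReduced K (K ⊗[A] B)] :
    ∃ a : A, a ≠ 0 ∧ ∀ (L : Type u) [Field L] [Algebra A L], algebraMap A L a ≠ 0 →
      IsReduced (L ⊗[A] B) := by
  obtain ⟨f₁, hf₁, -, hfree, hfp⟩ := exists_free_away A B B
  let R := Localization.Away f₁
  have hKf : algebraMap A K f₁ ≠ 0 := fun h0 =>
    hf₁ (IsFractionRing.injective A K (by rw [h0, map_zero]))
  letI := awayAlgebra f₁ K hKf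
  haveI := awayAlgebra_tower f₁ K hKf
  haveI : IsDomain R := IsLocalization.isDomain_localization
    (powers_le_nonZeroDivisors_of_noZeroDivisors hf₁)
  haveI : IsFractionRing R K :=
    IsFractionRing.isFractionRing_of_isDomain_of_isLocalization (Submonoid.powers f₁) R K
  haveI : Algebra.FinitePresentation R (R ⊗[A] B) := fp_away f₁ hfp
  haveI : Algebra.IsGeometricallyReduced K (K ⊗[R] (R ⊗[A] B)) :=
    Algebra.IsGeometricallyReduced.of_injective
      (Algebra.TensorProduct.cancelBaseChange A R K K B).toAlgHom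
      (Algebra.TensorProduct.cancelBaseChange A R K K B).injective
  obtain ⟨aR, haR, haL⟩ := rt2_fp (A := R) (B := R ⊗[A] B) K
  obtain ⟨⟨c, t⟩, hct⟩ := IsLocalization.surj (Submonoid.powers f₁) aR
  have hc0 : c ≠ 0 := by
    intro h3
    rw [h3, map_zero] at hct
    have hu : IsUnit (algebraMap A R t) := IsLocalization.map_units R t
    exact haR ((hu.mul_left_eq_zero).mp hct)
  refine ⟨f₁ * c, mul_ne_zero hf₁ hc0, ?_⟩
  intro L _ _ hL
  rw [map_mul] at hL
  have hLf : algebraMap A L f₁ ≠ 0 := left_ne_zero_of_mul hL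
  have hLc : algebraMap A L c ≠ 0 := right_ne_zero_of_mul hL
  letI := awayAlgebra f₁ L hLf
  haveI := awayAlgebra_tower f₁ L hLf
  have h1 : algebraMap R L aR ≠ 0 := by
    intro h0
    apply hLc
    rw [IsScalarTower.algebraMap_apply A R L, ← hct, map_mul, h0, zero_mul]
  have h2 := haL L h1
  rwa [isReduced_cancel] at h2

/-- geometric reducedness of `K₀ ⊗[A'] (A' ⊗[A] B)` from reducedness of all `K ⊗[A] B`. -/
theorem geomReduced_of_forall {A' : Type u} [CommRing A'] [Algebra A A'] (K₀ : Type u) [Field K₀]
    [Algebra A K₀] [Algebra A' K₀] [IsScalarTower A A' K₀]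
    (h : ∀ (K : Type u) [Field K] (χ : K₀ →+* K),
      letI := (χ.comp (algebraMap A K₀)).toAlgebra
      IsReduced (K ⊗[A] B)) :
    Algebra.IsGeometricallyReduced K₀ (K₀ ⊗[A'] (A' ⊗[A] B)) := by
  rw [Algebra.isGeometricallyReduced_field_iff]
  have key : ∀ (Ω : Type u) [Field Ω] [Algebra K₀ Ω],
      IsReduced (Ω ⊗[K₀] (K₀ ⊗[A'] (A' ⊗[A] B))) := by
    intro Ω _ _
    have hΩ := h Ω (algebraMap K₀ Ω)
    letI algΩ : Algebra A Ω := ((algebraMap K₀ Ω).comp (algebraMap A K₀)).toAlgebra
    letI algΩ' : Algebra A' Ω := ((algebraMap K₀ Ω).comp (algebraMap A' K₀)).toAlgebra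
    haveI : IsScalarTower A' K₀ Ω := IsScalarTower.of_algebraMap_eq fun x => rfl
    haveI : IsScalarTower A A' Ω := by
      refine IsScalarTower.of_algebraMap_eq fun x => ?_
      change algebraMap K₀ Ω (algebraMap A K₀ x) = algebraMap K₀ Ω (algebraMap A' K₀ (algebraMap A A' x))
      rw [← IsScalarTower.algebraMap_apply A A' K₀]
    have h1 : IsReduced (Ω ⊗[A'] (A' ⊗[A] B)) := by
      rwa [isReduced_cancel]
    let e := Algebra.TensorProduct.cancelBaseChange A' K₀ K₀ Ω (A' ⊗[A] B)
    exact isReduced_of_injective e.toRingEquiv.toRingHom e.injective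
  exact key (AlgebraicClosure K₀)

/-- **Geometrically reduced generic fibre**: general irreducible base. -/
theorem rt2 [Algebra.FiniteType A B] (K₀ : Type u) [Field K₀] [Algebra A K₀]
    (hK : IsGenericField A K₀)
    (h : ∀ (K : Type u) [Field K] (χ : K₀ →+* K),
      letI := (χ.comp (algebraMap A K₀)).toAlgebra
      IsReduced (K ⊗[A] B)) :
    ∃ a : A, algebraMap A K₀ a ≠ 0 ∧ ∀ (L : Type u) [Field L] [Algebra A L],
      algebraMap A L a ≠ 0 → IsReduced (L ⊗[A] B) := by
  haveI := hK.isPrime
  letI := redAlgebra (A := A) K₀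
  haveI := redAlgebra_tower (A := A) K₀
  haveI := hK.isFractionRing
  haveI : Algebra.IsGeometricallyReduced K₀
      (K₀ ⊗[A ⧸ nilradical A] ((A ⧸ nilradical A) ⊗[A] B)) :=
    geomReduced_of_forall (A' := A ⧸ nilradical A) K₀ h
  obtain ⟨a', ha', haL⟩ := rt2_domain (A := A ⧸ nilradical A)
    (B := (A ⧸ nilradical A) ⊗[A] B) K₀
  obtain ⟨a, rfl⟩ := Ideal.Quotient.mk_surjective a'
  refine ⟨a, ?_, ?_⟩
  · intro h0
    apply ha'
    rw [Ideal.Quotient.eq_zero_iff_mem, mem_nilradical]
    exact hK.nilp a h0
  · intro L _ _ hL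
    letI := redAlgebra (A := A) L
    rw [← red_isReduced_iff]
    exact haL L hL

end RT2

end Groth.Agent.Lib.Helper25.GenRedAlg2
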