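import Mathlib
import Groth.Agent.Lib.Helper25.GenRedAlg
import Groth.Agent.Lib.Helper25.FibField

/-!
# Reducedness of fibres near the generic point (scheme level)
-/

set_option autoImplicit false
set_option linter.style.haveILetI false
universe u
open CategoryTheory CategoryTheory.Limits AlgebraicGeometry TensorProduct

namespace Groth.Agent.Lib.Helper25.GenRedSch

open Groth.Agent.Lib.Helper25.FibField Groth.Agent.Lib.Helper25.GenRedAlg

variable {X Y : Scheme.{u}} (f : X ⟶ Y)

/-- an affine open neighbourhood of the generic point. -/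
theorem exists_affineOpen_genericPoint (Y : Scheme.{u}) [IrreducibleSpace ↑Y] :
    ∃ V : Y.Opens, IsAffineOpen V ∧ genericPoint ↑Y ∈ V := by
  obtain ⟨_, ⟨V, hV, rfl⟩, hη, -⟩ := Y.isBasis_affineOpens.exists_subset_of_mem_open
    (Set.mem_univ (genericPoint ↑Y)) isOpen_univ
  exact ⟨V, hV, hη⟩

theorem isGenericField_resHom [IrreducibleSpace ↑Y] {V : Y.Opens} (hV : IsAffineOpen V)
    (hη : genericPoint ↑Y ∈ V) :
    letI := (resHom (genericPoint ↑Y) hη).toAlgebra
    IsGenericField Γ(Y, V) (Y.residueField (genericPoint ↑Y)) := by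
  letI := (resHom (genericPoint ↑Y) hη).toAlgebra
  refine ⟨fun a ha => ?_, fun z => resHom_surj hV _ hη z⟩
  have h1 : genericPoint ↑Y ∉ Y.basicOpen a := by
    intro hmem
    exact (resHom_ne_zero_iff _ hη a).mpr hmem ha
  rw [Scheme.isNilpotent_iff_basicOpen_eq_bot_of_isCompact hV.isCompact]
  by_contra hne
  apply h1
  have h2 := ((genericPoint_spec ↑Y).mem_open_set_iff (Y.basicOpen a).isOpen).mpr
  apply h2
  rw [Set.univ_inter]
  exact (TopologicalSpace.Opens.ne_bot_iff_nonempty _).mp hne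

/-- **S1330**: a non-reduced generic fibre spreads out. -/
theorem not_isReduced_near [IrreducibleSpace ↑Y] [LocallyOfFiniteType f]
    (h : ¬ IsReduced (f.fiber (genericPoint ↑Y))) :
    ∃ V : Y.Opens, (V : Set ↑Y).Nonempty ∧ ∀ y ∈ V, ¬ IsReduced (f.fiber y) := by
  obtain ⟨V, hV, hη⟩ := exists_affineOpen_genericPoint Y
  rw [isReduced_fiber_iff f hV _ hη] at h
  simp only [not_forall] at h
  obtain ⟨U, hU, e, hUred⟩ := h
  letI := (f.appLE V U e).hom.toAlgebra
  haveI : Algebra.FiniteType Γ(Y, V) Γ(X, U) := f.finiteType_appLE hV hU e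
  letI := (resHom (genericPoint ↑Y) hη).toAlgebra
  obtain ⟨a, ha, haL⟩ := rt1 (A := Γ(Y, V)) (B := Γ(X, U)) (Y.residueField (genericPoint ↑Y))
    (isGenericField_resHom hV hη) hUred
  refine ⟨Y.basicOpen a, ⟨genericPoint ↑Y, (resHom_ne_zero_iff _ hη a).mp ha⟩, ?_⟩
  intro y hy
  have hyV : y ∈ V := Y.basicOpen_le a hy
  rw [isReduced_fiber_iff f hV y hyV]
  simp only [not_forall]
  refine ⟨U, hU, e, ?_⟩
  letI := (resHom y hyV).toAlgebra
  exact haL (Y.residueField y) ((resHom_ne_zero_iff y hyV a).mpr hy)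

/-- **S1331**: a geometrically non-reduced generic fibre spreads out. -/
theorem not_geometricallyReduced_near [IrreducibleSpace ↑Y] [LocallyOfFiniteType f]
    (h : ¬ GeometricallyReduced (f.fiberToSpecResidueField (genericPoint ↑Y))) :
    ∃ V : Y.Opens, (V : Set ↑Y).Nonempty ∧
      ∀ y ∈ V, ¬ GeometricallyReduced (f.fiberToSpecResidueField y) := by
  obtain ⟨V, hV, hη⟩ := exists_affineOpen_genericPoint Y
  rw [geometricallyReduced_fiber_iff f hV _ hη] at h
  simp only [not_forall] at h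
  obtain ⟨K, fK, χ, hK⟩ := h
  rw [isReduced_pullback_iff] at hK
  simp only [not_forall] at hK
  obtain ⟨U, hU, e, hUred⟩ := hK
  letI := (f.appLE V U e).hom.toAlgebra
  haveI : Algebra.FiniteType Γ(Y, V) Γ(X, U) := f.finiteType_appLE hV hU e
  have hgen := isGenericField_resHom hV hη
  letI algK : Algebra Γ(Y, V) K := (χ.comp (resHom (genericPoint ↑Y) hη)).toAlgebra
  have hΩ : ∀ a : Γ(Y, V), algebraMap Γ(Y, V) K a = 0 → IsNilpotent a := by
    intro a ha
    letI := (resHom (genericPoint ↑Y) hη).toAlgebra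
    apply hgen.nilp a
    exact χ.injective (by rw [map_zero]; exact ha)
  obtain ⟨a, ha, haL⟩ := rt3 (A := Γ(Y, V)) (B := Γ(X, U)) K hΩ hUred
  have haη : resHom (genericPoint ↑Y) hη a ≠ 0 := by
    intro h0
    letI := (resHom (genericPoint ↑Y) hη).toAlgebra
    exact ha (hgen.nilp a h0)
  refine ⟨Y.basicOpen a, ⟨genericPoint ↑Y, (resHom_ne_zero_iff _ hη a).mp haη⟩, ?_⟩
  intro y hy
  have hyV : y ∈ V := Y.basicOpen_le a hy
  rw [geometricallyReduced_fiber_iff f hV y hyV]
  simp only [not_forall]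
  letI algy : Algebra Γ(Y, V) (Y.residueField y) := (resHom y hyV).toAlgebra
  obtain ⟨L', fL', χ', hnr⟩ := haL (Y.residueField y) ((resHom_ne_zero_iff y hyV a).mpr hy)
  refine ⟨L', fL', χ', ?_⟩
  rw [isReduced_pullback_iff]
  simp only [not_forall]
  exact ⟨U, hU, e, hnr⟩

end Groth.Agent.Lib.Helper25.GenRedSch
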