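import Mathlib
import Groth.Agent.Lib.Helper25.GenRedAlg2
import Groth.Agent.Lib.Helper25.GenRedSch

/-!
# Geometrically reduced generic fibre spreads out (scheme level)
-/

set_option autoImplicit false
set_option linter.style.haveILetI false
universe u
open CategoryTheory CategoryTheory.Limits AlgebraicGeometry TensorProduct

namespace Groth.Agent.Lib.Helper25.GenRedSch2

open Groth.Agent.Lib.Helper25.FibField Groth.Agent.Lib.Helper25.GenRedAlg
  Groth.Agent.Lib.Helper25.GenRedAlg2 Groth.Agent.Lib.Helper25.GenRedSch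

variable {X Y : Scheme.{u}} (f : X ⟶ Y)

/-- the pullback of a restriction is the pullback of the morphism. -/
noncomputable def pullbackRestrictIso (V' : Y.Opens) {T : Scheme.{u}} (g : T ⟶ V') :
    pullback (f ∣_ V') g ≅ pullback f (g ≫ V'.ι) :=
  ((IsPullback.of_hasPullback (f ∣_ V') g).paste_horiz
    (isPullback_morphismRestrict f V').flip).isoPullback

/-- a field valued point of `Y` landing in the affine open `V`. -/
theorem exists_fieldPt_eq {V : Y.Opens} (hV : IsAffineOpen V) (K : Type u) [Field K]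
    (g : Spec (CommRingCat.of K) ⟶ Y) :
    ∃ (y : Y) (φ : Y.residueField y →+* K),
      (∀ t, g t = y) ∧ ∀ hy : y ∈ V, g = fieldPt hV K (φ.comp (resHom y hy)) := by
  obtain ⟨⟨y, φ⟩, rfl⟩ := (Scheme.SpecToEquivOfField K Y).symm.surjective g
  refine ⟨y, φ.hom, fun t => ?_, fun hy => ?_⟩
  · simp [Scheme.SpecToEquivOfField]
  · rw [fieldPt_comp]
    rfl

/-- **S0434**: a geometrically reduced generic fibre spreads out. -/
theorem geometricallyReduced_near [IrreducibleSpace ↑Y] [LocallyOfFiniteType f] [QuasiCompact f]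
    (h : GeometricallyReduced (f.fiberToSpecResidueField (genericPoint ↑Y))) :
    ∃ V' : Y.Opens, (V' : Set ↑Y).Nonempty ∧ GeometricallyReduced (f ∣_ V') := by
  classical
  obtain ⟨V, hV, hη⟩ := exists_affineOpen_genericPoint Y
  have hcpt : IsCompact (X := X) (f ⁻¹ᵁ V) := f.isCompact_preimage hV.isCompact
  obtain ⟨s, hs, hUs⟩ := isCompact_iff_finite_and_eq_biUnion_affineOpens.mp hcpt
  have hle : ∀ i ∈ s, (i : X.Opens) ≤ f ⁻¹ᵁ V := by
    intro i hi
    rw [hUs]
    exact le_iSup₂ (f := fun (i : X.affineOpens) (_ : i ∈ s) => (i : X.Opens)) i hi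
  rw [geometricallyReduced_fiber_iff f hV _ hη] at h
  have hgen := isGenericField_resHom hV hη
  -- the elements `a i`
  have hex : ∀ i : X.affineOpens, i ∈ s → ∃ a : Γ(Y, V),
      resHom (genericPoint ↑Y) hη a ≠ 0 ∧ ∀ (L : Type u) [Field L] (ψ : Γ(Y, V) →+* L)
        (e : (i : X.Opens) ≤ f ⁻¹ᵁ V), ψ a ≠ 0 →
        letI := (f.appLE V i e).hom.toAlgebra
        letI := ψ.toAlgebra
        _root_.IsReduced (L ⊗[Γ(Y, V)] Γ(X, (i : X.Opens))) := by
    intro i hi
    have e := hle i hi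
    letI := (f.appLE V i e).hom.toAlgebra
    haveI : Algebra.FiniteType Γ(Y, V) Γ(X, (i : X.Opens)) := f.finiteType_appLE hV i.2 e
    letI := (resHom (genericPoint ↑Y) hη).toAlgebra
    obtain ⟨a, ha, haL⟩ := rt2 (A := Γ(Y, V)) (B := Γ(X, (i : X.Opens)))
      (Y.residueField (genericPoint ↑Y)) hgen
      (fun K _ χ => (isReduced_pullback_iff f hV K _).mp (h K χ) i i.2 e)
    refine ⟨a, ha, ?_⟩
    intro L _ ψ e' hψ
    letI := ψ.toAlgebra
    exact haL L hψ
  choose! a ha haL using hex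
  let b : Γ(Y, V) := ∏ i ∈ hs.toFinset, a i
  have hbη : resHom (genericPoint ↑Y) hη b ≠ 0 := by
    rw [map_prod]
    exact Finset.prod_ne_zero_iff.mpr fun i hi => ha i (hs.mem_toFinset.mp hi)
  refine ⟨Y.basicOpen b, ⟨genericPoint ↑Y, (resHom_ne_zero_iff _ hη b).mp hbη⟩, ?_⟩
  rw [geometricallyReduced_iff, geometrically_iff_of_isClosedUnderIsomorphisms]
  intro K _ g
  have e := pullbackRestrictIso f (Y.basicOpen b) g
  suffices hred : IsReduced (pullback f (g ≫ (Y.basicOpen b).ι)) from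
    isReduced_of_isOpenImmersion e.hom
  obtain ⟨y, φ, hy, hg⟩ := exists_fieldPt_eq hV K (g ≫ (Y.basicOpen b).ι)
  have hyb : y ∈ Y.basicOpen b := by
    have h1 := hy (default : Spec (CommRingCat.of K))
    rw [Scheme.Hom.comp_apply] at h1
    rw [← h1]
    exact (g default).2
  have hyV : y ∈ V := Y.basicOpen_le b hyb
  rw [hg hyV]
  have hby : resHom y hyV b ≠ 0 := (resHom_ne_zero_iff y hyV b).mpr hyb
  rw [map_prod] at hby
  have hay : ∀ i ∈ s, resHom y hyV (a i) ≠ 0 := fun i hi =>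
    Finset.prod_ne_zero_iff.mp hby i (hs.mem_toFinset.mpr hi)
  refine isReduced_pullback_of_cover f hV K _ {U | ∃ i ∈ s, (i : X.Opens) = U} ?_ ?_
  · intro x hx
    have hx' : x ∈ f ⁻¹ᵁ V := hx
    rw [hUs] at hx'
    simp only [TopologicalSpace.Opens.mem_iSup] at hx'
    obtain ⟨i, hi, hxi⟩ := hx'
    exact ⟨i, ⟨i, hi, rfl⟩, hxi⟩
  · rintro U ⟨i, hi, rfl⟩
    refine ⟨i.2, hle i hi, ?_⟩
    apply haL i hi K _ (hle i hi)
    change φ (resHom y hyV (a i)) ≠ 0
    exact (map_ne_zero φ).mpr (hay i hi)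

end Groth.Agent.Lib.Helper25.GenRedSch2
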