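import Mathlib
import Groth.Agent.Lib.Helper25.FgSubalg
import Groth.Agent.S4795

/-!
# Geometrically isomorphic schemes of finite type are isomorphic over a finite extension
(EGA IV 9.1.x) (helper25)
-/

set_option autoImplicit false
set_option linter.unusedSectionVars false
set_option linter.unusedVariables false
set_option linter.style.haveILetI false
universe u

open CategoryTheory CategoryTheory.Limits AlgebraicGeometry

namespace Groth.Agent.Lib.Helper25.GeomIso

open Groth.Agent.Lib.Helper25.FgSubalg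

/-- base change of an isomorphism over the base -/
theorem exists_iso_of_isPullback {T T' X₁ Y₁ X' Y' : Scheme.{u}} {a : X₁ ⟶ T} {b : Y₁ ⟶ T}
    (e : X₁ ≅ Y₁) (he : e.hom ≫ b = a) {h : T' ⟶ T} {pX : X' ⟶ X₁} {a' : X' ⟶ T'}
    {pY : Y' ⟶ Y₁} {b' : Y' ⟶ T'} (hX : IsPullback pX a' a h) (hY : IsPullback pY b' b h) :
    ∃ e' : X' ≅ Y', e'.hom ≫ b' = a' := by
  have hX' : IsPullback (pX ≫ e.hom) a' b h := by
    refine IsPullback.of_iso hX (Iso.refl _) e (Iso.refl _) (Iso.refl _) ?_ ?_ ?_ ?_
    · simp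
    · simp
    · simp [he]
    · simp
  exact ⟨hX'.isoIsPullback _ _ hY, hX'.isoIsPullback_hom_snd _ _ hY⟩

/-- change the base of a pullback square along an isomorphism of the base -/
theorem isPullback_of_comp_iso {P X T Z Z' : Scheme.{u}} {fst : P ⟶ X} {snd : P ⟶ T}
    {f : X ⟶ Z} {g : T ⟶ Z} (h : IsPullback fst snd f g) (ι : Z' ⟶ Z) [IsIso ι]
    (g' : T ⟶ Z') (hg : g' ≫ ι = g) : IsPullback fst snd (f ≫ inv ι) g' := by
  refine IsPullback.of_iso h (Iso.refl _) (Iso.refl _) (Iso.refl _) (asIso ι).symm ?_ ?_ ?_ ?_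
  · simp
  · simp
  · simp
  · simp [← hg]

set_option maxHeartbeats 1000000 in
theorem main {k : Type u} [Field k] {X Y : Scheme.{u}}
    (p : X ⟶ Spec (CommRingCat.of k)) (q : Y ⟶ Spec (CommRingCat.of k))
    [LocallyOfFiniteType p] [QuasiCompact p] [LocallyOfFiniteType q] [QuasiCompact q]
    (K : Type u) [Field K] [Algebra k K]
    (e : pullback p (Spec.map (CommRingCat.ofHom (algebraMap k K))) ≅
      pullback q (Spec.map (CommRingCat.ofHom (algebraMap k K))))
    (he : e.hom ≫ pullback.snd q (Spec.map (CommRingCat.ofHom (algebraMap k K))) =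
      pullback.snd p (Spec.map (CommRingCat.ofHom (algebraMap k K)))) :
    ∃ (k' : Type u) (_ : Field k') (_ : Algebra k k') (_ : Module.Finite k k')
      (e' : pullback p (Spec.map (CommRingCat.ofHom (algebraMap k k'))) ≅
        pullback q (Spec.map (CommRingCat.ofHom (algebraMap k k')))),
      e'.hom ≫ pullback.snd q (Spec.map (CommRingCat.ofHom (algebraMap k k'))) =
        pullback.snd p (Spec.map (CommRingCat.ofHom (algebraMap k k'))) := by
  classical
  haveI : IsLocallyNoetherian X := LocallyOfFiniteType.isLocallyNoetherian p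
  haveI : IsLocallyNoetherian Y := LocallyOfFiniteType.isLocallyNoetherian q
  haveI : LocallyOfFinitePresentation p := inferInstance
  haveI : LocallyOfFinitePresentation q := inferInstance
  haveI : QuasiSeparated p := inferInstance
  haveI : QuasiSeparated q := inferInstance
  let τ := Spec.map (CommRingCat.ofHom (algebraMap k K))
  let i₀ : (Finset K)ᵒᵖ := Opposite.op ∅
  let ι₀ := specStr k K i₀
  haveI : IsIso ι₀ := isIso_specStr_empty k K
  let a₀ : X ⟶ (specDiag k K).obj i₀ := p ≫ inv ι₀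
  let b₀ : Y ⟶ (specDiag k K).obj i₀ := q ≫ inv ι₀
  have hX : IsPullback (pullback.fst p τ) (pullback.snd p τ) a₀ ((specCone k K).π.app i₀) :=
    isPullback_of_comp_iso (IsPullback.of_hasPullback p τ) ι₀ _ (specCone_π_str k K i₀)
  have hY : IsPullback (pullback.fst q τ) (pullback.snd q τ) b₀ ((specCone k K).π.app i₀) :=
    isPullback_of_comp_iso (IsPullback.of_hasPullback q τ) ι₀ _ (specCone_π_str k K i₀)
  obtain ⟨j, φ, Xj, Yj, aj, bj, pX, pY, hXj, hYj, ej, hej⟩ :=
    (Groth.Agent.S4795.result (specDiag k K) (specCone k K) (specIsLimit k K) i₀ a₀ b₀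
      (pullback.snd p τ) (pullback.snd q τ) (pullback.fst p τ) (pullback.fst q τ) hX hY).mp
      ⟨e, he⟩
  -- a closed point of the stage
  obtain ⟨m, hm⟩ := Ideal.exists_maximal (Adj k K j.unop)
  haveI := hm
  letI : Field (Adj k K j.unop ⧸ m) := Ideal.Quotient.field m
  haveI : Algebra.FiniteType k (Adj k K j.unop ⧸ m) :=
    Algebra.FiniteType.of_surjective (Ideal.Quotient.mkₐ k m) (Ideal.Quotient.mkₐ_surjective k m)
  haveI : Module.Finite k (Adj k K j.unop ⧸ m) := finite_of_finite_type_of_isJacobsonRing k _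
  refine ⟨Adj k K j.unop ⧸ m, inferInstance, inferInstance, inferInstance, ?_⟩
  let τ' := Spec.map (CommRingCat.ofHom (algebraMap k (Adj k K j.unop ⧸ m)))
  let h : Spec (CommRingCat.of (Adj k K j.unop ⧸ m)) ⟶ (specDiag k K).obj j :=
    Spec.map (CommRingCat.ofHom (Ideal.Quotient.mk m))
  have hh : (h ≫ (specDiag k K).map φ) ≫ ι₀ = τ' := by
    rw [Category.assoc, specDiag_map_str]
    exact (Spec.map_comp _ _).symm
  have hX1 : IsPullback (pullback.fst p τ') (pullback.snd p τ') a₀ (h ≫ (specDiag k K).map φ) :=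
    isPullback_of_comp_iso (IsPullback.of_hasPullback p τ') ι₀ _ hh
  have hY1 : IsPullback (pullback.fst q τ') (pullback.snd q τ') b₀ (h ≫ (specDiag k K).map φ) :=
    isPullback_of_comp_iso (IsPullback.of_hasPullback q τ') ι₀ _ hh
  let pX' : pullback p τ' ⟶ Xj := hXj.lift (pullback.fst p τ') (pullback.snd p τ' ≫ h)
    (by rw [Category.assoc]; exact hX1.w)
  let pY' : pullback q τ' ⟶ Yj := hYj.lift (pullback.fst q τ') (pullback.snd q τ' ≫ h)
    (by rw [Category.assoc]; exact hY1.w)
  have hX2 : IsPullback pX' (pullback.snd p τ') aj h := by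
    refine IsPullback.of_right ?_ (hXj.lift_snd _ _ _) hXj
    rw [hXj.lift_fst]; exact hX1
  have hY2 : IsPullback pY' (pullback.snd q τ') bj h := by
    refine IsPullback.of_right ?_ (hYj.lift_snd _ _ _) hYj
    rw [hYj.lift_fst]; exact hY1
  exact exists_iso_of_isPullback ej hej hX2 hY2

end Groth.Agent.Lib.Helper25.GeomIso
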