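import Mathlib
import Groth.Agent.Lib.Helper25.FgSubalg
import Groth.Agent.Lib.Helper25.LimModDescB
import Groth.Agent.Lib.Helper22.LimBaseChange

/-!
# Geometrically isomorphic coherent modules are isomorphic over a finite extension (helper25)
-/

set_option backward.isDefEq.respectTransparency.types false
set_option autoImplicit false
set_option linter.unusedSectionVars false
set_option linter.unusedVariables false
set_option linter.style.haveILetI false
universe u

open CategoryTheory CategoryTheory.Limits AlgebraicGeometry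

namespace Groth.Agent.Lib.Helper25.GeomModIso

open Groth.Agent.Lib.Helper25.FgSubalg Groth.Agent.Lib.Helper25.ModMapLocal
  Groth.Agent.Lib.Helper22 Groth.Agent.Lib.Helper21.FPQuot

section Transfer

variable {A B C : Scheme.{u}} (f : A ⟶ B) (g : B ⟶ C) (h : A ⟶ C) (w : f ≫ g = h)
  (M N : C.Modules)

include w in
/-- an isomorphism of pullbacks along `g` gives one along `f ≫ g` -/
theorem nonempty_iso_comp (e : Nonempty ((Scheme.Modules.pullback g).obj M ≅
    (Scheme.Modules.pullback g).obj N)) :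
    Nonempty ((Scheme.Modules.pullback h).obj M ≅ (Scheme.Modules.pullback h).obj N) := by
  obtain ⟨e⟩ := e
  exact ⟨((compIso f g h w).app M).symm ≪≫ (Scheme.Modules.pullback f).mapIso e ≪≫
    (compIso f g h w).app N⟩

include w in
/-- an isomorphism of pullbacks along `f ≫ g` is one of the iterated pullbacks -/
theorem nonempty_iso_iter (e : Nonempty ((Scheme.Modules.pullback h).obj M ≅
    (Scheme.Modules.pullback h).obj N)) :
    Nonempty ((Scheme.Modules.pullback f).obj ((Scheme.Modules.pullback g).obj M) ≅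
      (Scheme.Modules.pullback f).obj ((Scheme.Modules.pullback g).obj N)) := by
  obtain ⟨e⟩ := e
  exact ⟨(compIso f g h w).app M ≪≫ e ≪≫ ((compIso f g h w).app N).symm⟩

include w in
/-- an isomorphism of the iterated pullbacks is one of pullbacks along `f ≫ g` -/
theorem nonempty_iso_of_iter (e : Nonempty ((Scheme.Modules.pullback f).obj
    ((Scheme.Modules.pullback g).obj M) ≅
      (Scheme.Modules.pullback f).obj ((Scheme.Modules.pullback g).obj N))) :
    Nonempty ((Scheme.Modules.pullback h).obj M ≅ (Scheme.Modules.pullback h).obj N) := by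
  obtain ⟨e⟩ := e
  exact ⟨((compIso f g h w).app M).symm ≪≫ e ≪≫ (compIso f g h w).app N⟩

end Transfer

set_option maxHeartbeats 1000000 in
theorem main {k : Type u} [Field k] {X : Scheme.{u}}
    (p : X ⟶ Spec (CommRingCat.of k)) [LocallyOfFiniteType p] [QuasiCompact p]
    (F G : X.Modules) (hF : CohB1.IsFP F) (hG : CohB1.IsFP G)
    (Ω : Type u) [Field Ω] [Algebra k Ω]
    (e : (Scheme.Modules.pullback (pullback.fst p (Spec.map (CommRingCat.ofHom (algebraMap k Ω))))).obj F ≅
      (Scheme.Modules.pullback (pullback.fst p (Spec.map (CommRingCat.ofHom (algebraMap k Ω))))).obj G) :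
    ∃ (k' : Type u) (_ : Field k') (_ : Algebra k k') (_ : Module.Finite k k'),
      Nonempty ((Scheme.Modules.pullback (pullback.fst p (Spec.map (CommRingCat.ofHom (algebraMap k k'))))).obj F ≅
        (Scheme.Modules.pullback (pullback.fst p (Spec.map (CommRingCat.ofHom (algebraMap k k'))))).obj G) := by
  classical
  haveI := hF; haveI := hG
  haveI : IsLocallyNoetherian X := LocallyOfFiniteType.isLocallyNoetherian p
  haveI : CompactSpace X := QuasiCompact.compactSpace_of_compactSpace p
  haveI : QuasiSeparated p := inferInstance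
  haveI : QuasiSeparatedSpace X := quasiSeparatedSpace_of_quasiSeparated p
  let τ := Spec.map (CommRingCat.ofHom (algebraMap k Ω))
  let D := specDiag k Ω
  let c := specCone k Ω
  have hc : IsLimit c := specIsLimit k Ω
  let i₀ : (Finset Ω)ᵒᵖ := Opposite.op ∅
  let ι₀ := specStr k Ω i₀
  haveI : IsIso ι₀ := isIso_specStr_empty k Ω
  let a₀ : X ⟶ D.obj i₀ := p ≫ inv ι₀
  have ha₀ : a₀ ≫ ι₀ = p := by simp [a₀]
  let D' := bcDiag D i₀ a₀
  let c' := bcCone D c i₀ a₀
  have hc' : IsLimit c' := bcIsLimit D hc i₀ a₀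
  let i₀' : Over i₀ := Over.mk (𝟙 i₀)
  let s₀ : D'.obj i₀' ⟶ X := pullback.snd (D.map i₀'.hom) a₀
  haveI : CompactSpace (D'.obj i₀') := bcDiag_compactSpace D i₀ a₀ i₀'
  haveI : IsAffineHom s₀ := MorphismProperty.pullback_snd (P := @IsAffineHom) _ _ inferInstance
  haveI : QuasiSeparatedSpace (D'.obj i₀') := quasiSeparatedSpace_of_quasiSeparated s₀
  let F₀ := (Scheme.Modules.pullback s₀).obj F
  let G₀ := (Scheme.Modules.pullback s₀).obj G
  haveI : SheafOfModules.IsFinitePresentation.{u} (R := (D'.obj i₀').ringCatSheaf) F₀ :=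
    isFP_pullback s₀ F
  haveI : SheafOfModules.IsFinitePresentation.{u} (R := (D'.obj i₀').ringCatSheaf) G₀ :=
    isFP_pullback s₀ G
  -- the isomorphism over the limit
  have hcond : pullback.snd (c.π.app i₀) a₀ ≫ p = pullback.fst (c.π.app i₀) a₀ ≫ τ := by
    rw [← ha₀, ← Category.assoc, ← pullback.condition, Category.assoc]
    congr 1
    exact specCone_π_str k Ω i₀
  let θ : pullback (c.π.app i₀) a₀ ⟶ pullback p τ :=
    pullback.lift (pullback.snd (c.π.app i₀) a₀) (pullback.fst (c.π.app i₀) a₀) hcond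
  have hθ : θ ≫ pullback.fst p τ = pullback.snd (c.π.app i₀) a₀ := pullback.lift_fst _ _ _
  have h1 : Nonempty ((Scheme.Modules.pullback (pullback.snd (c.π.app i₀) a₀)).obj F ≅
      (Scheme.Modules.pullback (pullback.snd (c.π.app i₀) a₀)).obj G) :=
    nonempty_iso_comp θ (pullback.fst p τ) _ hθ F G ⟨e⟩
  have h2 : Nonempty ((Scheme.Modules.pullback (c'.π.app i₀')).obj F₀ ≅
      (Scheme.Modules.pullback (c'.π.app i₀')).obj G₀) :=
    nonempty_iso_iter (c'.π.app i₀') s₀ _ (bcCone_π_snd D c i₀ a₀ i₀') F G h1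
  obtain ⟨j, φ, h3⟩ := (Groth.Agent.Lib.Helper25.LimModDesc.nonempty_iso_pullback_iff_eventually
    D' hc' i₀' F₀ G₀).mp h2
  have h4 : Nonempty ((Scheme.Modules.pullback (pullback.snd (D.map j.hom) a₀)).obj F ≅
      (Scheme.Modules.pullback (pullback.snd (D.map j.hom) a₀)).obj G) :=
    nonempty_iso_of_iter (D'.map φ) s₀ _ (bcDiag_map_snd D i₀ a₀ φ) F G h3
  -- a closed point of the stage
  obtain ⟨m, hm⟩ := Ideal.exists_maximal (Adj k Ω j.left.unop)
  haveI := hm
  letI : Field (Adj k Ω j.left.unop ⧸ m) := Ideal.Quotient.field m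
  haveI : Algebra.FiniteType k (Adj k Ω j.left.unop ⧸ m) :=
    Algebra.FiniteType.of_surjective (Ideal.Quotient.mkₐ k m) (Ideal.Quotient.mkₐ_surjective k m)
  haveI : Module.Finite k (Adj k Ω j.left.unop ⧸ m) := finite_of_finite_type_of_isJacobsonRing k _
  refine ⟨Adj k Ω j.left.unop ⧸ m, inferInstance, inferInstance, inferInstance, ?_⟩
  let τ' := Spec.map (CommRingCat.ofHom (algebraMap k (Adj k Ω j.left.unop ⧸ m)))
  let h : Spec (CommRingCat.of (Adj k Ω j.left.unop ⧸ m)) ⟶ D.obj j.left :=
    Spec.map (CommRingCat.ofHom (Ideal.Quotient.mk m))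
  have hh : (h ≫ D.map j.hom) ≫ ι₀ = τ' := by
    rw [Category.assoc]
    have := specDiag_map_str k Ω j.hom
    rw [this]
    exact (Spec.map_comp _ _).symm
  have hcond' : (pullback.snd p τ' ≫ h) ≫ D.map j.hom = pullback.fst p τ' ≫ a₀ := by
    rw [← cancel_mono ι₀, Category.assoc, Category.assoc, Category.assoc, ha₀,
      ← Category.assoc h, hh]
    exact pullback.condition.symm
  let ψ : pullback p τ' ⟶ pullback (D.map j.hom) a₀ :=
    pullback.lift (pullback.snd p τ' ≫ h) (pullback.fst p τ') hcond'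
  have hψ : ψ ≫ pullback.snd (D.map j.hom) a₀ = pullback.fst p τ' := pullback.lift_snd _ _ _
  exact nonempty_iso_comp ψ (pullback.snd (D.map j.hom) a₀) _ hψ F G h4

end Groth.Agent.Lib.Helper25.GeomModIso
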