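import Mathlib

open TensorProduct

namespace Groth.Agent.Lib.Helper25.GeomRedBC

universe u v w

section
variable {k : Type*} [Field k] {B : Type*} [CommRing B] [Algebra k B]
  {k' : Type*} [Field k'] [Algebra k k'] {C : Type*} [CommRing C] [Algebra k C]
  {I : Type*} (b : Module.Basis I k k')

theorem repr_map (φ : B →ₐ[k] C) (x : B ⊗[k] k') (i : I) :
    (Algebra.TensorProduct.basis C b).repr
      (Algebra.TensorProduct.map φ (AlgHom.id k k') x) i =
    φ ((Algebra.TensorProduct.basis B b).repr x i) := by
  induction x using TensorProduct.induction_on with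
  | zero => simp
  | tmul y z =>
    simp only [Algebra.TensorProduct.map_tmul, AlgHom.coe_id, id_eq,
      Algebra.TensorProduct.basis_repr_tmul, Finsupp.smul_apply, Finsupp.mapRange_apply,
      smul_eq_mul, map_mul, AlgHom.commutes]
  | add y z hy hz =>
    simp only [map_add, Finsupp.add_apply, hy, hz]

end

/-- If `B → C_j` is a jointly injective family of `k`-algebra maps and all `C_j ⊗_k k'` are
reduced, then `B ⊗_k k'` is reduced. -/
theorem isReduced_tensor_of_jointly_injective {k : Type*} [Field k] {B : Type*} [CommRing B]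
    [Algebra k B] (k' : Type*) [Field k'] [Algebra k k'] {J : Type*} (C : J → Type*)
    [∀ j, CommRing (C j)] [∀ j, Algebra k (C j)]
    (φ : ∀ j, B →ₐ[k] C j) (hφ : ∀ b : B, (∀ j, φ j b = 0) → b = 0)
    (hC : ∀ j, IsReduced (C j ⊗[k] k')) : IsReduced (B ⊗[k] k') := by
  let b := Module.Free.chooseBasis k k'
  refine ⟨fun x hx => ?_⟩
  apply (Algebra.TensorProduct.basis B b).repr.injective
  ext i
  simp only [map_zero, Finsupp.coe_zero, Pi.zero_apply]
  apply hφ
  intro j
  rw [← repr_map b (φ j) x i]
  have h0 : Algebra.TensorProduct.map (φ j) (AlgHom.id k k') x = 0 := by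
    have := hC j
    exact (hx.map (Algebra.TensorProduct.map (φ j) (AlgHom.id k k'))).eq_zero
  rw [h0]; simp

end Groth.Agent.Lib.Helper25.GeomRedBC
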