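import Mathlib
import Groth.Agent.Lib.Helper25.GenRedSch2
import Groth.Agent.S9735
import Groth.Agent.S5880

/-!
# The locus of geometrically reduced fibres is locally constructible
-/

set_option autoImplicit false
set_option linter.style.haveILetI false
set_option linter.deprecated false
set_option linter.unusedVariables false
universe u
open CategoryTheory CategoryTheory.Limits AlgebraicGeometry TensorProduct

namespace Groth.Agent.Lib.Helper25.GeomRedLocus

open Groth.Agent.Lib.Helper25.GenRedSch Groth.Agent.Lib.Helper25.GenRedSch2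

variable {X Y : Scheme.{u}} (f : X ⟶ Y)

/-- the locus of geometrically reduced fibres. -/
def grLocus : Set Y := {y | GeometricallyReduced (f.fiberToSpecResidueField y)}

/-- geometric reducedness of a fibre in terms of field valued points. -/
theorem geomRed_fiber_iff (y : Y) :
    GeometricallyReduced (f.fiberToSpecResidueField y) ↔
      ∀ (K : Type u) [Field K] (h : Spec (CommRingCat.of K) ⟶ Spec (Y.residueField y)),
        IsReduced (pullback f (h ≫ Y.fromSpecResidueField y)) := by
  rw [geometricallyReduced_iff, geometrically_iff_of_isClosedUnderIsomorphisms]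
  constructor
  · intro h K _ t
    have h1 := h K t
    have e : pullback (f.fiberToSpecResidueField y) t ≅
        pullback f (t ≫ Y.fromSpecResidueField y) :=
      pullbackLeftPullbackSndIso f (Y.fromSpecResidueField y) t
    exact isReduced_of_isOpenImmersion e.inv
  · intro h K _ t
    have h1 := h K t
    have e : pullback (f.fiberToSpecResidueField y) t ≅
        pullback f (t ≫ Y.fromSpecResidueField y) :=
      pullbackLeftPullbackSndIso f (Y.fromSpecResidueField y) t
    exact isReduced_of_isOpenImmersion e.hom

/-- geometric reducedness of a fibre is local on the source. -/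
theorem geomRed_fiber_iff_cover (y : Y) (𝒰 : Set X.Opens)
    (hcov : ∀ x : X, f x = y → ∃ U ∈ 𝒰, x ∈ U) :
    GeometricallyReduced (f.fiberToSpecResidueField y) ↔
      ∀ U ∈ 𝒰, GeometricallyReduced ((U.ι ≫ f).fiberToSpecResidueField y) := by
  have key : ∀ (U : X.Opens) {T : Scheme.{u}} (g : T ⟶ Y),
      ∃ j : pullback (U.ι ≫ f) g ⟶ pullback f g, IsOpenImmersion j ∧
        Set.range j = (pullback.fst f g) ⁻¹' (U : Set X) := by
    intro U T g
    have e1 : (U.ι ≫ f) ≫ 𝟙 Y = U.ι ≫ f := Category.comp_id _
    have e2 : g ≫ 𝟙 Y = 𝟙 T ≫ g := (Category.comp_id _).trans (Category.id_comp _).symm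
    refine ⟨pullback.map (U.ι ≫ f) g f g U.ι (𝟙 _) (𝟙 _) e1 e2, inferInstance, ?_⟩
    rw [Scheme.Pullback.range_map]
    simp
  rw [geomRed_fiber_iff]
  constructor
  · intro h U _
    rw [geomRed_fiber_iff]
    intro K _ t
    obtain ⟨j, hj, -⟩ := key U (t ≫ Y.fromSpecResidueField y)
    haveI := h K t
    exact isReduced_of_isOpenImmersion j
  · intro h K _ t
    have hst : ∀ z : ↥(pullback f (t ≫ Y.fromSpecResidueField y)),
        _root_.IsReduced ((pullback f (t ≫ Y.fromSpecResidueField y)).presheaf.stalk z) := by
      intro z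
      have hx : f (pullback.fst f (t ≫ Y.fromSpecResidueField y) z) = y := by
        rw [← Scheme.Hom.comp_apply, pullback.condition, Scheme.Hom.comp_apply,
          Scheme.Hom.comp_apply, Scheme.fromSpecResidueField_apply]
      obtain ⟨U, hU, hxU⟩ := hcov _ hx
      obtain ⟨j, hj, hjr⟩ := key U (t ≫ Y.fromSpecResidueField y)
      have hz : z ∈ Set.range j := by
        rw [hjr]
        exact hxU
      obtain ⟨w, rfl⟩ := hz
      haveI : IsReduced (pullback (U.ι ≫ f) (t ≫ Y.fromSpecResidueField y)) :=
        (geomRed_fiber_iff (U.ι ≫ f) y).mp (h U hU) K t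
      have hinj : Function.Injective (j.stalkMap w).hom :=
        ((ConcreteCategory.isIso_iff_bijective (j.stalkMap w)).mp inferInstance).1
      exact isReduced_of_injective (j.stalkMap w).hom hinj
    exact isReduced_of_isReduced_stalk _

/-- the locus of geometrically reduced fibres of a restriction over an open. -/
theorem grLocus_restrict (V : Y.Opens) :
    {y' : ↥V | GeometricallyReduced ((f ∣_ V).fiberToSpecResidueField y')} =
      V.ι ⁻¹' {y | GeometricallyReduced (f.fiberToSpecResidueField y)} :=
  Groth.Agent.S9735.result f V.ι (f ∣_ V) (f ⁻¹ᵁ V).ι (isPullback_morphismRestrict f V).flip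

theorem geomRed_fiber_of_geomRed {A B : Scheme.{u}} (q : A ⟶ B) [GeometricallyReduced q] (b : B) :
    GeometricallyReduced (q.fiberToSpecResidueField b) := inferInstance

theorem isFieldStableMor_geomRed :
    ConsProp.IsFieldStableMor.{u} (fun X Y T f g => GeometricallyReduced g) := by
  intro X X' Y Y' T T' f g f' g' eX eY h _ _ _ _ _ _ _ _ hY hX
  constructor
  · intro hg
    exact MorphismProperty.of_isPullback (P := @GeometricallyReduced) hY hg
  · intro hg'
    show GeometricallyReduced g
    haveI : GeometricallyReduced g' := hg'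
    rw [geometricallyReduced_iff, geometrically_iff_forall_fiberToSpecResidueField]
    intro t
    rw [← geometricallyReduced_iff]
    obtain ⟨t'⟩ := (inferInstance : Nonempty T')
    have h1 := Groth.Agent.S9735.result g h g' eY hY
    have h2 : t' ∈ {y' : T' | GeometricallyReduced (g'.fiberToSpecResidueField y')} := by
      show GeometricallyReduced _
      infer_instance
    rw [h1] at h2
    have ht : h t' = t := Subsingleton.elim _ _
    rw [← ht]
    exact h2

theorem isConsMor_geomRed :
    ConsProp.IsConsMor.{u} (fun X Y T f g => GeometricallyReduced g) := by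
  refine ⟨isFieldStableMor_geomRed, ?_⟩
  intro X Y S f g _ _ _ _ _ _
  have hloc : ConsProp.locusMor (fun X Y T f g => GeometricallyReduced g) f g =
      {s | GeometricallyReduced (g.fiberToSpecResidueField s)} := rfl
  rw [hloc]
  by_cases hη : GeometricallyReduced (g.fiberToSpecResidueField (genericPoint ↑S))
  · left
    obtain ⟨V', hV', hGR⟩ := geometricallyReduced_near g hη
    haveI := hGR
    obtain ⟨y, hy⟩ := hV'
    refine ⟨y, interior_maximal ?_ V'.isOpen hy⟩
    intro z hz
    have h1 := grLocus_restrict g V'
    have h2 : (⟨z, hz⟩ : ↥V') ∈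
        {y' : ↥V' | GeometricallyReduced ((g ∣_ V').fiberToSpecResidueField y')} :=
      geomRed_fiber_of_geomRed (g ∣_ V') _
    rw [h1] at h2
    exact h2
  · right
    obtain ⟨V, hV, hnGR⟩ := not_geometricallyReduced_near g hη
    obtain ⟨y, hy⟩ := hV
    exact ⟨y, interior_maximal (fun z hz => hnGR z hz) V.isOpen hy⟩

/-- the quasi-separated case, from the general constructibility theorem (S5880). -/
theorem isLocallyConstructible_grLocus_of_qs {X Y : Scheme.{u}} (g : X ⟶ Y)
    [LocallyOfFinitePresentation g] [QuasiCompact g] [QuasiSeparated g] :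
    Topology.IsLocallyConstructible
      {y : Y | GeometricallyReduced (g.fiberToSpecResidueField y)} := by
  haveI : LocallyOfFinitePresentation (𝟙 X ≫ g) := by rw [Category.id_comp]; infer_instance
  haveI : QuasiCompact (𝟙 X ≫ g) := by rw [Category.id_comp]; infer_instance
  haveI : QuasiSeparated (𝟙 X ≫ g) := by rw [Category.id_comp]; infer_instance
  exact Groth.Agent.S5880.result isConsMor_geomRed (𝟙 X) g

/-- the case of an affine target. -/
theorem isLocallyConstructible_grLocus_of_isAffine {X Y : Scheme.{u}} (f : X ⟶ Y) [IsAffine Y]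
    [QuasiCompact f] [LocallyOfFinitePresentation f] :
    Topology.IsLocallyConstructible
      {y : Y | GeometricallyReduced (f.fiberToSpecResidueField y)} := by
  classical
  haveI : CompactSpace X := QuasiCompact.compactSpace_of_compactSpace f
  have hcpt : IsCompact (X := X) ((⊤ : X.Opens) : Set X) := by
    simpa using isCompact_univ
  obtain ⟨s, hs, hUs⟩ := isCompact_iff_finite_and_eq_biUnion_affineOpens.mp hcpt
  haveI : Finite s := hs.to_subtype
  have heq : {y : Y | GeometricallyReduced (f.fiberToSpecResidueField y)} =
      ⋂ W : s, {y : Y | GeometricallyReduced ((W.1.1.ι ≫ f).fiberToSpecResidueField y)} := by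
    ext y
    simp only [Set.mem_setOf_eq, Set.mem_iInter]
    rw [geomRed_fiber_iff_cover f y ((fun W : X.affineOpens => W.1) '' s)]
    · constructor
      · intro h W
        exact h _ ⟨W.1, W.2, rfl⟩
      · rintro h _ ⟨W, hW, rfl⟩
        exact h ⟨W, hW⟩
    · intro x _
      have hx : x ∈ (⊤ : X.Opens) := trivial
      rw [hUs] at hx
      simp only [TopologicalSpace.Opens.mem_iSup] at hx
      obtain ⟨W, hW, hxW⟩ := hx
      exact ⟨W.1, ⟨W, hW, rfl⟩, hxW⟩
  rw [heq]
  refine Topology.IsLocallyConstructible.iInter ?_
  rintro ⟨W, hW⟩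
  haveI : IsAffine (W.1 : Scheme.{u}) := W.2
  exact isLocallyConstructible_grLocus_of_qs (W.1.ι ≫ f)

/-- **S1301**: the locus of geometrically reduced fibres of a quasi-compact morphism locally of
finite presentation is locally constructible. -/
theorem isLocallyConstructible_grLocus {X Y : Scheme.{u}} (f : X ⟶ Y)
    [QuasiCompact f] [LocallyOfFinitePresentation f] :
    Topology.IsLocallyConstructible
      {y : Y | GeometricallyReduced (f.fiberToSpecResidueField y)} := by
  refine Topology.IsLocallyConstructible.of_isOpenCover Y.isBasis_affineOpens.isOpenCover ?_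
  rintro ⟨V, hV⟩
  haveI : IsAffine (V : Scheme.{u}) := hV
  have h1 := isLocallyConstructible_grLocus_of_isAffine (f ∣_ V)
  have h2 := grLocus_restrict f V
  exact h2 ▸ h1

end Groth.Agent.Lib.Helper25.GeomRedLocus
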