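import Mathlib
import Groth.Agent.Lib.Helper25.GeomRedBC

open CategoryTheory CategoryTheory.Limits AlgebraicGeometry TopologicalSpace TensorProduct

namespace Groth.Agent.Lib.Helper25.GeomRedSch

universe u

/-- A closed subscheme which is reduced is defined by a radical ideal sheaf. -/
theorem radical_eq_of_isReduced {X : Scheme.{u}} (I : X.IdealSheafData) [IsReduced I.subscheme] :
    I.radical = I := by
  ext U : 2
  rw [Scheme.IdealSheafData.radical_ideal]
  apply Ideal.IsRadical.radical
  rw [Ideal.isRadical_iff_quotient_reduced]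
  let e := (I.subschemeObjIso U).commRingCatIsoToRingEquiv
  exact isReduced_of_injective e.symm.toRingHom e.symm.injective

theorem vanishingIdeal_support_of_isReduced {X : Scheme.{u}} (I : X.IdealSheafData)
    [IsReduced I.subscheme] : Scheme.IdealSheafData.vanishingIdeal I.support = I := by
  rw [Scheme.IdealSheafData.vanishingIdeal_support, radical_eq_of_isReduced]

/-- Affine case: a reduced affine `k`-scheme dominated by a family of affine schemes which are
reduced after base change to `k'` is reduced after base change to `k'`. -/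
theorem isReduced_pullback_Spec {k k' : Type u} [Field k] [Field k'] [Algebra k k']
    (R : CommRingCat.{u}) (r : Spec R ⟶ Spec (CommRingCat.of k)) [_root_.IsReduced R]
    {J : Type*} (C : J → CommRingCat.{u}) (h : ∀ j, Spec (C j) ⟶ Spec R)
    (hdense : Dense (⋃ j, Set.range (h j)))
    (hred : ∀ j, IsReduced (pullback (h j ≫ r)
      (Spec.map (CommRingCat.ofHom (algebraMap k k'))))) :
    IsReduced (pullback r (Spec.map (CommRingCat.ofHom (algebraMap k k')))) := by
  obtain ⟨φ, rfl⟩ := Spec.map_surjective r
  choose ψ hψ using fun j => Spec.map_surjective (h j)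
  let _ : Algebra k R := φ.hom.toAlgebra
  let _ : ∀ j, Algebra k (C j) := fun j => ((ψ j).hom.comp φ.hom).toAlgebra
  let ψ' : ∀ j, R →ₐ[k] C j := fun j => ⟨(ψ j).hom, fun _ => rfl⟩
  have hCred : ∀ j, _root_.IsReduced (C j ⊗[k] k') := by
    intro j
    have h1 : h j ≫ Spec.map φ = Spec.map (CommRingCat.ofHom (algebraMap k (C j))) := by
      rw [← hψ j, ← Spec.map_comp]; rfl
    have h2 := hred j
    rw [h1] at h2
    have : IsReduced (Spec (CommRingCat.of (C j ⊗[k] k'))) :=
      isReduced_of_isOpenImmersion (pullbackSpecIso k (C j) k').inv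
    exact (affine_isReduced_iff _).1 this
  have hinj : ∀ b : R, (∀ j, ψ' j b = 0) → b = 0 := by
    intro b hb
    have hsub : (⋃ j, Set.range (h j)) ⊆ PrimeSpectrum.zeroLocus {b} := by
      rintro x hx
      obtain ⟨j, hj⟩ := Set.mem_iUnion.1 hx
      obtain ⟨y, rfl⟩ := hj
      refine (PrimeSpectrum.mem_zeroLocus _ _).2 (Set.singleton_subset_iff.2 ?_)
      have e1 : (h j) y = PrimeSpectrum.comap (ψ j).hom (show PrimeSpectrum (C j) from y) := by
        rw [← hψ j]; rfl
      rw [e1]
      show (ψ j).hom b ∈ (show PrimeSpectrum (C j) from y).asIdeal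
      have : (ψ j).hom b = 0 := hb j
      rw [this]; exact zero_mem _
    have hall : PrimeSpectrum.zeroLocus {b} = Set.univ := by
      have hcl : IsClosed (PrimeSpectrum.zeroLocus ({b} : Set R)) :=
        PrimeSpectrum.isClosed_zeroLocus _
      exact Set.eq_univ_of_univ_subset (hdense.closure_eq ▸ hcl.closure_subset_iff.2 hsub)
    have hnil : IsNilpotent b := by
      rw [← mem_nilradical, nilradical_eq_sInf, Ideal.mem_sInf]
      intro P hP
      have : (⟨P, hP⟩ : PrimeSpectrum R) ∈ PrimeSpectrum.zeroLocus ({b} : Set R) := by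
        rw [hall]; trivial
      exact this (Set.mem_singleton b)
    exact hnil.eq_zero
  have hR : _root_.IsReduced (R ⊗[k] k') :=
    GeomRedBC.isReduced_tensor_of_jointly_injective k' (fun j => C j) ψ' hinj hCred
  have : IsReduced (Spec (CommRingCat.of (R ⊗[k] k'))) := inferInstance
  exact isReduced_of_isOpenImmersion (pullbackSpecIso k R k').hom


section general

variable {k k' : Type u} [Field k] [Field k'] [Algebra k k']
  {Y : Scheme.{u}} [IsReduced Y] (r : Y ⟶ Spec (CommRingCat.of k))
  {ι : Type u} (Z : ι → Scheme.{u}) (g : ∀ i, Z i ⟶ Y)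

/-- base change of an open subscheme of a scheme which is reduced after base change. -/
theorem isReduced_pullback_of_isOpenImmersion {T T' S S' : Scheme.{u}} (e : T' ⟶ T)
    [IsOpenImmersion e] (a : T ⟶ S) (b : S' ⟶ S) [IsReduced (pullback a b)] :
    IsReduced (pullback (e ≫ a) b) :=
  isReduced_of_isOpenImmersion
    (pullback.map (e ≫ a) b a b e (𝟙 _) (𝟙 _) (by simp) (by simp))

include Z g in
theorem isReduced_pullback_chart
    (hdense : Dense (⋃ i, Set.range (g i)))
    (hred : ∀ i, IsReduced (pullback (g i ≫ r) (Spec.map (CommRingCat.ofHom (algebraMap k k')))))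
    (R : CommRingCat.{u}) (u : Spec R ⟶ Y) [IsOpenImmersion u] :
    IsReduced (pullback (u ≫ r) (Spec.map (CommRingCat.ofHom (algebraMap k k')))) := by
  have hRred : _root_.IsReduced R := by
    have : IsReduced (Spec R) := isReduced_of_isOpenImmersion u
    exact (affine_isReduced_iff R).1 this
  let cov := fun i => (pullback (g i) u).affineOpenCover
  refine isReduced_pullback_Spec (k := k) (k' := k') R (u ≫ r)
    (J := Σ i : ι, (cov i).I₀) (fun j => (cov j.1).X j.2)
    (fun j => (cov j.1).f j.2 ≫ pullback.snd (g j.1) u) ?_ ?_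
  · -- density
    rw [dense_iff_inter_open]
    intro O hO hne
    obtain ⟨x, hx⟩ := hne
    have hO' : IsOpen (u '' O) := u.isOpenEmbedding.isOpenMap O hO
    obtain ⟨y, hy1, hy2⟩ := hdense.inter_open_nonempty _ hO' ⟨u x, x, hx, rfl⟩
    obtain ⟨x', hx'O, rfl⟩ := hy1
    obtain ⟨i, hi⟩ := Set.mem_iUnion.1 hy2
    obtain ⟨z, hz⟩ := hi
    obtain ⟨w, hw1, hw2⟩ := Scheme.Pullback.exists_preimage_pullback (f := g i) (g := u) z x' hz
    obtain ⟨c', hc'⟩ := (cov i).covers w
    refine ⟨x', hx'O, Set.mem_iUnion.2 ⟨⟨i, (cov i).idx w⟩, c', ?_⟩⟩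
    rw [Scheme.Hom.comp_apply, hc', hw2]
  · rintro ⟨i, c⟩
    have heq : ((cov i).f c ≫ pullback.snd (g i) u) ≫ u ≫ r
        = ((cov i).f c ≫ pullback.fst (g i) u) ≫ (g i ≫ r) := by
      simp only [Category.assoc]
      rw [← pullback.condition_assoc]
    show IsReduced (pullback (((cov i).f c ≫ pullback.snd (g i) u) ≫ u ≫ r) _)
    rw [heq]
    have := hred i
    exact isReduced_pullback_of_isOpenImmersion _ _ _

include Z g in
/-- A reduced `k`-scheme dominated by a family of `k`-schemes which are reduced after base change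
to `k'` is reduced after base change to `k'`. -/
theorem isReduced_pullback_of_dense
    (hdense : Dense (⋃ i, Set.range (g i)))
    (hred : ∀ i, IsReduced (pullback (g i ≫ r) (Spec.map (CommRingCat.ofHom (algebraMap k k'))))) :
    IsReduced (pullback r (Spec.map (CommRingCat.ofHom (algebraMap k k')))) := by
  let 𝒰 := Scheme.Pullback.openCoverOfLeft Y.affineOpenCover.openCover r
    (Spec.map (CommRingCat.ofHom (algebraMap k k')))
  have : ∀ a, IsReduced (𝒰.X a) := fun a => by
    have : IsOpenImmersion (Y.affineOpenCover.f a) := Y.affineOpenCover.map_prop a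
    exact isReduced_pullback_chart r Z g hdense hred _ (Y.affineOpenCover.f a)
  exact IsReduced.of_openCover _ 𝒰

end general

end Groth.Agent.Lib.Helper25.GeomRedSch
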