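import Mathlib
import Groth.Agent.Lib.Helper25.GeomRedSch
import Groth.Agent.Lib.Helper25.ConsFib
import Groth.Agent.Lib.Helper13.RedLift

open CategoryTheory CategoryTheory.Limits AlgebraicGeometry TopologicalSpace TensorProduct

namespace Groth.Agent.Lib.Helper25.GeomRedMain

open Groth.Agent.Lib.Helper25.GeomRedSch

universe u

variable {k : Type u} [Field k] {X : Scheme.{u}}
  (p : X ⟶ Spec (CommRingCat.of k)) {ι : Type u} (Z : ι → Scheme.{u}) (f : ∀ i, Z i ⟶ X)
  (k' : Type u) [Field k'] [Algebra k k']

/-- the base change of the reduced induced closed subscheme on the closure of the union of the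
images is reduced. -/
theorem isReduced_subscheme_comap (hZ : ∀ i, IsReduced (Z i))
    (hred : ∀ i, IsReduced (pullback (f i ≫ p) (Spec.map (CommRingCat.ofHom (algebraMap k k'))))) :
    IsReduced ((Scheme.IdealSheafData.vanishingIdeal
      (Closeds.closure (⋃ i, Set.range (f i)))).comap
        (pullback.fst p (Spec.map (CommRingCat.ofHom (algebraMap k k'))))).subscheme := by
  set q := Spec.map (CommRingCat.ofHom (algebraMap k k')) with hq
  set T : Closeds X := Closeds.closure (⋃ i, Set.range (f i)) with hT
  set J := Scheme.IdealSheafData.vanishingIdeal T with hJ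
  have hYred : IsReduced J.subscheme := ConsFib.isReduced_vanishingIdeal_subscheme T
  have hsub : ∀ i, Set.range (f i).base ⊆ (T : Set X) := fun i =>
    (Set.subset_iUnion (fun i => Set.range (f i)) i).trans subset_closure
  choose g hg using fun i =>
    Groth.Agent.Lib.Helper13.RedLift.exists_lift_vanishingIdeal (f i) T (hsub i)
  have hdense : Dense (⋃ i, Set.range (g i)) := by
    have hemb : Topology.IsInducing J.subschemeι := J.subschemeι.isEmbedding.isInducing
    rw [dense_iff_closure_eq, hemb.closure_eq_preimage_closure_image]
    have himg : J.subschemeι '' (⋃ i, Set.range (g i)) = ⋃ i, Set.range (f i) := by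
      rw [Set.image_iUnion]
      congr 1
      ext i : 1
      rw [← Set.range_comp]
      congr 1
      rw [← hg i]
      rfl
    rw [himg]
    ext y
    simp only [Set.mem_preimage, Set.mem_univ, iff_true]
    have : J.subschemeι y ∈ Set.range J.subschemeι := ⟨y, rfl⟩
    have hsupp : (J.support : Set X) = (T : Set X) :=
      Scheme.IdealSheafData.coe_support_vanishingIdeal T
    rw [Scheme.IdealSheafData.range_subschemeι, hsupp] at this
    exact this
  have hred' : ∀ i, IsReduced (pullback (g i ≫ (J.subschemeι ≫ p)) q) := by
    intro i
    rw [← Category.assoc, hg i]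
    exact hred i
  have h1 : IsReduced (pullback (J.subschemeι ≫ p) q) :=
    isReduced_pullback_of_dense (J.subschemeι ≫ p) Z g hdense hred'
  have h2 : IsReduced (pullback J.subschemeι (pullback.fst p q)) :=
    isReduced_of_isOpenImmersion (pullbackRightPullbackFstIso p q J.subschemeι).hom
  have h3 : IsReduced (pullback (pullback.fst p q) J.subschemeι) :=
    isReduced_of_isOpenImmersion (pullbackSymmetry _ _).hom
  exact isReduced_of_isOpenImmersion (J.comapIso (pullback.fst p q)).hom

theorem main (hZ : ∀ i, IsReduced (Z i))
    (hred : ∀ i, IsReduced (pullback (f i ≫ p) (Spec.map (CommRingCat.ofHom (algebraMap k k'))))) :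
    Scheme.IdealSheafData.vanishingIdeal (Closeds.closure (⋃ i, Set.range
      (pullback.map (f i ≫ p) (Spec.map (CommRingCat.ofHom (algebraMap k k'))) p
        (Spec.map (CommRingCat.ofHom (algebraMap k k'))) (f i) (𝟙 _) (𝟙 _) (Category.comp_id _)
        ((Category.comp_id _).trans (Category.id_comp _).symm)))) =
    (Scheme.IdealSheafData.vanishingIdeal (Closeds.closure (⋃ i, Set.range (f i)))).comap
      (pullback.fst p (Spec.map (CommRingCat.ofHom (algebraMap k k')))) := by
  have hR := isReduced_subscheme_comap p Z f k' hZ hred
  set q := Spec.map (CommRingCat.ofHom (algebraMap k k')) with hq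
  set T : Closeds X := Closeds.closure (⋃ i, Set.range (f i)) with hT
  set J := Scheme.IdealSheafData.vanishingIdeal T with hJ
  rw [← vanishingIdeal_support_of_isReduced (J.comap (pullback.fst p q))]
  congr 1
  apply Closeds.ext
  have hsupp : (J.support : Set X) = (T : Set X) :=
    Scheme.IdealSheafData.coe_support_vanishingIdeal T
  rw [Scheme.IdealSheafData.support_comap, Closeds.coe_preimage, hsupp, hT, Closeds.coe_closure,
    Closeds.coe_closure]
  have hopen : IsOpenMap (pullback.fst p q) := (pullback.fst p q).isOpenMap
  rw [hopen.preimage_closure_eq_closure_preimage (pullback.fst p q).continuous, Set.preimage_iUnion]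
  congr 2
  ext i : 1
  rw [Scheme.Pullback.range_map]
  simp

end Groth.Agent.Lib.Helper25.GeomRedMain
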