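import Mathlib
import Groth.Agent.Lib.Helper25.InjFlatPull
import Groth.Agent.Lib.Helper25.InjStage
import Groth.Agent.Lib.Helper7.FlatBCComp

/-!
# helper25 — GoodLocus: the pointwise condition "`u_x` injective and `Coker u` flat over the base at
`x`" (EGA IV 11.3.7): invariance under isomorphisms of arrows, base change.
-/

set_option backward.isDefEq.respectTransparency.types false
set_option autoImplicit false
set_option linter.unusedVariables false
set_option linter.style.haveILetI false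
universe u
open AlgebraicGeometry CategoryTheory Limits TensorProduct TopologicalSpace

namespace Groth.Agent.Lib.Helper25.GoodLocus

open Groth.Agent.Lib.Helper7.FlatChart Groth.Agent.Lib.Helper7.FPKer
  Groth.Agent.Lib.Helper17.CohKer

/-- the pointwise condition -/
def Good {X S : Scheme.{u}} (f : X ⟶ S) {F' F : X.Modules} (u : F' ⟶ F) (x : X) : Prop :=
  Function.Injective ((TopCat.Presheaf.stalkFunctor Ab x).map
    (Scheme.Modules.Hom.mapPresheaf u)) ∧ FlatMod.IsFlatOverAt f (cokernel u) x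

variable {X S : Scheme.{u}} (f : X ⟶ S)

theorem stalk_injective_of_arrowIso {F'₁ F₁ F'₂ F₂ : X.Modules} (u₁ : F'₁ ⟶ F₁) (u₂ : F'₂ ⟶ F₂)
    (e' : F'₁ ≅ F'₂) (e : F₁ ≅ F₂) (w : u₁ ≫ e.hom = e'.hom ≫ u₂) (x : X)
    (h : Function.Injective ((TopCat.Presheaf.stalkFunctor Ab x).map
      (Scheme.Modules.Hom.mapPresheaf u₁))) :
    Function.Injective ((TopCat.Presheaf.stalkFunctor Ab x).map
      (Scheme.Modules.Hom.mapPresheaf u₂)) := by
  let Φ : X.Modules ⥤ Ab.{u} := Scheme.Modules.toPresheaf X ⋙ TopCat.Presheaf.stalkFunctor Ab.{u} x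
  have hu₂ : u₂ = e'.inv ≫ u₁ ≫ e.hom := by rw [w, Iso.inv_hom_id_assoc]
  have h1 : Φ.map u₂ = Φ.map e'.inv ≫ Φ.map u₁ ≫ Φ.map e.hom := by
    rw [hu₂, Functor.map_comp, Functor.map_comp]
  change Function.Injective (Φ.map u₂)
  rw [h1]
  have hi1 : Function.Injective (Φ.map e'.inv) :=
    (ConcreteCategory.bijective_of_isIso (Φ.map e'.inv)).1
  have hi3 : Function.Injective (Φ.map e.hom) :=
    (ConcreteCategory.bijective_of_isIso (Φ.map e.hom)).1
  have h' : Function.Injective (Φ.map u₁) := h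
  intro a b hab
  exact hi1 (h' (hi3 hab))

theorem good_of_arrowIso {F'₁ F₁ F'₂ F₂ : X.Modules} [F'₁.IsQuasicoherent] [F₁.IsQuasicoherent]
    [F'₂.IsQuasicoherent] [F₂.IsQuasicoherent] (u₁ : F'₁ ⟶ F₁) (u₂ : F'₂ ⟶ F₂)
    (e' : F'₁ ≅ F'₂) (e : F₁ ≅ F₂) (w : u₁ ≫ e.hom = e'.hom ≫ u₂) (x : X)
    (h : Good f u₁ x) : Good f u₂ x := by
  refine ⟨stalk_injective_of_arrowIso u₁ u₂ e' e w x h.1, ?_⟩
  haveI : (cokernel u₁).IsQuasicoherent := isQuasicoherent_cokernel u₁
  haveI : (cokernel u₂).IsQuasicoherent := isQuasicoherent_cokernel u₂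
  exact isFlatOverAt_of_iso f (cokernel.mapIso u₁ u₂ e' e w) x h.2

open Groth.Agent.Lib.Helper25.InjFlatChart Groth.Agent.Lib.Helper25.InjFlatPull
  Groth.Agent.Lib.Helper25.InjStage in
/-- **Base change of the pointwise condition.** -/
theorem good_baseChange {X S X' S' : Scheme.{u}} {f : X ⟶ S} {f' : X' ⟶ S'} {g' : X' ⟶ X}
    {g : S' ⟶ S} (hc : IsPullback g' f' f g) [LocallyOfFinitePresentation f]
    {F' F : X.Modules} [SheafOfModules.IsFinitePresentation.{u} (R := X.ringCatSheaf) F']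
    [SheafOfModules.IsFinitePresentation.{u} (R := X.ringCatSheaf) F] (u : F' ⟶ F) (x' : X')
    (h : Good f u (g' x')) : Good f' ((Scheme.Modules.pullback g').map u) x' := by
  haveI : F'.IsQuasicoherent :=
    Groth.Agent.Lib.Helper29.FPDict.isQuasicoherent_of_isFinitePresentation F'
  haveI : F.IsQuasicoherent :=
    Groth.Agent.Lib.Helper29.FPDict.isQuasicoherent_of_isFinitePresentation F
  have hWopen := isOpen_injective_and_flat_cokernel f F F' u
  -- charts
  obtain ⟨US, hUS, hsUS, -⟩ := Opens.isBasis_iff_nbhd.mp S.isBasis_affineOpens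
    (show f (g' x') ∈ (⊤ : S.Opens) from trivial)
  let Wo : X.Opens := ⟨_, hWopen⟩
  obtain ⟨UX, hUX, hxUX, hUXle⟩ := Opens.isBasis_iff_nbhd.mp X.isBasis_affineOpens
    (show g' x' ∈ f ⁻¹ᵁ US ⊓ Wo from ⟨hsUS, h⟩)
  have hUSX : UX ≤ f ⁻¹ᵁ US := hUXle.trans inf_le_left
  have hUXW : ∀ y ∈ UX, Good f u y := fun y hy => (hUXle hy).2
  have hgx : g (f' x') ∈ US := by
    have : g (f' x') = f (g' x') := by
      rw [← Scheme.Hom.comp_apply, ← Scheme.Hom.comp_apply, hc.w]
    rw [this]; exact hsUS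
  obtain ⟨UT, hUT, hxUT, hUST⟩ := Opens.isBasis_iff_nbhd.mp S'.isBasis_affineOpens
    (show f' x' ∈ g ⁻¹ᵁ US from hgx)
  -- algebra
  letI algRB : Algebra Γ(S, US) Γ(X, UX) := (f.appLE US UX hUSX).hom.toAlgebra
  letI algRR' : Algebra Γ(S, US) Γ(S', UT) := (g.appLE US UT hUST).hom.toAlgebra
  letI modRM' : Module Γ(S, US) Γ(F', UX) := Module.compHom Γ(F', UX) (f.appLE US UX hUSX).hom
  letI modRM : Module Γ(S, US) Γ(F, UX) := Module.compHom Γ(F, UX) (f.appLE US UX hUSX).hom
  haveI : IsScalarTower Γ(S, US) Γ(X, UX) Γ(F', UX) :=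
    IsScalarTower.of_algebraMap_smul fun _ _ => rfl
  haveI : IsScalarTower Γ(S, US) Γ(X, UX) Γ(F, UX) :=
    IsScalarTower.of_algebraMap_smul fun _ _ => rfl
  obtain ⟨hinj, hflat⟩ := (chart_iff f u hUX hUS hUSX).1 hUXW
  haveI : Module.Flat Γ(S, US)
      (Γ(F, UX) ⧸ LinearMap.range ((appLinear u UX).restrictScalars Γ(S, US))) :=
    (flat_quot_restrictScalars_iff (appLinear u UX)).2 hflat
  have h1 := injective_baseChange ((appLinear u UX).restrictScalars Γ(S, US)) Γ(S', UT) hinj
  have h2 := flat_coker_baseChange ((appLinear u UX).restrictScalars Γ(S, US)) Γ(S', UT)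
  exact (inj_flat_chart_general hc u hUS hUX hUT hUSX hUST).2 ⟨h1, h2⟩ x' ⟨hxUX, hxUT⟩

/-- the pointwise condition for an iterated pullback and for the pullback along the composite -/
theorem good_pullback_comp_iff {X X' X'' S'' : Scheme.{u}} (f'' : X'' ⟶ S'') (a : X'' ⟶ X')
    (b : X' ⟶ X) (c : X'' ⟶ X) (hc : a ≫ b = c) {F' F : X.Modules} [F'.IsQuasicoherent]
    [F.IsQuasicoherent] (u : F' ⟶ F) (x : X'') :
    Good f'' ((Scheme.Modules.pullback a).map ((Scheme.Modules.pullback b).map u)) x ↔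
      Good f'' ((Scheme.Modules.pullback c).map u) x := by
  let ε : Scheme.Modules.pullback b ⋙ Scheme.Modules.pullback a ≅ Scheme.Modules.pullback c :=
    Scheme.Modules.pullbackComp a b ≪≫ Scheme.Modules.pullbackCongr hc
  let e' : (Scheme.Modules.pullback a).obj ((Scheme.Modules.pullback b).obj F') ≅
      (Scheme.Modules.pullback c).obj F' := ε.app F'
  let e : (Scheme.Modules.pullback a).obj ((Scheme.Modules.pullback b).obj F) ≅
      (Scheme.Modules.pullback c).obj F := ε.app F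
  have w : (Scheme.Modules.pullback a).map ((Scheme.Modules.pullback b).map u) ≫ e.hom =
      e'.hom ≫ (Scheme.Modules.pullback c).map u := ε.hom.naturality u
  haveI : ((Scheme.Modules.pullback a).obj ((Scheme.Modules.pullback b).obj F')).IsQuasicoherent :=
    inferInstance
  haveI : ((Scheme.Modules.pullback a).obj ((Scheme.Modules.pullback b).obj F)).IsQuasicoherent :=
    inferInstance
  constructor
  · exact good_of_arrowIso f'' _ _ e' e w x
  · refine good_of_arrowIso f'' _ _ e'.symm e.symm ?_ x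
    rw [Iso.symm_hom, Iso.symm_hom, Iso.comp_inv_eq, Category.assoc, Iso.eq_inv_comp]
    exact w.symm

/-- flatness of the cokernel of a pulled-back map, in terms of the pullback of the cokernel -/
theorem flatAt_cokernel_pullback_iff {X X' S' : Scheme.{u}} (f' : X' ⟶ S') (p : X' ⟶ X)
    {F' F : X.Modules} [F'.IsQuasicoherent] [F.IsQuasicoherent] (u : F' ⟶ F) (x : X') :
    FlatMod.IsFlatOverAt f' (cokernel ((Scheme.Modules.pullback p).map u)) x ↔
      FlatMod.IsFlatOverAt f' ((Scheme.Modules.pullback p).obj (cokernel u)) x := by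
  haveI : (cokernel u).IsQuasicoherent := isQuasicoherent_cokernel u
  haveI : (cokernel ((Scheme.Modules.pullback p).map u)).IsQuasicoherent :=
    isQuasicoherent_cokernel _
  let ε : (Scheme.Modules.pullback p).obj (cokernel u) ≅
      cokernel ((Scheme.Modules.pullback p).map u) :=
    PreservesCokernel.iso (Scheme.Modules.pullback p) u
  exact ⟨fun h => isFlatOverAt_of_iso f' ε.symm x h, fun h => isFlatOverAt_of_iso f' ε x h⟩

end Groth.Agent.Lib.Helper25.GoodLocus
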