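import Groth.Prelude.Def_W4c2conddiscmodels
import Groth.Agent.Lib.Helper25.GraphInc
import Groth.Agent.Lib.Helper25.GraphTree
import Mathlib

/-!
# Fundamental circuits of a spanning tree (helper25)
-/

set_option autoImplicit false
set_option linter.unusedSectionVars false
universe u
open Finset

namespace Groth.Agent.Lib.Helper25.GraphTree

open LabGraph DualGr Groth.Agent.Lib.Helper25.GraphInc

variable {V E : Type u} [Fintype V] [Fintype E] [DecidableEq V] [DecidableEq E]
  (ends : E → V × V)

theorem isForestSet_of_isSpanningTree (T : Finset E) (hT : IsSpanningTree ends T) :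
    IsForestSet ends T := (isForest_sub_iff ends T).mp hT.2

/-- the fundamental circuit of an edge outside a spanning tree -/
theorem exists_circuit_of_not_mem (T : Finset E) (hT : IsSpanningTree ends T) (e : E)
    (heT : e ∉ T) : ∃ C : Finset E, C ⊆ insert e T ∧ IsCircuit ends C ∧ e ∈ C := by
  have hTfor := isForestSet_of_isSpanningTree ends T hT
  have hnot : ¬ IsForestSet ends (insert e T) := by
    intro hfor
    have hconn' : Connected (sub ends (insert e T)) :=
      ⟨hT.1.1, fun a b => reach_sub_mono ends (Finset.subset_insert e T) (hT.1.2 a b)⟩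
    have h1 := card_of_isTree (sub ends (insert e T)) hconn'
      ((isForest_sub_iff ends _).mpr hfor)
    have h2 := card_of_isTree (sub ends T) hT.1 hT.2
    rw [Fintype.card_coe] at h1 h2
    rw [Finset.card_insert_of_notMem heT] at h1
    omega
  unfold IsForestSet at hnot
  push Not at hnot
  obtain ⟨C, hCS, hC⟩ := hnot
  refine ⟨C, hCS, hC, ?_⟩
  by_contra heC
  apply hTfor C _ hC
  intro x hx
  rcases Finset.mem_insert.mp (hCS hx) with h | h
  · exact absurd (h ▸ hx) heC
  · exact h

/-- cycles are orthogonal to coboundaries -/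
theorem sum_cycle_coboundary (γ : E → ℤ) (hγ : ∀ v, boundary ends γ v = 0) (g : V → ℤ) :
    ∑ e, γ e * (g (ends e).2 - g (ends e).1) = 0 := by
  have h1 : ∀ e, γ e * (g (ends e).2 - g (ends e).1) = ∑ v, g v * (inc ends v e * γ e) := by
    intro e
    rw [← sum_mul_inc ends g e, Finset.mul_sum]
    exact Finset.sum_congr rfl fun v _ => by ring
  rw [Finset.sum_congr rfl fun e _ => h1 e, Finset.sum_comm]
  refine Finset.sum_eq_zero fun v _ => ?_
  rw [← Finset.mul_sum]
  have h2 := hγ v
  rw [boundary_eq_mulVec] at h2
  simp only [Matrix.mulVec, dotProduct] at h2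
  rw [h2, mul_zero]

/-- a function constant along the edges of a spanning tree is constant -/
theorem eq_of_const_on_tree (T : Finset E) (hT : IsSpanningTree ends T) {α : Type*} (h : V → α)
    (hh : ∀ t ∈ T, h (ends t).1 = h (ends t).2) (v w : V) : h v = h w := by
  have hr := hT.1.2 v w
  induction hr with
  | refl => rfl
  | tail _ hadj ih =>
    obtain ⟨t, ht | ht⟩ := hadj
    · have := hh t.1 t.2
      have ht' : ends t.1 = _ := ht
      rw [ht'] at this
      exact ih.trans this
    · have := hh t.1 t.2
      have ht' : ends t.1 = _ := ht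
      rw [ht'] at this
      exact ih.trans this.symm

/-- if an edge vector `x` agrees with a coboundary on a spanning tree and is orthogonal to all
cycles, then it is that coboundary; stated edge by edge with the fundamental circuit. -/
theorem coboundary_of_tree (T : Finset E) (hT : IsSpanningTree ends T) (g : V → ℤ) (x : E → ℤ)
    (hx : ∀ t ∈ T, g (ends t).2 - g (ends t).1 = x t)
    (horth : ∀ C : Finset E, IsCircuit ends C → ∀ γ : E → ℤ, (∀ v, boundary ends γ v = 0) →
      (∀ e, e ∉ C → γ e = 0) → ∑ e, γ e * x e = 0) (e : E) :
    g (ends e).2 - g (ends e).1 = x e := by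
  by_cases heT : e ∈ T
  · exact hx e heT
  · obtain ⟨C, hCS, hC, heC⟩ := exists_circuit_of_not_mem ends T hT e heT
    obtain ⟨γ, hγ, hγ1, hγ0⟩ := exists_cycle_of_circuit ends C hC e heC
    have h1 := sum_cycle_coboundary ends γ hγ g
    have h2 := horth C hC γ hγ hγ0
    have h3 : ∑ e', γ e' * ((g (ends e').2 - g (ends e').1) - x e') = 0 := by
      have : ∀ e', γ e' * ((g (ends e').2 - g (ends e').1) - x e') =
          γ e' * (g (ends e').2 - g (ends e').1) - γ e' * x e' := fun e' => by ring
      rw [Finset.sum_congr rfl fun e' _ => this e', Finset.sum_sub_distrib, h1, h2, sub_zero]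
    rw [Finset.sum_eq_single e] at h3
    · rw [hγ1, one_mul] at h3
      linarith
    · intro e' _ hne
      by_cases he'C : e' ∈ C
      · have : e' ∈ T := by
          rcases Finset.mem_insert.mp (hCS he'C) with h | h
          · exact absurd h hne
          · exact h
        rw [hx e' this, sub_self, mul_zero]
      · rw [hγ0 e' he'C, zero_mul]
    · intro h; exact absurd (Finset.mem_univ _) h

end Groth.Agent.Lib.Helper25.GraphTree
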