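import Groth.Prelude.Def_W4c2invhilbsl2
import Mathlib

/-! Monomial analysis for the weight pieces of `k[X₀..X₄]/I_s` and `/J_s`. -/

set_option autoImplicit false
set_option linter.unusedSectionVars false
universe u
open MvPolynomial

namespace Groth.Agent.Lib.Helper25.HilbSL2

section General
variable {σ : Type*} {k : Type u} [Field k] {M : Type*} [AddCommMonoid M]

/-- To bound a weight piece of a quotient by a line it suffices to treat monomials. -/
theorem piece_le_span (w : σ → M) (I : Ideal (MvPolynomial σ k)) (ν : M)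
    (v₀ : MvPolynomial σ k ⧸ I)
    (h : ∀ d : σ →₀ ℕ, Finsupp.weight w d = ν →
      Ideal.Quotient.mk I (monomial d 1) ∈ Submodule.span k {v₀}) :
    W4c2invhilbsl2.piece k w I ν ≤ Submodule.span k {v₀} := by
  rintro _ ⟨f, hf, rfl⟩
  rw [SetLike.mem_coe, mem_weightedHomogeneousSubmodule] at hf
  rw [← support_sum_monomial_coeff f, map_sum]
  apply sum_mem
  intro d hd
  have h1 : monomial d (coeff d f) = coeff d f • monomial d (1 : k) := by
    rw [smul_monomial, smul_eq_mul, mul_one]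
  rw [h1, map_smul]
  apply Submodule.smul_mem
  exact h d (hf (mem_support_iff.mp hd))

end General

section Ring
variable {Q : Type*} [CommRing Q] (x0 x1 x4 σ : Q) (p q m : ℕ)

/-- reduced monomials `x0^a x4^e` (`e ≥ 0`) or `x0^a x1^(-e)` (`e < 0`) -/
noncomputable def mono (a : ℕ) (e : ℤ) : Q :=
  x0 ^ a * (if 0 ≤ e then x4 ^ e.toNat else x1 ^ (-e).toNat)

/-- the weight contribution of the exponent `e` -/
def wtc (e : ℤ) : ℤ := if 0 ≤ e then (q : ℤ) * e else (p : ℤ) * e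

variable (hpq : p < q) (R1 : x0 ^ (q - p) = x1 * x4) (R2 : x0 ^ (m * p) * x1 ^ m = σ)

include hpq R1 R2 in
theorem R3 : x0 ^ (q * m) = σ * x4 ^ m := by
  have h1 : q * m = m * p + (q - p) * m := by
    have : q = p + (q - p) := by omega
    conv_lhs => rw [this]
    ring
  have h2 : x0 ^ ((q - p) * m) = x1 ^ m * x4 ^ m := by rw [pow_mul, R1, mul_pow]
  rw [h1, pow_add, h2, ← R2]
  ring

include R1 in
theorem key1 (b : ℕ) : x0 ^ ((q - p) * b) = x1 ^ b * x4 ^ b := by rw [pow_mul, R1, mul_pow]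

include hpq R1 in
theorem monomial_eq_mono (a b c : ℕ) :
    ∃ a' : ℕ, (a' : ℤ) + wtc p q ((c : ℤ) - b) = (a : ℤ) - p * b + q * c ∧
      x0 ^ a * x1 ^ b * x4 ^ c = mono x0 x1 x4 a' ((c : ℤ) - b) := by
  rcases le_total b c with h | h
  · obtain ⟨j, rfl⟩ := Nat.exists_eq_add_of_le h
    refine ⟨a + (q - p) * b, ?_, ?_⟩
    · have h0 : (0 : ℤ) ≤ ((b + j : ℕ) : ℤ) - b := by push_cast; omega
      rw [wtc, if_pos h0]
      have : ((q - p : ℕ) : ℤ) = q - p := by omega
      push_cast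
      rw [this]
      ring
    · have h0 : (0 : ℤ) ≤ ((b + j : ℕ) : ℤ) - b := by push_cast; omega
      have h1 : (((b + j : ℕ) : ℤ) - b).toNat = j := by push_cast; omega
      rw [mono, if_pos h0, h1, pow_add x0 a, key1 x0 x1 x4 p q R1, pow_add x4 b j]
      ring
  · obtain ⟨j, rfl⟩ := Nat.exists_eq_add_of_le h
    rcases Nat.eq_zero_or_pos j with rfl | hj
    · -- equal exponents, covered above
      refine ⟨a + (q - p) * c, ?_, ?_⟩
      · have h0 : (0 : ℤ) ≤ (c : ℤ) - ((c + 0 : ℕ) : ℤ) := by push_cast; omega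
        rw [wtc, if_pos h0]
        have : ((q - p : ℕ) : ℤ) = q - p := by omega
        push_cast
        rw [this]
        ring
      · have h0 : (0 : ℤ) ≤ (c : ℤ) - ((c + 0 : ℕ) : ℤ) := by push_cast; omega
        have h1 : ((c : ℤ) - ((c + 0 : ℕ) : ℤ)).toNat = 0 := by push_cast; omega
        rw [mono, if_pos h0, h1, pow_add x0 a, key1 x0 x1 x4 p q R1, add_zero]
        ring
    · refine ⟨a + (q - p) * c, ?_, ?_⟩
      · have h0 : ¬ (0 : ℤ) ≤ (c : ℤ) - ((c + j : ℕ) : ℤ) := by push_cast; omega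
        rw [wtc, if_neg h0]
        have : ((q - p : ℕ) : ℤ) = q - p := by omega
        push_cast
        rw [this]
        ring
      · have h0 : ¬ (0 : ℤ) ≤ (c : ℤ) - ((c + j : ℕ) : ℤ) := by push_cast; omega
        have h1 : (-((c : ℤ) - ((c + j : ℕ) : ℤ))).toNat = j := by push_cast; omega
        rw [mono, if_neg h0, h1, pow_add x0 a, key1 x0 x1 x4 p q R1, pow_add x1 c j]
        ring

include hpq R1 R2 in
theorem mono_shift (a : ℕ) (e : ℤ) :
    ∃ a' : ℕ, (a' : ℤ) + wtc p q (e - m) = (a : ℤ) + wtc p q e ∧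
      mono x0 x1 x4 a' (e - m) = σ * mono x0 x1 x4 a e := by
  have hR3 := R3 x0 x1 x4 σ p q m hpq R1 R2
  by_cases h1 : (m : ℤ) ≤ e
  · obtain ⟨j, hj⟩ := Int.eq_ofNat_of_zero_le (sub_nonneg.mpr h1)
    have he : e = (m : ℤ) + j := by omega
    subst he
    refine ⟨a + q * m, ?_, ?_⟩
    · have h0 : (0 : ℤ) ≤ (m : ℤ) + j - m := by omega
      have h0' : (0 : ℤ) ≤ (m : ℤ) + j := by omega
      rw [wtc, wtc, if_pos h0, if_pos h0']
      push_cast
      ring
    · have h0 : (0 : ℤ) ≤ (m : ℤ) + j - m := by omega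
      have h0' : (0 : ℤ) ≤ (m : ℤ) + j := by omega
      have t1 : ((m : ℤ) + j - m).toNat = j := by omega
      have t2 : ((m : ℤ) + j).toNat = m + j := by omega
      rw [mono, mono, if_pos h0, if_pos h0', t1, t2, pow_add x0 a, hR3, pow_add x4 m j]
      ring
  · by_cases h2 : (0 : ℤ) ≤ e
    · obtain ⟨j, hj⟩ := Int.eq_ofNat_of_zero_le h2
      subst hj
      have hjm : j < m := by omega
      refine ⟨a + (q - p) * j + m * p, ?_, ?_⟩
      · have h0 : ¬ (0 : ℤ) ≤ (j : ℤ) - m := by omega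
        rw [wtc, wtc, if_neg h0, if_pos h2]
        have : ((q - p : ℕ) : ℤ) = q - p := by omega
        push_cast
        rw [this]
        ring
      · have h0 : ¬ (0 : ℤ) ≤ (j : ℤ) - m := by omega
        have t1 : (-((j : ℤ) - m)).toNat = m - j := by omega
        have t2 : ((j : ℕ) : ℤ).toNat = j := by omega
        have t3 : x1 ^ j * x1 ^ (m - j) = x1 ^ m := by rw [← pow_add]; congr 1; omega
        rw [mono, mono, if_neg h0, if_pos h2, t1, t2, pow_add x0 (a + (q - p) * j), pow_add x0 a,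
          key1 x0 x1 x4 p q R1, ← R2, ← t3]
        ring
    · obtain ⟨j, hj⟩ := Int.eq_ofNat_of_zero_le (show (0 : ℤ) ≤ -e by omega)
      have he : e = -(j : ℤ) := by omega
      subst he
      refine ⟨a + m * p, ?_, ?_⟩
      · have h0 : ¬ (0 : ℤ) ≤ -(j : ℤ) - m := by omega
        rw [wtc, wtc, if_neg h0, if_neg h2]
        push_cast
        ring
      · have h0 : ¬ (0 : ℤ) ≤ -(j : ℤ) - m := by omega
        have t1 : (-(-(j : ℤ) - m)).toNat = j + m := by omega
        have t2 : (- -(j : ℤ)).toNat = j := by omega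
        rw [mono, mono, if_neg h0, if_neg h2, t1, t2, pow_add x0 a, pow_add x1 j m, ← R2]
        ring

include hpq R1 R2 in
theorem mono_shift_iter (t : ℕ) (a : ℕ) (e : ℤ) :
    ∃ a' : ℕ, (a' : ℤ) + wtc p q (e - m * t) = (a : ℤ) + wtc p q e ∧
      mono x0 x1 x4 a' (e - m * t) = σ ^ t * mono x0 x1 x4 a e := by
  induction t with
  | zero => exact ⟨a, by simp, by simp⟩
  | succ t ih =>
    obtain ⟨a₁, h1, h2⟩ := ih
    obtain ⟨a₂, h3, h4⟩ := mono_shift x0 x1 x4 σ p q m hpq R1 R2 a₁ (e - m * t)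
    refine ⟨a₂, ?_, ?_⟩
    · have : e - (m : ℤ) * ((t + 1 : ℕ) : ℤ) = e - m * t - m := by push_cast; ring
      rw [this, h3, h1]
    · have : e - (m : ℤ) * ((t + 1 : ℕ) : ℤ) = e - m * t - m := by push_cast; ring
      rw [this, h4, h2, pow_succ]
      ring

include hpq R1 R2 in
/-- comparison of two monomials of the same weight -/
theorem monomial_eq_smul (a b c a' b' c' : ℕ) (t : ℕ)
    (hn : (a : ℤ) - p * b + q * c = (a' : ℤ) - p * b' + q * c')
    (he : ((c' : ℤ) - b') - ((c : ℤ) - b) = m * t) :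
    x0 ^ a * x1 ^ b * x4 ^ c = σ ^ t * (x0 ^ a' * x1 ^ b' * x4 ^ c') := by
  obtain ⟨a₁, h1, h2⟩ := monomial_eq_mono x0 x1 x4 p q hpq R1 a b c
  obtain ⟨a₂, h3, h4⟩ := monomial_eq_mono x0 x1 x4 p q hpq R1 a' b' c'
  obtain ⟨a₃, h5, h6⟩ := mono_shift_iter x0 x1 x4 σ p q m hpq R1 R2 t a₂ ((c' : ℤ) - b')
  have hee : (c' : ℤ) - b' - m * t = (c : ℤ) - b := by omega
  rw [hee] at h5 h6
  have ha : a₃ = a₁ := by
    have : (a₃ : ℤ) = a₁ := by omega
    exact_mod_cast this
  rw [h2, h4, ← h6, ha]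

end Ring


section Concrete
variable {k : Type u} [Field k] (p q m : ℕ)

theorem weight_wt5 (d : Fin 5 →₀ ℕ) :
    Finsupp.weight (W4c2invhilbsl2.wt5 p q m) d =
      ((d 0 : ℤ) - p * ((d 1 : ℤ) + d 2) + q * ((d 3 : ℤ) + d 4),
        ((d 3 : ZMod m) + d 4) - ((d 1 : ZMod m) + d 2)) := by
  rw [Finsupp.weight_apply, Finsupp.sum_fintype _ _ (fun i => by simp), Fin.sum_univ_five]
  simp only [W4c2invhilbsl2.wt5, Matrix.cons_val_zero, Matrix.cons_val_one, Matrix.cons_val]
  ext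
  · simp only [Prod.fst_add, Prod.smul_fst]
    simp only [nsmul_eq_mul]
    ring
  · simp only [Prod.snd_add, Prod.smul_snd]
    simp only [nsmul_eq_mul]
    ring

theorem mk_monomial_five (I : Ideal (MvPolynomial (Fin 5) k)) (d : Fin 5 →₀ ℕ) :
    Ideal.Quotient.mk I (monomial d 1) =
      Ideal.Quotient.mk I (X 0) ^ d 0 * Ideal.Quotient.mk I (X 1) ^ d 1 *
        Ideal.Quotient.mk I (X 2) ^ d 2 * Ideal.Quotient.mk I (X 3) ^ d 3 *
        Ideal.Quotient.mk I (X 4) ^ d 4 := by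
  rw [monomial_eq, C_1, one_mul, Finsupp.prod_fintype _ _ (fun i => pow_zero _), Fin.prod_univ_five]
  simp only [map_mul, map_pow]

end Concrete

end Groth.Agent.Lib.Helper25.HilbSL2
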