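import Groth.Agent.Lib.Helper25.ComodHom
import Groth.Agent.Lib.Helper25.ComodDualP
import Groth.Prelude.Def_W4c1tameactTame
import Mathlib

/-!
# Helper library (helper25): the comodule `Hom_k(Q, X)` for a finite projective comodule `Q` over a
commutative ring; its invariants are the comodule maps; for an algebra `B` with multiplicative
coaction it is a `(B, A)`-Hopf module and evaluation at a fixed vector is a comodule map.
-/

set_option autoImplicit false
set_option linter.unusedSectionVars false
universe u v w w'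
open TensorProduct

namespace Groth.Agent.Lib.Helper25.HomCP

open HopfRep Groth.Agent.Lib.Helper25 Groth.Agent.Lib.Helper25.HopfInt

section

variable {k : Type u} [CommRing k] {A : Type v} [CommRing A] [HopfAlgebra k A] [Module.Flat k A]
  (Q : Type w) [AddCommGroup Q] [Module k Q] [Module.Finite k Q] [Module.Projective k Q]
  [cQ : HopfRep.Comod k A Q]
  (X : Type w') [AddCommGroup X] [Module k X] [cX : HopfRep.Comod k A X]

theorem Phi_bijective :
    Function.Bijective (CHom.Phi X Q : X ⊗[k] Module.Dual k Q →ₗ[k] (Q →ₗ[k] X)) := by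
  unfold CHom.Phi
  exact (dualTensorHom_bijective (R := k) (M := Q) (N := X)).comp
    (TensorProduct.comm k X (Module.Dual k Q)).bijective

/-- `X ⊗ Q^* ≃ Hom(Q, X)` -/
noncomputable def PhiEquiv : X ⊗[k] Module.Dual k Q ≃ₗ[k] (Q →ₗ[k] X) :=
  LinearEquiv.ofBijective (CHom.Phi X Q) (Phi_bijective Q X)

@[simp] theorem PhiEquiv_apply (x : X ⊗[k] Module.Dual k Q) : PhiEquiv Q X x = CHom.Phi X Q x := rfl

/-- the comodule structure on `Hom_k(Q, X)` -/
@[reducible] noncomputable def homComod : HopfRep.Comod k A (Q →ₗ[k] X) :=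
  ComodTens.Comod.ofEquiv (PhiEquiv Q X) (ComodTens.Comod.tensor cX (CDualP.dualComod cQ))

theorem homComod_coact_Phi (x : X ⊗[k] Module.Dual k Q) :
    (homComod Q X).coact (CHom.Phi X Q x) = (CHom.Phi X Q).rTensor A
      ((ComodTens.Comod.tensor cX (CDualP.dualComod cQ)).coact x) := by
  have := ComodTens.ofEquiv_coact_apply (PhiEquiv Q X)
    (ComodTens.Comod.tensor cX (CDualP.dualComod cQ)) x
  exact this

variable {Q X} in
/-- the invariants of `Hom_k(Q, X)` are the comodule maps -/
theorem mem_fixedPts_homComod_iff (h : Q →ₗ[k] X) :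
    h ∈ @HopfRep.fixedPts k A _ _ _ (Q →ₗ[k] X) _ _ (homComod (k := k) (A := A) Q X) ↔
      Hoch.IsComodHom A h := by
  obtain ⟨x, rfl⟩ := (Phi_bijective Q X).2 h
  rw [← CHom.mem_fixedPts_iff (CDualP.dualComod cQ) (CDualP.isDual_dualComod cQ)
    (dualTensorHom_bijective (R := k) (M := Q) (N := X ⊗[k] A)).1 x]
  change (homComod Q X).coact (CHom.Phi X Q x) = CHom.Phi X Q x ⊗ₜ[k] (1 : A) ↔
    (ComodTens.Comod.tensor cX (CDualP.dualComod cQ)).coact x = x ⊗ₜ[k] (1 : A)
  rw [homComod_coact_Phi]
  have hinj : Function.Injective ((CHom.Phi (k := k) X Q).rTensor A) :=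
    Module.Flat.rTensor_preserves_injective_linearMap _ (Phi_bijective (k := k) Q X).1
  constructor
  · intro hh
    apply hinj
    rw [hh, LinearMap.rTensor_tmul]
  · intro hh
    rw [hh, LinearMap.rTensor_tmul]

variable {Q X} in
/-- evaluation at a fixed vector is a comodule map -/
theorem coact_apply_fixed {q₀ : Q} (hq₀ : cQ.coact q₀ = q₀ ⊗ₜ[k] (1 : A)) (h : Q →ₗ[k] X) :
    cX.coact (h q₀) = (LinearMap.applyₗ (R := k) q₀ : (Q →ₗ[k] X) →ₗ[k] X).rTensor A
      ((homComod Q X).coact h) := by
  obtain ⟨x, rfl⟩ := (Phi_bijective Q X).2 h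
  rw [homComod_coact_Phi]
  have h0 : ∀ z, (LinearMap.applyₗ (R := k) q₀ : (Q →ₗ[k] X) →ₗ[k] X).rTensor A
      ((CHom.Phi X Q).rTensor A z) = ((LinearMap.applyₗ (R := k) q₀ : (Q →ₗ[k] X) →ₗ[k] X) ∘ₗ
        CHom.Phi X Q).rTensor A z := by
    intro z
    rw [LinearMap.rTensor_comp, LinearMap.comp_apply]
  rw [h0]
  have h1 : (LinearMap.applyₗ (R := k) q₀ : (Q →ₗ[k] X) →ₗ[k] X) ∘ₗ CHom.Phi X Q =
      CHom.evB X q₀ := by
    apply LinearMap.ext
    intro y
    rw [LinearMap.comp_apply, LinearMap.applyₗ_apply_apply]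
    exact CHom.Phi_apply y q₀
  rw [h1, CHom.rTensor_evB_coact (CDualP.dualComod cQ) (CDualP.isDual_dualComod cQ)]
  unfold CHom.conj
  rw [twist_tmul', hq₀]
  simp only [LinearMap.lTensor_tmul, LinearMap.comp_apply, LinearMap.mulRight_apply,
    HopfAlgebra.antipode_one, mul_one, LinearMap.rTensor_tmul]
  rw [CHom.twist_id_tmul_one]

end

section HopfMod

variable {k : Type u} [CommRing k] {A : Type v} [CommRing A] [HopfAlgebra k A] [Module.Flat k A]
  (Q : Type w) [AddCommGroup Q] [Module k Q] [Module.Finite k Q] [Module.Projective k Q]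
  [cQ : HopfRep.Comod k A Q]
  (B : Type w') [CommRing B] [Algebra k B] [cB : HopfRep.Comod k A B] [hB : GLin.IsCoactAlg k A B]

theorem smul_Phi (b : B) (x : B ⊗[k] Module.Dual k Q) :
    b • CHom.Phi B Q x = CHom.Phi B Q (b • x) := by
  induction x using TensorProduct.induction_on with
  | zero => simp
  | tmul b' ξ =>
    apply LinearMap.ext
    intro q
    rw [TensorProduct.smul_tmul', LinearMap.smul_apply, CHom.Phi_apply, CHom.Phi_apply,
      CHom.evB_tmul, CHom.evB_tmul, smul_eq_mul, smul_eq_mul, mul_smul_comm]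
  | add x y hx hy => simp only [smul_add, map_add, hx, hy]

theorem tensor_coact_smul (d : HopfRep.Comod k A (Module.Dual k Q)) (b : B)
    (x : B ⊗[k] Module.Dual k Q) :
    (ComodTens.Comod.tensor cB d).coact (b • x) =
      TameAct.hmSMul k A B (B ⊗[k] Module.Dual k Q) (cB.coact b)
        ((ComodTens.Comod.tensor cB d).coact x) := by
  have aux : ∀ (z z' : B ⊗[k] A) (y : Module.Dual k Q ⊗[k] A),
      TensorProduct.map LinearMap.id (LinearMap.mul' k A)
        (AlgebraTensorModule.tensorTensorTensorComm k k k k B A (Module.Dual k Q) A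
          ((z * z') ⊗ₜ[k] y)) =
      TameAct.hmSMul k A B (B ⊗[k] Module.Dual k Q) z
        (TensorProduct.map LinearMap.id (LinearMap.mul' k A)
          (AlgebraTensorModule.tensorTensorTensorComm k k k k B A (Module.Dual k Q) A
            (z' ⊗ₜ[k] y))) := by
    intro z z' y
    induction z using TensorProduct.induction_on with
    | zero => simp
    | tmul b a =>
      induction z' using TensorProduct.induction_on with
      | zero => simp
      | tmul b' a' =>
        induction y using TensorProduct.induction_on with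
        | zero => simp
        | tmul ξ a'' => simp [TensorProduct.smul_tmul', mul_assoc]
        | add y₁ y₂ h₁ h₂ => simp only [TensorProduct.tmul_add, map_add, h₁, h₂]
      | add z₁ z₂ h₁ h₂ => simp only [mul_add, TensorProduct.add_tmul, map_add, h₁, h₂]
    | add z₁ z₂ h₁ h₂ =>
      simp only [add_mul, TensorProduct.add_tmul, map_add, h₁, h₂, LinearMap.add_apply]
  induction x using TensorProduct.induction_on with
  | zero => simp
  | tmul b' ξ =>
    rw [TensorProduct.smul_tmul', smul_eq_mul, ComodTens.tensor_coact_tmul,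
      ComodTens.tensor_coact_tmul, hB.coact_mul, aux]
  | add x y hx hy => simp only [smul_add, map_add, hx, hy]

theorem rTensor_Phi_hmSMul (z : B ⊗[k] A) (w : (B ⊗[k] Module.Dual k Q) ⊗[k] A) :
    (CHom.Phi B Q).rTensor A (TameAct.hmSMul k A B (B ⊗[k] Module.Dual k Q) z w) =
      TameAct.hmSMul k A B (Q →ₗ[k] B) z ((CHom.Phi B Q).rTensor A w) := by
  induction z using TensorProduct.induction_on with
  | zero => simp
  | tmul b a =>
    induction w using TensorProduct.induction_on with
    | zero => simp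
    | tmul x a' =>
      rw [TameAct.hmSMul_tmul, LinearMap.rTensor_tmul, LinearMap.rTensor_tmul,
        TameAct.hmSMul_tmul, smul_Phi]
    | add w₁ w₂ h₁ h₂ => simp only [map_add, h₁, h₂]
  | add z₁ z₂ h₁ h₂ => simp only [map_add, LinearMap.add_apply, h₁, h₂]

/-- `Hom_k(Q, B)` is a `(B, A)`-Hopf module -/
theorem isHopfMod_hom :
    @TameAct.IsHopfMod k _ A _ _ B _ _ (Q →ₗ[k] B) _ _ _ _ cB (homComod Q B) := by
  letI := homComod (k := k) (A := A) Q B
  constructor
  intro b φ
  obtain ⟨x, rfl⟩ := (Phi_bijective Q B).2 φ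
  rw [smul_Phi]
  change (homComod Q B).coact (CHom.Phi B Q (b • x)) = TameAct.hmSMul k A B (Q →ₗ[k] B)
    (cB.coact b) ((homComod Q B).coact (CHom.Phi B Q x))
  rw [homComod_coact_Phi, homComod_coact_Phi, tensor_coact_smul, rTensor_Phi_hmSMul]

end HopfMod

end Groth.Agent.Lib.Helper25.HomCP
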