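import Mathlib

set_option autoImplicit false
set_option linter.unusedSectionVars false
set_option linter.style.haveILetI false
set_option linter.unusedVariables false

/-!
# Lovász-type hom counting for finite modules

If two finite modules `M`, `N` over a ring receive the same number of homomorphisms from every finite
module, they are isomorphic.  Consequently `M^n ≅ N^n` (`n ≥ 1`) implies `M ≅ N` for finite modules
(cancellation without Krull–Schmidt).
-/

namespace Groth.Agent.Lib.Helper25.HomCount

universe u v

section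
variable {R : Type u} [Ring R]

/-- number of injective homomorphisms -/
noncomputable def inj (T M : Type v) [AddCommGroup T] [Module R T] [AddCommGroup M] [Module R M] : ℕ :=
  Nat.card {f : T →ₗ[R] M // Function.Injective f}

variable {T M : Type v} [AddCommGroup T] [Module R T] [AddCommGroup M] [Module R M]

/-- homomorphisms with prescribed kernel correspond to injective homomorphisms from the quotient -/
noncomputable def kerEquiv (S : Submodule R T) :
    {f : T →ₗ[R] M // LinearMap.ker f = S} ≃ {g : (T ⧸ S) →ₗ[R] M // Function.Injective g} where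
  toFun f := ⟨S.liftQ f.1 (le_of_eq f.2.symm), by
    rw [← LinearMap.ker_eq_bot, Submodule.ker_liftQ, f.2, Submodule.mkQ_map_self]⟩
  invFun g := ⟨g.1.comp S.mkQ, by
    rw [LinearMap.ker_comp, LinearMap.ker_eq_bot.2 g.2, Submodule.comap_bot, Submodule.ker_mkQ]⟩
  left_inv f := by
    apply Subtype.ext
    exact Submodule.liftQ_mkQ S f.1 _
  right_inv g := by
    apply Subtype.ext
    apply LinearMap.ext
    intro x
    obtain ⟨y, rfl⟩ := S.mkQ_surjective x
    rfl

instance instFiniteHom [Finite T] [Finite M] : Finite (T →ₗ[R] M) :=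
  Finite.of_injective (fun f : T →ₗ[R] M => (f : T → M)) DFunLike.coe_injective

instance instFiniteInj [Finite T] [Finite M] : Finite {f : T →ₗ[R] M // Function.Injective f} :=
  Subtype.finite

lemma inj_congr {T' : Type v} [AddCommGroup T'] [Module R T'] (e : T ≃ₗ[R] T') :
    inj (R := R) T M = inj (R := R) T' M := by
  unfold inj
  refine Nat.card_congr ⟨fun f => ⟨f.1.comp e.symm.toLinearMap, f.2.comp e.symm.injective⟩,
    fun g => ⟨g.1.comp e.toLinearMap, g.2.comp e.injective⟩, ?_, ?_⟩
  · intro f; apply Subtype.ext; ext x; simp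
  · intro g; apply Subtype.ext; ext x; simp

/-- counting homomorphisms by their kernel -/
lemma card_hom_eq_sum [Finite T] [Finite M] [Fintype (Submodule R T)] :
    Nat.card (T →ₗ[R] M) = ∑ S : Submodule R T, inj (R := R) (T ⧸ S) M := by
  classical
  have e := Equiv.sigmaFiberEquiv (fun f : T →ₗ[R] M => LinearMap.ker f)
  rw [← Nat.card_congr e, Nat.card_sigma]
  apply Finset.sum_congr rfl
  intro S _
  exact Nat.card_congr (kerEquiv S)

instance instFiniteQuot [Finite T] (S : Submodule R T) : Finite (T ⧸ S) :=
  Finite.of_surjective S.mkQ S.mkQ_surjective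

lemma card_quotient_lt [Finite T] (S : Submodule R T) (hS : S ≠ ⊥) :
    Nat.card (T ⧸ S) < Nat.card T := by
  have h := Submodule.card_eq_card_quotient_mul_card S
  have hpos : 0 < Nat.card (T ⧸ S) := Nat.card_pos
  have hS2 : 2 ≤ Nat.card S := by
    obtain ⟨x, hx, hx0⟩ := Submodule.exists_mem_ne_zero_of_ne_bot hS
    have : Nontrivial S := ⟨⟨⟨x, hx⟩, 0, fun h => hx0 (congrArg Subtype.val h)⟩⟩
    exact Finite.one_lt_card
  nlinarith

end

section main
variable {R : Type u} [Ring R] {M N : Type v} [AddCommGroup M] [Module R M] [AddCommGroup N]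
  [Module R N] [Finite M] [Finite N]

/-- equal hom counts force equal counts of injective homs -/
lemma inj_eq_of_card_hom_eq
    (h : ∀ (T : Type v) [AddCommGroup T] [Module R T] [Finite T],
      Nat.card (T →ₗ[R] M) = Nat.card (T →ₗ[R] N)) :
    ∀ (m : ℕ) (T : Type v) [AddCommGroup T] [Module R T] [Finite T], Nat.card T = m →
      inj (R := R) T M = inj (R := R) T N := by
  intro m
  induction m using Nat.strong_induction_on with
  | _ m ih =>
    intro T _ _ _ hT
    classical
    haveI : Fintype (Submodule R T) := Fintype.ofFinite _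
    have h1 := card_hom_eq_sum (R := R) (T := T) (M := M)
    have h2 := card_hom_eq_sum (R := R) (T := T) (M := N)
    rw [← Finset.add_sum_erase _ _ (Finset.mem_univ (⊥ : Submodule R T))] at h1 h2
    have hrest : ∑ S ∈ (Finset.univ : Finset (Submodule R T)).erase ⊥, inj (R := R) (T ⧸ S) M =
        ∑ S ∈ (Finset.univ : Finset (Submodule R T)).erase ⊥, inj (R := R) (T ⧸ S) N := by
      apply Finset.sum_congr rfl
      intro S hS
      have hS' : S ≠ ⊥ := (Finset.mem_erase.1 hS).1
      exact ih _ (hT ▸ card_quotient_lt S hS') (T ⧸ S) rfl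
    have hbot : ∀ (X : Type v) [AddCommGroup X] [Module R X],
        inj (R := R) (T ⧸ (⊥ : Submodule R T)) X = inj (R := R) T X := fun X _ _ =>
      inj_congr (Submodule.quotEquivOfEqBot ⊥ rfl)
    rw [hbot] at h1 h2
    have := h T
    omega

/-- **Hom counting.** Finite modules receiving the same number of homomorphisms from every finite
module are isomorphic. -/
theorem nonempty_linearEquiv_of_card_hom_eq
    (h : ∀ (T : Type v) [AddCommGroup T] [Module R T] [Finite T],
      Nat.card (T →ₗ[R] M) = Nat.card (T →ₗ[R] N)) : Nonempty (M ≃ₗ[R] N) := by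
  have hMN : inj (R := R) M N = inj (R := R) M M := (inj_eq_of_card_hom_eq h _ M rfl).symm
  have hNM : inj (R := R) N M = inj (R := R) N N := inj_eq_of_card_hom_eq h _ N rfl
  have hMM : 0 < inj (R := R) M M := by
    haveI : Nonempty {f : M →ₗ[R] M // Function.Injective f} := ⟨⟨LinearMap.id, Function.injective_id⟩⟩
    exact Nat.card_pos
  have hNN : 0 < inj (R := R) N N := by
    haveI : Nonempty {f : N →ₗ[R] N // Function.Injective f} := ⟨⟨LinearMap.id, Function.injective_id⟩⟩
    exact Nat.card_pos
  rw [← hMN] at hMM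
  rw [← hNM] at hNN
  obtain ⟨f, hf⟩ : Nonempty {f : M →ₗ[R] N // Function.Injective f} := by
    by_contra hne
    rw [not_nonempty_iff] at hne
    unfold inj at hMM
    rw [Nat.card_of_isEmpty] at hMM
    exact lt_irrefl _ hMM
  obtain ⟨g, hg⟩ : Nonempty {f : N →ₗ[R] M // Function.Injective f} := by
    by_contra hne
    rw [not_nonempty_iff] at hne
    unfold inj at hNN
    rw [Nat.card_of_isEmpty] at hNN
    exact lt_irrefl _ hNN
  have hcard : Nat.card M = Nat.card N :=
    le_antisymm (Nat.card_le_card_of_injective f hf) (Nat.card_le_card_of_injective g hg)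
  have hbij : Function.Bijective f := by
    rw [Nat.bijective_iff_injective_and_card]
    exact ⟨hf, hcard⟩
  exact ⟨LinearEquiv.ofBijective f hbij⟩

/-- homs into a finite power -/
def homPiEquiv (T M : Type v) [AddCommGroup T] [Module R T] [AddCommGroup M] [Module R M]
    (n : ℕ) : (T →ₗ[R] (Fin n → M)) ≃ (Fin n → (T →ₗ[R] M)) where
  toFun f i := (LinearMap.proj i).comp f
  invFun g := LinearMap.pi g
  left_inv f := by ext; rfl
  right_inv g := by ext; rfl

/-- post-composition with a linear equivalence -/
def homCongrRight (T : Type v) [AddCommGroup T] [Module R T] {X Y : Type v} [AddCommGroup X]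
    [Module R X] [AddCommGroup Y] [Module R Y] (e : X ≃ₗ[R] Y) : (T →ₗ[R] X) ≃ (T →ₗ[R] Y) where
  toFun f := e.toLinearMap.comp f
  invFun g := e.symm.toLinearMap.comp g
  left_inv f := by ext; simp
  right_inv g := by ext; simp

/-- **Cancellation of powers** for finite modules. -/
theorem nonempty_linearEquiv_of_pi_equiv {n : ℕ} (hn : n ≠ 0)
    (e : (Fin n → M) ≃ₗ[R] (Fin n → N)) : Nonempty (M ≃ₗ[R] N) := by
  apply nonempty_linearEquiv_of_card_hom_eq
  intro T _ _ _
  have h1 : Nat.card (T →ₗ[R] (Fin n → M)) = Nat.card (T →ₗ[R] M) ^ n := by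
    rw [Nat.card_congr (homPiEquiv T M n), Nat.card_fun, Nat.card_fin]
  have h2 : Nat.card (T →ₗ[R] (Fin n → N)) = Nat.card (T →ₗ[R] N) ^ n := by
    rw [Nat.card_congr (homPiEquiv T N n), Nat.card_fun, Nat.card_fin]
  have h3 : Nat.card (T →ₗ[R] (Fin n → M)) = Nat.card (T →ₗ[R] (Fin n → N)) :=
    Nat.card_congr (homCongrRight T e)
  rw [h1, h2] at h3
  exact Nat.pow_left_injective hn h3

end main

end Groth.Agent.Lib.Helper25.HomCount
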