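import Groth.Agent.Lib.Helper25.Comod2
import Mathlib

/-!
# Helper library (helper25): total integrals on a commutative Hopf algebra
`twist`, `retr` (the averaging retraction of the coaction), and
`isSemisimpleComod_of_integral`: a total integral makes every comodule semisimple.
-/

set_option autoImplicit false
universe u v w w'
open TensorProduct

namespace Groth.Agent.Lib.Helper25.HopfInt

open HopfRep

section

variable {k : Type u} [CommRing k] {A : Type v} [CommRing A] [HopfAlgebra k A]
  {V : Type w} [AddCommGroup V] [Module k V] [HopfRep.Comod k A V]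

local notation "ρ" => HopfRep.Comod.coact (k := k) (A := A) (V := V)
local notation "Δ" => CoalgebraStruct.comul (R := k) (A := A)
local notation "ε" => CoalgebraStruct.counit (R := k) (A := A)
local notation "μ" => LinearMap.mul' k A
local notation "S" => HopfAlgebra.antipode k (A := A)

variable (V) in
/-- twist: `v ⊗ a ↦ Σ v₀ ⊗ g(v₁) a` -/
noncomputable def twist (g : A →ₗ[k] A) : V ⊗[k] A →ₗ[k] V ⊗[k] A :=
  (μ ∘ₗ g.rTensor A).lTensor V ∘ₗ (TensorProduct.assoc k V A A).toLinearMap ∘ₗ LinearMap.rTensor A ρ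

theorem twist_tmul (g : A →ₗ[k] A) (v : V) (a : A) :
    twist V g (v ⊗ₜ a) = (μ ∘ₗ g.rTensor A).lTensor V (TensorProduct.assoc k V A A (ρ v ⊗ₜ a)) := by
  simp [twist]

omit [HopfRep.Comod k A V] in
theorem aux1 (g f : A →ₗ[k] A) (z : V ⊗[k] A) (a : A) :
    (μ ∘ₗ g.rTensor A).lTensor V (TensorProduct.assoc k V A A (z ⊗ₜ f a)) =
      (μ ∘ₗ TensorProduct.map g f).lTensor V (TensorProduct.assoc k V A A (z ⊗ₜ a)) := by
  induction z using TensorProduct.induction_on with
  | zero => simp
  | tmul x b => simp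
  | add x y hx hy => simp only [TensorProduct.add_tmul, map_add, hx, hy]

theorem twist_lTensor (g f : A →ₗ[k] A) (z : V ⊗[k] A) :
    twist V g (f.lTensor V z) =
      (μ ∘ₗ TensorProduct.map g f).lTensor V (TensorProduct.assoc k V A A (LinearMap.rTensor A ρ z)) := by
  induction z using TensorProduct.induction_on with
  | zero => simp
  | tmul x b => 
    rw [LinearMap.lTensor_tmul, twist_tmul, aux1, LinearMap.rTensor_tmul]
  | add x y hx hy => simp only [map_add, hx, hy]

theorem coassoc_apply (v : V) :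
    TensorProduct.assoc k V A A (LinearMap.rTensor A ρ (ρ v)) = LinearMap.lTensor V Δ (ρ v) :=
  LinearMap.congr_fun (HopfRep.Comod.coassoc (k := k) (A := A) (V := V)) v

theorem counit_apply (v : V) : LinearMap.lTensor V ε (ρ v) = v ⊗ₜ 1 :=
  LinearMap.congr_fun (HopfRep.Comod.counit_comp (k := k) (A := A) (V := V)) v

theorem twist_lTensor_coact (g f : A →ₗ[k] A) (v : V) :
    twist V g (f.lTensor V (ρ v)) = (μ ∘ₗ TensorProduct.map g f ∘ₗ Δ).lTensor V (ρ v) := by
  rw [twist_lTensor, coassoc_apply, ← LinearMap.comp_apply, ← LinearMap.lTensor_comp,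
    LinearMap.comp_assoc]


omit [HopfRep.Comod k A V] in
theorem aux2 (g : A →ₗ[k] A) (z : V ⊗[k] A) (a : A) :
    (μ ∘ₗ g.rTensor A).lTensor V (TensorProduct.assoc k V A A (z ⊗ₜ a)) =
      (LinearMap.mulRight k a ∘ₗ g).lTensor V z := by
  induction z using TensorProduct.induction_on with
  | zero => simp
  | tmul x b => simp
  | add x y hx hy => simp only [TensorProduct.add_tmul, map_add, hx, hy]

theorem twist_tmul' (g : A →ₗ[k] A) (v : V) (a : A) :
    twist V g (v ⊗ₜ a) = (LinearMap.mulRight k a ∘ₗ g).lTensor V (ρ v) := by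
  rw [twist_tmul, aux2]

theorem twist_twist (g g' : A →ₗ[k] A)
    (h : μ ∘ₗ TensorProduct.map g g' ∘ₗ Δ = Algebra.linearMap k A ∘ₗ ε) :
    twist V g ∘ₗ twist V g' = LinearMap.id := by
  refine TensorProduct.ext' fun v a => ?_
  rw [LinearMap.comp_apply, twist_tmul', twist_lTensor_coact, LinearMap.id_apply]
  have h2 : μ ∘ₗ TensorProduct.map g (LinearMap.mulRight k a ∘ₗ g') ∘ₗ Δ =
      (LinearMap.mulRight k a ∘ₗ Algebra.linearMap k A) ∘ₗ ε := by
    rw [LinearMap.comp_assoc, ← h]
    have : μ ∘ₗ TensorProduct.map g (LinearMap.mulRight k a ∘ₗ g') =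
        LinearMap.mulRight k a ∘ₗ μ ∘ₗ TensorProduct.map g g' := by
      refine TensorProduct.ext' fun b c => ?_
      simp [mul_assoc]
    rw [← LinearMap.comp_assoc, this]
    simp only [LinearMap.comp_assoc]
  rw [h2, LinearMap.lTensor_comp, LinearMap.comp_apply, counit_apply]
  simp

theorem twist_id_twist_antipode : twist V LinearMap.id ∘ₗ twist V S = LinearMap.id :=
  twist_twist _ _ (by
    have := HopfAlgebra.mul_antipode_lTensor_comul (R := k) (A := A)
    simpa [LinearMap.lTensor] using this)

theorem twist_antipode_twist_id : twist V S ∘ₗ twist V LinearMap.id = LinearMap.id :=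
  twist_twist _ _ (by
    have := HopfAlgebra.mul_antipode_rTensor_comul (R := k) (A := A)
    simpa [LinearMap.rTensor] using this)


variable (V) in
/-- the diagonal coaction on `V ⊗ A`: `v ⊗ a ↦ Σ (v₀ ⊗ a₁) ⊗ v₁ a₂` -/
noncomputable def diag : V ⊗[k] A →ₗ[k] (V ⊗[k] A) ⊗[k] A :=
  LinearMap.lTensor (V ⊗[k] A) μ ∘ₗ (TensorProduct.tensorTensorTensorComm k V A A A).toLinearMap ∘ₗ
    TensorProduct.map ρ Δ

theorem diag_tmul (v : V) (a : A) :
    diag V (v ⊗ₜ a) = LinearMap.lTensor (V ⊗[k] A) μ
      (TensorProduct.tensorTensorTensorComm k V A A A (ρ v ⊗ₜ Δ a)) := by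
  simp [diag]

omit [HopfRep.Comod k A V] in
theorem aux3 (w : V ⊗[k] A) (b c d : A) :
    ((LinearMap.mulRight k c).lTensor V w) ⊗ₜ[k] (b * d) =
      (TensorProduct.assoc k V A A).symm ((LinearMap.mulRight k (c ⊗ₜ[k] d)).lTensor V
        (TensorProduct.assoc k V A A (w ⊗ₜ b))) := by
  induction w using TensorProduct.induction_on with
  | zero => simp
  | tmul y e => simp
  | add x y hx hy => simp only [TensorProduct.add_tmul, map_add, hx, hy]

theorem aux4 (z : V ⊗[k] A) (u : A ⊗[k] A) :
    (twist V LinearMap.id).rTensor A (LinearMap.lTensor (V ⊗[k] A) μ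
        (TensorProduct.tensorTensorTensorComm k V A A A (z ⊗ₜ u))) =
      (TensorProduct.assoc k V A A).symm ((LinearMap.mulRight k u).lTensor V
        (TensorProduct.assoc k V A A (LinearMap.rTensor A ρ z))) := by
  induction z using TensorProduct.induction_on with
  | zero => simp
  | tmul x b =>
    induction u using TensorProduct.induction_on with
    | zero => simp
    | tmul c d =>
      rw [TensorProduct.tensorTensorTensorComm_tmul, LinearMap.lTensor_tmul,
        LinearMap.mul'_apply, LinearMap.rTensor_tmul, twist_tmul', LinearMap.comp_id,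
        LinearMap.rTensor_tmul, aux3]
    | add x y hx hy => 
      have h : LinearMap.mulRight k (x + y) = LinearMap.mulRight k x + LinearMap.mulRight k y := by
        ext t; simp [mul_add]
      simp only [TensorProduct.tmul_add, map_add, hx, hy, h, LinearMap.lTensor_add,
        LinearMap.add_apply]
  | add x y hx hy => simp only [TensorProduct.add_tmul, map_add, hx, hy]

omit [HopfRep.Comod k A V] in
theorem aux5 (z : V ⊗[k] A) (a : A) :
    Hoch.Ind.coactAux k A V ((LinearMap.mulRight k a).lTensor V z) =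
      (TensorProduct.assoc k V A A).symm ((LinearMap.mulRight k (Δ a)).lTensor V
        (LinearMap.lTensor V Δ z)) := by
  induction z using TensorProduct.induction_on with
  | zero => simp
  | tmul x b => simp [Bialgebra.comul_mul]
  | add x y hx hy => simp only [map_add, hx, hy]

theorem twist_id_rTensor_comp_diag :
    (twist V LinearMap.id).rTensor A ∘ₗ diag V = Hoch.Ind.coactAux k A V ∘ₗ twist V LinearMap.id := by
  refine TensorProduct.ext' fun v a => ?_
  rw [LinearMap.comp_apply, LinearMap.comp_apply, diag_tmul, aux4, coassoc_apply, twist_tmul',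
    LinearMap.comp_id, aux5]


variable (V) in
/-- `v ⊗ a ↦ α(a) v` -/
noncomputable def proj (α : A →ₗ[k] k) : V ⊗[k] A →ₗ[k] V :=
  (TensorProduct.rid k V).toLinearMap ∘ₗ α.lTensor V

omit [HopfRep.Comod k A V] in
theorem aux6 (α : A →ₗ[k] k) (z : V ⊗[k] A) (u : A ⊗[k] A) :
    (proj V α).rTensor A (LinearMap.lTensor (V ⊗[k] A) μ
        (TensorProduct.tensorTensorTensorComm k V A A A (z ⊗ₜ u))) =
      (LinearMap.mulRight k (TensorProduct.lid k A (α.rTensor A u))).lTensor V z := by
  induction z using TensorProduct.induction_on with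
  | zero => simp
  | tmul x b =>
    induction u using TensorProduct.induction_on with
    | zero => simp
    | tmul c d => simp [proj, TensorProduct.smul_tmul]
    | add x y hx hy =>
      have h (s t : A) : LinearMap.mulRight k (s + t) = LinearMap.mulRight k s + LinearMap.mulRight k t := by
        ext t; simp [mul_add]
      simp only [TensorProduct.tmul_add, map_add, hx, hy, h, LinearMap.lTensor_add,
        LinearMap.add_apply]
  | add x y hx hy => simp only [TensorProduct.add_tmul, map_add, hx, hy]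

theorem coact_comp_proj (α : A →ₗ[k] k) (hα : ∀ a, α.rTensor A (Δ a) = α a ⊗ₜ[k] (1 : A)) :
    ρ ∘ₗ proj V α = (proj V α).rTensor A ∘ₗ diag V := by
  refine TensorProduct.ext' fun v a => ?_
  rw [LinearMap.comp_apply, LinearMap.comp_apply, diag_tmul, aux6, hα]
  have h : LinearMap.mulRight k ((TensorProduct.lid k A) (α a ⊗ₜ[k] (1 : A))) = α a • LinearMap.id := by
    ext t; simp
  rw [h]
  simp [proj]

variable (V) in
/-- the retraction `v ⊗ a ↦ Σ v₀ α(S(v₁) a)` of the coaction -/
noncomputable def retr (α : A →ₗ[k] k) : V ⊗[k] A →ₗ[k] V :=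
  proj V α ∘ₗ twist V S

theorem retr_comp_coact (α : A →ₗ[k] k) (h1 : α 1 = 1) : retr V α ∘ₗ ρ = LinearMap.id := by
  ext v
  have := twist_lTensor_coact (V := V) S LinearMap.id v
  rw [LinearMap.lTensor_id, LinearMap.id_apply] at this
  rw [LinearMap.comp_apply, retr, LinearMap.comp_apply, this]
  have h2 : μ ∘ₗ TensorProduct.map S LinearMap.id ∘ₗ Δ = Algebra.linearMap k A ∘ₗ ε := by
    have := HopfAlgebra.mul_antipode_rTensor_comul (R := k) (A := A)
    simpa [LinearMap.rTensor] using this
  rw [h2, LinearMap.lTensor_comp, LinearMap.comp_apply, counit_apply]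
  simp [proj, h1]

theorem coact_comp_retr (α : A →ₗ[k] k) (hα : ∀ a, α.rTensor A (Δ a) = α a ⊗ₜ[k] (1 : A)) :
    ρ ∘ₗ retr V α = (retr V α).rTensor A ∘ₗ Hoch.Ind.coactAux k A V := by
  have hsurj : Function.Surjective (twist V (LinearMap.id : A →ₗ[k] A)) := fun x =>
    ⟨twist V S x, LinearMap.congr_fun twist_id_twist_antipode x⟩
  rw [← LinearMap.cancel_right hsurj]
  have e1 : (ρ ∘ₗ retr V α) ∘ₗ twist V LinearMap.id = ρ ∘ₗ proj V α := by
    rw [retr, LinearMap.comp_assoc, LinearMap.comp_assoc, twist_antipode_twist_id,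
      LinearMap.comp_id]
  have e2 : ((retr V α).rTensor A ∘ₗ Hoch.Ind.coactAux k A V) ∘ₗ twist V LinearMap.id =
      (proj V α).rTensor A ∘ₗ diag V := by
    rw [LinearMap.comp_assoc, ← twist_id_rTensor_comp_diag, ← LinearMap.comp_assoc,
      ← LinearMap.rTensor_comp, retr, LinearMap.comp_assoc, twist_antipode_twist_id,
      LinearMap.comp_id]
  rw [e1, e2, coact_comp_proj α hα]

end


section Field

variable {k : Type u} [Field k] {A : Type v} [CommRing A] [HopfAlgebra k A]
  {V : Type w} [AddCommGroup V] [Module k V] [HopfRep.Comod k A V]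

local notation "ρ" => HopfRep.Comod.coact (k := k) (A := A) (V := V)
local notation "Δ" => CoalgebraStruct.comul (R := k) (A := A)

omit [HopfRep.Comod k A V] in
theorem coactAux_natural {W : Type w'} [AddCommGroup W] [Module k W] (p : V →ₗ[k] W) :
    Hoch.Ind.coactAux k A W ∘ₗ p.rTensor A = (p.rTensor A).rTensor A ∘ₗ Hoch.Ind.coactAux k A V := by
  refine TensorProduct.ext' fun v a => ?_
  simp only [LinearMap.comp_apply, LinearMap.rTensor_tmul, Hoch.Ind.coactAux_tmul]
  generalize Δ a = u
  induction u using TensorProduct.induction_on with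
  | zero => simp
  | tmul c d => simp
  | add x y hx hy => simp only [TensorProduct.tmul_add, map_add, hx, hy]

theorem coactAux_comp_coact :
    Hoch.Ind.coactAux k A V ∘ₗ ρ = LinearMap.rTensor A ρ ∘ₗ ρ := by
  ext v
  have := coassoc_apply (k := k) (A := A) v
  simp only [LinearMap.comp_apply, Hoch.Ind.coactAux, LinearEquiv.coe_coe]
  rw [← this, LinearEquiv.symm_apply_apply]

/-- If the Hopf algebra `A` has a total integral `α`, every comodule is semisimple. -/
theorem isSemisimpleComod_of_integral (α : A →ₗ[k] k)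
    (hα : ∀ a, α.rTensor A (Δ a) = α a ⊗ₜ[k] (1 : A)) (h1 : α 1 = 1) :
    HopfRep.IsSemisimpleComod k A V := by
  intro W hW
  let cW : HopfRep.Comod k A W := Comod.subComod W hW
  obtain ⟨p, hp⟩ := LinearMap.exists_leftInverse_of_injective W.subtype
    (LinearMap.ker_eq_bot.mpr W.subtype_injective)
  let q : V →ₗ[k] W := retr W α ∘ₗ p.rTensor A ∘ₗ ρ
  have hq : Hoch.IsComodHom A q := by
    unfold Hoch.IsComodHom
    change cW.coact ∘ₗ (retr W α ∘ₗ p.rTensor A ∘ₗ ρ) = q.rTensor A ∘ₗ ρ
    rw [← LinearMap.comp_assoc, coact_comp_retr α hα, LinearMap.comp_assoc,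
      ← LinearMap.comp_assoc _ (p.rTensor A), coactAux_natural, LinearMap.comp_assoc,
      coactAux_comp_coact, ← LinearMap.comp_assoc, ← LinearMap.comp_assoc,
      ← LinearMap.rTensor_comp, ← LinearMap.rTensor_comp, LinearMap.comp_assoc]
  have hqi : ∀ w : W, q w = w := by
    intro w
    change retr W α (p.rTensor A (ρ (w : V))) = w
    rw [← Comod.subComod_coact W hW w, ← LinearMap.comp_apply (LinearMap.rTensor A p),
      ← LinearMap.rTensor_comp, hp, LinearMap.rTensor_id, LinearMap.id_apply]
    exact LinearMap.congr_fun (retr_comp_coact α h1) w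
  exact ⟨LinearMap.ker q, Comod.isSubcomod_ker' hq, LinearMap.isCompl_of_proj hqi⟩

end Field

end Groth.Agent.Lib.Helper25.HopfInt
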