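import Mathlib
import Groth.Agent.Lib.Helper23.FinInjFlat3
import Groth.Agent.Lib.Helper21.FlatDescG
import Groth.Agent.Lib.Helper25.ExactRed

/-!
# Descent of flatness along injective integral ring maps (Stacks 0533) (helper25)
-/

set_option autoImplicit false
set_option linter.unusedSectionVars false
set_option linter.unusedVariables false
set_option linter.style.haveILetI false
universe u

open TensorProduct Function

namespace Groth.Agent.Lib.Helper25.IntFlat

section Core2

variable {R₀ : Type u} [CommRing R₀] (M₀ : Type u) [AddCommGroup M₀] [Module R₀ M₀]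
  (R' S' S'' R : Type u) [CommRing R'] [CommRing S'] [CommRing S''] [CommRing R]
  [Algebra R₀ R'] [Algebra R₀ S'] [Algebra R₀ S''] [Algebra R₀ R]
  [Algebra R' S''] [Algebra S' S''] [Algebra R' R]
  [IsScalarTower R₀ R' S''] [IsScalarTower R₀ S' S''] [IsScalarTower R₀ R' R]
  [IsNoetherianRing R'] [Module.Finite R' S'']

theorem core2 (hinj : Injective (algebraMap R' S'')) [Module.Flat S' (S' ⊗[R₀] M₀)] :
    Module.Flat R (R ⊗[R₀] M₀) := by
  haveI h1 : Module.Flat S'' (S'' ⊗[R₀] M₀) :=
    Module.Flat.of_linearEquiv (AlgebraTensorModule.cancelBaseChange R₀ S' S'' S'' M₀).symm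
  haveI h2 : Module.Flat S'' (S'' ⊗[R'] (R' ⊗[R₀] M₀)) :=
    Module.Flat.of_linearEquiv (AlgebraTensorModule.cancelBaseChange R₀ R' S'' S'' M₀)
  haveI h3 : Module.Flat R' (R' ⊗[R₀] M₀) :=
    Helper23.FIF.flat_of_finite_injective R' S'' hinj (R' ⊗[R₀] M₀)
  exact Module.Flat.of_linearEquiv (AlgebraTensorModule.cancelBaseChange R₀ R' R R M₀).symm

end Core2

section Core

attribute [local instance] MvPolynomial.algebraMvPolynomial

set_option maxHeartbeats 1000000 in
theorem core {R₀ : Type u} [CommRing R₀] [IsNoetherianRing R₀] (n : ℕ)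
    (M₀ : Type u) [AddCommGroup M₀] [Module (MvPolynomial (Fin n) R₀) M₀] [Module R₀ M₀]
    [IsScalarTower R₀ (MvPolynomial (Fin n) R₀) M₀] [Module.Finite (MvPolynomial (Fin n) R₀) M₀]
    (R S : Type u) [CommRing R] [CommRing S] [Algebra R₀ R] [Algebra R S] [Algebra R₀ S]
    [IsScalarTower R₀ R S] [Algebra.IsIntegral R S]
    (hinj : Injective (algebraMap R S)) [Module.Flat S (S ⊗[R₀] M₀)] :
    Module.Flat R (R ⊗[R₀] M₀) := by
  classical
  haveI : Module.Flat S (Helper21.FlatDesc.St R₀ n M₀ S) :=
    Module.Flat.of_linearEquiv (Algebra.IsPushout.cancelBaseChange R₀ S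
      (MvPolynomial (Fin n) R₀) (MvPolynomial (Fin n) S) M₀)
  obtain ⟨S', hfg, hflat⟩ := Helper21.FlatDesc.exists_fg_flat_St (R₀ := R₀) (n := n) M₀ S
  haveI : Module.Flat S' (S' ⊗[R₀] M₀) :=
    Module.Flat.of_linearEquiv (Algebra.IsPushout.cancelBaseChange R₀ S'
      (MvPolynomial (Fin n) R₀) (MvPolynomial (Fin n) S') M₀).symm
  obtain ⟨t, ht⟩ := hfg
  -- monic equations for the generators
  have hint : ∀ s : S, ∃ p : Polynomial R, p.Monic ∧ Polynomial.eval₂ (algebraMap R S) s p = 0 :=
    fun s => Algebra.IsIntegral.isIntegral (R := R) s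
  choose p hpm hp0 using hint
  let C : Finset R := t.biUnion (fun s => (p s).coeffs)
  let R' : Subalgebra R₀ R := Algebra.adjoin R₀ (C : Set R)
  haveI : Algebra.FiniteType R₀ R' :=
    (Subalgebra.fg_iff_finiteType R').mp (Subalgebra.fg_adjoin_finset C)
  haveI : IsNoetherianRing R' := Algebra.FiniteType.isNoetherianRing R₀ R'
  haveI : IsScalarTower R₀ R' S := IsScalarTower.of_algebraMap_eq (fun r => by
    change algebraMap R₀ S r = algebraMap R S (algebraMap R₀ R r)
    exact IsScalarTower.algebraMap_apply R₀ R S r)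
  -- the generators are integral over `R'`
  have hint' : ∀ s ∈ t, IsIntegral R' s := by
    intro s hs
    have hl : p s ∈ Polynomial.lifts (algebraMap R' R) := by
      rw [Polynomial.lifts_iff_coeff_lifts]
      intro k
      by_cases hk : (p s).coeff k = 0
      · exact ⟨0, by rw [map_zero, hk]⟩
      · have hmem : (p s).coeff k ∈ C := by
          refine Finset.mem_biUnion.mpr ⟨s, hs, ?_⟩
          exact Polynomial.coeff_mem_coeffs hk
        exact ⟨⟨(p s).coeff k, Algebra.subset_adjoin hmem⟩, rfl⟩
    obtain ⟨q, hq, -, hqm⟩ := Polynomial.lifts_and_natDegree_eq_and_monic hl (hpm s)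
    refine ⟨q, hqm, ?_⟩
    have h1 : Polynomial.eval₂ (algebraMap R S) s (q.map (algebraMap R' R)) = 0 := by
      rw [hq]; exact hp0 s
    rw [Polynomial.eval₂_map] at h1
    exact h1
  let S'' : Subalgebra R' S := Algebra.adjoin R' (t : Set S)
  haveI : Module.Finite R' S'' :=
    Algebra.finite_adjoin_of_finite_of_isIntegral t.finite_toSet hint'
  have hle : ∀ x ∈ S', x ∈ S'' := by
    intro x hx
    rw [← ht] at hx
    refine Algebra.adjoin_induction (p := fun x _ => x ∈ S'') ?_ ?_ ?_ ?_ hx
    · intro y hy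
      exact Algebra.subset_adjoin hy
    · intro r
      have : algebraMap R₀ S r = algebraMap R' S (algebraMap R₀ R' r) :=
        IsScalarTower.algebraMap_apply R₀ R' S r
      rw [this]
      exact Subalgebra.algebraMap_mem S'' _
    · intro x y _ _ hx hy
      exact Subalgebra.add_mem _ hx hy
    · intro x y _ _ hx hy
      exact Subalgebra.mul_mem _ hx hy
  let ι : S' →+* S'' :=
    { toFun := fun x => ⟨x.1, hle x.1 x.2⟩
      map_one' := rfl
      map_mul' := fun _ _ => rfl
      map_zero' := rfl
      map_add' := fun _ _ => rfl }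
  letI : Algebra S' S'' := ι.toAlgebra
  letI : Algebra R₀ S'' := ((algebraMap R' S'').comp (algebraMap R₀ R')).toAlgebra
  haveI : IsScalarTower R₀ R' S'' := IsScalarTower.of_algebraMap_eq (fun r => rfl)
  haveI : IsScalarTower R₀ S' S'' := IsScalarTower.of_algebraMap_eq (fun r => by
    apply Subtype.ext
    change algebraMap R' S (algebraMap R₀ R' r) = algebraMap R₀ S r
    exact (IsScalarTower.algebraMap_apply R₀ R' S r).symm)
  have hinj' : Injective (algebraMap R' S'') := by
    intro x y hxy
    have h1 : algebraMap R S (x : R) = algebraMap R S (y : R) := congrArg Subtype.val hxy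
    exact Subtype.ext (hinj h1)
  exact core2 M₀ R' S' S'' R hinj'

end Core

section Main

open Groth.Agent.Lib.Helper29.FPModel Groth.Agent.Lib.Helper25.ExactModel
  Groth.Agent.Lib.Helper25.ExactRed

attribute [local instance] MvPolynomial.algebraMvPolynomial

set_option maxHeartbeats 1000000 in
/-- **Stacks 0533**: flatness of a finitely presented module over a polynomial ring descends along
injective integral ring maps. -/
theorem main (R S : Type u) [CommRing R] [CommRing S] [Algebra R S] [Algebra.IsIntegral R S]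
    (hinj : Injective (algebraMap R S)) (n : ℕ)
    (M : Type u) [AddCommGroup M] [Module (MvPolynomial (Fin n) R) M] [Module R M]
    [IsScalarTower R (MvPolynomial (Fin n) R) M]
    [Module.FinitePresentation (MvPolynomial (Fin n) R) M]
    [Module.Flat S (S ⊗[R] M)] : Module.Flat R M := by
  obtain ⟨a, m, g, ⟨e⟩⟩ := exists_equiv_qm (B := MvPolynomial (Fin n) R) M
  obtain ⟨R₀, hfg, g₀, -, -, -, -, -, -, rfl, -, -, -, -⟩ :=
    exists_model n g g g 0 0
      (fun k => by rw [Matrix.zero_mulVec]; exact Submodule.zero_mem _)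
      (fun k => by rw [Matrix.zero_mulVec]; exact Submodule.zero_mem _)
  haveI : Algebra.FiniteType ℤ R₀ := (Subalgebra.fg_iff_finiteType R₀).mp hfg
  haveI : IsNoetherianRing R₀ := Algebra.FiniteType.isNoetherianRing ℤ R₀
  have hbc : IsBaseChange R
      ((quotMap (B := MvPolynomial (Fin n) R) a g₀).restrictScalars R₀) :=
    isBaseChange_restrictScalars (isBaseChange_quotMap a g₀)
  -- the module `M` is the base change of the model
  let e1 : R ⊗[R₀] QM g₀ ≃ₗ[R] M := hbc.equiv ≪≫ₗ (e.restrictScalars R).symm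
  haveI : IsScalarTower R₀ R S := IsScalarTower.of_algebraMap_eq (fun r => rfl)
  haveI : Module.Flat S (S ⊗[R₀] QM g₀) := by
    have e2 : S ⊗[R₀] QM g₀ ≃ₗ[S] S ⊗[R] M :=
      (AlgebraTensorModule.cancelBaseChange R₀ R S S (QM g₀)).symm ≪≫ₗ
        LinearEquiv.baseChange R S _ _ e1
    exact Module.Flat.of_linearEquiv e2
  haveI : Module.Flat R (R ⊗[R₀] QM g₀) := core n (QM g₀) R S hinj
  exact Module.Flat.of_linearEquiv e1.symm

end Main

end Groth.Agent.Lib.Helper25.IntFlat
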