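import Mathlib
import Groth.Agent.Lib.Helper25.IntFlat
import Groth.Agent.Lib.Helper21.FlatDescK
import Groth.Agent.Lib.Helper24.PtFlat.Basic

/-!
# Pointwise descent of flatness along an injective integral base change (EGA IV 11.5.?) (helper25)
-/

set_option autoImplicit false
set_option linter.unusedSectionVars false
set_option linter.unusedVariables false
set_option linter.style.haveILetI false
universe u

open TensorProduct Function CategoryTheory CategoryTheory.Limits AlgebraicGeometry

namespace Groth.Agent.Lib.Helper25.IntFlatSch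

section Ring

variable {A A' B : Type u} [CommRing A] [CommRing A'] [CommRing B] [Algebra A A']
  [Algebra.IsIntegral A A'] [Algebra A B] [Algebra.FinitePresentation A B]

/-- flatness of a finitely presented algebra descends along injective integral maps -/
theorem flat_algebra (hinj : Injective (algebraMap A A')) [Module.Flat A' (A' ⊗[A] B)] :
    Module.Flat A B := by
  obtain ⟨n, π, hπ, hker⟩ := Algebra.FinitePresentation.out (R := A) (A := B)
  letI : Algebra (MvPolynomial (Fin n) A) B := π.toRingHom.toAlgebra
  haveI : IsScalarTower A (MvPolynomial (Fin n) A) B :=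
    IsScalarTower.of_algebraMap_eq (fun r => (π.commutes r).symm)
  haveI : Module.FinitePresentation (MvPolynomial (Fin n) A) B := by
    refine Module.finitePresentation_of_surjective
      (Algebra.linearMap (MvPolynomial (Fin n) A) B) hπ ?_
    exact hker
  exact Groth.Agent.Lib.Helper25.IntFlat.main A A' hinj n B

end Ring

section Swap

variable {A A' B : Type u} [CommRing A] [CommRing A'] [CommRing B] [Algebra A A'] [Algebra A B]

/-- `RingHom.Flat` of `a' ↦ 1 ⊗ a'` gives flatness of `A' ⊗ B` over `A'` -/
theorem flat_of_includeRight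
    (h : (Algebra.TensorProduct.includeRight : A' →ₐ[A] B ⊗[A] A').toRingHom.Flat) :
    Module.Flat A' (A' ⊗[A] B) := by
  letI : Algebra A' (B ⊗[A] A') :=
    (Algebra.TensorProduct.includeRight : A' →ₐ[A] B ⊗[A] A').toRingHom.toAlgebra
  haveI : Module.Flat A' (B ⊗[A] A') := h
  let e : A' ⊗[A] B ≃ₗ[A'] B ⊗[A] A' :=
    { (TensorProduct.comm A A' B) with
      map_smul' := by
        intro a z
        induction z using TensorProduct.induction_on with
        | zero => simp
        | tmul c b =>
          change (TensorProduct.comm A A' B) (a • (c ⊗ₜ[A] b)) =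
            ((1 : B) ⊗ₜ[A] a) * (TensorProduct.comm A A' B) (c ⊗ₜ[A] b)
          rw [TensorProduct.smul_tmul', TensorProduct.comm_tmul, TensorProduct.comm_tmul,
            Algebra.TensorProduct.tmul_mul_tmul, one_mul, smul_eq_mul]
        | add x y hx hy =>
          change (TensorProduct.comm A A' B) (a • (x + y)) =
            a • (TensorProduct.comm A A' B) (x + y)
          change (TensorProduct.comm A A' B) (a • x) = a • (TensorProduct.comm A A' B) x at hx
          change (TensorProduct.comm A A' B) (a • y) = a • (TensorProduct.comm A A' B) y at hy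
          rw [smul_add, map_add, map_add, smul_add, hx, hy] }
  exact Module.Flat.of_linearEquiv e

end Swap

section Sch

open Groth.Agent.Lib.Helper24.PtFlat

variable {A A' : Type u} [CommRing A] [CommRing A'] [Algebra A A'] [Algebra.IsIntegral A A']

theorem flat_stalkMap_of_isOpenImmersion {X Y : Scheme.{u}} (k : X ⟶ Y) [IsOpenImmersion k]
    (y : X) : (k.stalkMap y).hom.Flat :=
  RingHom.Flat.of_bijective (ConcreteCategory.bijective_of_isIso (k.stalkMap y))

set_option maxHeartbeats 1000000 in
/-- **EGA IV 11.5-type**: pointwise descent of flatness along an injective integral base change. -/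
theorem main (hinj : Injective (algebraMap A A'))
    {X : Scheme.{u}} (f : X ⟶ Spec (CommRingCat.of A)) [LocallyOfFinitePresentation f] (x : X)
    (h : ∀ x' : ↥(pullback f (Spec.map (CommRingCat.ofHom (algebraMap A A')))),
      (pullback.fst f _).base x' = x →
      ((pullback.snd f (Spec.map (CommRingCat.ofHom (algebraMap A A')))).stalkMap x').hom.Flat) :
    (f.stalkMap x).hom.Flat := by
  set s : Spec (CommRingCat.of A') ⟶ Spec (CommRingCat.of A) :=
    Spec.map (CommRingCat.ofHom (algebraMap A A')) with hs
  haveI : IsIntegralHom s := by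
    rw [hs, IsIntegralHom.SpecMap_iff]
    exact algebraMap_isIntegral_iff.mpr inferInstance
  set g := pullback.fst f s with hg
  set f' := pullback.snd f s with hf'
  have hU : IsOpen {x' | (f'.stalkMap x').hom.Flat} :=
    Groth.Agent.Lib.Helper21.FlatDesc.isOpen_flat_locus f'
  have hZ : IsClosed (g.base '' {x' | (f'.stalkMap x').hom.Flat}ᶜ) :=
    g.isClosedMap _ hU.isClosed_compl
  have hxZ : x ∉ g.base '' {x' | (f'.stalkMap x').hom.Flat}ᶜ := by
    rintro ⟨x', hx', rfl⟩
    exact hx' (h x' rfl)
  obtain ⟨W, hW, hxW, hWV⟩ := (TopologicalSpace.Opens.isBasis_iff_nbhd.mp X.isBasis_affineOpens)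
    (show x ∈ (⟨_, hZ.isOpen_compl⟩ : X.Opens) from hxZ)
  have hWa : IsAffineOpen W := hW
  set j : Spec Γ(X, W) ⟶ X := hWa.fromSpec with hj
  have hjr : Set.range j.base = (W : Set X) := hWa.range_fromSpec
  obtain ⟨y₀, hy₀⟩ : ∃ y₀, j.base y₀ = x := by
    have : x ∈ Set.range j.base := by rw [hjr]; exact hxW
    exact this
  -- the ring map
  set ψ : CommRingCat.of A ⟶ Γ(X, W) := Spec.preimage (j ≫ f) with hψ
  have hψm : Spec.map ψ = j ≫ f := Spec.map_preimage _
  letI : Algebra A Γ(X, W) := ψ.hom.toAlgebra
  have hψ' : Spec.map (CommRingCat.ofHom (algebraMap A Γ(X, W))) = j ≫ f := hψm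
  haveI : LocallyOfFinitePresentation (Spec.map ψ) := by rw [hψm]; infer_instance
  haveI : Algebra.FinitePresentation A Γ(X, W) := by
    have h1 : ψ.hom.FinitePresentation :=
      (HasRingHomProperty.Spec_iff (P := @LocallyOfFinitePresentation)).mp inferInstance
    exact RingHom.finitePresentation_algebraMap.mp h1
  -- the open immersion of the pullbacks
  let k : pullback (Spec.map ψ) s ⟶ pullback f s :=
    pullback.map (Spec.map ψ) s f s j (𝟙 _) (𝟙 _) (by rw [Category.comp_id, hψm])
      (by rw [Category.comp_id, Category.id_comp])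
  have hk1 : k ≫ g = pullback.fst (Spec.map ψ) s ≫ j := by
    simp only [k, hg, pullback.lift_fst, pullback.map]
  have hk2 : k ≫ f' = pullback.snd (Spec.map ψ) s := by
    simp only [k, hf', pullback.lift_snd, pullback.map, Category.comp_id]
  haveI : Flat (pullback.snd (Spec.map ψ) s) := by
    rw [Flat.iff_flat_stalkMap]
    intro y
    refine flat_stalkMap_of_eq hk2.symm y ?_
    refine flat_stalkMap_comp k f' y (flat_stalkMap_of_isOpenImmersion k y) ?_
    by_contra hcon
    have h1 : g.base (k.base y) ∈ g.base '' {x' | (f'.stalkMap x').hom.Flat}ᶜ :=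
      ⟨k.base y, hcon, rfl⟩
    have h2 : g.base (k.base y) = j.base ((pullback.fst (Spec.map ψ) s).base y) := by
      rw [← Scheme.Hom.comp_apply, ← Scheme.Hom.comp_apply, hk1]
    have h3 : g.base (k.base y) ∈ (W : Set X) := by
      rw [h2, ← hjr]
      exact ⟨_, rfl⟩
    exact hWV h3 h1
  -- ring level
  have hfl : (Algebra.TensorProduct.includeRight : A' →ₐ[A] Γ(X, W) ⊗[A] A').toRingHom.Flat := by
    have h1 : Flat (Spec.map (CommRingCat.ofHom (RingHomClass.toRingHom
        (Algebra.TensorProduct.includeRight : A' →ₐ[A] Γ(X, W) ⊗[A] A')))) := by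
      have := pullbackSpecIso_inv_snd A Γ(X, W) A'
      rw [← this]
      infer_instance
    exact Flat.SpecMap_iff.mp h1
  haveI : Module.Flat A' (A' ⊗[A] Γ(X, W)) := flat_of_includeRight hfl
  have hflat : Module.Flat A Γ(X, W) := flat_algebra (A' := A') hinj
  haveI : Flat (j ≫ f) := by
    rw [← hψm, Flat.SpecMap_iff]
    exact hflat
  have h4 : ((j ≫ f).stalkMap y₀).hom.Flat := Flat.stalkMap (j ≫ f) y₀
  have h5 := flat_stalkMap_of_comp j f y₀ (flat_stalkMap_of_isOpenImmersion j y₀) h4
  exact flat_stalkMap_of_eq_point f hy₀ h5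

end Sch

end Groth.Agent.Lib.Helper25.IntFlatSch
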