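import Mathlib

/-!
# helper25 — IntTower: `Spec K` as the cofiltered limit of the spectra of the finitely generated
`ℤ`-subalgebras of `K` (subalgebras over `ℤ` itself, no universe lift).
-/

set_option autoImplicit false
set_option linter.unusedSectionVars false
set_option linter.unusedVariables false
set_option linter.style.haveILetI false
universe u

open CategoryTheory CategoryTheory.Limits AlgebraicGeometry

namespace Groth.Agent.Lib.Helper25.IntTower

variable (K : Type u) [CommRing K]

/-- the diagram of `ℤ`-subalgebras generated by finite subsets -/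
noncomputable def fgDiag : Finset K ⥤ CommRingCat.{u} where
  obj s := CommRingCat.of (Algebra.adjoin ℤ (s : Set K))
  map {s t} f := CommRingCat.ofHom
    (Subalgebra.inclusion (Algebra.adjoin_mono (Finset.coe_subset.mpr (leOfHom f)))).toRingHom
  map_id s := by ext x; rfl
  map_comp f g := by ext x; rfl

/-- the cocone with vertex `K` -/
noncomputable def fgCocone : Cocone (fgDiag K) where
  pt := CommRingCat.of K
  ι :=
    { app := fun s => CommRingCat.ofHom (Algebra.adjoin ℤ (s : Set K)).val.toRingHom
      naturality := fun s t f => by ext x; rfl }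

/-- `K` is the filtered colimit of its finitely generated subalgebras -/
noncomputable def fgIsColimit : IsColimit (fgCocone K) := by
  haveI : ReflectsColimit (fgDiag K) (forget CommRingCat.{u}) :=
    reflectsColimit_of_reflectsIsomorphisms _ _
  apply isColimitOfReflects (forget CommRingCat.{u})
  apply Types.FilteredColimit.isColimitOf
  · intro x
    exact ⟨{x}, ⟨x, Algebra.subset_adjoin (Finset.mem_coe.mpr (Finset.mem_singleton_self x))⟩, rfl⟩
  · intro s t x y hxy
    classical
    refine ⟨s ∪ t, homOfLE Finset.subset_union_left, homOfLE Finset.subset_union_right, ?_⟩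
    apply Subtype.ext
    exact hxy

/-- the diagram of spectra -/
noncomputable def specDiag : (Finset K)ᵒᵖ ⥤ Scheme.{u} := (fgDiag K).op ⋙ Scheme.Spec

/-- the cone with vertex `Spec K` -/
noncomputable def specCone : Cone (specDiag K) := Scheme.Spec.mapCone (fgCocone K).op

/-- it is a limit cone -/
noncomputable def specIsLimit : IsLimit (specCone K) :=
  isLimitOfPreserves Scheme.Spec (fgIsColimit K).op

instance (s : (Finset K)ᵒᵖ) : IsAffine ((specDiag K).obj s) := by
  dsimp [specDiag]; infer_instance

instance {s t : (Finset K)ᵒᵖ} (f : s ⟶ t) : IsAffineHom ((specDiag K).map f) := by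
  infer_instance

lemma specCone_pt : (specCone K).pt = Spec (CommRingCat.of K) := rfl

lemma specDiag_obj (s : (Finset K)ᵒᵖ) :
    (specDiag K).obj s = Spec (CommRingCat.of ↥(Algebra.adjoin ℤ (s.unop : Set K))) := rfl

lemma specCone_π_app (s : (Finset K)ᵒᵖ) :
    (specCone K).π.app s =
      Spec.map (CommRingCat.ofHom (Algebra.adjoin ℤ (s.unop : Set K)).val.toRingHom) := rfl

lemma fg_stage (s : (Finset K)ᵒᵖ) : (Algebra.adjoin ℤ (s.unop : Set K)).FG :=
  Subalgebra.fg_adjoin_finset s.unop

instance isNoetherian_stage (s : (Finset K)ᵒᵖ) : IsNoetherian ((specDiag K).obj s) := by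
  have h1 : Algebra.FiniteType ℤ (Algebra.adjoin ℤ (s.unop : Set K)) :=
    ⟨(Subalgebra.fg_top _).mpr (Subalgebra.fg_adjoin_finset s.unop)⟩
  haveI : IsNoetherianRing (Algebra.adjoin ℤ (s.unop : Set K)) :=
    Algebra.FiniteType.isNoetherianRing ℤ _
  change IsNoetherian (Spec (CommRingCat.of (Algebra.adjoin ℤ (s.unop : Set K))))
  infer_instance

end Groth.Agent.Lib.Helper25.IntTower
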