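import Groth.Agent.Lib.Helper26.ComodIntegral
import Groth.Agent.Lib.Helper25.HopfInt
import Mathlib.RingTheory.HopfAlgebra.TensorProduct

/-! Base change and descent of normalized integrals along a field extension. -/

set_option autoImplicit false
universe u

open TensorProduct

namespace Groth.Agent.Lib.Helper25.IntegralBC

open HopfRep

section
variable (k A : Type u) [Field k] [CommRing A] [HopfAlgebra k A]
  (K : Type u) [Field K] [Algebra k K]

/-- base change of a normalized integral to a field extension -/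
theorem exists_integral_baseChange
    (I : A →ₗ[k] k) (hI1 : I 1 = 1)
    (hI : ∀ a : A, TensorProduct.lid k A (I.rTensor A (Coalgebra.comul a)) = I a • (1 : A)) :
    ∃ I' : K ⊗[k] A →ₗ[K] K, I' 1 = 1 ∧
      ∀ a' : K ⊗[k] A, I'.rTensor (K ⊗[k] A) (CoalgebraStruct.comul (R := K) a') =
        I' a' ⊗ₜ[K] (1 : K ⊗[k] A) := by
  let I' : K ⊗[k] A →ₗ[K] K := LinearMap.liftBaseChange K ((Algebra.linearMap k K) ∘ₗ I)
  have hI' : ∀ (y : K) (a : A), I' (y ⊗ₜ[k] a) = y * algebraMap k K (I a) := fun y a => by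
    simp [I']
  refine ⟨I', ?_, ?_⟩
  · rw [Algebra.TensorProduct.one_def, hI', hI1, map_one, mul_one]
  · intro a'
    have key : ∀ (x : K) (z : A ⊗[k] A),
        I'.rTensor (K ⊗[k] A) (AlgebraTensorModule.tensorTensorTensorComm k K k K K K A A
          (((1 : K) ⊗ₜ[K] x) ⊗ₜ[k] z)) =
        (1 : K) ⊗ₜ[K] (x ⊗ₜ[k] (TensorProduct.lid k A (I.rTensor A z))) := by
      intro x z
      induction z using TensorProduct.induction_on with
      | zero => simp
      | tmul a₁ a₂ =>
        rw [AlgebraTensorModule.tensorTensorTensorComm_tmul, LinearMap.rTensor_tmul, hI', one_mul,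
          LinearMap.rTensor_tmul, TensorProduct.lid_tmul]
        rw [Algebra.algebraMap_eq_smul_one, TensorProduct.tmul_smul, TensorProduct.tmul_smul,
          ← TensorProduct.smul_tmul']
      | add z₁ z₂ h₁ h₂ =>
        simp only [TensorProduct.tmul_add, map_add, h₁, h₂]
    induction a' using TensorProduct.induction_on with
    | zero => simp
    | tmul x a =>
      rw [TensorProduct.comul_tmul]
      have hx : CoalgebraStruct.comul (R := K) x = (1 : K) ⊗ₜ[K] x := rfl
      rw [hx, key, hI, hI']
      have h1 : x ⊗ₜ[k] (I a • (1 : A)) = (x * algebraMap k K (I a)) • (1 : K ⊗[k] A) := by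
        rw [Algebra.TensorProduct.one_def, TensorProduct.smul_tmul', smul_eq_mul, mul_one,
          TensorProduct.tmul_smul, TensorProduct.smul_tmul', Algebra.smul_def, mul_comm]
      rw [h1, TensorProduct.tmul_smul, TensorProduct.smul_tmul', smul_eq_mul, mul_one]
    | add x y hx hy =>
      simp only [map_add, hx, hy, TensorProduct.add_tmul]

/-- descent of a normalized integral along a field extension -/
theorem exists_integral_descent
    (I' : K ⊗[k] A →ₗ[K] K) (hI'1 : I' 1 = 1)
    (hI' : ∀ a' : K ⊗[k] A, TensorProduct.lid K (K ⊗[k] A)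
      (I'.rTensor (K ⊗[k] A) (CoalgebraStruct.comul (R := K) a')) = I' a' • (1 : K ⊗[k] A)) :
    ∃ I : A →ₗ[k] k, I 1 = 1 ∧
      ∀ a : A, I.rTensor A (CoalgebraStruct.comul (R := k) a) = I a ⊗ₜ[k] (1 : A) := by
  obtain ⟨r, hr⟩ := LinearMap.exists_leftInverse_of_injective (Algebra.linearMap k K)
    (LinearMap.ker_eq_bot.mpr (algebraMap k K).injective)
  have hr1 : r 1 = 1 := by
    have := LinearMap.congr_fun hr 1
    simpa using this
  let j : A →ₗ[k] K ⊗[k] A := (TensorProduct.mk k K A) 1
  let I : A →ₗ[k] k := r ∘ₗ (I'.restrictScalars k) ∘ₗ j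
  have hIa : ∀ a, I a = r (I' ((1 : K) ⊗ₜ[k] a)) := fun a => rfl
  refine ⟨I, ?_, ?_⟩
  · rw [hIa, ← Algebra.TensorProduct.one_def, hI'1, hr1]
  · intro a
    have key : ∀ z : A ⊗[k] A,
        LinearMap.rTensor A r (TensorProduct.lid K (K ⊗[k] A)
          (I'.rTensor (K ⊗[k] A) (AlgebraTensorModule.tensorTensorTensorComm k K k K K K A A
            (((1 : K) ⊗ₜ[K] (1 : K)) ⊗ₜ[k] z)))) = I.rTensor A z := by
      intro z
      induction z using TensorProduct.induction_on with
      | zero => simp
      | tmul a₁ a₂ =>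
        rw [AlgebraTensorModule.tensorTensorTensorComm_tmul, LinearMap.rTensor_tmul,
          TensorProduct.lid_tmul, TensorProduct.smul_tmul', smul_eq_mul, mul_one,
          LinearMap.rTensor_tmul, LinearMap.rTensor_tmul, hIa]
      | add z₁ z₂ h₁ h₂ =>
        simp only [TensorProduct.tmul_add, map_add, h₁, h₂]
    have h2 := hI' ((1 : K) ⊗ₜ[k] a)
    rw [TensorProduct.comul_tmul] at h2
    have hx : CoalgebraStruct.comul (R := K) (1 : K) = (1 : K) ⊗ₜ[K] (1 : K) := rfl
    rw [hx] at h2
    rw [← key, h2, Algebra.TensorProduct.one_def, TensorProduct.smul_tmul', smul_eq_mul, mul_one,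
      LinearMap.rTensor_tmul, hIa]

end

end Groth.Agent.Lib.Helper25.IntegralBC
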