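import Groth.Agent.Lib.Helper25.HopfInt
import Mathlib

/-! Invariant idempotents and division for multiplicative coactions of a commutative Hopf algebra
over a field. -/

set_option autoImplicit false
set_option linter.unusedSectionVars false
universe u v w
open TensorProduct

namespace Groth.Agent.Lib.Helper25.InvIdem

open HopfRep Groth.Agent.Lib.Helper25.HopfInt

section
variable {k : Type u} [Field k] {H : Type v} [CommRing H] [Algebra k H]
  {S : Type w} [CommRing S] [Algebra k S]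

theorem rTensor_mulLeft (c : S) (t : S ⊗[k] H) :
    (LinearMap.mulLeft k c).rTensor H t = (c ⊗ₜ[k] (1 : H)) * t := by
  induction t using TensorProduct.induction_on with
  | zero => simp
  | tmul s h => simp [Algebra.TensorProduct.tmul_mul_tmul]
  | add x y hx hy => rw [map_add, hx, hy, mul_add]

/-- a non-zero-divisor `c` of `S` gives a non-zero-divisor `c ⊗ 1` of `S ⊗ H` -/
theorem nzd_tmul {c : S} (hc : ∀ s, c * s = 0 → s = 0) {t : S ⊗[k] H}
    (ht : (c ⊗ₜ[k] (1 : H)) * t = 0) : t = 0 := by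
  have hinj : Function.Injective (LinearMap.mulLeft k c) := by
    rw [injective_iff_map_eq_zero]
    intro s hs
    exact hc s hs
  have := Module.Flat.rTensor_preserves_injective_linearMap (M := H) _ hinj
  apply this
  rw [rTensor_mulLeft, ht, map_zero]

theorem lTensor_mulRight (h : H) (z : S ⊗[k] H) :
    (LinearMap.mulRight k h).lTensor S z = z * ((1 : S) ⊗ₜ[k] h) := by
  induction z using TensorProduct.induction_on with
  | zero => simp
  | tmul s h' => simp [Algebra.TensorProduct.tmul_mul_tmul]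
  | add x y hx hy => rw [map_add, hx, hy, add_mul]

end

section
variable {k : Type u} [Field k] {H : Type v} [CommRing H] [HopfAlgebra k H]
  {S : Type w} [CommRing S] [Algebra k S] [HopfRep.Comod k H S]

local notation "ρ" => HopfRep.Comod.coact (k := k) (A := H) (V := S)

/-- `θ (s ⊗ h) = ρ s * (1 ⊗ h)` -/
theorem theta_tmul (s : S) (h : H) :
    twist S (LinearMap.id : H →ₗ[k] H) (s ⊗ₜ[k] h) = ρ s * ((1 : S) ⊗ₜ[k] h) := by
  rw [twist_tmul', LinearMap.comp_id, lTensor_mulRight]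

theorem theta_mul (hmul : ∀ x y : S, ρ (x * y) = ρ x * ρ y) (x y : S ⊗[k] H) :
    twist S (LinearMap.id : H →ₗ[k] H) (x * y) =
      twist S (LinearMap.id : H →ₗ[k] H) x * twist S (LinearMap.id : H →ₗ[k] H) y := by
  induction x using TensorProduct.induction_on with
  | zero => simp
  | add x₁ x₂ h₁ h₂ => rw [add_mul, map_add, h₁, h₂, map_add, add_mul]
  | tmul s h =>
    induction y using TensorProduct.induction_on with
    | zero => simp
    | add y₁ y₂ h₁ h₂ => rw [mul_add, map_add, h₁, h₂, map_add, mul_add]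
    | tmul s' h' =>
      rw [Algebra.TensorProduct.tmul_mul_tmul, theta_tmul, theta_tmul, theta_tmul, hmul]
      have : ((1 : S) ⊗ₜ[k] (h * h')) = ((1 : S) ⊗ₜ[k] h) * ((1 : S) ⊗ₜ[k] h') := by
        rw [Algebra.TensorProduct.tmul_mul_tmul, one_mul]
      rw [this]
      ring

theorem theta_injective : Function.Injective (twist S (LinearMap.id : H →ₗ[k] H)) := by
  intro x y hxy
  have := congrArg (twist S (HopfAlgebra.antipode k (A := H))) hxy
  rwa [← LinearMap.comp_apply, ← LinearMap.comp_apply, twist_antipode_twist_id] at this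

theorem theta_surjective : Function.Surjective (twist S (LinearMap.id : H →ₗ[k] H)) := by
  intro y
  refine ⟨twist S (HopfAlgebra.antipode k (A := H)) y, ?_⟩
  rw [← LinearMap.comp_apply, twist_id_twist_antipode, LinearMap.id_apply]

/-- the support idempotent of an invariant is invariant -/
theorem coact_idem_of_invariant (hmul : ∀ x y : S, ρ (x * y) = ρ x * ρ y) (hone : ρ (1 : S) = 1)
    {a f : S} (ha : ρ a = a ⊗ₜ[k] (1 : H)) (hf : f * f = f)
    (haf : a * f = a) (hnzd : ∀ s, (a + 1 - f) * s = 0 → s = 0) :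
    ρ f = f ⊗ₜ[k] (1 : H) := by
  set θ := twist S (LinearMap.id : H →ₗ[k] H) with hθ
  have hθa : θ (a ⊗ₜ[k] (1 : H)) = a ⊗ₜ[k] (1 : H) := by
    rw [hθ, theta_tmul, ha, ← Algebra.TensorProduct.one_def, mul_one]
  have hθf : θ (f ⊗ₜ[k] (1 : H)) = ρ f := by
    rw [hθ, theta_tmul, ← Algebra.TensorProduct.one_def, mul_one]
  have hθ1 : θ 1 = 1 := by
    rw [Algebra.TensorProduct.one_def, hθ, theta_tmul, hone, ← Algebra.TensorProduct.one_def,
      mul_one]
  -- annihilator claim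
  have hann : ∀ x : S ⊗[k] H, x * (a ⊗ₜ[k] (1 : H)) = 0 → x * (f ⊗ₜ[k] (1 : H)) = 0 := by
    intro x hx
    apply nzd_tmul hnzd
    have h1 : ((a + 1 - f) ⊗ₜ[k] (1 : H)) * (x * (f ⊗ₜ[k] (1 : H))) =
        x * (((a + 1 - f) * f) ⊗ₜ[k] (1 : H)) := by
      rw [mul_comm, mul_assoc, Algebra.TensorProduct.tmul_mul_tmul, mul_one, mul_comm f]
    have h2 : (a + 1 - f) * f = a := by
      rw [sub_mul, add_mul, one_mul, hf, haf, add_sub_cancel_right]
    rw [h1, h2, hx]
  set P : S ⊗[k] H := (1 - f) ⊗ₜ[k] (1 : H) with hP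
  have hP' : P = 1 - f ⊗ₜ[k] (1 : H) := by
    rw [hP, TensorProduct.sub_tmul, ← Algebra.TensorProduct.one_def]
  have hPa : P * (a ⊗ₜ[k] (1 : H)) = 0 := by
    rw [hP, Algebra.TensorProduct.tmul_mul_tmul, sub_mul, one_mul, mul_comm f a, haf, sub_self,
      TensorProduct.zero_tmul]
  have hθP : θ P = 1 - ρ f := by
    rw [hP', map_sub, hθ1, hθf]
  -- (α): (1 - ρ f) * (f ⊗ 1) = 0
  have hα : (1 - ρ f) * (f ⊗ₜ[k] (1 : H)) = 0 := by
    rw [← hθP]
    apply hann
    rw [← hθa, ← theta_mul hmul, hPa, map_zero]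
  -- (β): P * ρ f = 0
  have hβ : P * ρ f = 0 := by
    obtain ⟨x, hx⟩ := theta_surjective (k := k) (H := H) (S := S) P
    have hxa : x * (a ⊗ₜ[k] (1 : H)) = 0 := by
      apply theta_injective (k := k) (H := H) (S := S)
      rw [theta_mul hmul, hx, ← hθ, hθa, hPa, map_zero]
    have := hann x hxa
    have h2 := congrArg θ this
    rw [hθ, theta_mul hmul, hx, ← hθ, hθf, map_zero] at h2
    exact h2
  rw [hP', sub_mul, one_mul, sub_eq_zero] at hβ
  rw [sub_mul, one_mul, sub_eq_zero] at hα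
  rw [hβ, mul_comm, ← hα]

/-- division: if `b`, `f` and `b * s` are invariant, `s = s * f` and `b + 1 - f` is a
non-zero-divisor, then `s` is invariant. -/
theorem coact_of_mul_invariant (hmul : ∀ x y : S, ρ (x * y) = ρ x * ρ y) {b f s : S} (hb : ρ b = b ⊗ₜ[k] (1 : H))
    (hf : ρ f = f ⊗ₜ[k] (1 : H)) (hsf : s * f = s) (hbs : ρ (b * s) = (b * s) ⊗ₜ[k] (1 : H))
    (hnzd : ∀ s, (b + 1 - f) * s = 0 → s = 0) :
    ρ s = s ⊗ₜ[k] (1 : H) := by
  rw [← sub_eq_zero]
  apply nzd_tmul hnzd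
  have h1 : (b ⊗ₜ[k] (1 : H)) * (ρ s - s ⊗ₜ[k] (1 : H)) = 0 := by
    rw [mul_sub, ← hb, ← hmul, hbs, hb, Algebra.TensorProduct.tmul_mul_tmul, mul_one, sub_self]
  have h2 : (f ⊗ₜ[k] (1 : H)) * (ρ s - s ⊗ₜ[k] (1 : H)) = ρ s - s ⊗ₜ[k] (1 : H) := by
    rw [mul_sub, ← hf, ← hmul, hf, Algebra.TensorProduct.tmul_mul_tmul, mul_one, mul_comm f s, hsf]
  have h3 : ((b + 1 - f) ⊗ₜ[k] (1 : H)) = b ⊗ₜ[k] (1 : H) + 1 - f ⊗ₜ[k] (1 : H) := by
    rw [TensorProduct.sub_tmul, TensorProduct.add_tmul, ← Algebra.TensorProduct.one_def]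
  rw [h3, sub_mul, add_mul, one_mul, h1, h2, zero_add, sub_self]

end

end Groth.Agent.Lib.Helper25.InvIdem
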