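import Mathlib

namespace Groth.Agent.Lib.Helper25.InvRank

open TensorProduct

/-- Strict comparison of the `-1` and `+1` eigenspaces of a base-changed endomorphism,
from linear data over the base ring. -/
theorem strict_lt {S K M : Type*} [CommRing S] [Field K] [Algebra S K] [AddCommGroup M] [Module S M]
    [Module.Finite S M]
    (t U W D : M →ₗ[S] M) (φ : M →ₗ[S] S) (z : M)
    (h1 : t ∘ₗ U = -(U ∘ₗ t))
    (h2 : W ∘ₗ U + W ∘ₗ U = LinearMap.id + LinearMap.id - D ∘ₗ (LinearMap.id + t))
    (h3 : φ ∘ₗ U = 0) (h4 : t z = z) (h5 : φ z = 1) (h2K : (2 : K) ≠ 0) :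
    Module.finrank K (LinearMap.ker (t.baseChange K + LinearMap.id)) <
      Module.finrank K (LinearMap.ker (t.baseChange K - LinearMap.id)) := by
  have H1 : t.baseChange K ∘ₗ U.baseChange K = -(U.baseChange K ∘ₗ t.baseChange K) := by
    rw [← LinearMap.baseChange_comp, h1, LinearMap.baseChange_neg, LinearMap.baseChange_comp]
  have H2 : W.baseChange K ∘ₗ U.baseChange K + W.baseChange K ∘ₗ U.baseChange K =
      LinearMap.id + LinearMap.id - D.baseChange K ∘ₗ (LinearMap.id + t.baseChange K) := by
    rw [← LinearMap.baseChange_comp, ← LinearMap.baseChange_add, h2]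
    simp only [LinearMap.baseChange_sub, LinearMap.baseChange_add, LinearMap.baseChange_id,
      LinearMap.baseChange_comp]
  have H3 : φ.baseChange K ∘ₗ U.baseChange K = 0 := by
    rw [← LinearMap.baseChange_comp, h3, LinearMap.baseChange_zero]
  have hU : ∀ x ∈ LinearMap.ker (t.baseChange K + LinearMap.id),
      U.baseChange K x ∈ LinearMap.ker (t.baseChange K - LinearMap.id) := by
    intro x hx
    rw [LinearMap.mem_ker, LinearMap.add_apply, LinearMap.id_apply] at hx
    rw [LinearMap.mem_ker, LinearMap.sub_apply, LinearMap.id_apply]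
    have := LinearMap.congr_fun H1 x
    simp only [LinearMap.comp_apply, LinearMap.neg_apply] at this
    rw [this, eq_neg_of_add_eq_zero_left hx, map_neg, neg_neg, sub_self]
  have hWU : ∀ x ∈ LinearMap.ker (t.baseChange K + LinearMap.id),
      W.baseChange K (U.baseChange K x) = x := by
    intro x hx1
    rw [LinearMap.mem_ker, LinearMap.add_apply, LinearMap.id_apply] at hx1
    have := LinearMap.congr_fun H2 x
    simp only [LinearMap.comp_apply, LinearMap.add_apply, LinearMap.sub_apply,
      LinearMap.id_apply] at this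
    rw [add_comm x (t.baseChange K x), hx1, map_zero, sub_zero, ← two_smul K x, ← two_smul K] at this
    exact smul_right_injective _ h2K this
  have hz : (1 : K) ⊗ₜ[S] z ∈ LinearMap.ker (t.baseChange K - LinearMap.id) := by
    rw [LinearMap.mem_ker, LinearMap.sub_apply, LinearMap.id_apply, LinearMap.baseChange_tmul, h4,
      sub_self]
  have hznot : (1 : K) ⊗ₜ[S] z ∉
      (LinearMap.ker (t.baseChange K + LinearMap.id)).map (U.baseChange K) := by
    rintro ⟨x, -, hx0⟩
    have h0 := LinearMap.congr_fun H3 x
    simp only [LinearMap.comp_apply, LinearMap.zero_apply] at h0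
    rw [hx0, LinearMap.baseChange_tmul, h5] at h0
    have := congrArg (TensorProduct.AlgebraTensorModule.rid S K K) h0
    rw [map_zero, TensorProduct.AlgebraTensorModule.rid_tmul, one_smul] at this
    exact one_ne_zero this
  have hlt : (LinearMap.ker (t.baseChange K + LinearMap.id)).map (U.baseChange K) <
      LinearMap.ker (t.baseChange K - LinearMap.id) := by
    refine lt_of_le_of_ne ?_ ?_
    · rintro _ ⟨x, hx, rfl⟩
      exact hU x hx
    · intro h
      apply hznot
      rw [h]
      exact hz
  have hback : ((LinearMap.ker (t.baseChange K + LinearMap.id)).map (U.baseChange K)).map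
      (W.baseChange K) = LinearMap.ker (t.baseChange K + LinearMap.id) := by
    ext y
    constructor
    · rintro ⟨_, ⟨x, hx, rfl⟩, rfl⟩
      rw [hWU x hx]
      exact hx
    · intro hy
      exact ⟨_, ⟨y, hy, rfl⟩, hWU y hy⟩
  calc Module.finrank K (LinearMap.ker (t.baseChange K + LinearMap.id))
      = Module.finrank K (((LinearMap.ker (t.baseChange K + LinearMap.id)).map
          (U.baseChange K)).map (W.baseChange K)) := by rw [hback]
    _ ≤ Module.finrank K ((LinearMap.ker (t.baseChange K + LinearMap.id)).map
          (U.baseChange K)) := Submodule.finrank_map_le _ _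
    _ < Module.finrank K (LinearMap.ker (t.baseChange K - LinearMap.id)) :=
        Submodule.finrank_lt_finrank_of_lt hlt

theorem finrank_ker_add_congr {K V V' : Type*} [Field K] [AddCommGroup V] [Module K V]
    [AddCommGroup V'] [Module K V'] (g : V ≃ₗ[K] V') (T : V →ₗ[K] V) (T' : V' →ₗ[K] V')
    (h : ∀ x, g (T x) = T' (g x)) :
    Module.finrank K (LinearMap.ker (T + LinearMap.id)) =
      Module.finrank K (LinearMap.ker (T' + LinearMap.id)) := by
  have : (LinearMap.ker (T + LinearMap.id)).map g.toLinearMap = LinearMap.ker (T' + LinearMap.id) := by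
    ext y
    rw [Submodule.mem_map]
    constructor
    · rintro ⟨x, hx, rfl⟩
      rw [LinearMap.mem_ker, LinearMap.add_apply, LinearMap.id_apply] at hx
      rw [LinearMap.mem_ker, LinearMap.add_apply, LinearMap.id_apply, LinearEquiv.coe_coe, ← h,
        ← map_add, hx, map_zero]
    · intro hy
      rw [LinearMap.mem_ker, LinearMap.add_apply, LinearMap.id_apply] at hy
      refine ⟨g.symm y, ?_, by simp⟩
      rw [LinearMap.mem_ker, LinearMap.add_apply, LinearMap.id_apply]
      apply g.injective
      rw [map_add, h, LinearEquiv.apply_symm_apply, hy, map_zero]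
  rw [← this]
  exact (LinearEquiv.finrank_map_eq g _).symm

theorem finrank_ker_sub_congr {K V V' : Type*} [Field K] [AddCommGroup V] [Module K V]
    [AddCommGroup V'] [Module K V'] (g : V ≃ₗ[K] V') (T : V →ₗ[K] V) (T' : V' →ₗ[K] V')
    (h : ∀ x, g (T x) = T' (g x)) :
    Module.finrank K (LinearMap.ker (T - LinearMap.id)) =
      Module.finrank K (LinearMap.ker (T' - LinearMap.id)) := by
  have : (LinearMap.ker (T - LinearMap.id)).map g.toLinearMap = LinearMap.ker (T' - LinearMap.id) := by
    ext y
    rw [Submodule.mem_map]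
    constructor
    · rintro ⟨x, hx, rfl⟩
      rw [LinearMap.mem_ker, LinearMap.sub_apply, LinearMap.id_apply] at hx
      rw [LinearMap.mem_ker, LinearMap.sub_apply, LinearMap.id_apply, LinearEquiv.coe_coe, ← h,
        ← map_sub, hx, map_zero]
    · intro hy
      rw [LinearMap.mem_ker, LinearMap.sub_apply, LinearMap.id_apply] at hy
      refine ⟨g.symm y, ?_, by simp⟩
      rw [LinearMap.mem_ker, LinearMap.sub_apply, LinearMap.id_apply]
      apply g.injective
      rw [map_sub, h, LinearEquiv.apply_symm_apply, hy, map_zero]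
  rw [← this]
  exact (LinearEquiv.finrank_map_eq g _).symm

/-- Double base change version of `strict_lt`: the data live over `R`, the conclusion over a field `K`
that is an algebra over an `R`-algebra `S`. -/
theorem strict_lt_bc {R S K M : Type*} [CommRing R] [CommRing S] [Algebra R S] [Field K] [Algebra S K]
    [AddCommGroup M] [Module R M] [Module.Finite R M]
    (t U W D : M →ₗ[R] M) (φ : M →ₗ[R] R) (z : M)
    (h1 : t ∘ₗ U = -(U ∘ₗ t))
    (h2 : W ∘ₗ U + W ∘ₗ U = LinearMap.id + LinearMap.id - D ∘ₗ (LinearMap.id + t))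
    (h3 : φ ∘ₗ U = 0) (h4 : t z = z) (h5 : φ z = 1) (h2K : (2 : K) ≠ 0) :
    Module.finrank K (LinearMap.ker ((t.baseChange S).baseChange K + LinearMap.id)) <
      Module.finrank K (LinearMap.ker ((t.baseChange S).baseChange K - LinearMap.id)) := by
  refine strict_lt (t.baseChange S) (U.baseChange S) (W.baseChange S) (D.baseChange S)
    ((TensorProduct.AlgebraTensorModule.rid R S S).toLinearMap ∘ₗ φ.baseChange S)
    ((1 : S) ⊗ₜ[R] z) ?_ ?_ ?_ ?_ ?_ h2K
  · rw [← LinearMap.baseChange_comp, h1, LinearMap.baseChange_neg, LinearMap.baseChange_comp]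
  · rw [← LinearMap.baseChange_comp, ← LinearMap.baseChange_add, h2]
    simp only [LinearMap.baseChange_sub, LinearMap.baseChange_add, LinearMap.baseChange_id,
      LinearMap.baseChange_comp]
  · rw [LinearMap.comp_assoc, ← LinearMap.baseChange_comp, h3, LinearMap.baseChange_zero,
      LinearMap.comp_zero]
  · rw [LinearMap.baseChange_tmul, h4]
  · rw [LinearMap.comp_apply, LinearMap.baseChange_tmul, h5, LinearEquiv.coe_coe,
      TensorProduct.AlgebraTensorModule.rid_tmul, one_smul]

end Groth.Agent.Lib.Helper25.InvRank
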