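/-
helper25: the coefficient of `∏ X_i^(p-1)` in `det (δ_ij (X_i + c_i)^(p-1) + ∂φ_i/∂X_j)` is `1`
in characteristic `p` (polynomial form of the Cartier-operator computation).
-/
import Mathlib

set_option autoImplicit false
set_option linter.unusedSectionVars false
set_option linter.style.haveILetI false
universe u w

namespace Groth.Agent.Lib.Helper25.JacDet
open MvPolynomial

section
variable {R : Type u} [CommRing R] {τ : Type w}

theorem prod_monomial' {α : Type*} (s : Finset α) (e : α → τ →₀ ℕ) (c : α → R) :
    ∏ i ∈ s, monomial (e i) (c i) = monomial (∑ i ∈ s, e i) (∏ i ∈ s, c i) := by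
  classical
  induction s using Finset.induction_on with
  | empty => simp
  | insert a s ha ih =>
    rw [Finset.prod_insert ha, Finset.sum_insert ha, Finset.prod_insert ha, ih, monomial_mul]

/-- a square matrix killed on the left by a vector with a coordinate `1` has zero determinant -/
theorem det_eq_zero_of_vecMul {n : ℕ} (N : Matrix (Fin n) (Fin n) R) (w : Fin n → R)
    (i₀ : Fin n) (hw : w i₀ = 1) (h : Matrix.vecMul w N = 0) : N.det = 0 := by
  have h2 : Matrix.vecMul w (N * N.adjugate) = 0 := by
    rw [← Matrix.vecMul_vecMul, h, Matrix.zero_vecMul]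
  rw [Matrix.mul_adjugate, Matrix.vecMul_smul, Matrix.vecMul_one] at h2
  have := congrFun h2 i₀
  simpa [hw] using this

/-- determinant of a matrix of monomials whose exponents are `a i - e_j`. -/
theorem coeff_det_monomial {n : ℕ} (a : Fin n → (Fin n →₀ ℕ)) (c : Fin n → Fin n → R)
    (hc : ∀ i j, a i j = 0 → c i j = 0) (μ one_t : Fin n →₀ ℕ)
    (hone : one_t = ∑ i : Fin n, Finsupp.single i 1) :
    coeff μ (Matrix.of fun i j : Fin n => monomial (a i - Finsupp.single j 1) (c i j)).det =
      if ∑ i, a i = μ + one_t then (Matrix.of c).det else 0 := by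
  classical
  rw [Matrix.det_apply, MvPolynomial.coeff_sum]
  set Atot : Fin n →₀ ℕ := ∑ i, a i with hA
  have hterm : ∀ π : Equiv.Perm (Fin n),
      ∏ i, (Matrix.of fun i j : Fin n => monomial (a i - Finsupp.single j 1) (c i j)) (π i) i =
      monomial (∑ i, (a (π i) - Finsupp.single i 1)) (∏ i, c (π i) i) := by
    intro π
    rw [← prod_monomial']
    rfl
  have hsum_ge : ∀ π : Equiv.Perm (Fin n), (∀ i, 1 ≤ a (π i) i) →
      ∑ i, (a (π i) - Finsupp.single i 1) + one_t = Atot := by
    intro π hπ
    rw [hone, ← Finset.sum_add_distrib, hA, ← Equiv.sum_comp π a]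
    refine Finset.sum_congr rfl fun i _ => ?_
    refine tsub_add_cancel_of_le ?_
    rw [Finsupp.single_le_iff]
    exact hπ i
  have hzero : ∀ π : Equiv.Perm (Fin n), (¬ ∀ i, 1 ≤ a (π i) i) →
      ∏ i, c (π i) i = 0 := by
    intro π hπ
    push Not at hπ
    obtain ⟨i, hi⟩ := hπ
    exact Finset.prod_eq_zero (Finset.mem_univ i) (hc _ _ (Nat.lt_one_iff.1 hi))
  by_cases hcase : Atot = μ + one_t
  · rw [if_pos hcase, Matrix.det_apply]
    refine Finset.sum_congr rfl fun π _ => ?_
    rw [hterm π, MvPolynomial.coeff_smul, MvPolynomial.coeff_monomial]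
    congr 1
    by_cases hπ : ∀ i, 1 ≤ a (π i) i
    · have h1 := hsum_ge π hπ
      rw [hcase] at h1
      rw [if_pos (add_right_cancel h1)]
      rfl
    · rw [hzero π hπ, ite_self]
      symm
      exact hzero π hπ
  · rw [if_neg hcase]
    refine Finset.sum_eq_zero fun π _ => ?_
    rw [hterm π, MvPolynomial.coeff_smul, MvPolynomial.coeff_monomial]
    by_cases hπ : ∀ i, 1 ≤ a (π i) i
    · have h1 := hsum_ge π hπ
      rw [if_neg, smul_zero]
      intro h2
      rw [h2] at h1
      exact hcase h1.symm
    · rw [hzero π hπ, ite_self, smul_zero]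

end

section main
variable (p : ℕ) [Fact p.Prime] (R : Type u) [CommRing R] [CharP R p] (n : ℕ)

/-- the exponent `(p-1, …, p-1)` -/
noncomputable def mu : Fin n →₀ ℕ := Finsupp.equivFunOnFinite.symm fun _ : Fin n => p - 1

/-- centred version: the coefficient of `∏ X_i^(p-1)` in `det (δ_ij X_i^(p-1) + ∂φ_i/∂X_j)`
is `1`. -/
theorem coeff_det_zero (φ : Fin n → MvPolynomial (Fin n) R) :
    coeff (mu p n)
      (Matrix.of fun i j : Fin n =>
        (if i = j then (X i : MvPolynomial (Fin n) R) ^ (p - 1) else 0) + pderiv j (φ i)).det = 1 := by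
  classical
  set μ := mu p n with hμ
  let L : Fin n → ((MvPolynomial (Fin n) R) × R) →ₗ[R] (Fin n → (MvPolynomial (Fin n) R)) := fun i =>
    LinearMap.pi fun j =>
      (LinearMap.snd R (MvPolynomial (Fin n) R) R).smulRight (if i = j then (X i : (MvPolynomial (Fin n) R)) ^ (p - 1) else 0) +
        ((pderiv j : Derivation R (MvPolynomial (Fin n) R) (MvPolynomial (Fin n) R)) : (MvPolynomial (Fin n) R) →ₗ[R] (MvPolynomial (Fin n) R)) ∘ₗ LinearMap.fst R (MvPolynomial (Fin n) R) R
  let F : MultilinearMap R (fun _ : Fin n => (MvPolynomial (Fin n) R) × R) R :=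
    (MvPolynomial.lcoeff R μ).compMultilinearMap
      (((Matrix.detRowAlternating (R := (MvPolynomial (Fin n) R)) (n := Fin n)).toMultilinearMap.restrictScalars R).compLinearMap L)
  let G : MultilinearMap R (fun _ : Fin n => (MvPolynomial (Fin n) R) × R) R :=
    (MultilinearMap.mkPiAlgebra R (Fin n) R).compLinearMap (fun _ => LinearMap.snd R (MvPolynomial (Fin n) R) R)
  have hF : ∀ g : Fin n → (MvPolynomial (Fin n) R) × R, F g =
      coeff μ (Matrix.of fun i j : Fin n =>
        (g i).2 • (if i = j then (X i : (MvPolynomial (Fin n) R)) ^ (p - 1) else 0) + pderiv j (g i).1).det :=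
    fun g => rfl
  have hG : ∀ g : Fin n → (MvPolynomial (Fin n) R) × R, G g = ∏ i, (g i).2 := fun g => rfl
  suffices hFG : F = G by
    have := congrArg (fun H : MultilinearMap R (fun _ : Fin n => (MvPolynomial (Fin n) R) × R) R => H fun i => (φ i, 1)) hFG
    simp only [hF, hG, one_smul, Finset.prod_const_one] at this
    exact this
  refine Module.Basis.ext_multilinear
    (fun _ => (MvPolynomial.basisMonomials (Fin n) R).prod (Module.Basis.singleton Unit R)) ?_
  intro v
  rw [hF, hG]
  have hb : ∀ s : Fin n →₀ ℕ, MvPolynomial.basisMonomials (Fin n) R s = monomial s 1 :=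
    fun s => by rw [MvPolynomial.coe_basisMonomials]
  -- unified description of the rows
  let a : Fin n → (Fin n →₀ ℕ) := fun i => Sum.elim id (fun _ => Finsupp.single i p) (v i)
  let c : Fin n → Fin n → R := fun i j =>
    Sum.elim (fun s : Fin n →₀ ℕ => ((s j : ℕ) : R)) (fun _ => if i = j then 1 else 0) (v i)
  have hrow : ∀ i j : Fin n,
      (((MvPolynomial.basisMonomials (Fin n) R).prod (Module.Basis.singleton Unit R)) (v i)).2 •
          (if i = j then (X i : (MvPolynomial (Fin n) R)) ^ (p - 1) else 0) +
        pderiv j (((MvPolynomial.basisMonomials (Fin n) R).prod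
          (Module.Basis.singleton Unit R)) (v i)).1 =
      monomial (a i - Finsupp.single j 1) (c i j) := by
    intro i j
    rcases hv : v i with s | u
    · simp only [Module.Basis.prod_apply_inl_snd, Module.Basis.prod_apply_inl_fst, zero_smul,
        zero_add, hb, pderiv_monomial, one_mul, a, c, hv, Sum.elim_inl, id]
    · simp only [Module.Basis.prod_apply_inr_snd, Module.Basis.prod_apply_inr_fst,
        Module.Basis.singleton_apply, one_smul, map_zero, add_zero, a, c, hv, Sum.elim_inr]
      by_cases hij : i = j
      · subst hij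
        rw [if_pos rfl, if_pos rfl, X_pow_eq_monomial, ← Finsupp.single_tsub]
      · rw [if_neg hij, if_neg hij, map_zero]
  have hmat : (Matrix.of fun i j : Fin n =>
      (((MvPolynomial.basisMonomials (Fin n) R).prod (Module.Basis.singleton Unit R)) (v i)).2 •
          (if i = j then (X i : (MvPolynomial (Fin n) R)) ^ (p - 1) else 0) +
        pderiv j (((MvPolynomial.basisMonomials (Fin n) R).prod
          (Module.Basis.singleton Unit R)) (v i)).1) =
      Matrix.of fun i j : Fin n => monomial (a i - Finsupp.single j 1) (c i j) := by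
    ext i j
    exact congrArg _ (hrow i j)
  rw [hmat]
  have hc : ∀ i j, a i j = 0 → c i j = 0 := by
    intro i j h
    rcases hv : v i with s | u
    · simp only [a, c, hv, Sum.elim_inl, id] at h ⊢
      rw [h, Nat.cast_zero]
    · simp only [a, c, hv, Sum.elim_inr] at h ⊢
      by_cases hij : i = j
      · subst hij
        rw [Finsupp.single_eq_same] at h
        exact absurd h (Fact.out : p.Prime).ne_zero
      · rw [if_neg hij]
  set one_t : Fin n →₀ ℕ := ∑ i : Fin n, Finsupp.single i 1 with hone
  rw [coeff_det_monomial a c hc μ one_t hone]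
  have hone_apply : ∀ j : Fin n, one_t j = 1 := by
    intro j
    simp [hone, Finsupp.finsetSum_apply, Finsupp.single_apply]
  have hμ_apply : ∀ j : Fin n, μ j = p - 1 := by
    intro j
    simp [hμ, mu]
  have hp1 : p - 1 + 1 = p := Nat.sub_add_cancel (Fact.out : p.Prime).one_le
  by_cases hall : ∀ i, (v i).isRight
  · -- all rows are the diagonal rows
    have hvi : ∀ i, v i = Sum.inr () := by
      intro i
      rcases hv : v i with s | u
      · have := hall i
        rw [hv] at this
        exact absurd this (by simp)
      · rfl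
    have ha : ∀ i, a i = Finsupp.single i p := fun i => by simp only [a, hvi i, Sum.elim_inr]
    have hcid : Matrix.of c = (1 : Matrix (Fin n) (Fin n) R) := by
      ext i j
      simp only [Matrix.of_apply, c, hvi i, Sum.elim_inr, Matrix.one_apply]
    have hsum : ∑ i, a i = μ + one_t := by
      ext j
      rw [Finsupp.finsetSum_apply, Finsupp.add_apply, hμ_apply, hone_apply, hp1]
      simp [ha, Finsupp.single_apply]
    rw [if_pos hsum, hcid, Matrix.det_one]
    symm
    refine Finset.prod_eq_one fun i _ => ?_
    rw [hvi i, Module.Basis.prod_apply_inr_snd, Module.Basis.singleton_apply]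
  · push Not at hall
    obtain ⟨i₀, hi₀⟩ := hall
    have hprod : ∏ i, (((MvPolynomial.basisMonomials (Fin n) R).prod
        (Module.Basis.singleton Unit R)) (v i)).2 = 0 := by
      refine Finset.prod_eq_zero (Finset.mem_univ i₀) ?_
      rcases hv : v i₀ with s | u
      · rw [Module.Basis.prod_apply_inl_snd]
      · rw [hv] at hi₀
        exact absurd rfl hi₀
    rw [hprod]
    split_ifs with hsum
    · -- the coefficient matrix is singular
      let w : Fin n → R := fun i => if (v i).isLeft then 1 else 0
      have hw0 : w i₀ = 1 := by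
        have : (v i₀).isLeft := by
          rcases hv : v i₀ with s | u
          · rfl
          · rw [hv] at hi₀; exact absurd rfl hi₀
        simp only [w, this, if_true]
      refine det_eq_zero_of_vecMul (Matrix.of c) w i₀ hw0 ?_
      funext j
      simp only [Matrix.vecMul, dotProduct, Matrix.of_apply, Pi.zero_apply]
      -- Σ_i w i * c i j = cast (Σ_{i left} a i j)
      have h1 : ∀ i, w i * c i j = (((if (v i).isLeft then a i j else 0 : ℕ)) : R) := by
        intro i
        rcases hv : v i with s | u
        · simp only [w, c, a, hv, Sum.isLeft_inl, if_true, one_mul, Sum.elim_inl, id]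
        · simp only [w, hv, Sum.isLeft_inr, Bool.false_eq_true, if_false, zero_mul, Nat.cast_zero]
      rw [Finset.sum_congr rfl fun i _ => h1 i, ← Nat.cast_sum]
      -- the total sum in column j is p
      have h2 : ∑ i, a i j = p := by
        have := congrArg (fun f : Fin n →₀ ℕ => f j) hsum
        simp only [Finsupp.finsetSum_apply, Finsupp.add_apply, hμ_apply, hone_apply, hp1] at this
        exact this
      have h3 : ∑ i, a i j =
          (∑ i, if (v i).isLeft then a i j else 0) + (if (v j).isLeft then 0 else p) := by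
        have h4 : ∀ i, a i j = (if (v i).isLeft then a i j else 0) +
            (if (v i).isLeft then 0 else if i = j then p else 0) := by
          intro i
          rcases hv : v i with s | u
          · simp
          · simp only [a, hv, Sum.elim_inr, Sum.isLeft_inr, Bool.false_eq_true, if_false, zero_add,
              Finsupp.single_apply]
        rw [Finset.sum_congr rfl fun i _ => h4 i, Finset.sum_add_distrib]
        congr 1
        rw [Finset.sum_eq_single j]
        · simp
        · intro i _ hij
          rw [if_neg hij, ite_self]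
        · intro h; exact absurd (Finset.mem_univ j) h
      rw [h2] at h3
      by_cases hj : (v j).isLeft
      · rw [if_pos hj, add_zero] at h3
        rw [← h3, CharP.cast_eq_zero]
      · rw [if_neg hj] at h3
        have : ∑ i, (if (v i).isLeft then a i j else 0) = 0 := by omega
        rw [this, Nat.cast_zero]
    · rfl

/-- the polynomial `((X + c)^p - X^p - c^p)/p` in the variable `X i`. -/
noncomputable def gpoly (c : R) (i : Fin n) : MvPolynomial (Fin n) R :=
  ∑ l ∈ Finset.range (p - 1),
    C ((((p.choose (l + 1) / p : ℕ)) : R) * c ^ (p - 1 - l)) * (X i) ^ (l + 1)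

theorem choose_div_mul (l : ℕ) (hl : l < p - 1) :
    p.choose (l + 1) / p * (l + 1) = (p - 1).choose l := by
  have hp := (Fact.out : p.Prime)
  have h1 : p ∣ p.choose (l + 1) := hp.dvd_choose_self (Nat.succ_ne_zero l) (by omega)
  obtain ⟨q, hq⟩ := h1
  have h2 := Nat.add_one_mul_choose_eq (p - 1) l
  have hp1 : p - 1 + 1 = p := by have := hp.one_le; omega
  rw [hp1] at h2
  rw [hq, Nat.mul_div_cancel_left _ hp.pos]
  rw [hq, mul_assoc] at h2
  exact (Nat.eq_of_mul_eq_mul_left hp.pos h2).symm

theorem pderiv_gpoly (c : R) (i j : Fin n) :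
    pderiv j (gpoly p R n c i) =
      if i = j then (X i + C c) ^ (p - 1) - (X i : MvPolynomial (Fin n) R) ^ (p - 1) else 0 := by
  classical
  have hp := (Fact.out : p.Prime)
  unfold gpoly
  rw [map_sum]
  by_cases hij : i = j
  · subst hij
    rw [if_pos rfl, add_pow]
    have hp1 : p - 1 + 1 = p := Nat.sub_add_cancel hp.one_le
    rw [Finset.sum_range_succ, Nat.sub_self, pow_zero, mul_one, Nat.choose_self, Nat.cast_one,
      mul_one, add_sub_cancel_right]
    refine Finset.sum_congr rfl fun l hl => ?_
    rw [Finset.mem_range] at hl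
    rw [pderiv_C_mul, Derivation.leibniz_pow, pderiv_X_self, Nat.add_sub_cancel, smul_eq_mul,
      mul_one, ← choose_div_mul p l hl]
    simp only [nsmul_eq_mul, Nat.cast_mul, map_mul, map_pow, map_natCast, Nat.cast_add,
      Nat.cast_one]
    ring
  · rw [if_neg hij]
    refine Finset.sum_eq_zero fun l _ => ?_
    rw [pderiv_C_mul, Derivation.leibniz_pow, pderiv_X_of_ne hij, smul_zero, smul_zero,
      mul_zero]

/-- the coefficient of `∏ X_i^(p-1)` in `det (δ_ij (X_i + c_i)^(p-1) + ∂φ_i/∂X_j)` is `1`. -/
theorem coeff_det_shift (c : Fin n → R) (φ : Fin n → MvPolynomial (Fin n) R) :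
    coeff (mu p n)
      (Matrix.of fun i j : Fin n =>
        (if i = j then ((X i : MvPolynomial (Fin n) R) + C (c i)) ^ (p - 1) else 0) +
          pderiv j (φ i)).det = 1 := by
  rw [← coeff_det_zero p R n (fun i => φ i + gpoly p R n (c i) i)]
  congr 2
  ext i j
  simp only [Matrix.of_apply, map_add, pderiv_gpoly]
  by_cases hij : i = j
  · simp only [if_pos hij]; ring
  · simp only [if_neg hij, add_zero]

end main

end Groth.Agent.Lib.Helper25.JacDet
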