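/-
helper25: cotangent space of `k[T]/I` at a rational point `a` (general finite variable type `σ`,
general ideal `I`): `dim 𝔪/𝔪² + dim dA(I) = card σ`, and `dA(I)` is spanned by `dA` of generators.
-/
import Mathlib

set_option autoImplicit false
set_option linter.unusedSectionVars false
set_option linter.style.haveILetI false
universe u

namespace Groth.Agent.Lib.Helper25.JacobianCot2
open MvPolynomial

section poly
variable {k : Type u} [Field k] {σ : Type} [Fintype σ] [DecidableEq σ] (a : σ → k)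

/-- the differential at `a` -/
noncomputable def dA : MvPolynomial (σ) k →ₗ[k] (σ → k) where
  toFun F := fun j => eval a (pderiv j F)
  map_add' F G := by funext j; simp
  map_smul' c F := by funext j; simp [smul_eval]

theorem dA_apply (F : MvPolynomial (σ) k) (j : σ) : dA a F j = eval a (pderiv j F) := rfl

theorem dA_mul (F G : MvPolynomial (σ) k) :
    dA a (F * G) = eval a F • dA a G + eval a G • dA a F := by
  funext j
  simp only [dA_apply, Pi.add_apply, Pi.smul_apply, smul_eq_mul, pderiv_mul, map_add, map_mul]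
  ring

theorem dA_C (c : k) : dA a (C c) = 0 := by
  funext j; simp [dA_apply]

theorem dA_X_sub_C (j : σ) : dA a (X j - C (a j)) = Pi.single j 1 := by
  classical
  funext i
  rw [dA_apply, map_sub, pderiv_C, sub_zero, pderiv_X, Pi.single_apply, Pi.single_apply]
  by_cases h : i = j
  · subst h; simp
  · rw [if_neg h, if_neg (Ne.symm h), map_zero]

/-- the ideal of the point `a` -/
noncomputable def N : Ideal (MvPolynomial (σ) k) :=
  Ideal.span (Set.range fun j => (X j : MvPolynomial (σ) k) - C (a j))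

theorem X_sub_C_mem_N (j : σ) : (X j : MvPolynomial (σ) k) - C (a j) ∈ N a :=
  Ideal.subset_span ⟨j, rfl⟩

theorem eval_eq_zero_of_mem_N {G : MvPolynomial (σ) k} (h : G ∈ N a) : eval a G = 0 := by
  have : N a ≤ RingHom.ker (eval a) := by
    rw [N, Ideal.span_le]
    rintro _ ⟨j, rfl⟩
    simp [RingHom.mem_ker]
  exact this h

/-- first-order Taylor expansion at `a`. -/
theorem taylor (F : MvPolynomial (σ) k) :
    F - C (eval a F) - ∑ j, C (eval a (pderiv j F)) * (X j - C (a j)) ∈ N a ^ 2 := by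
  classical
  have hlin : ∀ G : MvPolynomial (σ) k,
      ∑ j, C (eval a (pderiv j G)) * (X j - C (a j)) ∈ N a := fun G =>
    Ideal.sum_mem _ fun j _ => Ideal.mul_mem_left _ _ (X_sub_C_mem_N a j)
  induction F using MvPolynomial.induction_on with
  | C c => simp
  | add F G hF hG =>
    have : F + G - C (eval a (F + G)) - ∑ j, C (eval a (pderiv j (F + G))) * (X j - C (a j)) =
        (F - C (eval a F) - ∑ j, C (eval a (pderiv j F)) * (X j - C (a j))) +
        (G - C (eval a G) - ∑ j, C (eval a (pderiv j G)) * (X j - C (a j))) := by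
      simp only [map_add, add_mul, Finset.sum_add_distrib]
      ring
    rw [this]
    exact Ideal.add_mem _ hF hG
  | mul_X F i hF =>
    have hFN : F - C (eval a F) ∈ N a := by
      have h1 := Ideal.pow_le_self (I := N a) two_ne_zero hF
      have h2 := Ideal.add_mem _ h1 (hlin F)
      convert h2 using 1
      ring
    have key : F * X i - C (eval a (F * X i)) -
        ∑ j, C (eval a (pderiv j (F * X i))) * (X j - C (a j)) =
        (F - C (eval a F)) * (X i - C (a i)) +
        C (a i) * (F - C (eval a F) - ∑ j, C (eval a (pderiv j F)) * (X j - C (a j))) := by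
      have hs : ∑ j, C (eval a (pderiv j (F * X i))) * (X j - C (a j)) =
          C (a i) * ∑ j, C (eval a (pderiv j F)) * (X j - C (a j)) +
            C (eval a F) * (X i - C (a i)) := by
        rw [Finset.mul_sum]
        have : ∀ j, C (eval a (pderiv j (F * X i))) * (X j - C (a j)) =
            C (a i) * (C (eval a (pderiv j F)) * (X j - C (a j))) +
              (if j = i then C (eval a F) * (X i - C (a i)) else 0) := by
          intro j
          rw [pderiv_mul, pderiv_X, Pi.single_apply]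
          by_cases h : i = j
          · subst h
            simp only [if_true, map_add, map_mul, eval_X, mul_one]
            ring
          · rw [if_neg h, if_neg (Ne.symm h)]
            simp only [mul_zero, add_zero, map_mul, eval_X]
            ring
        rw [Finset.sum_congr rfl fun j _ => this j, Finset.sum_add_distrib,
          Finset.sum_ite_eq' Finset.univ i, if_pos (Finset.mem_univ i)]
      rw [hs]
      simp only [map_mul, eval_X]
      ring
    rw [key]
    refine Ideal.add_mem _ ?_ (Ideal.mul_mem_left _ _ hF)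
    rw [pow_two]
    exact Ideal.mul_mem_mul hFN (X_sub_C_mem_N a i)

theorem ker_eval_eq_N : RingHom.ker (eval a) = N a := by
  refine le_antisymm ?_ ?_
  · intro F hF
    rw [RingHom.mem_ker] at hF
    have h1 := Ideal.pow_le_self (I := N a) two_ne_zero (taylor a F)
    have h2 : ∑ j, C (eval a (pderiv j F)) * (X j - C (a j)) ∈ N a :=
      Ideal.sum_mem _ fun j _ => Ideal.mul_mem_left _ _ (X_sub_C_mem_N a j)
    have := Ideal.add_mem _ h1 h2
    rw [hF, map_zero, sub_zero, sub_add_cancel] at this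
    exact this
  · intro F hF
    exact eval_eq_zero_of_mem_N a hF

theorem dA_eq_zero_of_mem_sq {F : MvPolynomial (σ) k} (h : F ∈ N a ^ 2) : dA a F = 0 := by
  rw [pow_two] at h
  refine Submodule.mul_induction_on h ?_ ?_
  · intro u hu v hv
    rw [dA_mul, eval_eq_zero_of_mem_N a hu, eval_eq_zero_of_mem_N a hv, zero_smul, zero_smul,
      add_zero]
  · intro x y hx hy
    rw [map_add, hx, hy, add_zero]


/-- linear forms vanishing at `a` -/
noncomputable def ell : (σ → k) →ₗ[k] MvPolynomial (σ) k :=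
  Fintype.linearCombination k (fun j => (X j : MvPolynomial (σ) k) - C (a j))

theorem ell_apply (c : σ → k) : ell a c = ∑ j, C (c j) * (X j - C (a j)) := by
  rw [ell, Fintype.linearCombination_apply]
  exact Finset.sum_congr rfl fun j _ => smul_eq_C_mul _ _

theorem ell_mem_N (c : σ → k) : ell a c ∈ N a := by
  rw [ell_apply]
  exact Ideal.sum_mem _ fun j _ => Ideal.mul_mem_left _ _ (X_sub_C_mem_N a j)

theorem dA_ell (c : σ → k) : dA a (ell a c) = c := by
  classical
  rw [ell, Fintype.linearCombination_apply, map_sum]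
  simp only [map_smul, dA_X_sub_C]
  funext i
  simp [Finset.sum_apply, Pi.single_apply]

theorem taylor' (G : MvPolynomial (σ) k) :
    G - C (eval a G) - ell a (dA a G) ∈ N a ^ 2 := by
  rw [ell_apply]
  exact taylor a G

end poly

section main
open IsLocalRing

variable (k : Type u) [Field k] (σ : Type) [Fintype σ] [DecidableEq σ]
    (I : Ideal (MvPolynomial σ k)) (a : σ → k)
    (𝔪 : Ideal (MvPolynomial σ k ⧸ I)) [𝔪.IsMaximal]
    (h𝔪 : 𝔪.comap (Ideal.Quotient.mk I) = RingHom.ker (MvPolynomial.eval a))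

local notation "𝓘" => I
local notation "𝓡" => MvPolynomial σ k ⧸ I
local notation "𝓛" => Localization.AtPrime 𝔪
local notation "mk𝓘" => Ideal.Quotient.mk I

include h𝔪

theorem comap_eq_N : 𝔪.comap mk𝓘 = N a := by rw [h𝔪, ker_eval_eq_N]

theorem eq_map_N : 𝔪 = (N a).map mk𝓘 := by
  rw [← comap_eq_N k σ I a 𝔪 h𝔪, Ideal.map_comap_of_surjective _ Ideal.Quotient.mk_surjective]

theorem maximalIdeal_eq : maximalIdeal 𝓛 = (N a).map ((algebraMap 𝓡 𝓛).comp mk𝓘) := by
  rw [← Ideal.map_map, ← eq_map_N k σ I a 𝔪 h𝔪, Localization.AtPrime.map_eq_maximalIdeal]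

/-- elements of the residue field come from `k` -/
theorem exists_sub_mem (l : 𝓛) : ∃ c : k, l - algebraMap k 𝓛 c ∈ maximalIdeal 𝓛 := by
  obtain ⟨x, hx⟩ := (IsLocalization.AtPrime.equivQuotMaximalIdeal 𝔪 𝓛).surjective
    (Ideal.Quotient.mk _ l)
  obtain ⟨y, rfl⟩ := Ideal.Quotient.mk_surjective x
  obtain ⟨G, rfl⟩ := Ideal.Quotient.mk_surjective y
  rw [IsLocalization.AtPrime.equivQuotMaximalIdeal_apply_mk, Ideal.Quotient.eq] at hx
  refine ⟨eval a G, ?_⟩
  have h1 : G - C (eval a G) ∈ N a := by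
    rw [← ker_eval_eq_N, RingHom.mem_ker]; simp
  have h2 : algebraMap 𝓡 𝓛 (mk𝓘 (G - C (eval a G))) ∈ maximalIdeal 𝓛 := by
    rw [maximalIdeal_eq k σ I a 𝔪 h𝔪]
    exact Ideal.mem_map_of_mem ((algebraMap 𝓡 𝓛).comp mk𝓘) h1
  have h3 : algebraMap k 𝓛 (eval a G) = algebraMap 𝓡 𝓛 (mk𝓘 (C (eval a G))) := by
    rw [IsScalarTower.algebraMap_apply k 𝓡 𝓛]
    rfl
  have : l - algebraMap k 𝓛 (eval a G) =
      -(algebraMap 𝓡 𝓛 (mk𝓘 G) - l) + algebraMap 𝓡 𝓛 (mk𝓘 (G - C (eval a G))) := by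
    rw [h3, map_sub, map_sub]; ring
  rw [this]
  exact Ideal.add_mem _ (Ideal.neg_mem_iff _ |>.2 hx) h2

local notation "φ" => RingHom.comp (algebraMap 𝓡 𝓛) mk𝓘

omit h𝔪 in
theorem phi_C (t : k) : φ (C t) = algebraMap k 𝓛 t := by
  rw [IsScalarTower.algebraMap_apply k 𝓡 𝓛]
  rfl

theorem phi_mem {G : MvPolynomial (σ) k} (hG : G ∈ N a) : φ G ∈ maximalIdeal 𝓛 := by
  rw [maximalIdeal_eq k σ I a 𝔪 h𝔪]
  exact Ideal.mem_map_of_mem φ hG

theorem phi_mem_sq {G : MvPolynomial (σ) k} (hG : G ∈ N a ^ 2) :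
    φ G ∈ maximalIdeal 𝓛 ^ 2 := by
  rw [maximalIdeal_eq k σ I a 𝔪 h𝔪, ← Ideal.map_pow]
  exact Ideal.mem_map_of_mem φ hG

theorem span_le_N : 𝓘 ≤ N a := by
  rw [← comap_eq_N k σ I a 𝔪 h𝔪]
  intro G hG
  rw [Ideal.mem_comap, Ideal.Quotient.eq_zero_iff_mem.2 hG]
  exact zero_mem _

omit h𝔪 in
theorem phi_eq_zero {G : MvPolynomial (σ) k} (hG : G ∈ 𝓘) : φ G = 0 := by
  rw [RingHom.comp_apply, Ideal.Quotient.eq_zero_iff_mem.2 hG, map_zero]

/-- the map `kⁿ → 𝔪/𝔪²` -/
noncomputable def Xi : (σ → k) →ₗ[k] CotangentSpace 𝓛 where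
  toFun c := (maximalIdeal 𝓛).toCotangent ⟨φ (ell a c), phi_mem k σ I a 𝔪 h𝔪 (ell_mem_N a c)⟩
  map_add' c d := by
    rw [← map_add]
    congr 1
    ext
    simp only [map_add, Submodule.coe_add]
  map_smul' t c := by
    rw [RingHom.id_apply]
    refine Eq.trans ?_ (algebraMap_smul 𝓛 t _)
    rw [← map_smul]
    congr 1
    ext
    show φ (ell a (t • c)) = algebraMap k 𝓛 t * φ (ell a c)
    rw [map_smul, smul_eq_C_mul, map_mul, phi_C]

theorem Xi_apply (c : σ → k) : Xi k σ I a 𝔪 h𝔪 c =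
    (maximalIdeal 𝓛).toCotangent ⟨φ (ell a c), phi_mem k σ I a 𝔪 h𝔪 (ell_mem_N a c)⟩ := rfl

theorem Xi_dA {G : MvPolynomial (σ) k} (hG : G ∈ N a) :
    Xi k σ I a 𝔪 h𝔪 (dA a G) = (maximalIdeal 𝓛).toCotangent ⟨φ G, phi_mem k σ I a 𝔪 h𝔪 hG⟩ := by
  rw [Xi_apply, eq_comm, Ideal.toCotangent_eq]
  have h := taylor' a G
  rw [eval_eq_zero_of_mem_N a hG, map_zero, sub_zero] at h
  have h2 := phi_mem_sq k σ I a 𝔪 h𝔪 h
  rw [map_sub] at h2
  exact h2

theorem Xi_surjective : Function.Surjective (Xi k σ I a 𝔪 h𝔪) := by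
  have key : ∀ l ∈ Ideal.map φ (N a), ∃ h : l ∈ maximalIdeal 𝓛,
      (maximalIdeal 𝓛).toCotangent ⟨l, h⟩ ∈ LinearMap.range (Xi k σ I a 𝔪 h𝔪) := by
    intro l hl
    unfold Ideal.map at hl
    induction hl using Submodule.span_induction with
    | mem x hx =>
      obtain ⟨G, hG, rfl⟩ := hx
      exact ⟨phi_mem k σ I a 𝔪 h𝔪 hG, ⟨dA a G, Xi_dA k σ I a 𝔪 h𝔪 hG⟩⟩
    | zero =>
      refine ⟨zero_mem _, ?_⟩
      have : (⟨0, zero_mem _⟩ : maximalIdeal 𝓛) = 0 := rfl
      rw [this, map_zero]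
      exact zero_mem _
    | add x y _ _ hx hy =>
      obtain ⟨hx1, hx2⟩ := hx
      obtain ⟨hy1, hy2⟩ := hy
      refine ⟨add_mem hx1 hy1, ?_⟩
      have : (⟨x + y, add_mem hx1 hy1⟩ : maximalIdeal 𝓛) = ⟨x, hx1⟩ + ⟨y, hy1⟩ := rfl
      rw [this, map_add]
      exact add_mem hx2 hy2
    | smul t x _ hx =>
      obtain ⟨hx1, hx2⟩ := hx
      refine ⟨Ideal.mul_mem_left _ _ hx1, ?_⟩
      have : (⟨t • x, Ideal.mul_mem_left _ _ hx1⟩ : maximalIdeal 𝓛) = t • ⟨x, hx1⟩ := rfl
      rw [this, map_smul]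
      obtain ⟨c, hc⟩ := exists_sub_mem k σ I a 𝔪 h𝔪 t
      have ht : t = algebraMap k 𝓛 c + (t - algebraMap k 𝓛 c) := by ring
      have h0 : (t - algebraMap k 𝓛 c) • (maximalIdeal 𝓛).toCotangent ⟨x, hx1⟩ = 0 :=
        Ideal.Cotangent.smul_eq_zero_of_mem hc _
      rw [ht, add_smul, h0, add_zero, algebraMap_smul]
      exact Submodule.smul_mem _ _ hx2
  intro y
  obtain ⟨⟨l, hl⟩, rfl⟩ := Ideal.toCotangent_surjective _ y
  have hl' : l ∈ Ideal.map φ (N a) := by
    rw [← maximalIdeal_eq k σ I a 𝔪 h𝔪]; exact hl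
  obtain ⟨h, hh⟩ := key l hl'
  exact hh

/-- the image of the ideal under the differential at `a` -/
noncomputable def W : Submodule k (σ → k) :=
  Submodule.map (dA a) (I.restrictScalars k)

omit h𝔪 in
theorem dA_mem_W_of_mem_span (hN : 𝓘 ≤ N a) {G : MvPolynomial (σ) k} (hG : G ∈ 𝓘) :
    dA a G ∈ W k σ I a := ⟨G, hG, rfl⟩

omit h𝔪 in
/-- if `I` is generated by a family `F` (and `I ≤ N a`), `W` is spanned by the `dA a (F i)`. -/
theorem W_eq_span {ι : Type*} (F : ι → MvPolynomial σ k) (hI : I = Ideal.span (Set.range F))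
    (hN : I ≤ N a) : W k σ I a = Submodule.span k (Set.range fun i => dA a (F i)) := by
  refine le_antisymm ?_ ?_
  · rintro _ ⟨G, hG, rfl⟩
    have hG' : G ∈ Ideal.span (Set.range F) := hI ▸ hG
    have hN' : Ideal.span (Set.range F) ≤ N a := hI ▸ hN
    clear hG
    induction hG' using Submodule.span_induction with
    | mem x hx =>
      obtain ⟨i, rfl⟩ := hx
      exact Submodule.subset_span ⟨i, rfl⟩
    | zero => rw [map_zero]; exact zero_mem _
    | add x y _ _ hx hy => rw [map_add]; exact add_mem hx hy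
    | smul t x hx' hx =>
      rw [smul_eq_mul, dA_mul, eval_eq_zero_of_mem_N a (hN' hx'), zero_smul, add_zero]
      exact Submodule.smul_mem _ _ hx
  · rw [Submodule.span_le]
    rintro _ ⟨i, rfl⟩
    exact ⟨F i, hI ▸ Ideal.subset_span ⟨i, rfl⟩, rfl⟩

theorem ker_Xi : LinearMap.ker (Xi k σ I a 𝔪 h𝔪) = W k σ I a := by
  refine le_antisymm ?_ ?_
  · intro c hc
    rw [LinearMap.mem_ker, Xi_apply, Ideal.toCotangent_eq_zero] at hc
    change algebraMap 𝓡 𝓛 (mk𝓘 (ell a c)) ∈ maximalIdeal 𝓛 ^ 2 at hc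
    have h1 : mk𝓘 (ell a c) ∈ 𝔪 ^ 2 := by
      rw [← IsLocalization.AtPrime.under_maximalIdeal_pow 𝔪 𝓛 2]
      exact hc
    rw [eq_map_N k σ I a 𝔪 h𝔪, ← Ideal.map_pow] at h1
    have h2 : ell a c ∈ (N a ^ 2) ⊔ 𝓘 := by
      have := Ideal.mem_comap.2 h1
      rwa [Ideal.comap_map_of_surjective _ Ideal.Quotient.mk_surjective,
        ← RingHom.ker_eq_comap_bot, Ideal.mk_ker] at this
    obtain ⟨u, hu, v, hv, huv⟩ := Submodule.mem_sup.1 h2
    have h3 : c = dA a v := by
      rw [← dA_ell a c, ← huv, map_add, dA_eq_zero_of_mem_sq a hu, zero_add]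
    rw [h3]
    exact dA_mem_W_of_mem_span k σ I a (span_le_N k σ I a 𝔪 h𝔪) hv
  · rintro _ ⟨G, hG, rfl⟩
    have hFi : G ∈ 𝓘 := hG
    rw [LinearMap.mem_ker,
      Xi_dA k σ I a 𝔪 h𝔪 (span_le_N k σ I a 𝔪 h𝔪 hFi), Ideal.toCotangent_eq_zero]
    change φ G ∈ _
    rw [phi_eq_zero k σ I 𝔪 hFi]
    exact zero_mem _


theorem finrank_k_cot :
    Module.finrank k (CotangentSpace 𝓛) + Module.finrank k (W k σ I a) = Fintype.card σ := by
  have h := LinearMap.finrank_range_add_finrank_ker (Xi k σ I a 𝔪 h𝔪)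
  rw [LinearMap.range_eq_top.2 (Xi_surjective k σ I a 𝔪 h𝔪), finrank_top,
    ker_Xi k σ I a 𝔪 h𝔪, Module.finrank_fintype_fun_eq_card] at h
  exact h

theorem finrank_residue_eq :
    Module.finrank (ResidueField 𝓛) (CotangentSpace 𝓛) = Module.finrank k (CotangentSpace 𝓛) := by
  haveI : IsScalarTower k (ResidueField 𝓛) (CotangentSpace 𝓛) :=
    IsScalarTower.of_algebraMap_smul fun c x => by
      have h1 : algebraMap k (ResidueField 𝓛) c = residue 𝓛 (algebraMap k 𝓛 c) := rfl
      have h2 : residue 𝓛 (algebraMap k 𝓛 c) • x = algebraMap k 𝓛 c • x := rfl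
      rw [h1, h2, algebraMap_smul]
  have h1 : Module.finrank k (ResidueField 𝓛) = 1 := by
    rw [finrank_eq_one_iff_of_nonzero' (1 : ResidueField 𝓛) one_ne_zero]
    intro w
    obtain ⟨l, rfl⟩ := IsLocalRing.residue_surjective w
    obtain ⟨c, hc⟩ := exists_sub_mem k σ I a 𝔪 h𝔪 l
    refine ⟨c, ?_⟩
    have h1 : algebraMap k (ResidueField 𝓛) c = residue 𝓛 (algebraMap k 𝓛 c) := rfl
    rw [Algebra.smul_def, mul_one, h1]
    symm
    rw [← sub_eq_zero, ← map_sub, residue_eq_zero_iff]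
    exact hc
  have := Module.finrank_mul_finrank k (ResidueField 𝓛) (CotangentSpace 𝓛)
  rw [h1, one_mul] at this
  exact this

/-- `dim 𝔪/𝔪² + dim dA(I) = card σ` at a rational point. -/
theorem finrank_cotangentSpace_add_finrank_W :
    Module.finrank (IsLocalRing.ResidueField (Localization.AtPrime 𝔪))
        (IsLocalRing.CotangentSpace (Localization.AtPrime 𝔪)) +
      Module.finrank k (W k σ I a) = Fintype.card σ := by
  rw [finrank_residue_eq k σ I a 𝔪 h𝔪]
  exact finrank_k_cot k σ I a 𝔪 h𝔪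

end main

end Groth.Agent.Lib.Helper25.JacobianCot2
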