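import Groth.Agent.Lib.Helper25.LabContract

/-!
# Helper library (helper25): contraction of a connecting chain with `β = m`, `α = -2`
-/

set_option autoImplicit false
set_option linter.unusedSectionVars false
universe u
open Finset

namespace Groth.Agent.Lib.Helper25.LabContract

open LabGraph DualGr

section Chain2

variable {V E : Type u} [Fintype V] [Fintype E] [DecidableEq V] [DecidableEq E]
  (ends : E → V × V) {m : ℕ} (f : Fin (m + 1) → V) (e : Fin m → E)

theorem edgeMult_pos_of_edge (e' : E) (v w : V) (h : ends e' = (v, w) ∨ ends e' = (w, v)) :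
    1 ≤ edgeMult ends v w := by
  unfold edgeMult
  exact Finset.card_pos.mpr ⟨e', Finset.mem_filter.mpr ⟨Finset.mem_univ _, h⟩⟩

theorem exists_edge_of_edgeMult_ne_zero (v w : V) (h : edgeMult ends v w ≠ 0) :
    ∃ e' : E, ends e' = (v, w) ∨ ends e' = (w, v) := by
  unfold edgeMult at h
  obtain ⟨e', he'⟩ := Finset.card_pos.mp (Nat.pos_of_ne_zero h)
  exact ⟨e', (Finset.mem_filter.mp he').2⟩

/-- the degree of an interior vertex of the chain -/
theorem interior (β : V → ℤ) (hβ : IsMultFn ends β) (hC : IsChain ends f e)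
    (hβm : ∀ i, β (f i) = m) (hα : ∀ i, mfMatrix ends β (f i) (f i) = -2)
    (i j : Fin m) (hij : j.castSucc = i.succ) :
    edgeMult ends (f i.succ) (f i.castSucc) = 1 ∧ edgeMult ends (f i.succ) (f j.succ) = 1 ∧
      ∀ w, w ≠ f i.succ → w ≠ f i.castSucc → w ≠ f j.succ → edgeMult ends (f i.succ) w = 0 := by
  set v := f i.succ with hv
  set a := f i.castSucc with ha
  set b := f j.succ with hb
  have hinj := hC.1
  have hav : a ≠ v := by
    intro h
    have := hinj h
    rw [Fin.ext_iff] at this
    simp at this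
  have hjv : (j : ℕ) = i + 1 := by
    have := congrArg Fin.val hij
    simpa using this
  have hbv : b ≠ v := by
    intro h
    have := hinj h
    rw [Fin.ext_iff] at this
    simp at this
    omega
  have hab : a ≠ b := by
    intro h
    have := hinj h
    rw [Fin.ext_iff] at this
    simp at this
    omega
  have hmpos : (0 : ℤ) < m := by
    rw [← hβm 0]; exact (hβ (f 0)).1
  -- the sum equals 2m
  set S := ∑ u ∈ univ.erase v, β u * (edgeMult ends v u : ℤ) with hS
  have hS2 : S = 2 * m := by
    have h1 := hα i.succ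
    rw [mfMatrix, if_pos rfl, hβm] at h1
    have h2 : (m : ℤ) ∣ S := by
      have := (hβ v).2
      rw [hβm] at this
      exact this
    obtain ⟨q, hq⟩ := h2
    rw [← hS, hq, ← mul_neg, Int.mul_ediv_cancel_left _ hmpos.ne'] at h1
    rw [hq]
    have : q = 2 := by omega
    rw [this]; ring
  have hea : 1 ≤ edgeMult ends v a := by
    apply edgeMult_pos_of_edge ends (e i)
    rcases hC.2.2 i with h | h
    · exact Or.inr h
    · exact Or.inl h
  have heb : 1 ≤ edgeMult ends v b := by
    apply edgeMult_pos_of_edge ends (e j)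
    rcases hC.2.2 j with h | h
    · left; rw [h, hij]
    · right; rw [h, hij]
  have hnn : ∀ u ∈ univ.erase v, 0 ≤ β u * (edgeMult ends v u : ℤ) := by
    intro u _
    exact mul_nonneg (hβ u).1.le (by positivity)
  have hamem : a ∈ univ.erase v := Finset.mem_erase.mpr ⟨hav, Finset.mem_univ _⟩
  have hbmem : b ∈ univ.erase v := Finset.mem_erase.mpr ⟨hbv, Finset.mem_univ _⟩
  have hta : β a * (edgeMult ends v a : ℤ) = m * (edgeMult ends v a : ℤ) := by rw [ha, hβm]
  have htb : β b * (edgeMult ends v b : ℤ) = m * (edgeMult ends v b : ℤ) := by rw [hb, hβm]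
  have hpair : β a * (edgeMult ends v a : ℤ) + β b * (edgeMult ends v b : ℤ) ≤ S := by
    have hsub : ({a, b} : Finset V) ⊆ univ.erase v := by
      intro u hu
      rcases Finset.mem_insert.mp hu with rfl | hu
      · exact hamem
      · rw [Finset.mem_singleton.mp hu]; exact hbmem
    have := Finset.sum_le_sum_of_subset_of_nonneg hsub
      (f := fun u => β u * (edgeMult ends v u : ℤ)) (fun u hu _ => hnn u hu)
    rwa [Finset.sum_pair hab] at this
  have hea' : (1 : ℤ) ≤ (edgeMult ends v a : ℤ) := by exact_mod_cast hea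
  have heb' : (1 : ℤ) ≤ (edgeMult ends v b : ℤ) := by exact_mod_cast heb
  have h1 : (edgeMult ends v a : ℤ) = 1 := by nlinarith
  have h2 : (edgeMult ends v b : ℤ) = 1 := by nlinarith
  refine ⟨by exact_mod_cast h1, by exact_mod_cast h2, ?_⟩
  intro w hwv hwa hwb
  have hwmem : w ∈ univ.erase v := Finset.mem_erase.mpr ⟨hwv, Finset.mem_univ _⟩
  have htriple : β a * (edgeMult ends v a : ℤ) + (β b * (edgeMult ends v b : ℤ) +
      β w * (edgeMult ends v w : ℤ)) ≤ S := by
    have hsub : ({a, b, w} : Finset V) ⊆ univ.erase v := by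
      intro u hu
      rcases Finset.mem_insert.mp hu with rfl | hu
      · exact hamem
      · rcases Finset.mem_insert.mp hu with rfl | hu
        · exact hbmem
        · rw [Finset.mem_singleton.mp hu]; exact hwmem
    have := Finset.sum_le_sum_of_subset_of_nonneg hsub
      (f := fun u => β u * (edgeMult ends v u : ℤ)) (fun u hu _ => hnn u hu)
    rwa [Finset.sum_insert (by simp [hab, Ne.symm hwa]), Finset.sum_pair (Ne.symm hwb)] at this
  have hw0 : β w * (edgeMult ends v w : ℤ) ≤ 0 := by
    rw [hta, htb, h1, h2, hS2] at htriple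
    linarith
  have hβw := (hβ w).1
  have : (edgeMult ends v w : ℤ) ≤ 0 := by
    by_contra hcon
    push Not at hcon
    have := mul_pos hβw hcon
    linarith
  have h0 : (0 : ℤ) ≤ (edgeMult ends v w : ℤ) := by positivity
  exact_mod_cast le_antisymm this h0

/-- the row of `α` at an interior vertex -/
theorem mulVec_interior (β : V → ℤ) (hβ : IsMultFn ends β) (hC : IsChain ends f e)
    (hβm : ∀ i, β (f i) = m) (hα : ∀ i, mfMatrix ends β (f i) (f i) = -2)
    (i j : Fin m) (hij : j.castSucc = i.succ) (y : V → ℤ) :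
    (Matrix.mulVec (mfMatrix ends β) y) (f i.succ) =
      -2 * y (f i.succ) + y (f i.castSucc) + y (f j.succ) := by
  obtain ⟨h1, h2, h3⟩ := interior ends f e β hβ hC hβm hα i j hij
  rw [edgeMult_mulVec, hα i.succ]
  have hinj := hC.1
  have hjv : (j : ℕ) = i + 1 := by
    have := congrArg Fin.val hij
    simpa using this
  have hab : f i.castSucc ≠ f j.succ := by
    intro h
    have := hinj h
    rw [Fin.ext_iff] at this
    simp at this
    omega
  rw [Finset.sum_eq_add (f i.castSucc) (f j.succ) hab]
  · rw [h1, h2]; push_cast; ring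
  · intro w hw hw2
    rw [h3 w (Finset.mem_erase.mp hw).1 hw2.1 hw2.2]; simp
  · intro h
    exfalso; apply h
    refine Finset.mem_erase.mpr ⟨?_, Finset.mem_univ _⟩
    intro h'
    have := hinj h'
    rw [Fin.ext_iff] at this
    simp at this
  · intro h
    exfalso; apply h
    refine Finset.mem_erase.mpr ⟨?_, Finset.mem_univ _⟩
    intro h'
    have := hinj h'
    rw [Fin.ext_iff] at this
    simp at this
    omega

end Chain2


section Final

variable {V E : Type u} [Fintype V] [Fintype E] [DecidableEq V] [DecidableEq E]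
  (ends : E → V × V) {m : ℕ} (f : Fin (m + 1) → V) (e : Fin m → E)

/-- values along the chain of a vector whose image under `α` vanishes at the interior vertices -/
theorem chain_values (β : V → ℤ) (hβ : IsMultFn ends β) (hC : IsChain ends f e)
    (hβm : ∀ i, β (f i) = m) (hα : ∀ i, mfMatrix ends β (f i) (f i) = -2) (y : V → ℤ)
    (hy : ∀ i j : Fin m, j.castSucc = i.succ →
      (Matrix.mulVec (mfMatrix ends β) y) (f i.succ) = 0) (hm : 1 ≤ m) :
    ∀ k (hk : k < m + 1), y (f ⟨k, hk⟩) =
      y (f 0) + k * (y (f ⟨1, by omega⟩) - y (f 0)) := by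
  have key : ∀ k, (∀ hk : k < m + 1, y (f ⟨k, hk⟩) =
      y (f 0) + k * (y (f ⟨1, by omega⟩) - y (f 0))) ∧
      (∀ hk : k + 1 < m + 1, y (f ⟨k + 1, hk⟩) =
      y (f 0) + (k + 1 : ℕ) * (y (f ⟨1, by omega⟩) - y (f 0))) := by
    intro k
    induction k with
    | zero =>
      refine ⟨fun hk => ?_, fun hk => ?_⟩
      · have : (⟨0, hk⟩ : Fin (m + 1)) = 0 := rfl
        rw [this]; simp
      · simp
    | succ k ih =>
      refine ⟨ih.2, fun hk => ?_⟩
      have h1 := ih.1 (by omega)
      have h2 := ih.2 (by omega)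
      have h3 := hy ⟨k, by omega⟩ ⟨k + 1, by omega⟩ rfl
      rw [mulVec_interior ends f e β hβ hC hβm hα ⟨k, by omega⟩ ⟨k + 1, by omega⟩ rfl] at h3
      have e1 : (⟨k, by omega⟩ : Fin m).succ = (⟨k + 1, by omega⟩ : Fin (m + 1)) := rfl
      have e2 : (⟨k, by omega⟩ : Fin m).castSucc = (⟨k, by omega⟩ : Fin (m + 1)) := rfl
      have e3 : (⟨k + 1, by omega⟩ : Fin m).succ = (⟨k + 1 + 1, hk⟩ : Fin (m + 1)) := rfl
      rw [e1, e2, e3, h1, h2] at h3
      push_cast at h3 ⊢
      linarith
  intro k hk
  exact (key k).1 hk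

/-- the side of the last bridge containing the last vertex -/
theorem exists_side (hC : IsChain ends f e) (hm : 1 ≤ m)
    (hconn : IsConnecting ends (e ⟨m - 1, by omega⟩)) :
    ∃ T : V → Prop, (∀ e', e' ≠ e ⟨m - 1, by omega⟩ → (T (ends e').1 ↔ T (ends e').2)) ∧
      T (f (Fin.last m)) ∧ ∀ k (hk : k < m), ¬ T (f ⟨k, by omega⟩) := by
  obtain ⟨S, hS⟩ := hconn
  set l : Fin m := ⟨m - 1, by omega⟩ with hl
  have hlsucc : l.succ = Fin.last m := by
    apply Fin.ext
    simp [hl]
    omega
  refine ⟨fun v => (v ∈ S ↔ f (Fin.last m) ∈ S), ?_, Iff.rfl, ?_⟩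
  · intro e' he'
    have h := (hS e').not.mpr he'
    by_cases h1 : (ends e').1 ∈ S <;> by_cases h2 : (ends e').2 ∈ S <;> simp_all
  · have hT2 : ∀ e', e' ≠ e l → (((ends e').1 ∈ S ↔ f (Fin.last m) ∈ S) ↔
        ((ends e').2 ∈ S ↔ f (Fin.last m) ∈ S)) := by
      intro e' he'
      have h := (hS e').not.mpr he'
      by_cases h1 : (ends e').1 ∈ S <;> by_cases h2 : (ends e').2 ∈ S <;> simp_all
    have hbase : ¬ (f l.castSucc ∈ S ↔ f (Fin.last m) ∈ S) := by
      have h := (hS (e l)).mpr rfl
      rcases hC.2.2 l with h1 | h1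
      · rw [h1, hlsucc] at h
        simp only at h
        tauto
      · rw [h1, hlsucc] at h
        simp only at h
        tauto
    have key : ∀ d k (hk : k < m), k + d + 1 = m →
        ¬ (f ⟨k, by omega⟩ ∈ S ↔ f (Fin.last m) ∈ S) := by
      intro d
      induction d with
      | zero =>
        intro k hk hkd
        have : (⟨k, by omega⟩ : Fin (m + 1)) = l.castSucc := by
          apply Fin.ext; simp [hl]; omega
        rw [this]; exact hbase
      | succ d ih =>
        intro k hk hkd
        have ih' := ih (k + 1) (by omega) (by omega)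
        have hne : e ⟨k, hk⟩ ≠ e l := by
          intro h
          have := hC.2.1 h
          rw [Fin.ext_iff] at this
          simp [hl] at this
          omega
        have h2 := hT2 _ hne
        have e1 : (⟨k, hk⟩ : Fin m).succ = (⟨k + 1, by omega⟩ : Fin (m + 1)) := rfl
        have e2 : (⟨k, hk⟩ : Fin m).castSucc = (⟨k, by omega⟩ : Fin (m + 1)) := rfl
        rcases hC.2.2 ⟨k, hk⟩ with h1 | h1
        · rw [h1, e1, e2] at h2
          simp only at h2
          rw [h2]; exact ih'
        · rw [h1, e1, e2] at h2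
          simp only at h2
          rw [← h2]; exact ih'
    intro k hk
    exact key (m - 1 - k) k hk (by omega)

open Classical in
/-- the correcting vector: index on the chain, `β` on the far side, `0` on the near side -/
noncomputable def cvec (T : V → Prop) (β : V → ℤ) (v : V) : ℤ :=
  if h : ∃ i : Fin (m + 1), f i = v then ((h.choose : Fin (m + 1)) : ℕ)
  else if T v then β v else 0

theorem cvec_chain (hinj : Function.Injective f) (T : V → Prop) (β : V → ℤ) (i : Fin (m + 1)) :
    cvec f T β (f i) = (i : ℕ) := by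
  unfold cvec
  have h : ∃ j : Fin (m + 1), f j = f i := ⟨i, rfl⟩
  rw [dif_pos h]
  have := hinj h.choose_spec
  rw [this]

open Classical in
theorem cvec_off (T : V → Prop) (β : V → ℤ) (v : V) (hv : v ∉ Set.range f) :
    cvec f T β v = if T v then β v else 0 := by
  unfold cvec
  rw [dif_neg]
  rintro ⟨i, hi⟩; exact hv ⟨i, hi⟩

theorem mulVec_cvec_off (β : V → ℤ) (hβ : IsMultFn ends β) (hC : IsChain ends f e)
    (hβm : ∀ i, β (f i) = m) (hα : ∀ i, mfMatrix ends β (f i) (f i) = -2) (hm : 1 ≤ m)
    (T : V → Prop)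
    (hT1 : ∀ e', e' ≠ e ⟨m - 1, by omega⟩ → (T (ends e').1 ↔ T (ends e').2))
    (hT2 : T (f (Fin.last m))) (hT3 : ∀ k (hk : k < m), ¬ T (f ⟨k, by omega⟩))
    (w : V) (hw : w ∉ Set.range f) :
    (Matrix.mulVec (mfMatrix ends β) (cvec f T β)) w = 0 := by
  classical
  set l : Fin m := ⟨m - 1, by omega⟩ with hl
  -- adjacency preserves the side
  have hadj : ∀ u, edgeMult ends w u ≠ 0 → (T w ↔ T u) := by
    intro u hu
    obtain ⟨e', he'⟩ := exists_edge_of_edgeMult_ne_zero ends w u hu
    have hne : e' ≠ e l := by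
      rintro rfl
      rcases hC.2.2 l with h1 | h1 <;> rcases he' with h2 | h2 <;> rw [h1] at h2 <;>
        first
        | exact hw ⟨_, (Prod.mk.inj h2).1⟩
        | exact hw ⟨_, (Prod.mk.inj h2).2⟩
    have := hT1 e' hne
    rcases he' with h | h
    · rw [h] at this; exact this
    · rw [h] at this; exact this.symm
  rw [edgeMult_mulVec]
  by_cases hTw : T w
  · have key : ∀ u ∈ univ.erase w, (edgeMult ends w u : ℤ) * cvec f T β u =
        (edgeMult ends w u : ℤ) * β u := by
      intro u _
      by_cases h0 : edgeMult ends w u = 0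
      · rw [h0]; simp
      · have hTu : T u := (hadj u h0).mp hTw
        by_cases hu : u ∈ Set.range f
        · obtain ⟨i, rfl⟩ := hu
          have hi : (i : ℕ) = m := by
            by_contra hne
            have hlt : (i : ℕ) < m := by
              have := i.2; omega
            exact hT3 i hlt hTu
          rw [cvec_chain f hC.1, hβm, hi]
        · rw [cvec_off f T β u hu, if_pos hTu]
    rw [Finset.sum_congr rfl key, cvec_off f T β w hw, if_pos hTw, ← edgeMult_mulVec,
      mulVec_beta ends β hβ]
    rfl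
  · have key : ∀ u ∈ univ.erase w, (edgeMult ends w u : ℤ) * cvec f T β u = 0 := by
      intro u _
      by_cases h0 : edgeMult ends w u = 0
      · rw [h0]; simp
      · have hTu : ¬ T u := fun h => hTw ((hadj u h0).mpr h)
        by_cases hu : u ∈ Set.range f
        · obtain ⟨i, rfl⟩ := hu
          rw [cvec_chain f hC.1]
          have hlt : (i : ℕ) < m := by
            by_contra hne
            have hi : (i : ℕ) = m := by
              have := i.2; omega
            have : i = Fin.last m := Fin.ext hi
            rw [this] at hTu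
            exact hTu hT2
          rcases Nat.eq_zero_or_pos (i : ℕ) with hi0 | hipos
          · rw [hi0]; simp
          · exfalso
            obtain ⟨k, hk⟩ : ∃ k, (i : ℕ) = k + 1 := ⟨(i : ℕ) - 1, by omega⟩
            have h3 := (interior ends f e β hβ hC hβm hα ⟨k, by omega⟩ ⟨k + 1, by omega⟩ rfl).2.2
            have e1 : (⟨k, by omega⟩ : Fin m).succ = i := by
              apply Fin.ext; simp [hk]
            rw [e1] at h3
            have := h3 w (fun h => hw ⟨_, h.symm⟩) (fun h => hw ⟨_, h.symm⟩)
              (fun h => hw ⟨_, h.symm⟩)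
            rw [edgeMult_comm] at this
            exact h0 this
        · rw [cvec_off f T β u hu, if_neg hTu, mul_zero]
    rw [Finset.sum_eq_zero key, cvec_off f T β w hw, if_neg hTw]
    simp

theorem pushV_mulVec_cvec (β : V → ℤ) (hβ : IsMultFn ends β) (hC : IsChain ends f e)
    (hβm : ∀ i, β (f i) = m) (hα : ∀ i, mfMatrix ends β (f i) (f i) = -2) (hm : 1 ≤ m)
    (T : V → Prop)
    (hT1 : ∀ e', e' ≠ e ⟨m - 1, by omega⟩ → (T (ends e').1 ↔ T (ends e').2))
    (hT2 : T (f (Fin.last m))) (hT3 : ∀ k (hk : k < m), ¬ T (f ⟨k, by omega⟩)) :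
    pushV ends (univ.image e) (Matrix.mulVec (mfMatrix ends β) (cvec f T β)) = 0 := by
  classical
  have hoff := mulVec_cvec_off ends f e β hβ hC hβm hα hm T hT1 hT2 hT3
  funext c
  show ∑ v ∈ univ.filter (fun v => ctrMk ends (univ.image e) v = c),
    (Matrix.mulVec (mfMatrix ends β) (cvec f T β)) v = 0
  obtain ⟨v₀, rfl⟩ := ctrMk_surjective ends (univ.image e) c
  by_cases hv : v₀ ∈ Set.range f
  · have hcl : ctrMk ends (univ.image e) v₀ = ctrMk ends (univ.image e) (f 0) :=
      (ctrMk_eq_iff ends f e hC v₀ (f 0)).mpr (Or.inr ⟨hv, ⟨0, rfl⟩⟩)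
    rw [hcl]
    have hw := weighted_sum_zero ends β (cvec f T β) hβ
    have hmpos : (0 : ℤ) < m := by
      rw [← hβm 0]; exact (hβ (f 0)).1
    have h1 : ∑ v, β v * (Matrix.mulVec (mfMatrix ends β) (cvec f T β)) v =
        (m : ℤ) * ∑ v ∈ univ.filter
          (fun v => ctrMk ends (univ.image e) v = ctrMk ends (univ.image e) (f 0)),
          (Matrix.mulVec (mfMatrix ends β) (cvec f T β)) v := by
      rw [Finset.mul_sum, Finset.sum_filter]
      refine Finset.sum_congr rfl fun v _ => ?_
      by_cases hvc : ctrMk ends (univ.image e) v = ctrMk ends (univ.image e) (f 0)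
      · rw [if_pos hvc]
        rcases (ctrMk_eq_iff ends f e hC v (f 0)).mp hvc with h | h
        · rw [h, hβm]
        · obtain ⟨i, rfl⟩ := h.1
          rw [hβm]
      · rw [if_neg hvc]
        have : v ∉ Set.range f := by
          rintro ⟨i, rfl⟩
          exact hvc (ctrMk_chain ends f e hC i)
        rw [hoff v this, mul_zero]
    rw [h1] at hw
    rcases mul_eq_zero.mp hw with h | h
    · exact absurd h hmpos.ne'
    · exact h
  · rw [Finset.sum_eq_single v₀]
    · exact hoff v₀ hv
    · intro v hv' hne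
      exfalso
      rcases (ctrMk_eq_iff ends f e hC v v₀).mp (Finset.mem_filter.mp hv').2 with h1 | h1
      · exact hne h1
      · exact hv h1.2
    · intro h
      exact absurd (by simp) h

/-- the main theorem: injectivity of the map on component groups induced by contracting the chain -/
theorem contract_injective (β : V → ℤ) (hβ : IsMultFn ends β) (hC : IsChain ends f e)
    (hconn : ∀ i, IsConnecting ends (e i))
    (hβm : ∀ i, β (f i) = m) (hα : ∀ i, mfMatrix ends β (f i) (f i) = -2)
    (x : CtrVert ends (univ.image e) → ℤ)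
    (hfx : liftAt ends (univ.image e) (f 0) x ∈
      LinearMap.range (Matrix.mulVecLin (mfMatrix ends β))) :
    x ∈ LinearMap.range (Matrix.mulVecLin
      (mfMatrix (ctrEnds ends (univ.image e)) (ctrFn ends (univ.image e) β))) := by
  classical
  obtain ⟨y, hy⟩ := hfx
  rw [Matrix.mulVecLin_apply] at hy
  have hmpos : (0 : ℤ) < m := by
    rw [← hβm 0]; exact (hβ (f 0)).1
  have hm : 1 ≤ m := by
    have : (0 : ℤ) < (m : ℤ) := hmpos
    omega
  obtain ⟨T, hT1, hT2, hT3⟩ := exists_side ends f e hC hm (hconn _)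
  -- interior values
  have hint : ∀ i j : Fin m, j.castSucc = i.succ →
      (Matrix.mulVec (mfMatrix ends β) y) (f i.succ) = 0 := by
    intro i j _
    rw [hy]
    unfold liftAt
    rw [if_pos]
    refine ⟨ctrMk_chain ends f e hC _, ?_⟩
    intro h
    have := hC.1 h
    rw [Fin.ext_iff] at this
    simp at this
  have hvals := chain_values ends f e β hβ hC hβm hα y hint hm
  set δ := y (f ⟨1, by omega⟩) - y (f 0) with hδ
  set yt : V → ℤ := fun v => y v - δ * cvec f T β v with hyt
  have hyt_chain : ∀ i : Fin (m + 1), yt (f i) = y (f 0) := by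
    intro i
    rw [hyt]
    simp only
    rw [cvec_chain f hC.1]
    have := hvals i i.2
    rw [show (⟨(i : ℕ), i.2⟩ : Fin (m + 1)) = i from rfl] at this
    rw [this]; ring
  set y' : CtrVert ends (univ.image e) → ℤ :=
    fun c => yt (Quotient.out (s := ctrSetoid ends (univ.image e)) c) with hy'
  have hy'mk : ∀ v, y' (ctrMk ends (univ.image e) v) = yt v := by
    intro v
    have h : ctrMk ends (univ.image e)
        (Quotient.out (s := ctrSetoid ends (univ.image e)) (ctrMk ends (univ.image e) v)) =
        ctrMk ends (univ.image e) v := Quotient.out_eq _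
    rcases (ctrMk_eq_iff ends f e hC _ _).mp h with h1 | ⟨⟨i, hi⟩, ⟨j, hj⟩⟩
    · rw [hy']; simp only; rw [h1]
    · rw [hy']; simp only; rw [← hi, ← hj, hyt_chain, hyt_chain]
  have hfun : (fun v => y' (ctrMk ends (univ.image e) v)) = yt := funext hy'mk
  have hconst : ∀ v, ctrFn ends (univ.image e) β (ctrMk ends (univ.image e) v) = β v :=
    ctrFn_const ends f e hC β (fun i j => by rw [hβm, hβm])
  have h1 := (pushV_mulVec ends (univ.image e) β hβ hconst y').1
  rw [hfun] at h1
  have h2 : Matrix.mulVec (mfMatrix ends β) yt =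
      Matrix.mulVec (mfMatrix ends β) y - δ • Matrix.mulVec (mfMatrix ends β) (cvec f T β) := by
    rw [← Matrix.mulVec_smul, ← Matrix.mulVec_sub]
    congr 1
  rw [h2, map_sub, map_smul, pushV_mulVec_cvec ends f e β hβ hC hβm hα hm T hT1 hT2 hT3, smul_zero,
    sub_zero, hy, pushV_liftAt ends f e hC] at h1
  exact ⟨y', by rw [Matrix.mulVecLin_apply]; exact h1.symm⟩

end Final

end Groth.Agent.Lib.Helper25.LabContract
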