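import Groth.Agent.Lib.Helper25.LabChain

/-!
# Helper library (helper25): surjectivity for the contraction of a connecting chain
-/

set_option autoImplicit false
set_option linter.unusedSectionVars false
universe u
open Finset

namespace Groth.Agent.Lib.Helper25.LabContract

open LabGraph DualGr

section Surj

variable {V E : Type u} [Fintype V] [Fintype E] [DecidableEq V] [DecidableEq E]
  (ends : E → V × V) {m : ℕ} (f : Fin (m + 1) → V) (e : Fin m → E)

/-- a connecting edge is the only edge between its endpoints -/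
theorem edgeMult_of_isConnecting (e' : E) (a b : V) (h : ends e' = (a, b) ∨ ends e' = (b, a))
    (hconn : IsConnecting ends e') : edgeMult ends a b = 1 := by
  obtain ⟨S, hS⟩ := hconn
  have hcross : (a ∈ S ↔ b ∉ S) := by
    have := (hS e').mpr rfl
    rcases h with h | h
    · rw [h] at this; exact this
    · rw [h] at this; simp only at this; tauto
  unfold edgeMult
  rw [Finset.card_eq_one]
  refine ⟨e', ?_⟩
  ext e''
  simp only [Finset.mem_filter, Finset.mem_univ, true_and, Finset.mem_singleton]
  constructor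
  · intro h''
    apply (hS e'').mp
    rcases h'' with h'' | h''
    · rw [h'']; exact hcross
    · rw [h'']; simp only; tauto
  · rintro rfl; exact h

theorem exists_interior (i : Fin (m + 1)) (h0 : i ≠ 0) (hl : i ≠ Fin.last m) :
    ∃ i' j' : Fin m, i'.succ = i ∧ j'.castSucc = i'.succ := by
  have h0' : (i : ℕ) ≠ 0 := fun h => h0 (Fin.ext h)
  have hl' : (i : ℕ) ≠ m := fun h => hl (Fin.ext h)
  have := i.2
  refine ⟨⟨i - 1, by omega⟩, ⟨i, by omega⟩, ?_, ?_⟩
  · apply Fin.ext; simp; omega
  · apply Fin.ext; simp; omega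

/-- an edge other than the last chain edge does not change sides -/
theorem side_of_edge (hm : 1 ≤ m) (T : V → Prop)
    (hT1 : ∀ e', e' ≠ e ⟨m - 1, by omega⟩ → (T (ends e').1 ↔ T (ends e').2))
    (e' : E) (a b : V) (h : ends e' = (a, b) ∨ ends e' = (b, a))
    (hne : e' ≠ e ⟨m - 1, by omega⟩) : T a ↔ T b := by
  have := hT1 e' hne
  rcases h with h | h
  · rw [h] at this; exact this
  · rw [h] at this; exact this.symm

/-- the endpoints of the last chain edge -/
theorem last_edge_ends (hC : IsChain ends f e) (hm : 1 ≤ m) (a b : V)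
    (h : ends (e ⟨m - 1, by omega⟩) = (a, b) ∨ ends (e ⟨m - 1, by omega⟩) = (b, a)) :
    (a = f ⟨m - 1, by omega⟩ ∧ b = f (Fin.last m)) ∨
      (a = f (Fin.last m) ∧ b = f ⟨m - 1, by omega⟩) := by
  set l : Fin m := ⟨m - 1, by omega⟩ with hl
  have e1 : l.castSucc = (⟨m - 1, by omega⟩ : Fin (m + 1)) := rfl
  have e2 : l.succ = Fin.last m := by
    apply Fin.ext; simp [hl]; omega
  rcases hC.2.2 l with h1 | h1 <;> rcases h with h2 | h2 <;> rw [h1, e1, e2] at h2 <;>
    obtain ⟨h3, h4⟩ := Prod.mk.inj h2
  · exact Or.inl ⟨h3.symm, h4.symm⟩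
  · exact Or.inr ⟨h4.symm, h3.symm⟩
  · exact Or.inr ⟨h3.symm, h4.symm⟩
  · exact Or.inl ⟨h4.symm, h3.symm⟩

/-- chain vertices at distance at least two are not adjacent -/
theorem edgeMult_nonadj (β : V → ℤ) (hβ : IsMultFn ends β) (hC : IsChain ends f e)
    (hβm : ∀ i, β (f i) = m) (hα : ∀ i, mfMatrix ends β (f i) (f i) = -2) (hm : 1 ≤ m)
    (T : V → Prop)
    (hT1 : ∀ e', e' ≠ e ⟨m - 1, by omega⟩ → (T (ends e').1 ↔ T (ends e').2))
    (hT2 : T (f (Fin.last m))) (hT3 : ∀ k (hk : k < m), ¬ T (f ⟨k, by omega⟩))
    (i j : Fin (m + 1)) (hij : (j : ℕ) + 2 ≤ i) : edgeMult ends (f i) (f j) = 0 := by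
  have hinj := hC.1
  by_cases hi : i = Fin.last m
  · by_contra hne
    obtain ⟨e', he'⟩ := exists_edge_of_edgeMult_ne_zero ends _ _ hne
    have him : (i : ℕ) = m := by rw [hi]; rfl
    have hne' : e' ≠ e ⟨m - 1, by omega⟩ := by
      rintro rfl
      rcases last_edge_ends ends f e hC hm _ _ he' with ⟨h1, h2⟩ | ⟨h1, h2⟩
      · have := hinj h1
        rw [Fin.ext_iff] at this
        simp at this
        omega
      · have := hinj h2
        rw [Fin.ext_iff] at this
        simp at this
        omega
    have h := side_of_edge ends e hm T hT1 e' _ _ he' hne'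
    rw [hi] at h
    have hj : (j : ℕ) < m := by omega
    exact hT3 j hj (h.mp hT2)
  · have h0 : i ≠ 0 := by
      intro h; rw [h] at hij; simp at hij
    obtain ⟨i', j', hi', hj'⟩ := exists_interior i h0 hi
    have h3 := (interior ends f e β hβ hC hβm hα i' j' hj').2.2
    rw [hi'] at h3
    have hi'v : (i' : ℕ) + 1 = i := by
      have := congrArg Fin.val hi'
      simpa using this
    have hj'v : (j' : ℕ) = i' + 1 := by
      have := congrArg Fin.val hj'
      simpa using this
    apply h3
    · intro h
      have := hinj h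
      rw [Fin.ext_iff] at this
      omega
    · intro h
      have := hinj h
      rw [Fin.ext_iff] at this
      simp at this
      omega
    · intro h
      have := hinj h
      rw [Fin.ext_iff] at this
      simp at this
      omega

/-- `α` applied to the correcting vector -/
theorem mulVec_cvec (β : V → ℤ) (hβ : IsMultFn ends β) (hC : IsChain ends f e)
    (hconn0 : ∀ i, IsConnecting ends (e i))
    (hβm : ∀ i, β (f i) = m) (hα : ∀ i, mfMatrix ends β (f i) (f i) = -2) (hm : 1 ≤ m)
    (T : V → Prop)
    (hT1 : ∀ e', e' ≠ e ⟨m - 1, by omega⟩ → (T (ends e').1 ↔ T (ends e').2))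
    (hT2 : T (f (Fin.last m))) (hT3 : ∀ k (hk : k < m), ¬ T (f ⟨k, by omega⟩)) :
    Matrix.mulVec (mfMatrix ends β) (cvec f T β) =
      Pi.single (f 0) 1 - Pi.single (f (Fin.last m)) 1 := by
  classical
  have hinj := hC.1
  set g := Matrix.mulVec (mfMatrix ends β) (cvec f T β) with hg
  have hoff : ∀ w, w ∉ Set.range f → g w = 0 :=
    mulVec_cvec_off ends f e β hβ hC hβm hα hm T hT1 hT2 hT3
  have hint : ∀ i : Fin (m + 1), i ≠ 0 → i ≠ Fin.last m → g (f i) = 0 := by
    intro i h0 hl
    obtain ⟨i', j', hi', hj'⟩ := exists_interior i h0 hl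
    rw [← hi', hg, mulVec_interior ends f e β hβ hC hβm hα i' j' hj', cvec_chain f hinj,
      cvec_chain f hinj, cvec_chain f hinj]
    have hj'v : (j' : ℕ) = i' + 1 := by
      have := congrArg Fin.val hj'
      simpa using this
    simp only [Fin.val_succ, Fin.val_castSucc, hj'v]
    push_cast
    ring
  have h0l : (0 : Fin (m + 1)) ≠ Fin.last m := by
    intro h
    have := congrArg Fin.val h
    simp at this
    omega
  have hf0l : f 0 ≠ f (Fin.last m) := fun h => h0l (hinj h)
  have h0 : g (f 0) = 1 := by
    rw [hg, edgeMult_mulVec, cvec_chain f hinj]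
    simp only [Fin.val_zero, Nat.cast_zero, mul_zero, zero_add]
    rw [Finset.sum_eq_single (f ⟨1, by omega⟩)]
    · have hE : edgeMult ends (f 0) (f ⟨1, by omega⟩) = 1 :=
        edgeMult_of_isConnecting ends (e ⟨0, by omega⟩) (f 0) (f ⟨1, by omega⟩)
          (hC.2.2 ⟨0, by omega⟩) (hconn0 _)
      rw [cvec_chain f hinj, hE]
      simp
    · intro w hw hw1
      by_cases hwr : w ∈ Set.range f
      · obtain ⟨j, rfl⟩ := hwr
        have hj0 : (j : ℕ) ≠ 0 := by
          intro h
          exact (Finset.mem_erase.mp hw).1 (congrArg f (Fin.ext h))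
        have hj1 : (j : ℕ) ≠ 1 := by
          intro h
          exact hw1 (congrArg f (Fin.ext h))
        rw [edgeMult_comm, edgeMult_nonadj ends f e β hβ hC hβm hα hm T hT1 hT2 hT3 j 0
          (by simp; omega)]
        simp
      · by_cases hz : edgeMult ends (f 0) w = 0
        · rw [hz]; simp
        · obtain ⟨e', he'⟩ := exists_edge_of_edgeMult_ne_zero ends _ _ hz
          have hne : e' ≠ e ⟨m - 1, by omega⟩ := by
            rintro rfl
            rcases last_edge_ends ends f e hC hm _ _ he' with ⟨_, h2⟩ | ⟨_, h2⟩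
            · exact hwr ⟨_, h2.symm⟩
            · exact hwr ⟨_, h2.symm⟩
          have h := side_of_edge ends e hm T hT1 e' _ _ he' hne
          have hTw : ¬ T w := fun hw' => hT3 0 (by omega) (h.mpr hw')
          rw [cvec_off f T β w hwr, if_neg hTw, mul_zero]
    · intro h
      exfalso; apply h
      refine Finset.mem_erase.mpr ⟨?_, Finset.mem_univ _⟩
      intro h'
      have := hinj h'
      rw [Fin.ext_iff] at this
      simp at this
  have hmpos : (0 : ℤ) < m := by
    rw [← hβm 0]; exact (hβ (f 0)).1
  have hlast : g (f (Fin.last m)) = -1 := by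
    have hw := weighted_sum_zero ends β (cvec f T β) hβ
    rw [← hg, Finset.sum_eq_add (f 0) (f (Fin.last m)) hf0l, hβm, hβm, h0] at hw
    · have : (m : ℤ) * (1 + g (f (Fin.last m))) = 0 := by linarith
      rcases mul_eq_zero.mp this with h | h
      · exact absurd h hmpos.ne'
      · linarith
    · intro c _ hc
      by_cases hcr : c ∈ Set.range f
      · obtain ⟨i, rfl⟩ := hcr
        rw [hint i (fun h => hc.1 (by rw [h])) (fun h => hc.2 (by rw [h])), mul_zero]
      · rw [hoff c hcr, mul_zero]
    · intro h; exact absurd (Finset.mem_univ _) h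
    · intro h; exact absurd (Finset.mem_univ _) h
  funext v
  by_cases hvr : v ∈ Set.range f
  · obtain ⟨i, rfl⟩ := hvr
    by_cases hi0 : i = 0
    · subst hi0
      rw [h0]
      simp [hf0l]
    · by_cases hil : i = Fin.last m
      · subst hil
        rw [hlast]
        simp [Ne.symm hf0l]
      · rw [hint i hi0 hil]
        have h1 : f i ≠ f 0 := fun h => hi0 (hinj h)
        have h2 : f i ≠ f (Fin.last m) := fun h => hil (hinj h)
        simp [h1, h2]
  · rw [hoff v hvr]
    have h1 : v ≠ f 0 := fun h => hvr ⟨_, h.symm⟩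
    have h2 : v ≠ f (Fin.last m) := fun h => hvr ⟨_, h.symm⟩
    simp [h1, h2]

theorem pushV_apply (D : Finset E) (r : V → ℤ) (c : CtrVert ends D) :
    pushV ends D r c = ∑ x ∈ univ.filter (fun x => ctrMk ends D x = c), r x := rfl

theorem betaHom_pushV (D : Finset E) (β : V → ℤ)
    (hconst : ∀ v, ctrFn ends D β (ctrMk ends D v) = β v) (r : V → ℤ) :
    betaHom (ctrFn ends D β) (pushV ends D r) = betaHom β r := by
  unfold betaHom
  rw [Fintype.linearCombination_apply, Fintype.linearCombination_apply]
  simp only [pushV_apply, smul_eq_mul, Finset.sum_mul]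
  rw [← Finset.sum_fiberwise univ (ctrMk ends D) (fun v => r v * β v)]
  refine Finset.sum_congr rfl fun c _ => Finset.sum_congr rfl fun v hv => ?_
  rw [← hconst v, (Finset.mem_filter.mp hv).2]

theorem betaHom_mulVec (β : V → ℤ) (hβ : IsMultFn ends β) (z : V → ℤ) :
    betaHom β (Matrix.mulVec (mfMatrix ends β) z) = 0 := by
  unfold betaHom
  rw [Fintype.linearCombination_apply]
  have := weighted_sum_zero ends β z hβ
  simp only [smul_eq_mul]
  rw [← this]; exact Finset.sum_congr rfl fun v _ => mul_comm _ _

/-- `liftAt` as a linear map -/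
noncomputable def liftAtLin (D : Finset E) (v₀ : V) : (CtrVert ends D → ℤ) →ₗ[ℤ] (V → ℤ) where
  toFun := liftAt ends D v₀
  map_add' x y := by
    funext v; unfold liftAt; simp only [Pi.add_apply]; split_ifs <;> simp
  map_smul' n x := by
    funext v; unfold liftAt; simp only [Pi.smul_apply, RingHom.id_apply]; split_ifs <;> simp

/-- lifting the push-forward of a vector vanishing at the interior chain vertices -/
theorem liftAt_pushV (hC : IsChain ends f e) (hm : 1 ≤ m) (r : V → ℤ)
    (hr : ∀ i : Fin (m + 1), i ≠ 0 → i ≠ Fin.last m → r (f i) = 0) :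
    liftAt ends (univ.image e) (f 0) (pushV ends (univ.image e) r) =
      r + r (f (Fin.last m)) • (Pi.single (f 0) 1 - Pi.single (f (Fin.last m)) 1) := by
  classical
  have hinj := hC.1
  have h0l : (0 : Fin (m + 1)) ≠ Fin.last m := by
    intro h
    have := congrArg Fin.val h
    simp at this
    omega
  have hf0l : f 0 ≠ f (Fin.last m) := fun h => h0l (hinj h)
  funext v
  show (if ctrMk ends (univ.image e) v = ctrMk ends (univ.image e) (f 0) ∧ v ≠ f 0 then 0
    else pushV ends (univ.image e) r (ctrMk ends (univ.image e) v)) = _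
  by_cases hvr : v ∈ Set.range f
  · obtain ⟨i, rfl⟩ := hvr
    by_cases hi0 : i = 0
    · subst hi0
      rw [if_neg (by simp), pushV_apply, Finset.sum_eq_add (f 0) (f (Fin.last m)) hf0l]
      · simp [hf0l]
      · intro c hc hc2
        rcases (ctrMk_eq_iff ends f e hC c (f 0)).mp (Finset.mem_filter.mp hc).2 with h | h
        · exact absurd h hc2.1
        · obtain ⟨i, rfl⟩ := h.1
          exact hr i (fun h => hc2.1 (by rw [h])) (fun h => hc2.2 (by rw [h]))
      · intro h; exfalso; apply h; simp
      · intro h; exfalso; apply h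
        exact Finset.mem_filter.mpr ⟨Finset.mem_univ _, ctrMk_chain ends f e hC _⟩
    · rw [if_pos ⟨ctrMk_chain ends f e hC i, fun h => hi0 (hinj h)⟩]
      have h1 : f i ≠ f 0 := fun h => hi0 (hinj h)
      by_cases hil : i = Fin.last m
      · subst hil
        simp [Ne.symm hf0l]
      · have h2 : f i ≠ f (Fin.last m) := fun h => hil (hinj h)
        rw [Pi.add_apply, hr i hi0 hil]
        simp [h1, h2]
  · have hne : ¬ (ctrMk ends (univ.image e) v = ctrMk ends (univ.image e) (f 0) ∧ v ≠ f 0) := by
      rintro ⟨h, _⟩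
      rcases (ctrMk_eq_iff ends f e hC v (f 0)).mp h with h1 | h1
      · exact hvr ⟨0, h1.symm⟩
      · exact hvr h1.1
    rw [if_neg hne, pushV_apply, Finset.sum_eq_single v]
    · have h1 : v ≠ f 0 := fun h => hvr ⟨_, h.symm⟩
      have h2 : v ≠ f (Fin.last m) := fun h => hvr ⟨_, h.symm⟩
      simp [h1, h2]
    · intro w hw hne'
      exfalso
      rcases (ctrMk_eq_iff ends f e hC w v).mp (Finset.mem_filter.mp hw).2 with h1 | h1
      · exact hne' h1
      · exact hvr h1.2
    · intro h
      exact absurd (by simp) h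

/-- killing the values of a vector at the chain vertices other than the first, modulo `im α` -/
theorem exists_reduce (β : V → ℤ) (hβ : IsMultFn ends β) (hC : IsChain ends f e)
    (hconn : ∀ i, IsConnecting ends (e i))
    (hβm : ∀ i, β (f i) = m) (hα : ∀ i, mfMatrix ends β (f i) (f i) = -2) (hm : 1 ≤ m)
    (T : V → Prop)
    (hT1 : ∀ e', e' ≠ e ⟨m - 1, by omega⟩ → (T (ends e').1 ↔ T (ends e').2))
    (hT2 : T (f (Fin.last m))) (hT3 : ∀ k (hk : k < m), ¬ T (f ⟨k, by omega⟩)) (y : V → ℤ) :
    ∃ z : V → ℤ, ∀ i : Fin (m + 1), i ≠ 0 →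
      (y + Matrix.mulVec (mfMatrix ends β) z) (f i) = 0 := by
  classical
  have hinj := hC.1
  have key : ∀ k, k ≤ m → ∃ z : V → ℤ, ∀ i : Fin (m + 1), m - k < (i : ℕ) →
      (y + Matrix.mulVec (mfMatrix ends β) z) (f i) = 0 := by
    intro k
    induction k with
    | zero =>
      intro _
      exact ⟨0, fun i hi => absurd i.2 (by omega)⟩
    | succ k ih =>
      intro hk
      obtain ⟨z, hz⟩ := ih (by omega)
      set l : Fin m := ⟨m - k - 1, by omega⟩ with hl
      set t := (y + Matrix.mulVec (mfMatrix ends β) z) (f l.succ) with ht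
      refine ⟨z - t • Pi.single (f l.castSucc) 1, fun i hi => ?_⟩
      rw [Matrix.mulVec_sub, Matrix.mulVec_smul, Matrix.mulVec_single_one]
      have hval : (y + (Matrix.mulVec (mfMatrix ends β) z - t • (mfMatrix ends β).col (f l.castSucc)))
          (f i) = (y + Matrix.mulVec (mfMatrix ends β) z) (f i) -
            t * mfMatrix ends β (f i) (f l.castSucc) := by
        simp only [Pi.add_apply, Pi.sub_apply, Pi.smul_apply, Matrix.col_apply, smul_eq_mul]
        ring
      rw [hval]
      have hne : f i ≠ f l.castSucc := by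
        intro h
        have := hinj h
        rw [Fin.ext_iff] at this
        simp [hl] at this
        omega
      rw [mfMatrix, if_neg hne]
      by_cases hil : i = l.succ
      · rw [hil, ← ht]
        have hE : edgeMult ends (f l.castSucc) (f l.succ) = 1 :=
          edgeMult_of_isConnecting ends (e l) _ _ (hC.2.2 l) (hconn l)
        rw [edgeMult_comm, hE]
        simp
      · have hgt : m - k < (i : ℕ) := by
          have h1 : (i : ℕ) ≠ m - k - 1 + 1 := by
            intro h
            apply hil
            apply Fin.ext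
            simp [hl, h]
          omega
        rw [hz i hgt, edgeMult_nonadj ends f e β hβ hC hβm hα hm T hT1 hT2 hT3 i l.castSucc
          (by simp [hl]; omega)]
        simp
  obtain ⟨z, hz⟩ := key m le_rfl
  refine ⟨z, fun i hi => hz i ?_⟩
  have : (i : ℕ) ≠ 0 := fun h => hi (Fin.ext h)
  omega

/-- the main theorem: the map on component groups induced by contracting the chain exists and is
surjective -/
theorem contract_surjective (β : V → ℤ) (hβ : IsMultFn ends β) (hC : IsChain ends f e)
    (hconn : ∀ i, IsConnecting ends (e i))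
    (hβm : ∀ i, β (f i) = m) (hα : ∀ i, mfMatrix ends β (f i) (f i) = -2) :
    ∃ φ : CompGrp (ctrEnds ends (univ.image e)) (ctrFn ends (univ.image e) β) →+
        CompGrp ends β,
      Function.Surjective φ ∧
      ∀ (x : LinearMap.ker (betaHom (ctrFn ends (univ.image e) β)))
        (y : LinearMap.ker (betaHom β)),
        (y : V → ℤ) = liftAt ends (univ.image e) (f 0)
          (x : CtrVert ends (univ.image e) → ℤ) →
        φ (Submodule.Quotient.mk x) = Submodule.Quotient.mk y := by
  classical
  have hmpos : (0 : ℤ) < m := by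
    rw [← hβm 0]; exact (hβ (f 0)).1
  have hm : 1 ≤ m := by
    have : (0 : ℤ) < (m : ℤ) := hmpos
    omega
  obtain ⟨T, hT1, hT2, hT3⟩ := exists_side ends f e hC hm (hconn _)
  have hconst : ∀ v, ctrFn ends (univ.image e) β (ctrMk ends (univ.image e) v) = β v :=
    ctrFn_const ends f e hC β (fun i j => by rw [hβm, hβm])
  have hcv := mulVec_cvec ends f e β hβ hC hconn hβm hα hm T hT1 hT2 hT3
  set D := univ.image e with hD
  set β' := ctrFn ends D β with hβ'
  -- lifting preserves the kernels
  have hker : ∀ x : CtrVert ends D → ℤ, betaHom β (liftAt ends D (f 0) x) = betaHom β' x := by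
    intro x
    rw [← betaHom_pushV ends D β hconst, pushV_liftAt ends f e hC]
  -- the linear map between the kernels
  let L : LinearMap.ker (betaHom β') →ₗ[ℤ] LinearMap.ker (betaHom β) :=
    LinearMap.codRestrict _ ((liftAtLin ends D (f 0)).comp (LinearMap.ker (betaHom β')).subtype)
      (fun x => by
        rw [LinearMap.mem_ker]
        show betaHom β (liftAt ends D (f 0) x.1) = 0
        rw [hker]; exact x.2)
  have hL : ∀ x, ((L x : LinearMap.ker (betaHom β)) : V → ℤ) = liftAt ends D (f 0) x.1 :=
    fun x => rfl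
  -- compatibility with the images of the matrices
  have hcomp : (LinearMap.range (Matrix.mulVecLin (mfMatrix (ctrEnds ends D) β'))).comap
      (LinearMap.ker (betaHom β')).subtype ≤
      ((LinearMap.range (Matrix.mulVecLin (mfMatrix ends β))).comap
        (LinearMap.ker (betaHom β)).subtype).comap L := by
    intro x hx
    rw [Submodule.mem_comap, Submodule.mem_comap]
    rw [Submodule.mem_comap] at hx
    obtain ⟨y', hy'⟩ := hx
    rw [Matrix.mulVecLin_apply] at hy'
    show liftAt ends D (f 0) x.1 ∈ LinearMap.range (Matrix.mulVecLin (mfMatrix ends β))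
    set y0 : V → ℤ := fun v => y' (ctrMk ends D v) with hy0
    set u := Matrix.mulVec (mfMatrix ends β) y0 with hu
    have hpush : pushV ends D u = x.1 := by
      rw [hu, (pushV_mulVec ends D β hβ hconst y').1, hy']
      rfl
    have hint : ∀ i : Fin (m + 1), i ≠ 0 → i ≠ Fin.last m → u (f i) = 0 := by
      intro i h0 hl
      obtain ⟨i', j', hi', hj'⟩ := exists_interior i h0 hl
      rw [← hi', hu, mulVec_interior ends f e β hβ hC hβm hα i' j' hj']
      simp only [hy0]
      rw [ctrMk_chain ends f e hC i'.succ, ctrMk_chain ends f e hC i'.castSucc,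
        ctrMk_chain ends f e hC j'.succ]
      ring
    refine ⟨y0 + u (f (Fin.last m)) • cvec f T β, ?_⟩
    rw [Matrix.mulVecLin_apply, Matrix.mulVec_add, Matrix.mulVec_smul, hcv, ← hu, ← hpush,
      liftAt_pushV ends f e hC hm u hint]
  refine ⟨(Submodule.mapQ _ _ L hcomp).toAddMonoidHom, ?_, ?_⟩
  · intro q
    obtain ⟨y, rfl⟩ := Submodule.Quotient.mk_surjective _ q
    obtain ⟨z, hz⟩ := exists_reduce ends f e β hβ hC hconn hβm hα hm T hT1 hT2 hT3 y.1
    set r := y.1 + Matrix.mulVec (mfMatrix ends β) z with hr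
    have hrker : betaHom β r = 0 := by
      rw [hr, map_add, betaHom_mulVec ends β hβ, add_zero]
      exact y.2
    have hxker : pushV ends D r ∈ LinearMap.ker (betaHom β') := by
      rw [LinearMap.mem_ker, betaHom_pushV ends D β hconst, hrker]
    refine ⟨Submodule.Quotient.mk ⟨pushV ends D r, hxker⟩, ?_⟩
    show Submodule.mapQ _ _ L hcomp (Submodule.Quotient.mk _) = _
    rw [Submodule.mapQ_apply, Submodule.Quotient.eq, Submodule.mem_comap]
    show (L ⟨pushV ends D r, hxker⟩ : V → ℤ) - y.1 ∈ _
    rw [hL]
    show liftAt ends D (f 0) (pushV ends D r) - y.1 ∈ _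
    rw [liftAt_pushV ends f e hC hm r (fun i h0 _ => hz i h0),
      hz (Fin.last m) (by
        intro h
        have := congrArg Fin.val h
        simp at this
        omega)]
    refine ⟨z, ?_⟩
    rw [Matrix.mulVecLin_apply, hr]
    simp
  · intro x y hxy
    show Submodule.mapQ _ _ L hcomp (Submodule.Quotient.mk x) = _
    rw [Submodule.mapQ_apply]
    congr 1
    apply Subtype.ext
    rw [hL, hxy]

end Surj

end Groth.Agent.Lib.Helper25.LabContract
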