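import Mathlib

/-!
# Jointly injective, jointly surjective pairs of ring maps give jointly epimorphic `Spec` maps

If `φ₁ : R → R₁`, `φ₂ : R → R₂` are jointly injective and `Spec R₁ ⊔ Spec R₂ → Spec R` is
surjective, then two morphisms `Spec R ⟶ X` into an arbitrary scheme that agree after
composition with `Spec φ₁` and `Spec φ₂` are equal.
-/

universe u

open CategoryTheory AlgebraicGeometry

namespace Groth.Agent.Lib.Helper25.SpecEpi

section Algebra

variable {R R₁ R₂ : Type u} [CommRing R] [CommRing R₁] [CommRing R₂]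

theorem away_jointly_injective (φ₁ : R →+* R₁) (φ₂ : R →+* R₂)
    (hinj : ∀ r : R, φ₁ r = 0 → φ₂ r = 0 → r = 0) (r : R) (x y : Localization.Away r)
    (h₁ : Localization.awayMap φ₁ r x = Localization.awayMap φ₁ r y)
    (h₂ : Localization.awayMap φ₂ r x = Localization.awayMap φ₂ r y) : x = y := by
  rw [← sub_eq_zero]
  have h₁' : Localization.awayMap φ₁ r (x - y) = 0 := by rw [map_sub, h₁, sub_self]
  have h₂' : Localization.awayMap φ₂ r (x - y) = 0 := by rw [map_sub, h₂, sub_self]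
  generalize x - y = z at h₁' h₂'
  obtain ⟨a, s, rfl⟩ := IsLocalization.exists_mk'_eq (Submonoid.powers r) z
  simp only [Localization.awayMap, IsLocalization.Away.map, IsLocalization.map_mk'] at h₁' h₂'
  rw [IsLocalization.mk'_eq_zero_iff] at h₁' h₂' ⊢
  obtain ⟨⟨_, k₁, rfl⟩, hk₁⟩ := h₁'
  obtain ⟨⟨_, k₂, rfl⟩, hk₂⟩ := h₂'
  refine ⟨⟨r ^ (k₁ + k₂), k₁ + k₂, rfl⟩, ?_⟩
  apply hinj
  · simp only at hk₁ ⊢
    rw [map_mul, map_pow, pow_add, mul_assoc, mul_left_comm, hk₁, mul_zero]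
  · simp only at hk₂ ⊢
    rw [map_mul, map_pow, pow_add, mul_assoc, hk₂, mul_zero]

end Algebra

section Affine

theorem eq_of_affine_target {A A₁ A₂ : Type u} [CommRing A] [CommRing A₁] [CommRing A₂]
    (ψ₁ : A →+* A₁) (ψ₂ : A →+* A₂)
    (hinj : ∀ x y : A, ψ₁ x = ψ₁ y → ψ₂ x = ψ₂ y → x = y)
    {U : Scheme.{u}} [IsAffine U] (a b : Spec (CommRingCat.of A) ⟶ U)
    (h₁ : Spec.map (CommRingCat.ofHom ψ₁) ≫ a = Spec.map (CommRingCat.ofHom ψ₁) ≫ b)
    (h₂ : Spec.map (CommRingCat.ofHom ψ₂) ≫ a = Spec.map (CommRingCat.ofHom ψ₂) ≫ b) : a = b := by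
  rw [← cancel_mono U.isoSpec.hom]
  obtain ⟨α, hα⟩ : ∃ α : Γ(U, ⊤) ⟶ CommRingCat.of A, Spec.map α = a ≫ U.isoSpec.hom :=
    ⟨Spec.preimage _, Spec.map_preimage _⟩
  obtain ⟨β, hβ⟩ : ∃ β : Γ(U, ⊤) ⟶ CommRingCat.of A, Spec.map β = b ≫ U.isoSpec.hom :=
    ⟨Spec.preimage _, Spec.map_preimage _⟩
  rw [← hα, ← hβ]
  congr 1
  have e₁ : α ≫ CommRingCat.ofHom ψ₁ = β ≫ CommRingCat.ofHom ψ₁ := by
    apply Spec.map_injective
    rw [Spec.map_comp, Spec.map_comp, hα, hβ, reassoc_of% h₁]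
  have e₂ : α ≫ CommRingCat.ofHom ψ₂ = β ≫ CommRingCat.ofHom ψ₂ := by
    apply Spec.map_injective
    rw [Spec.map_comp, Spec.map_comp, hα, hβ, reassoc_of% h₂]
  ext t
  apply hinj
  · exact congrArg (fun g : Γ(U, ⊤) ⟶ CommRingCat.of A₁ => g.hom t) e₁
  · exact congrArg (fun g : Γ(U, ⊤) ⟶ CommRingCat.of A₂ => g.hom t) e₂

end Affine

section Main

variable {R R₁ R₂ : Type u} [CommRing R] [CommRing R₁] [CommRing R₂]

theorem away_comp (φ : R →+* R₁) (r : R) :
    Spec.map (CommRingCat.ofHom (Localization.awayMap φ r)) ≫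
        Spec.map (CommRingCat.ofHom (algebraMap R (Localization.Away r))) =
      Spec.map (CommRingCat.ofHom (algebraMap R₁ (Localization.Away (φ r)))) ≫
        Spec.map (CommRingCat.ofHom φ) := by
  rw [← Spec.map_comp, ← Spec.map_comp, ← CommRingCat.ofHom_comp, ← CommRingCat.ofHom_comp]
  congr 2
  exact IsLocalization.map_comp _

theorem eq_on_away (φ₁ : R →+* R₁) (φ₂ : R →+* R₂)
    (hinj : ∀ r : R, φ₁ r = 0 → φ₂ r = 0 → r = 0)
    {X : Scheme.{u}} (p q : Spec (CommRingCat.of R) ⟶ X)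
    (hpt : ∀ y, p.base y = q.base y)
    (h₁ : Spec.map (CommRingCat.ofHom φ₁) ≫ p = Spec.map (CommRingCat.ofHom φ₁) ≫ q)
    (h₂ : Spec.map (CommRingCat.ofHom φ₂) ≫ p = Spec.map (CommRingCat.ofHom φ₂) ≫ q)
    (U : X.Opens) (hU : IsAffineOpen U) (r : R)
    (hr : (PrimeSpectrum.basicOpen r : Set (PrimeSpectrum R)) ⊆ p.base ⁻¹' (U : Set X)) :
    Spec.map (CommRingCat.ofHom (algebraMap R (Localization.Away r))) ≫ p =
      Spec.map (CommRingCat.ofHom (algebraMap R (Localization.Away r))) ≫ q := by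
  set j := Spec.map (CommRingCat.ofHom (algebraMap R (Localization.Away r))) with hj
  have hrange : ∀ z, j.base z ∈ (PrimeSpectrum.basicOpen r : Set (PrimeSpectrum R)) := by
    intro z
    have := PrimeSpectrum.localization_away_comap_range (Localization.Away r) r
    rw [← this]
    exact ⟨z, rfl⟩
  have hp : Set.range (j ≫ p).base ⊆ Set.range U.ι.base := by
    rintro _ ⟨z, rfl⟩
    rw [Scheme.Opens.range_ι]
    exact hr (hrange z)
  have hq : Set.range (j ≫ q).base ⊆ Set.range U.ι.base := by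
    rintro _ ⟨z, rfl⟩
    rw [Scheme.Opens.range_ι]
    have := hr (hrange z)
    simp only [Scheme.Hom.comp_base, TopCat.hom_comp, ContinuousMap.comp_apply]
    rw [← hpt]
    exact this
  have : IsAffine U.toScheme := hU
  have hab : IsOpenImmersion.lift U.ι (j ≫ p) hp = IsOpenImmersion.lift U.ι (j ≫ q) hq := by
    apply eq_of_affine_target (Localization.awayMap φ₁ r) (Localization.awayMap φ₂ r)
      (away_jointly_injective φ₁ φ₂ hinj r)
    · rw [← cancel_mono U.ι, Category.assoc, Category.assoc, IsOpenImmersion.lift_fac,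
        IsOpenImmersion.lift_fac, ← Category.assoc, ← Category.assoc, away_comp, Category.assoc,
        Category.assoc, h₁]
    · rw [← cancel_mono U.ι, Category.assoc, Category.assoc, IsOpenImmersion.lift_fac,
        IsOpenImmersion.lift_fac, ← Category.assoc, ← Category.assoc, away_comp, Category.assoc,
        Category.assoc, h₂]
  have := congrArg (fun t => t ≫ U.ι) hab
  simpa only [IsOpenImmersion.lift_fac] using this


theorem eq_of_jointly_epi (φ₁ : R →+* R₁) (φ₂ : R →+* R₂)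
    (hinj : ∀ r : R, φ₁ r = 0 → φ₂ r = 0 → r = 0)
    (hsurj : ∀ y : PrimeSpectrum R,
      y ∈ Set.range (PrimeSpectrum.comap φ₁) ∨ y ∈ Set.range (PrimeSpectrum.comap φ₂))
    {X : Scheme.{u}} (p q : Spec (CommRingCat.of R) ⟶ X)
    (h₁ : Spec.map (CommRingCat.ofHom φ₁) ≫ p = Spec.map (CommRingCat.ofHom φ₁) ≫ q)
    (h₂ : Spec.map (CommRingCat.ofHom φ₂) ≫ p = Spec.map (CommRingCat.ofHom φ₂) ≫ q) : p = q := by
  have hpt : ∀ y, p.base y = q.base y := by
    intro y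
    rcases hsurj y with ⟨y', rfl⟩ | ⟨y', rfl⟩
    · exact congrArg (fun t => t.base y') h₁
    · exact congrArg (fun t => t.base y') h₂
  have hex : ∀ y : PrimeSpectrum R, ∃ r : R, y ∈ PrimeSpectrum.basicOpen r ∧
      Spec.map (CommRingCat.ofHom (algebraMap R (Localization.Away r))) ≫ p =
        Spec.map (CommRingCat.ofHom (algebraMap R (Localization.Away r))) ≫ q := by
    intro y
    obtain ⟨_, ⟨U, hU, rfl⟩, hyU, -⟩ :=
      X.isBasis_affineOpens.exists_subset_of_mem_open (Set.mem_univ (p.base y)) isOpen_univ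
    have hopen : IsOpen (p.base ⁻¹' (U : Set X)) := U.isOpen.preimage p.base.hom.continuous
    obtain ⟨_, ⟨_, ⟨r, rfl⟩, rfl⟩, hyr, hrU⟩ :=
      PrimeSpectrum.isBasis_basic_opens.exists_subset_of_mem_open (show y ∈ p.base ⁻¹' (U : Set X) from hyU) hopen
    exact ⟨r, hyr, eq_on_away φ₁ φ₂ hinj p q hpt h₁ h₂ U hU r hrU⟩
  choose s hs hs' using hex
  have hspan : Ideal.span (Set.range s) = ⊤ := by
    by_contra hne
    obtain ⟨m, hm, hle⟩ := Ideal.exists_le_maximal _ hne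
    have := hs ⟨m, hm.isPrime⟩
    exact this (hle (Ideal.subset_span ⟨_, rfl⟩))
  refine Scheme.Cover.hom_ext (Scheme.affineOpenCoverOfSpanRangeEqTop
    (R := CommRingCat.of R) s hspan).openCover p q (fun y => ?_)
  exact hs' y


/-- `CommRingCat`-level version of `eq_of_jointly_epi`. -/
theorem eq_of_jointly_epi' {R R₁ R₂ : CommRingCat.{u}} (φ₁ : R ⟶ R₁) (φ₂ : R ⟶ R₂)
    (hinj : ∀ r : R, φ₁.hom r = 0 → φ₂.hom r = 0 → r = 0)
    (hsurj : ∀ y : PrimeSpectrum R,
      y ∈ Set.range (PrimeSpectrum.comap φ₁.hom) ∨ y ∈ Set.range (PrimeSpectrum.comap φ₂.hom))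
    {X : Scheme.{u}} (p q : Spec R ⟶ X)
    (h₁ : Spec.map φ₁ ≫ p = Spec.map φ₁ ≫ q)
    (h₂ : Spec.map φ₂ ≫ p = Spec.map φ₂ ≫ q) : p = q :=
  eq_of_jointly_epi (R := R) (R₁ := R₁) (R₂ := R₂) φ₁.hom φ₂.hom hinj hsurj p q h₁ h₂

end Main

end Groth.Agent.Lib.Helper25.SpecEpi
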