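import Mathlib
import Groth.Prelude.Def_LieS
import Groth.Agent.Lib.Helper25.SpecEpi

/-!
# Tangent-space tools for `LieS`
-/

set_option autoImplicit false
set_option linter.unusedSimpArgs false
universe u

open CategoryTheory MonObj AlgebraicGeometry LieS

namespace Groth.Agent.Lib.Helper25.LieTangent

open Groth.Agent.Lib.Helper25.SpecEpi

section Ring

variable {A A' : Type u} [CommRing A] [CommRing A']

theorem comap_surjective_of_ker_nil (f : A →+* A') (hf : Function.Surjective f)
    (hk : ∀ x, f x = 0 → IsNilpotent x) : Function.Surjective (PrimeSpectrum.comap f) := by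
  intro P
  have : P ∈ Set.range (PrimeSpectrum.comap f) := by
    rw [range_comap_of_surjective _ f hf, PrimeSpectrum.mem_zeroLocus]
    intro x hx
    obtain ⟨n, hn⟩ := hk x hx
    exact P.isPrime.mem_of_pow_mem n (hn ▸ P.asIdeal.zero_mem)
  exact this

variable (B : Type u) [CommRing B]

theorem comap_fstHom_surjective :
    Function.Surjective (PrimeSpectrum.comap (TrivSqZeroExt.fstHom B B B).toRingHom) := by
  apply comap_surjective_of_ker_nil
  · intro b; exact ⟨TrivSqZeroExt.inl b, rfl⟩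
  · intro x hx
    refine ⟨2, ?_⟩
    have h0 : x.fst = 0 := hx
    rw [pow_two]
    ext
    · simp [h0]
    · simp [h0]

theorem mulHom_fst_fst (x : DualNumber B) : (mulHom B x).fst.fst = x.fst := by
  simp only [mulHom, dualHom_apply, toD2, RingHom.comp_apply, TrivSqZeroExt.algebraMap_eq_inl',
    TrivSqZeroExt.fst_add, TrivSqZeroExt.fst_inl, TrivSqZeroExt.fst_mul, DualNumber.eps,
    TrivSqZeroExt.fst_inr, mul_zero, add_zero, Algebra.algebraMap_self, RingHom.id_apply]

theorem mulHom_snd_snd (x : DualNumber B) : (mulHom B x).snd.snd = x.snd := by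
  simp only [mulHom, dualHom_apply, toD2, RingHom.comp_apply, TrivSqZeroExt.algebraMap_eq_inl',
    TrivSqZeroExt.snd_add, TrivSqZeroExt.snd_inl, DualNumber.snd_mul, DualNumber.eps,
    TrivSqZeroExt.fst_inr, TrivSqZeroExt.snd_inr, TrivSqZeroExt.fst_inl, TrivSqZeroExt.fst_mul,
    mul_zero, add_zero, zero_add, _root_.mul_one, zero_mul, Algebra.algebraMap_self, RingHom.id_apply,
    TrivSqZeroExt.snd_one, TrivSqZeroExt.fst_one]

theorem mulHom_injective : Function.Injective (mulHom B) := by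
  intro x y h
  have h1 := congrArg (fun t : D2 B => t.fst.fst) h
  have h2 := congrArg (fun t : D2 B => t.snd.snd) h
  simp only [mulHom_fst_fst, mulHom_snd_snd] at h1 h2
  exact TrivSqZeroExt.ext h1 h2

/-- `mulHom` as a morphism of `CommRingCat`. -/
noncomputable def mulHomC : CommRingCat.of (DualNumber B) ⟶ CommRingCat.of (D2 B) :=
  CommRingCat.ofHom (mulHom B)

theorem mulHomC_apply (x : DualNumber B) : (mulHomC B).hom x = mulHom B x := rfl

theorem mulHomC_injective (r : CommRingCat.of (DualNumber B)) (h : (mulHomC B).hom r = 0) : r = 0 := by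
  apply mulHom_injective B
  rw [map_zero]
  exact h

/-- `fst ∘ fst : B[ε][ε'] → B` -/
noncomputable def fstfstC : CommRingCat.of (D2 B) ⟶ CommRingCat.of B :=
  CommRingCat.ofHom (TrivSqZeroExt.fstHom (DualNumber B) (DualNumber B) (DualNumber B)).toRingHom ≫
    CommRingCat.ofHom (TrivSqZeroExt.fstHom B B B).toRingHom

theorem comap_mulHomC_surjective (P : PrimeSpectrum (CommRingCat.of (DualNumber B))) :
    P ∈ Set.range (PrimeSpectrum.comap (mulHomC B).hom) := by
  have hcomp : (fstfstC B).hom.comp (mulHomC B).hom = (TrivSqZeroExt.fstHom B B B).toRingHom :=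
    RingHom.ext fun x => mulHom_fst_fst B x
  obtain ⟨Q, hQ⟩ := comap_fstHom_surjective B P
  refine ⟨PrimeSpectrum.comap (fstfstC B).hom Q, ?_⟩
  rw [← PrimeSpectrum.comap_comp_apply, hcomp]
  exact hQ

theorem mulHomC_epi {X : Scheme.{u}} (p q : Spec (CommRingCat.of (DualNumber B)) ⟶ X)
    (h : Spec.map (mulHomC B) ≫ p = Spec.map (mulHomC B) ≫ q) : p = q :=
  eq_of_jointly_epi' (mulHomC B) (mulHomC B) (fun r hr _ => mulHomC_injective B r hr)
    (fun y => Or.inl (comap_mulHomC_surjective B y)) p q h h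

end Ring

section B2

variable (B : Type u) [CommRing B]

/-- `B[ε₁, ε₂]/(ε₁, ε₂)²` -/
abbrev B2 : Type u := TrivSqZeroExt B (B × B)

example : CommRing (B2 B) := inferInstance

/-- `ε ↦ a ε₁ + b ε₂` -/
noncomputable def sigmaHom (a b : B) : DualNumber B →+* B2 B :=
  dualHom (TrivSqZeroExt.inlHom B (B × B)) (TrivSqZeroExt.inr (a, b)) (TrivSqZeroExt.inr_mul_inr _ _ _)

theorem sigmaHom_apply (a b : B) (x : DualNumber B) :
    sigmaHom B a b x = TrivSqZeroExt.inl x.fst + TrivSqZeroExt.inr (x.snd * a, x.snd * b) := by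
  unfold sigmaHom
  rw [dualHom_apply]
  ext <;> simp

/-- first projection `ε₁ ↦ ε, ε₂ ↦ 0` -/
noncomputable def pi1Hom : B2 B →+* DualNumber B :=
  (TrivSqZeroExt.map (LinearMap.fst B B B)).toRingHom

noncomputable def pi2Hom : B2 B →+* DualNumber B :=
  (TrivSqZeroExt.map (LinearMap.snd B B B)).toRingHom

/-- sum `ε₁, ε₂ ↦ ε` -/
noncomputable def alphaHom : B2 B →+* DualNumber B :=
  (TrivSqZeroExt.map (LinearMap.fst B B B + LinearMap.snd B B B)).toRingHom

theorem pi1Hom_apply (x : B2 B) : pi1Hom B x = TrivSqZeroExt.inl x.fst + TrivSqZeroExt.inr x.snd.1 := by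
  unfold pi1Hom
  ext <;> simp

theorem pi2Hom_apply (x : B2 B) : pi2Hom B x = TrivSqZeroExt.inl x.fst + TrivSqZeroExt.inr x.snd.2 := by
  unfold pi2Hom
  ext <;> simp

theorem alphaHom_apply (x : B2 B) :
    alphaHom B x = TrivSqZeroExt.inl x.fst + TrivSqZeroExt.inr (x.snd.1 + x.snd.2) := by
  unfold alphaHom
  ext <;> simp

theorem scaleHom_apply (b : B) (x : DualNumber B) :
    scaleHom b x = TrivSqZeroExt.inl x.fst + TrivSqZeroExt.inr (x.snd * b) := by
  unfold scaleHom
  rw [dualHom_apply]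
  ext
  · simp only [TrivSqZeroExt.algebraMap_eq_inl', TrivSqZeroExt.fst_add, TrivSqZeroExt.fst_inl,
      TrivSqZeroExt.fst_mul, DualNumber.eps, TrivSqZeroExt.fst_inr, mul_zero, add_zero,
      Algebra.algebraMap_self, RingHom.id_apply]
  · simp only [TrivSqZeroExt.algebraMap_eq_inl', TrivSqZeroExt.snd_add, TrivSqZeroExt.snd_inl,
      DualNumber.snd_mul, TrivSqZeroExt.fst_inl, DualNumber.eps, TrivSqZeroExt.fst_mul,
      TrivSqZeroExt.fst_inr, TrivSqZeroExt.snd_inr, Algebra.algebraMap_self, RingHom.id_apply,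
      mul_zero, add_zero, zero_add, _root_.mul_one, zero_mul]

theorem pi1_sigma (a b : B) : (pi1Hom B).comp (sigmaHom B a b) = scaleHom a := by
  ext x <;> simp [pi1Hom_apply, sigmaHom_apply, scaleHom_apply]

theorem pi2_sigma (a b : B) : (pi2Hom B).comp (sigmaHom B a b) = scaleHom b := by
  ext x <;> simp [pi2Hom_apply, sigmaHom_apply, scaleHom_apply]

theorem alpha_sigma (a b : B) : (alphaHom B).comp (sigmaHom B a b) = scaleHom (a + b) := by
  ext x <;> simp [alphaHom_apply, sigmaHom_apply, scaleHom_apply, mul_add]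

theorem sigma_comp_algebraMap (a b : B) :
    (sigmaHom B a b).comp (algebraMap B (DualNumber B)) = TrivSqZeroExt.inlHom B (B × B) := by
  refine RingHom.ext fun x => ?_
  simp only [RingHom.comp_apply, sigmaHom_apply, TrivSqZeroExt.algebraMap_eq_inl',
    Algebra.algebraMap_self, RingHom.id_apply, TrivSqZeroExt.fst_inl, TrivSqZeroExt.snd_inl,
    zero_mul, TrivSqZeroExt.inlHom_apply]
  ext <;> simp

theorem pi1_comp_inl : (pi1Hom B).comp (TrivSqZeroExt.inlHom B (B × B)) = algebraMap B (DualNumber B) := by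
  refine RingHom.ext fun x => ?_
  simp only [RingHom.comp_apply, pi1Hom_apply, TrivSqZeroExt.algebraMap_eq_inl',
    Algebra.algebraMap_self, RingHom.id_apply, TrivSqZeroExt.inlHom_apply, TrivSqZeroExt.fst_inl,
    TrivSqZeroExt.snd_inl]
  ext <;> simp

theorem pi2_comp_inl : (pi2Hom B).comp (TrivSqZeroExt.inlHom B (B × B)) = algebraMap B (DualNumber B) := by
  refine RingHom.ext fun x => ?_
  simp only [RingHom.comp_apply, pi2Hom_apply, TrivSqZeroExt.algebraMap_eq_inl',
    Algebra.algebraMap_self, RingHom.id_apply, TrivSqZeroExt.inlHom_apply, TrivSqZeroExt.fst_inl,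
    TrivSqZeroExt.snd_inl]
  ext <;> simp

theorem alpha_comp_inl : (alphaHom B).comp (TrivSqZeroExt.inlHom B (B × B)) = algebraMap B (DualNumber B) := by
  refine RingHom.ext fun x => ?_
  simp only [RingHom.comp_apply, alphaHom_apply, TrivSqZeroExt.algebraMap_eq_inl',
    Algebra.algebraMap_self, RingHom.id_apply, TrivSqZeroExt.inlHom_apply, TrivSqZeroExt.fst_inl,
    TrivSqZeroExt.snd_inl]
  ext <;> simp

theorem scaleHom_zero : scaleHom (0 : B) =
    (algebraMap B (DualNumber B)).comp (TrivSqZeroExt.fstHom B B B).toRingHom := by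
  ext x <;> simp [scaleHom_apply, TrivSqZeroExt.algebraMap_eq_inl']

theorem pi_jointly_injective (r : B2 B) (h1 : pi1Hom B r = 0) (h2 : pi2Hom B r = 0) : r = 0 := by
  rw [pi1Hom_apply] at h1
  rw [pi2Hom_apply] at h2
  have a1 := congrArg TrivSqZeroExt.fst h1
  have a2 := congrArg TrivSqZeroExt.snd h1
  have a3 := congrArg TrivSqZeroExt.snd h2
  simp at a1 a2 a3
  ext
  · simpa using a1
  · simpa using a2
  · simpa using a3

theorem comap_pi1_surjective : Function.Surjective (PrimeSpectrum.comap (pi1Hom B)) := by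
  apply comap_surjective_of_ker_nil
  · intro x
    exact ⟨TrivSqZeroExt.inl x.fst + TrivSqZeroExt.inr (x.snd, 0), by
      rw [pi1Hom_apply]; ext <;> simp⟩
  · intro x hx
    rw [pi1Hom_apply] at hx
    have a1 := congrArg TrivSqZeroExt.fst hx
    simp at a1
    refine ⟨2, ?_⟩
    rw [pow_two]
    ext <;> simp [a1]

end B2

section OverMaps

variable (B : Type u) [CommRing B] {S : Scheme.{u}} (f : Spec (CommRingCat.of B) ⟶ S)

/-- `Spec B[ε₁,ε₂]/(ε₁,ε₂)²` over `S`. -/
noncomputable def p2 : Over S :=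
  Over.mk (Spec.map (CommRingCat.ofHom (TrivSqZeroExt.inlHom B (B × B))) ≫ f)

/-- the map `Spec B2 ⟶ Spec B[ε]` given by `ε ↦ a ε₁ + b ε₂`. -/
noncomputable def sigmaMap (a b : B) : p2 B f ⟶ dpt B f :=
  Over.homMk (Spec.map (CommRingCat.ofHom (sigmaHom B a b))) (by
    change Spec.map _ ≫ Spec.map _ ≫ f = Spec.map _ ≫ f
    rw [← Category.assoc, specMap_comp, sigma_comp_algebraMap])

noncomputable def i1 : dpt B f ⟶ p2 B f :=
  Over.homMk (Spec.map (CommRingCat.ofHom (pi1Hom B))) (by
    change Spec.map _ ≫ Spec.map _ ≫ f = Spec.map _ ≫ f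
    rw [← Category.assoc, specMap_comp, pi1_comp_inl])

noncomputable def i2 : dpt B f ⟶ p2 B f :=
  Over.homMk (Spec.map (CommRingCat.ofHom (pi2Hom B))) (by
    change Spec.map _ ≫ Spec.map _ ≫ f = Spec.map _ ≫ f
    rw [← Category.assoc, specMap_comp, pi2_comp_inl])

noncomputable def addMap : dpt B f ⟶ p2 B f :=
  Over.homMk (Spec.map (CommRingCat.ofHom (alphaHom B))) (by
    change Spec.map _ ≫ Spec.map _ ≫ f = Spec.map _ ≫ f
    rw [← Category.assoc, specMap_comp, alpha_comp_inl])

theorem i1_sigmaMap (a b : B) : i1 B f ≫ sigmaMap B f a b = scale B f a := by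
  ext; change Spec.map _ ≫ Spec.map _ = Spec.map _
  rw [specMap_comp, pi1_sigma]

theorem i2_sigmaMap (a b : B) : i2 B f ≫ sigmaMap B f a b = scale B f b := by
  ext; change Spec.map _ ≫ Spec.map _ = Spec.map _
  rw [specMap_comp, pi2_sigma]

theorem addMap_sigmaMap (a b : B) : addMap B f ≫ sigmaMap B f a b = scale B f (a + b) := by
  ext; change Spec.map _ ≫ Spec.map _ = Spec.map _
  rw [specMap_comp, alpha_sigma]

theorem scale_zero : scale B f 0 = proj B f ≫ zeroSec B f := by
  ext; change Spec.map _ = Spec.map _ ≫ Spec.map _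
  rw [specMap_comp, scaleHom_zero]

theorem p2_ext {X : Over S} (u₁ u₂ : p2 B f ⟶ X) (h1 : i1 B f ≫ u₁ = i1 B f ≫ u₂)
    (h2 : i2 B f ≫ u₁ = i2 B f ≫ u₂) : u₁ = u₂ := by
  apply Over.OverMorphism.ext
  have e1 : (i1 B f ≫ u₁).left = (i1 B f ≫ u₂).left := by rw [h1]
  have e2 : (i2 B f ≫ u₁).left = (i2 B f ≫ u₂).left := by rw [h2]
  rw [Over.comp_left, Over.comp_left] at e1 e2
  exact eq_of_jointly_epi' (CommRingCat.ofHom (pi1Hom B)) (CommRingCat.ofHom (pi2Hom B))
    (fun r h1 h2 => pi_jointly_injective B r h1 h2)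
    (fun y => Or.inl (comap_pi1_surjective B y)) u₁.left u₂.left e1 e2


theorem scale_zero_comp {X : Over S} [MonObj X] (v : dpt B f ⟶ X) (hv : zeroSec B f ≫ v = 1) :
    scale B f 0 ≫ v = 1 := by
  rw [scale_zero, Category.assoc, hv, MonObj.comp_one]

/-- additivity of the rescaling action on points restricting to the unit -/
theorem add_scale {X : Over S} [MonObj X] (v : dpt B f ⟶ X) (hv : zeroSec B f ≫ v = 1) (a b : B) :
    scale B f (a + b) ≫ v = (scale B f a ≫ v) * (scale B f b ≫ v) := by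
  have key : sigmaMap B f a b ≫ v = (sigmaMap B f a 0 ≫ v) * (sigmaMap B f 0 b ≫ v) := by
    apply p2_ext
    · rw [MonObj.comp_mul, ← Category.assoc, ← Category.assoc, ← Category.assoc, i1_sigmaMap,
        i1_sigmaMap, i1_sigmaMap, scale_zero_comp B f v hv, _root_.mul_one]
    · rw [MonObj.comp_mul, ← Category.assoc, ← Category.assoc, ← Category.assoc, i2_sigmaMap,
        i2_sigmaMap, i2_sigmaMap, scale_zero_comp B f v hv, _root_.one_mul]
  have h2 : addMap B f ≫ sigmaMap B f a b ≫ v =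
      addMap B f ≫ ((sigmaMap B f a 0 ≫ v) * (sigmaMap B f 0 b ≫ v)) := by rw [key]
  rw [MonObj.comp_mul, ← Category.assoc, ← Category.assoc, ← Category.assoc, addMap_sigmaMap,
    addMap_sigmaMap, addMap_sigmaMap, add_zero, zero_add] at h2
  exact h2

theorem scale_one : scale B f 1 = 𝟙 _ := by
  ext; change Spec.map _ = 𝟙 _
  have : scaleHom (1 : B) = RingHom.id _ := by
    ext x <;> simp [scaleHom_apply]
  rw [this, CommRingCat.ofHom_id]
  exact Spec.map_id _

end OverMaps

end Groth.Agent.Lib.Helper25.LieTangent
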