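import Mathlib
import Groth.Agent.S4764
import Groth.Agent.Lib.Helper1.FlatPullback
import Groth.Agent.Lib.Helper2.AffExt2
import Groth.Agent.Lib.Helper17.CohKer
import Groth.Agent.Lib.Helper25.ExactCrit
import Groth.Agent.Lib.Helper25.LimModMap

/-!
# helper25 — LimExact: injectivity / exactness after pullback to a limit with flat transition maps holds at a
stage (EGA IV 8.5.2-type statements with flat transition maps).
-/

set_option backward.isDefEq.respectTransparency.types false
set_option autoImplicit false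
set_option linter.unusedVariables false
set_option linter.style.haveILetI false
universe u
open AlgebraicGeometry CategoryTheory Limits

namespace Groth.Agent.Lib.Helper25.LimExact

open Groth.Agent.Lib.Helper25.LimModMap Groth.Agent.Lib.Helper25.ExactCrit
  Groth.Agent.Lib.Helper25.ModMapLocal

variable {I : Type u} [SmallCategory I] [IsCofiltered I]
  (D : I ⥤ Scheme.{u}) {c : Cone D} (hc : IsLimit c)
  [∀ (i j : I) (f : i ⟶ j), IsAffineHom (D.map f)] (i₀ : I) [CompactSpace (D.obj i₀)]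
  (hfl : ∀ (i j : I) (φ : i ⟶ j), Flat (D.map φ))

omit [CompactSpace (D.obj i₀)] in
include hc hfl in
theorem flat_π : Flat (c.π.app i₀) :=
  Groth.Agent.S4764.result D c hc i₀ (fun j φ => hfl j i₀ φ)

include hc hfl in
/-- injectivity after pullback to the limit holds at a stage (flat transition maps, kernel of finite type) -/
theorem mono_pullback_map_iff_eventually {F₀ G₀ : (D.obj i₀).Modules} [F₀.IsQuasicoherent]
    [G₀.IsQuasicoherent] (f₀ : F₀ ⟶ G₀)
    [SheafOfModules.IsFiniteType.{u} (R := (D.obj i₀).ringCatSheaf) (kernel f₀ : (D.obj i₀).Modules)] :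
    Mono ((Scheme.Modules.pullback (c.π.app i₀)).map f₀) ↔
      ∃ (j : I) (φ : j ⟶ i₀), Mono ((Scheme.Modules.pullback (D.map φ)).map f₀) := by
  haveI := flat_π D hc i₀ hfl
  haveI : (kernel f₀ : (D.obj i₀).Modules).IsQuasicoherent :=
    Groth.Agent.Lib.Helper17.CohKer.isQuasicoherent_kernel f₀
  rw [mono_map_iff]
  have key := pullback_map_eq_iff_eventually D hc (kernel.ι f₀) 0
  simp only [Functor.map_zero] at key
  rw [key]
  refine exists_congr fun j => exists_congr fun φ => ?_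
  haveI := hfl j i₀ φ
  exact (mono_map_iff (Scheme.Modules.pullback (D.map φ)) f₀).symm

include hc hfl in
/-- exactness after pullback to the limit holds at a stage (flat transition maps, image and kernel of finite type) -/
theorem exact_pullback_iff_eventually {F₀ G₀ H₀ : (D.obj i₀).Modules} [F₀.IsQuasicoherent]
    [G₀.IsQuasicoherent] [H₀.IsQuasicoherent] (f₀ : F₀ ⟶ G₀) (g₀ : G₀ ⟶ H₀)
    [SheafOfModules.IsFiniteType.{u} (R := (D.obj i₀).ringCatSheaf) (image f₀ : (D.obj i₀).Modules)]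
    [SheafOfModules.IsFiniteType.{u} (R := (D.obj i₀).ringCatSheaf) (kernel g₀ : (D.obj i₀).Modules)] :
    (∃ w : (Scheme.Modules.pullback (c.π.app i₀)).map f₀ ≫ (Scheme.Modules.pullback (c.π.app i₀)).map g₀ = 0,
        (ShortComplex.mk _ _ w).Exact) ↔
      ∃ (j : I) (φ : j ⟶ i₀) (w : (Scheme.Modules.pullback (D.map φ)).map f₀ ≫
          (Scheme.Modules.pullback (D.map φ)).map g₀ = 0), (ShortComplex.mk _ _ w).Exact := by
  haveI := flat_π D hc i₀ hfl
  haveI : (kernel g₀ : (D.obj i₀).Modules).IsQuasicoherent :=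
    Groth.Agent.Lib.Helper17.CohKer.isQuasicoherent_kernel g₀
  haveI : (cokernel f₀ : (D.obj i₀).Modules).IsQuasicoherent :=
    Groth.Agent.Lib.Helper17.CohKer.isQuasicoherent_cokernel f₀
  haveI : (Abelian.image f₀ : (D.obj i₀).Modules).IsQuasicoherent :=
    Groth.Agent.Lib.Helper17.CohKer.isQuasicoherent_kernel (cokernel.π f₀)
  haveI : (image f₀ : (D.obj i₀).Modules).IsQuasicoherent :=
    Groth.Agent.Lib.Helper2.AffExt2.isQuasicoherent_of_iso (Abelian.imageIsoImage f₀)
  rw [exists_exact_iff]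
  have key1 := pullback_map_eq_iff_eventually D hc (image.ι f₀ ≫ g₀) 0
  have key2 := pullback_map_eq_iff_eventually D hc (kernel.ι g₀ ≫ cokernel.π f₀) 0
  simp only [Functor.map_zero] at key1 key2
  rw [key1, key2]
  constructor
  · rintro ⟨⟨j₁, φ₁, h₁⟩, ⟨j₂, φ₂, h₂⟩⟩
    -- a common stage
    obtain ⟨j, ψ₁, ψ₂, hψ⟩ := IsCofiltered.cospan φ₁ φ₂
    refine ⟨j, ψ₁ ≫ φ₁, ?_⟩
    haveI := hfl j i₀ (ψ₁ ≫ φ₁)
    rw [exists_exact_iff]
    constructor
    · have := map_eq_of_comp (D.map ψ₁) (D.map φ₁) (D.map (ψ₁ ≫ φ₁)) (D.map_comp ψ₁ φ₁).symm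
        (image.ι f₀ ≫ g₀) 0 (by rw [h₁, Functor.map_zero])
      rwa [Functor.map_zero] at this
    · have := map_eq_of_comp (D.map ψ₂) (D.map φ₂) (D.map (ψ₁ ≫ φ₁))
        (by rw [hψ, D.map_comp]) (kernel.ι g₀ ≫ cokernel.π f₀) 0 (by rw [h₂, Functor.map_zero])
      rwa [Functor.map_zero] at this
  · rintro ⟨j, φ, h⟩
    haveI := hfl j i₀ φ
    rw [exists_exact_iff] at h
    exact ⟨⟨j, φ, h.1⟩, ⟨j, φ, h.2⟩⟩

end Groth.Agent.Lib.Helper25.LimExact
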