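import Mathlib
import Groth.Agent.Lib.Helper25.LimFlatTower
import Groth.Agent.Lib.Helper25.GoodLocus
import Groth.Agent.Lib.Helper7.InjFlatOpen
import Groth.Agent.Lib.Helper1.LocPerf2

/-!
# helper25 — LimInjFlatTower: the pointwise condition "`u_x` injective and `Coker u` flat over the base
at `x`" descends to a stage of a cofiltered limit of schemes with affine transition maps
(EGA IV 11.3.7 / 11.2.6 for morphisms of finitely presented modules).
-/

set_option backward.isDefEq.respectTransparency.types false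
set_option autoImplicit false
set_option linter.unusedVariables false
set_option linter.style.haveILetI false
set_option linter.unusedSectionVars false
universe u
open AlgebraicGeometry CategoryTheory Limits TensorProduct TopologicalSpace

namespace Groth.Agent.Lib.Helper25.LimInjFlatTower

open Groth.Agent.Lib.Helper22 Groth.Agent.Lib.Helper9.LimSec
  Groth.Agent.Lib.Helper25.FlatChartGen Groth.Agent.Lib.Helper25.FlatStageCat
  Groth.Agent.Lib.Helper7.FlatChart Groth.Agent.Lib.Helper25.LimFlatTower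
  Groth.Agent.Lib.Helper25.GoodLocus Groth.Agent.Lib.Helper25.InjFlatChart
  Groth.Agent.Lib.Helper25.InjFlatPull Groth.Agent.Lib.Helper25.InjStage
  Groth.Agent.Lib.Helper7.FPKer Groth.Agent.Lib.Helper17.CohKer

variable {J : Type u} [SmallCategory J] [IsCofiltered J] (E : J ⥤ Scheme.{u})
  (e : Cone E) [∀ (i j : J) (f : i ⟶ j), IsAffineHom (E.map f)]
  (k : J) {Xk : Scheme.{u}} (fk : Xk ⟶ E.obj k)

lemma proj_tmap {m' m : Over k} (φ : m' ⟶ m) :
    proj E e k fk m' ≫ tmap E k fk φ = proj E e k fk m := (bcCone E e k fk).w φ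

variable (he : IsLimit e) [LocallyOfFinitePresentation fk] {F'k Fk : Xk.Modules}
  [SheafOfModules.IsFinitePresentation.{u} (R := Xk.ringCatSheaf) F'k]
  [SheafOfModules.IsFinitePresentation.{u} (R := Xk.ringCatSheaf) Fk] (h₀ : F'k ⟶ Fk)

include he in
set_option maxRecDepth 8000 in
set_option maxHeartbeats 1000000 in
/-- **Descent of the pointwise condition to a stage.** -/
theorem exists_stage_good (x : ↥(pullback (e.π.app k) fk))
    (h : Good (pullback.fst (e.π.app k) fk)
      ((Scheme.Modules.pullback (pullback.snd (e.π.app k) fk)).map h₀) x) :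
    ∃ (l : J) (a : l ⟶ k), Good (pullback.fst (E.map a) fk)
      ((Scheme.Modules.pullback (pullback.snd (E.map a) fk)).map h₀)
      (proj E e k fk (Over.mk a) x) := by
  classical
  haveI : Fk.IsQuasicoherent :=
    Groth.Agent.Lib.Helper29.FPDict.isQuasicoherent_of_isFinitePresentation Fk
  haveI : F'k.IsQuasicoherent :=
    Groth.Agent.Lib.Helper29.FPDict.isQuasicoherent_of_isFinitePresentation F'k
  haveI hCfp : SheafOfModules.IsFinitePresentation.{u} (R := Xk.ringCatSheaf) (cokernel h₀) :=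
    Groth.Agent.Lib.Helper1.LocPerf.isFinitePresentation_cokernel h₀
  haveI : (cokernel h₀).IsQuasicoherent := isQuasicoherent_cokernel h₀
  -- Step 1: flatness of the cokernel descends to a stage `m₀`
  have hflinf : FlatMod.IsFlatOverAt (pullback.fst (e.π.app k) fk)
      ((Scheme.Modules.pullback (pullback.snd (e.π.app k) fk)).obj (cokernel h₀)) x :=
    (flatAt_cokernel_pullback_iff _ _ h₀ x).1 h.2
  obtain ⟨l₀, a₀, hl₀⟩ := @exists_stage_flatAt J _ _ E e _ k Xk fk he _ (cokernel h₀) hCfp x hflinf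
  let m₀ : Over k := Over.mk a₀
  haveI : LocallyOfFinitePresentation (pullback.fst (E.map m₀.hom) fk) :=
    MorphismProperty.pullback_fst _ _ inferInstance
  haveI := @isFinitePresentation_pullback _ _ (pullback.snd (E.map m₀.hom) fk) (cokernel h₀) hCfp
  have hΩ₀ := Groth.Agent.Lib.Helper21.FlatDesc.isOpen_isFlatOverAt
    (pullback.fst (E.map m₀.hom) fk)
    ((Scheme.Modules.pullback (pullback.snd (E.map m₀.hom) fk)).obj (cokernel h₀))
  let Ω₀ : (pullback (E.map m₀.hom) fk).Opens := ⟨_, hΩ₀⟩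
  -- Step 2: the good locus upstairs is open
  haveI : LocallyOfFinitePresentation (pullback.fst (e.π.app k) fk) :=
    MorphismProperty.pullback_fst _ _ inferInstance
  haveI := isFinitePresentation_pullback (pullback.snd (e.π.app k) fk) Fk
  haveI := isFinitePresentation_pullback (pullback.snd (e.π.app k) fk) F'k
  have hΩ := Groth.Agent.Lib.Helper7.FPKer.isOpen_injective_and_flat_cokernel
    (pullback.fst (e.π.app k) fk) _ _
    ((Scheme.Modules.pullback (pullback.snd (e.π.app k) fk)).map h₀)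
  have hB := isBasis_preimage_isAffineOpen (bcDiag E k fk) (bcCone E e k fk) (bcIsLimit E he k fk)
  let Ω : (bcCone E e k fk).pt.Opens := ⟨_, hΩ⟩
  obtain ⟨_, ⟨m₁', U₁', hU₁', rfl⟩, hxU₁', hU₁'Ω⟩ :=
    Opens.isBasis_iff_nbhd.mp hB (show x ∈ Ω from h)
  change proj E e k fk m₁' x ∈ U₁' at hxU₁'
  -- Step 3: a common refinement `m₁`
  let m₁ : Over k := IsCofiltered.min m₀ m₁'
  let φ₀ : m₁ ⟶ m₀ := IsCofiltered.minToLeft m₀ m₁'
  let φ₁ : m₁ ⟶ m₁' := IsCofiltered.minToRight m₀ m₁'
  have hp₀ : tmap E k fk φ₀ (proj E e k fk m₁ x) = proj E e k fk m₀ x := by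
    rw [← Scheme.Hom.comp_apply, proj_tmap]
  have hp₁ : tmap E k fk φ₁ (proj E e k fk m₁ x) = proj E e k fk m₁' x := by
    rw [← Scheme.Hom.comp_apply, proj_tmap]
  obtain ⟨V, hV, hyV, -⟩ := Opens.isBasis_iff_nbhd.mp (E.obj m₁.left).isBasis_affineOpens
    (show pullback.fst (E.map m₁.hom) fk (proj E e k fk m₁ x) ∈ (⊤ : (E.obj m₁.left).Opens)
      from trivial)
  obtain ⟨U, hU, hxU, hUle⟩ := Opens.isBasis_iff_nbhd.mp
    (pullback (E.map m₁.hom) fk).isBasis_affineOpens
    (show proj E e k fk m₁ x ∈ (tmap E k fk φ₁ ⁻¹ᵁ U₁' ⊓ tmap E k fk φ₀ ⁻¹ᵁ Ω₀) ⊓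
        pullback.fst (E.map m₁.hom) fk ⁻¹ᵁ V from
      ⟨⟨by change tmap E k fk φ₁ (proj E e k fk m₁ x) ∈ U₁'; rw [hp₁]; exact hxU₁',
        by change tmap E k fk φ₀ (proj E e k fk m₁ x) ∈ Ω₀; rw [hp₀]; exact hl₀⟩, hyV⟩)
  have hUU₁ : U ≤ tmap E k fk φ₁ ⁻¹ᵁ U₁' := hUle.trans (inf_le_left.trans inf_le_left)
  have hUΩ₀ : U ≤ tmap E k fk φ₀ ⁻¹ᵁ Ω₀ := hUle.trans (inf_le_left.trans inf_le_right)
  have hUV : U ≤ pullback.fst (E.map m₁.hom) fk ⁻¹ᵁ V := hUle.trans inf_le_right
  -- the modules and the map at stage `m₁`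
  haveI hF₁fp := isFinitePresentation_pullback (pullback.snd (E.map m₁.hom) fk) Fk
  haveI hF'₁fp := isFinitePresentation_pullback (pullback.snd (E.map m₁.hom) fk) F'k
  haveI : LocallyOfFinitePresentation (pullback.fst (E.map m₁.hom) fk) :=
    MorphismProperty.pullback_fst _ _ inferInstance
  haveI : ((Scheme.Modules.pullback (pullback.snd (E.map m₁.hom) fk)).obj Fk).IsQuasicoherent :=
    Groth.Agent.Lib.Helper29.FPDict.isQuasicoherent_of_isFinitePresentation _
  haveI : ((Scheme.Modules.pullback (pullback.snd (E.map m₁.hom) fk)).obj F'k).IsQuasicoherent :=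
    Groth.Agent.Lib.Helper29.FPDict.isQuasicoherent_of_isFinitePresentation _
  -- cokernel flat on `U` at stage `m₁`
  have hcokflat : ∀ y ∈ U, FlatMod.IsFlatOverAt (pullback.fst (E.map m₁.hom) fk)
      (cokernel ((Scheme.Modules.pullback (pullback.snd (E.map m₁.hom) fk)).map h₀)) y := by
    intro y hy
    have h1 : FlatMod.IsFlatOverAt (pullback.fst (E.map m₀.hom) fk)
        ((Scheme.Modules.pullback (pullback.snd (E.map m₀.hom) fk)).obj (cokernel h₀))
        (tmap E k fk φ₀ y) := hUΩ₀ hy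
    have h2 := flatAt_of_map E k fk (cokernel h₀) φ₀ y h1
    exact (flatAt_cokernel_pullback_iff _ _ h₀ y).2 h2
  -- rings
  letI algB : Algebra Γ(E.obj m₁.left, V) Γ(pullback (E.map m₁.hom) fk, U) :=
    ((pullback.fst (E.map m₁.hom) fk).appLE V U hUV).hom.toAlgebra
  letI modM : Module Γ(E.obj m₁.left, V)
      Γ((Scheme.Modules.pullback (pullback.snd (E.map m₁.hom) fk)).obj Fk, U) :=
    Module.compHom _ ((pullback.fst (E.map m₁.hom) fk).appLE V U hUV).hom
  letI modM' : Module Γ(E.obj m₁.left, V)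
      Γ((Scheme.Modules.pullback (pullback.snd (E.map m₁.hom) fk)).obj F'k, U) :=
    Module.compHom _ ((pullback.fst (E.map m₁.hom) fk).appLE V U hUV).hom
  haveI : IsScalarTower Γ(E.obj m₁.left, V) Γ(pullback (E.map m₁.hom) fk, U)
      Γ((Scheme.Modules.pullback (pullback.snd (E.map m₁.hom) fk)).obj Fk, U) :=
    IsScalarTower.of_algebraMap_smul fun _ _ => rfl
  haveI : IsScalarTower Γ(E.obj m₁.left, V) Γ(pullback (E.map m₁.hom) fk, U)
      Γ((Scheme.Modules.pullback (pullback.snd (E.map m₁.hom) fk)).obj F'k, U) :=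
    IsScalarTower.of_algebraMap_smul fun _ _ => rfl
  haveI : Algebra.FinitePresentation Γ(E.obj m₁.left, V) Γ(pullback (E.map m₁.hom) fk, U) :=
    LocallyOfFinitePresentation.finitePresentation_appLE _ hV hU hUV
  haveI : Module.FinitePresentation Γ(pullback (E.map m₁.hom) fk, U)
      Γ((Scheme.Modules.pullback (pullback.snd (E.map m₁.hom) fk)).obj Fk, U) :=
    Groth.Agent.Lib.Helper29.FPDict.fp_of_isAffineOpen _ hU
  haveI : Module.FinitePresentation Γ(pullback (E.map m₁.hom) fk, U)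
      Γ((Scheme.Modules.pullback (pullback.snd (E.map m₁.hom) fk)).obj F'k, U) :=
    Groth.Agent.Lib.Helper29.FPDict.fp_of_isAffineOpen _ hU
  letI algG : ∀ n : Over m₁.left, Algebra Γ(E.obj m₁.left, V) Γ(E.obj n.left, Uo E V n) :=
    fun n => ((E.map n.hom).appLE V (Uo E V n) le_rfl).hom.toAlgebra
  letI algA : Algebra Γ(E.obj m₁.left, V) Γ(e.pt, Uinf E e V) :=
    ((e.π.app m₁.left).appLE V (Uinf E e V) le_rfl).hom.toAlgebra
  have hρτ : ∀ n : Over m₁.left, (E.map n.hom).appLE V (Uo E V n) le_rfl ≫ τ E e V n =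
      (e.π.app m₁.left).appLE V (Uinf E e V) le_rfl := by
    intro n
    rw [τ, Scheme.Hom.appLE_comp_appLE, appLE_congr_hom (e.w n.hom)]
  have hρσ : ∀ {n' n : Over m₁.left} (φ : n' ⟶ n),
      (E.map n.hom).appLE V (Uo E V n) le_rfl ≫ σ E V φ =
        (E.map n'.hom).appLE V (Uo E V n') le_rfl := by
    intro n' n φ
    rw [σ, Scheme.Hom.appLE_comp_appLE,
      appLE_congr_hom (show E.map φ.left ≫ E.map n.hom = E.map n'.hom by
        rw [← E.map_comp, Over.w φ])]
  let τA : ∀ n : Over m₁.left, Γ(E.obj n.left, Uo E V n) →ₐ[Γ(E.obj m₁.left, V)]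
      Γ(e.pt, Uinf E e V) := fun n =>
    { (τ E e V n).hom with commutes' := fun a => congr($(hρτ n).hom a) }
  let σA : ∀ {n' n : Over m₁.left}, (n' ⟶ n) → (Γ(E.obj n.left, Uo E V n) →ₐ[Γ(E.obj m₁.left, V)]
      Γ(E.obj n'.left, Uo E V n')) := fun φ =>
    { (σ E V φ).hom with commutes' := fun a => congr($(hρσ φ).hom a) }
  have hστ : ∀ {i j : Over m₁.left} (f : i ⟶ j) (y : Γ(E.obj j.left, Uo E V j)),
      τA i (σA f y) = τA j y := fun f y => congr($(σ_τ E e V f).hom y)
  have hσσ : ∀ {i j k' : Over m₁.left} (f : i ⟶ j) (g : j ⟶ k') (y : Γ(E.obj k'.left, Uo E V k')),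
      σA f (σA g y) = σA (f ≫ g) y := fun f g y => congr($(σ_comp E V f g).hom y)
  have hsurj : ∀ a : Γ(e.pt, Uinf E e V), ∃ i, ∃ y : Γ(E.obj i.left, Uo E V i), τA i y = a :=
    fun a => exists_τ_eq E e he V hV a
  have hker : ∀ i (y : Γ(E.obj i.left, Uo E V i)), τA i y = 0 → ∃ j, ∃ f : j ⟶ i, σA f y = 0 :=
    fun i y hy => exists_σ_eq_zero E e he V hV i y hy
  -- the map on sections, and flatness of its cokernel
  let α := appLinear ((Scheme.Modules.pullback (pullback.snd (E.map m₁.hom) fk)).map h₀) U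
  haveI hflat₀ : Module.Flat Γ(E.obj m₁.left, V)
      (Γ((Scheme.Modules.pullback (pullback.snd (E.map m₁.hom) fk)).obj Fk, U) ⧸
        LinearMap.range α) :=
    (coker_flat_chart_iff (pullback.fst (E.map m₁.hom) fk)
      ((Scheme.Modules.pullback (pullback.snd (E.map m₁.hom) fk)).map h₀) hU hV hUV).1 hcokflat
  haveI hflat₀' : Module.Flat Γ(E.obj m₁.left, V)
      (Γ((Scheme.Modules.pullback (pullback.snd (E.map m₁.hom) fk)).obj Fk, U) ⧸
        LinearMap.range (α.restrictScalars Γ(E.obj m₁.left, V))) :=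
    (flat_quot_restrictScalars_iff α).2 hflat₀
  -- injectivity over the limit ring
  haveI := isAffineHom_π_app E e he m₁.left
  have hinjA : Function.Injective
      ((α.restrictScalars Γ(E.obj m₁.left, V)).baseChange Γ(e.pt, Uinf E e V)) := by
    refine ((inj_flat_chart_general (isPullback_proj E e k fk m₁)
      ((Scheme.Modules.pullback (pullback.snd (E.map m₁.hom) fk)).map h₀) hV hU
      (hV.preimage (e.π.app m₁.left)) hUV le_rfl).1 (fun x' hx' => ?_)).1
    have h1 : Good (pullback.fst (e.π.app k) fk)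
        ((Scheme.Modules.pullback (pullback.snd (e.π.app k) fk)).map h₀) x' := by
      apply hU₁'Ω
      change proj E e k fk m₁' x' ∈ U₁'
      rw [← proj_tmap E e k fk φ₁, Scheme.Hom.comp_apply]
      exact hUU₁ hx'.1
    exact (good_pullback_comp_iff (pullback.fst (e.π.app k) fk) (proj E e k fk m₁)
      (pullback.snd (E.map m₁.hom) fk) (pullback.snd (e.π.app k) fk) (proj_snd E e k fk m₁)
      h₀ x').2 h1
  obtain ⟨n, hn⟩ := exists_stage_injective τA σA hστ hσσ hsurj hker α hinjA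
  refine ⟨n.left, n.hom ≫ m₁.hom, ?_⟩
  have hpt : trans E k fk m₁.hom n.hom (proj E e k fk (Over.mk (n.hom ≫ m₁.hom)) x) =
      proj E e k fk m₁ x := by
    rw [← Scheme.Hom.comp_apply, proj_trans]
  haveI : IsAffineHom (E.map n.hom) := inferInstance
  have hflatn := flat_coker_baseChange (α.restrictScalars Γ(E.obj m₁.left, V))
    Γ(E.obj n.left, Uo E V n)
  have h2 := (inj_flat_chart_general (isPullback_trans E k fk m₁.hom n.hom)
    ((Scheme.Modules.pullback (pullback.snd (E.map m₁.hom) fk)).map h₀) hV hU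
    (hV.preimage (E.map n.hom)) hUV le_rfl).2 ⟨hn, hflatn⟩
    (proj E e k fk (Over.mk (n.hom ≫ m₁.hom)) x) ⟨?_, ?_⟩
  · exact (good_pullback_comp_iff (pullback.fst (E.map (n.hom ≫ m₁.hom)) fk)
      (trans E k fk m₁.hom n.hom) (pullback.snd (E.map m₁.hom) fk)
      (pullback.snd (E.map (n.hom ≫ m₁.hom)) fk) (trans_snd E k fk m₁.hom n.hom) h₀ _).1 h2
  · change trans E k fk m₁.hom n.hom (proj E e k fk (Over.mk (n.hom ≫ m₁.hom)) x) ∈ U
    rw [hpt]; exact hxU
  · change E.map n.hom (pullback.fst (E.map (n.hom ≫ m₁.hom)) fk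
      (proj E e k fk (Over.mk (n.hom ≫ m₁.hom)) x)) ∈ V
    rw [← Scheme.Hom.comp_apply, ← trans_fst, Scheme.Hom.comp_apply, hpt]
    exact hUV hxU

end Groth.Agent.Lib.Helper25.LimInjFlatTower
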