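import Mathlib

/-!
# helper25 — RightExactCrit: a right exact functor sends `F → G → H` to a right exact sequence iff it inverts two
auxiliary morphisms.
-/

set_option autoImplicit false
universe u v w
open CategoryTheory Limits

namespace Groth.Agent.Lib.Helper25.RightExactCrit

variable {C : Type u} [Category.{v} C] [Abelian C] {D : Type w} [Category.{v} D] [Abelian D]
  (P : C ⥤ D) [P.Additive] [PreservesFiniteColimits P]

variable {F G H : C} (f : F ⟶ G) (g : G ⟶ H)

/-- the quotient `H → H / im (f ≫ g)` -/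
noncomputable abbrev q : H ⟶ cokernel (f ≫ g) := cokernel.π (f ≫ g)

/-- the induced map `coker f → H / im (f ≫ g)` -/
noncomputable def gbar : cokernel f ⟶ cokernel (f ≫ g) :=
  cokernel.desc f (g ≫ q f g) (by rw [← Category.assoc, cokernel.condition])

@[reassoc]
theorem π_gbar : cokernel.π f ≫ gbar f g = g ≫ q f g := cokernel.π_desc _ _ _

/-- `P (coker f)` is a cokernel of `P f` -/
noncomputable def isColimitMapπ :
    IsColimit (CokernelCofork.ofπ (P.map (cokernel.π f))
      (by rw [← P.map_comp, cokernel.condition, P.map_zero]) : CokernelCofork (P.map f)) :=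
  CokernelCofork.mapIsColimit _ (cokernelIsCokernel f) P

theorem rightExact_iff :
    (∃ w : P.map f ≫ P.map g = 0, (ShortComplex.mk _ _ w).Exact ∧ Epi (P.map g)) ↔
      IsIso (P.map (q f g)) ∧ IsIso (P.map (gbar f g)) := by
  have hsq : P.map (cokernel.π f) ≫ P.map (gbar f g) = P.map g ≫ P.map (q f g) := by
    rw [← P.map_comp, ← P.map_comp, π_gbar]
  constructor
  · rintro ⟨w, hex, hepi⟩
    have hfg : P.map (f ≫ g) = 0 := by rw [P.map_comp, w]
    have hq : IsIso (P.map (q f g)) :=
      CokernelCofork.IsColimit.isIso_π _ (isColimitMapπ P (f ≫ g)) hfg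
    refine ⟨hq, ?_⟩
    obtain ⟨hg⟩ := (ShortComplex.exact_and_epi_g_iff_g_is_cokernel (ShortComplex.mk _ _ w)).1 ⟨hex, hepi⟩
    -- the two cokernels of `P f`
    let e := IsColimit.coconePointUniqueUpToIso (isColimitMapπ P f) hg
    have he : P.map (cokernel.π f) ≫ e.hom = P.map g :=
      IsColimit.comp_coconePointUniqueUpToIso_hom (isColimitMapπ P f) hg WalkingParallelPair.one
    have : P.map (gbar f g) = e.hom ≫ P.map (q f g) := by
      rw [← cancel_epi (P.map (cokernel.π f)), hsq, ← Category.assoc, he]
    rw [this]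
    infer_instance
  · rintro ⟨hq, hg⟩
    have w : P.map f ≫ P.map g = 0 := by
      rw [← cancel_mono (P.map (q f g)), zero_comp, Category.assoc, ← P.map_comp, ← P.map_comp,
        ← Category.assoc, cokernel.condition, P.map_zero]
    refine ⟨w, ?_⟩
    refine (ShortComplex.exact_and_epi_g_iff_g_is_cokernel (ShortComplex.mk _ _ w)).2 ⟨?_⟩
    let θ : P.obj (cokernel f) ≅ P.obj H := asIso (P.map (gbar f g)) ≪≫ (asIso (P.map (q f g))).symm
    refine IsColimit.ofIsoColimit (isColimitMapπ P f) (Cofork.ext θ ?_)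
    change P.map (cokernel.π f) ≫ P.map (gbar f g) ≫ inv (P.map (q f g)) = P.map g
    rw [← Category.assoc, hsq, Category.assoc, IsIso.hom_inv_id, Category.comp_id]

end Groth.Agent.Lib.Helper25.RightExactCrit
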