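import Mathlib
import Groth.Agent.Lib.Helper1.FlatPullback
import Groth.Agent.Lib.Helper7.FPKerScheme
import Groth.Agent.Lib.Helper17.CohKer
import Groth.Agent.Lib.Helper25.RightExactCrit
import Groth.Agent.Lib.Helper25.LimModMap

/-!
# helper25 — LimRightExact: right exactness of `F → G → H → 0` after pullback to a limit holds at a stage.
-/

set_option backward.isDefEq.respectTransparency.types false
set_option autoImplicit false
set_option linter.unusedVariables false
set_option linter.style.haveILetI false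
universe u
open AlgebraicGeometry CategoryTheory Limits

namespace Groth.Agent.Lib.Helper25.LimRightExact

open Groth.Agent.Lib.Helper25.LimModMap Groth.Agent.Lib.Helper25.RightExactCrit
  Groth.Agent.Lib.Helper25.ModMapLocal

open Groth.Agent.Lib.Helper7.FPKer Groth.Agent.Lib.Helper17.CohKer in
/-- the cokernel of a morphism from a finite type module to a finitely presented module is finitely presented -/
theorem isFinitePresentation_cokernel_of_ft {X : Scheme.{u}} {F H : X.Modules} [F.IsQuasicoherent]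
    [SheafOfModules.IsFiniteType.{u} (R := X.ringCatSheaf) F]
    [SheafOfModules.IsFinitePresentation.{u} (R := X.ringCatSheaf) H] (φ : F ⟶ H) :
    SheafOfModules.IsFinitePresentation.{u} (R := X.ringCatSheaf) (cokernel φ : X.Modules) := by
  haveI : H.IsQuasicoherent := Groth.Agent.Lib.Helper29.FPDict.isQuasicoherent_of_isFinitePresentation H
  haveI hC : (cokernel φ : X.Modules).IsQuasicoherent := isQuasicoherent_cokernel φ
  haveI hK : (kernel (cokernel.π φ) : X.Modules).IsQuasicoherent := isQuasicoherent_kernel (cokernel.π φ)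
  refine Groth.Agent.Lib.Helper29.FPDict.isFinitePresentation_of_fp_cover (M := (cokernel φ : X.Modules))
    (fun V : X.affineOpens => V.1) (TopologicalSpace.IsOpenCover.mk (iSup_affineOpens_eq_top X)) (fun V => V.2) ?_
  rintro ⟨U, hU⟩
  change Module.FinitePresentation Γ(X, U) Γ((cokernel φ : X.Modules), U)
  haveI : Module.Finite Γ(X, U) Γ(F, U) := Groth.Agent.Lib.Helper28.FinType.finite_of_isAffineOpen F hU
  haveI : Module.FinitePresentation Γ(X, U) Γ(H, U) :=
    Groth.Agent.Lib.Helper29.FPDict.fp_of_isAffineOpen H hU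
  -- `F → ker (H → coker)` is an epimorphism
  haveI : Epi (Abelian.factorThruImage φ) := inferInstance
  have hsurj : Function.Surjective (appLinear (Abelian.factorThruImage φ) U) :=
    app_surjective_of_epi (Abelian.factorThruImage φ) hU
  haveI : Module.Finite Γ(X, U) Γ((kernel (cokernel.π φ) : X.Modules), U) :=
    Module.Finite.of_surjective _ hsurj
  haveI : Module.Finite Γ(X, U) (LinearMap.ker (appLinear (cokernel.π φ) U)) :=
    Module.Finite.equiv (kernelSectionsEquiv (cokernel.π φ) U)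
  haveI : Epi (cokernel.π φ) := inferInstance
  exact Module.finitePresentation_of_surjective (appLinear (cokernel.π φ) U)
    (app_surjective_of_epi (cokernel.π φ) hU) (Module.Finite.iff_fg.1 inferInstance)

variable {I : Type u} [SmallCategory I] [IsCofiltered I]
  (D : I ⥤ Scheme.{u}) {c : Cone D} (hc : IsLimit c)
  [∀ (i j : I) (f : i ⟶ j), IsAffineHom (D.map f)] (i₀ : I) [CompactSpace (D.obj i₀)]

include hc in
/-- **EGA IV 8.5.6-type**: right exactness of the pulled-back sequence holds at a stage. -/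
theorem rightExact_pullback_iff_eventually {F₀ G₀ H₀ : (D.obj i₀).Modules} [F₀.IsQuasicoherent]
    [G₀.IsQuasicoherent]
    [SheafOfModules.IsFiniteType.{u} (R := (D.obj i₀).ringCatSheaf) F₀]
    [SheafOfModules.IsFiniteType.{u} (R := (D.obj i₀).ringCatSheaf) G₀]
    [SheafOfModules.IsFinitePresentation.{u} (R := (D.obj i₀).ringCatSheaf) H₀]
    (f₀ : F₀ ⟶ G₀) (g₀ : G₀ ⟶ H₀) :
    (∃ w : (Scheme.Modules.pullback (c.π.app i₀)).map f₀ ≫ (Scheme.Modules.pullback (c.π.app i₀)).map g₀ = 0,
        (ShortComplex.mk _ _ w).Exact ∧ Epi ((Scheme.Modules.pullback (c.π.app i₀)).map g₀)) ↔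
      ∃ (j : I) (φ : j ⟶ i₀) (w : (Scheme.Modules.pullback (D.map φ)).map f₀ ≫
          (Scheme.Modules.pullback (D.map φ)).map g₀ = 0),
        (ShortComplex.mk _ _ w).Exact ∧ Epi ((Scheme.Modules.pullback (D.map φ)).map g₀) := by
  haveI : H₀.IsQuasicoherent := Groth.Agent.Lib.Helper29.FPDict.isQuasicoherent_of_isFinitePresentation H₀
  haveI : SheafOfModules.IsFiniteType.{u} (R := (D.obj i₀).ringCatSheaf) H₀ :=
    Groth.Agent.Lib.Helper29.FPDict.isFiniteType_of_isFinitePresentation H₀
  haveI : (cokernel f₀ : (D.obj i₀).Modules).IsQuasicoherent :=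
    Groth.Agent.Lib.Helper17.CohKer.isQuasicoherent_cokernel f₀
  haveI : SheafOfModules.IsFiniteType.{u} (R := (D.obj i₀).ringCatSheaf) (cokernel f₀ : (D.obj i₀).Modules) :=
    Groth.Agent.Lib.Helper17.CohKer.isFiniteType_cokernel f₀
  haveI : SheafOfModules.IsFinitePresentation.{u} (R := (D.obj i₀).ringCatSheaf)
      (cokernel (f₀ ≫ g₀) : (D.obj i₀).Modules) := isFinitePresentation_cokernel_of_ft (f₀ ≫ g₀)
  haveI : (cokernel (f₀ ≫ g₀) : (D.obj i₀).Modules).IsQuasicoherent :=
    Groth.Agent.Lib.Helper17.CohKer.isQuasicoherent_cokernel (f₀ ≫ g₀)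
  rw [rightExact_iff]
  have key1 := isIso_pullback_map_iff_eventually D hc (q f₀ g₀)
  have key2 := isIso_pullback_map_iff_eventually D hc (gbar f₀ g₀)
  rw [key1, key2]
  constructor
  · rintro ⟨⟨j₁, φ₁, h₁⟩, ⟨j₂, φ₂, h₂⟩⟩
    obtain ⟨j, ψ₁, ψ₂, hψ⟩ := IsCofiltered.cospan φ₁ φ₂
    refine ⟨j, ψ₁ ≫ φ₁, ?_⟩
    rw [rightExact_iff]
    constructor
    · exact isIso_map_of_comp (D.map ψ₁) (D.map φ₁) (D.map (ψ₁ ≫ φ₁)) (D.map_comp ψ₁ φ₁).symm
        (q f₀ g₀) h₁
    · exact isIso_map_of_comp (D.map ψ₂) (D.map φ₂) (D.map (ψ₁ ≫ φ₁))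
        (by rw [hψ, D.map_comp]) (gbar f₀ g₀) h₂
  · rintro ⟨j, φ, h⟩
    rw [rightExact_iff] at h
    exact ⟨⟨j, φ, h.1⟩, ⟨j, φ, h.2⟩⟩

end Groth.Agent.Lib.Helper25.LimRightExact
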