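import Mathlib
import Groth.Agent.Lib.Helper21.FlatDescJ

/-!
# helper25 — LocFlatStage: flatness at a prime spreads to a principal open of the base
(EGA IV 11.2.6.1 applied to the system of localizations `A_t`, `t ∉ p`).
-/

set_option linter.style.haveILetI false

namespace Groth.Agent.Lib.Helper25.LocFlatStage

open TensorProduct

universe u

variable {A : Type u} [CommRing A] (p : Ideal A) [hp : p.IsPrime]

/-- elements outside `p`, ordered by divisibility -/
structure Idx : Type u where
  val : A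
  not_mem : val ∉ p

instance : Preorder (Idx p) where
  le s t := s.val ∣ t.val
  le_refl _ := dvd_refl _
  le_trans _ _ _ h1 h2 := dvd_trans h1 h2

instance : IsDirected (Idx p) (· ≤ ·) :=
  ⟨fun s t => ⟨⟨s.val * t.val, fun h => (hp.mem_or_mem h).elim s.not_mem t.not_mem⟩,
    Dvd.intro _ rfl, Dvd.intro_left _ rfl⟩⟩

instance : Nonempty (Idx p) := ⟨⟨1, fun h => hp.ne_top ((Ideal.eq_top_iff_one _).2 h)⟩⟩

/-- the stage `A_s` -/
abbrev G (s : Idx p) : Type u := Localization.Away s.val

/-- `A_s → A_p` -/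
noncomputable def toLoc (s : Idx p) : G p s →ₐ[A] Localization.AtPrime p :=
  IsLocalization.Away.liftAlgHom (A := A) (R := A) (S := G p s) s.val
    (f := Algebra.ofId A (Localization.AtPrime p))
    (IsLocalization.map_units (Localization.AtPrime p) (⟨s.val, s.not_mem⟩ : p.primeCompl))

/-- `A_s → A_t` for `s ∣ t` -/
noncomputable def trans (s t : Idx p) (h : s ≤ t) : G p s →ₐ[A] G p t :=
  IsLocalization.Away.liftAlgHom (A := A) (R := A) (S := G p s) s.val
    (f := Algebra.ofId A (G p t)) (IsLocalization.Away.isUnit_of_dvd (S := G p t) t.val h)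

theorem toLoc_comp_trans (s t : Idx p) (h : s ≤ t) : (toLoc p t).comp (trans p s t h) = toLoc p s :=
  Subsingleton.elim (h := IsLocalization.algHom_subsingleton (Submonoid.powers s.val)) _ _

theorem toLoc_surj (a : Localization.AtPrime p) : ∃ s, ∃ x : G p s, toLoc p s x = a := by
  obtain ⟨a', ⟨s, hs⟩, rfl⟩ := IsLocalization.exists_mk'_eq p.primeCompl a
  refine ⟨⟨s, hs⟩, IsLocalization.mk' (Localization.Away s) a'
    (⟨s, 1, pow_one s⟩ : Submonoid.powers s), ?_⟩
  rw [IsLocalization.eq_mk'_iff_mul_eq]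
  change toLoc p ⟨s, hs⟩ _ * algebraMap A _ s = _
  rw [← (toLoc p ⟨s, hs⟩).commutes s, ← map_mul]
  change toLoc p ⟨s, hs⟩ (IsLocalization.mk' (Localization.Away s) a'
    (⟨s, 1, pow_one s⟩ : Submonoid.powers s) * algebraMap A (Localization.Away s)
      ((⟨s, 1, pow_one s⟩ : Submonoid.powers s) : A)) = _
  rw [IsLocalization.mk'_spec]
  exact (toLoc p ⟨s, hs⟩).commutes a'

theorem toLoc_ker (s : Idx p) (x : G p s) (hx : toLoc p s x = 0) :
    ∃ t, ∃ h : s ≤ t, trans p s t h x = 0 := by
  obtain ⟨n, a, ha⟩ := IsLocalization.Away.surj s.val x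
  have h1 : algebraMap A (Localization.AtPrime p) a = 0 := by
    rw [← (toLoc p s).commutes a, ← ha, map_mul, hx, zero_mul]
  obtain ⟨⟨c, hc⟩, hca⟩ := (IsLocalization.map_eq_zero_iff p.primeCompl _ a).1 h1
  let t : Idx p := ⟨s.val * c, fun h => (hp.mem_or_mem h).elim s.not_mem hc⟩
  have hst : s ≤ t := Dvd.intro _ rfl
  refine ⟨t, hst, ?_⟩
  have h2 : algebraMap A (G p t) a = 0 := by
    rw [IsLocalization.map_eq_zero_iff (Submonoid.powers t.val)]
    refine ⟨⟨t.val, 1, pow_one _⟩, ?_⟩
    change s.val * c * a = 0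
    rw [mul_assoc]
    have : c * a = 0 := hca
    rw [this, mul_zero]
  have h3 : trans p s t hst x * (algebraMap A (G p t) s.val) ^ n = 0 := by
    rw [← (trans p s t hst).commutes s.val, ← map_pow, ← map_mul]
    rw [ha, (trans p s t hst).commutes a, h2]
  have hu : IsUnit ((algebraMap A (G p t) s.val) ^ n) :=
    (IsLocalization.Away.isUnit_of_dvd (S := G p t) t.val hst).pow n
  exact (hu.mul_left_eq_zero).1 h3

/-- **Flatness at a prime spreads to a principal open neighbourhood in the base.** -/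
theorem exists_away_flat {B : Type u} [CommRing B] [Algebra A B] [Algebra.FinitePresentation A B]
    (M : Type u) [AddCommGroup M] [Module B M] [Module A M] [IsScalarTower A B M]
    [Module.FinitePresentation B M]
    [Module.Flat (Localization.AtPrime p) (Localization.AtPrime p ⊗[A] M)] :
    ∃ t : A, t ∉ p ∧ Module.Flat (Localization.Away t) (Localization.Away t ⊗[A] M) := by
  obtain ⟨s, hs⟩ := Groth.Agent.Lib.Helper21.FlatDesc.exists_flat_stage (A₀ := A) (G := G p)
    (A := Localization.AtPrime p) (toLoc p) (trans p) (toLoc_comp_trans p) (toLoc_surj p)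
    (toLoc_ker p) (B₀ := B) M
  exact ⟨s.val, s.not_mem, hs⟩

end Groth.Agent.Lib.Helper25.LocFlatStage
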