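import Mathlib

/-!
# helper25 — LocTower: the spectrum of a localization `M⁻¹A` is the cofiltered limit of the basic opens
`Spec A_f`, `f` a finite product of elements of `M`.
-/

set_option autoImplicit false
set_option linter.unusedSectionVars false
set_option linter.unusedVariables false
set_option linter.style.haveILetI false
universe u

open CategoryTheory CategoryTheory.Limits AlgebraicGeometry

namespace Groth.Agent.Lib.Helper25.LocTower

section Ring

variable (A : Type u) [CommRing A] (M : Submonoid A) (K : Type u) [CommRing K] [Algebra A K]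
  [IsLocalization M K]

/-- the product of a finite subset of `M` -/
noncomputable def pr (T : Finset M) : A := ((∏ m ∈ T, m : M) : A)

variable {A M}

lemma pr_mem (T : Finset M) : pr A M T ∈ M := (∏ m ∈ T, m : M).2

lemma pr_dvd {T T' : Finset M} (h : T ⊆ T') : pr A M T ∣ pr A M T' := by
  obtain ⟨c, hc⟩ := Finset.prod_dvd_prod_of_subset T T' (fun m => m) h
  exact ⟨(c : A), by unfold pr; rw [hc]; rfl⟩

lemma isUnit_pr {T T' : Finset M} (h : T ⊆ T') :
    IsUnit (algebraMap A (Localization.Away (pr A M T')) (pr A M T)) :=
  isUnit_of_dvd_unit ((algebraMap A (Localization.Away (pr A M T'))).map_dvd (pr_dvd h))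
    (IsLocalization.Away.algebraMap_isUnit (pr A M T'))

variable (A M)

/-- transition maps -/
noncomputable def tr {T T' : Finset M} (h : T ⊆ T') :
    Localization.Away (pr A M T) →+* Localization.Away (pr A M T') :=
  IsLocalization.Away.lift (pr A M T) (isUnit_pr h)

lemma tr_comp_algebraMap {T T' : Finset M} (h : T ⊆ T') :
    (tr A M h).comp (algebraMap A (Localization.Away (pr A M T))) =
      algebraMap A (Localization.Away (pr A M T')) :=
  IsLocalization.Away.lift_comp _ _

lemma tr_id (T : Finset M) : tr A M (le_refl T) = RingHom.id _ := by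
  apply IsLocalization.ringHom_ext (Submonoid.powers (pr A M T))
  rw [tr_comp_algebraMap, RingHom.id_comp]

lemma tr_tr {T T' T'' : Finset M} (h : T ⊆ T') (h' : T' ⊆ T'') :
    (tr A M h').comp (tr A M h) = tr A M (h.trans h') := by
  apply IsLocalization.ringHom_ext (Submonoid.powers (pr A M T))
  rw [RingHom.comp_assoc, tr_comp_algebraMap, tr_comp_algebraMap, tr_comp_algebraMap]

/-- the diagram of localizations -/
noncomputable def locDiag : Finset M ⥤ CommRingCat.{u} where
  obj T := CommRingCat.of (Localization.Away (pr A M T))
  map {T T'} f := CommRingCat.ofHom (tr A M (leOfHom f))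
  map_id T := by
    change CommRingCat.ofHom (tr A M (le_refl T)) = _
    rw [tr_id]
    rfl
  map_comp {T T' T''} f g := by
    change CommRingCat.ofHom (tr A M ((leOfHom f).trans (leOfHom g))) = _
    rw [← tr_tr A M (leOfHom f) (leOfHom g)]
    rfl

/-- maps to the localization -/
noncomputable def toK (T : Finset M) : Localization.Away (pr A M T) →+* K :=
  IsLocalization.Away.lift (pr A M T) (IsLocalization.map_units K ⟨pr A M T, pr_mem T⟩)

lemma toK_comp_algebraMap (T : Finset M) :
    (toK A M K T).comp (algebraMap A (Localization.Away (pr A M T))) = algebraMap A K :=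
  IsLocalization.Away.lift_comp _ _

lemma toK_tr {T T' : Finset M} (h : T ⊆ T') : (toK A M K T').comp (tr A M h) = toK A M K T := by
  apply IsLocalization.ringHom_ext (Submonoid.powers (pr A M T))
  rw [RingHom.comp_assoc, tr_comp_algebraMap, toK_comp_algebraMap, toK_comp_algebraMap]

/-- the cocone with vertex the localization -/
noncomputable def locCocone : Cocone (locDiag A M) where
  pt := CommRingCat.of K
  ι :=
    { app := fun T => CommRingCat.ofHom (toK A M K T)
      naturality := fun T T' f => by
        change CommRingCat.ofHom ((toK A M K T').comp (tr A M (leOfHom f))) = _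
        rw [toK_tr]
        rfl }

/-- the components of a cocone, as ring homomorphisms -/
noncomputable def sι (s : Cocone (locDiag A M)) (T : Finset M) :
    Localization.Away (pr A M T) →+* s.pt := (s.ι.app T).hom

lemma sι_tr (s : Cocone (locDiag A M)) {T T' : Finset M} (h : T ⊆ T') :
    (sι A M s T').comp (tr A M h) = sι A M s T :=
  congrArg CommRingCat.Hom.hom (s.w (homOfLE h))

/-- the structure map of a cocone from `A` -/
noncomputable def strMap (s : Cocone (locDiag A M)) : A →+* s.pt :=
  (sι A M s ∅).comp (algebraMap A (Localization.Away (pr A M ∅)))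

lemma sι_comp_algebraMap (s : Cocone (locDiag A M)) (T : Finset M) :
    (sι A M s T).comp (algebraMap A (Localization.Away (pr A M T))) = strMap A M s := by
  unfold strMap
  rw [← sι_tr A M s (Finset.empty_subset T), RingHom.comp_assoc, tr_comp_algebraMap]

lemma isUnit_strMap (s : Cocone (locDiag A M)) (m : M) : IsUnit (strMap A M s m) := by
  classical
  rw [← sι_comp_algebraMap A M s {m}]
  have h1 : pr A M {m} = (m : A) := by unfold pr; simp
  have h2 : IsUnit (algebraMap A (Localization.Away (pr A M {m})) (pr A M {m})) :=
    IsLocalization.Away.algebraMap_isUnit _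
  have h3 := h2.map (sι A M s {m})
  have h4 : ((sι A M s {m}).comp (algebraMap A (Localization.Away (pr A M {m})))) (m : A) =
      (sι A M s {m}) ((algebraMap A (Localization.Away (pr A M {m}))) (pr A M {m})) := by
    rw [RingHom.comp_apply]
    exact congrArg (fun a => (sι A M s {m}) ((algebraMap A (Localization.Away (pr A M {m}))) a)) h1.symm
  rw [h4]
  exact h3

/-- the induced map out of the localization -/
noncomputable def descK (s : Cocone (locDiag A M)) : K →+* s.pt :=
  IsLocalization.lift (M := M) (S := K) (isUnit_strMap A M s)

lemma descK_toK (s : Cocone (locDiag A M)) (T : Finset M) :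
    (descK A M K s).comp (toK A M K T) = sι A M s T := by
  apply IsLocalization.ringHom_ext (Submonoid.powers (pr A M T))
  unfold descK
  rw [RingHom.comp_assoc, toK_comp_algebraMap, IsLocalization.lift_comp, sι_comp_algebraMap]

lemma descK_uniq (s : Cocone (locDiag A M)) (m : K →+* s.pt)
    (hm : ∀ T, m.comp (toK A M K T) = sι A M s T) : m = descK A M K s := by
  apply IsLocalization.ringHom_ext M
  unfold descK
  rw [IsLocalization.lift_comp, ← toK_comp_algebraMap A M K ∅, ← RingHom.comp_assoc, hm ∅]
  rfl

/-- the localization is the filtered colimit of the `A_f` -/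
noncomputable def locIsColimit : IsColimit (locCocone A M K) where
  desc s := CommRingCat.ofHom (descK A M K s)
  fac s T := by
    apply CommRingCat.hom_ext
    exact descK_toK A M K s T
  uniq s m hm := by
    apply CommRingCat.hom_ext
    exact descK_uniq A M K s m.hom (fun T => congrArg CommRingCat.Hom.hom (hm T))

end Ring

section Spec

variable (A : Type u) [CommRing A] (M : Submonoid A) (K : Type u) [CommRing K] [Algebra A K]
  [IsLocalization M K]

/-- the tower of basic opens -/
noncomputable def specDiag : (Finset M)ᵒᵖ ⥤ Scheme.{u} := (locDiag A M).op ⋙ Scheme.Spec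

/-- the cone with vertex `Spec K` -/
noncomputable def specCone : Cone (specDiag A M) := Scheme.Spec.mapCone (locCocone A M K).op

/-- it is a limit cone -/
noncomputable def specIsLimit : IsLimit (specCone A M K) :=
  isLimitOfPreserves Scheme.Spec (locIsColimit A M K).op

instance (T : (Finset M)ᵒᵖ) : IsAffine ((specDiag A M).obj T) := by
  dsimp [specDiag]; infer_instance

instance {T T' : (Finset M)ᵒᵖ} (f : T ⟶ T') : IsAffineHom ((specDiag A M).map f) := by
  infer_instance

lemma specCone_pt : (specCone A M K).pt = Spec (CommRingCat.of K) := rfl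

/-- structure map to `Spec A` -/
noncomputable def specStr (T : (Finset M)ᵒᵖ) : (specDiag A M).obj T ⟶ Spec (CommRingCat.of A) :=
  Spec.map (CommRingCat.ofHom (algebraMap A (Localization.Away (pr A M T.unop))))

lemma specDiag_map_str {T T' : (Finset M)ᵒᵖ} (f : T ⟶ T') :
    (specDiag A M).map f ≫ specStr A M T' = specStr A M T :=
  (Spec.map_comp (CommRingCat.ofHom (algebraMap A (Localization.Away (pr A M T'.unop))))
    ((locDiag A M).map f.unop)).symm.trans (congrArg Spec.map (by
      apply CommRingCat.hom_ext
      exact tr_comp_algebraMap A M (leOfHom f.unop)))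

/-- the map `Spec K ⟶ Spec A` -/
noncomputable def specτ : (specCone A M K).pt ⟶ Spec (CommRingCat.of A) :=
  Spec.map (CommRingCat.ofHom (algebraMap A K))

lemma specCone_π_str (T : (Finset M)ᵒᵖ) :
    (specCone A M K).π.app T ≫ specStr A M T = specτ A M K :=
  (Spec.map_comp (CommRingCat.ofHom (algebraMap A (Localization.Away (pr A M T.unop))))
    ((locCocone A M K).ι.app T.unop)).symm.trans (congrArg Spec.map (by
      apply CommRingCat.hom_ext
      exact toK_comp_algebraMap A M K T.unop))

instance (T : (Finset M)ᵒᵖ) : IsOpenImmersion (specStr A M T) := by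
  unfold specStr
  exact Scheme.isOpenImmersion_SpecMap_localizationAway (R := CommRingCat.of A) (pr A M T.unop)

lemma opensRange_specStr (T : (Finset M)ᵒᵖ) :
    (specStr A M T).opensRange = PrimeSpectrum.basicOpen (pr A M T.unop) :=
  Scheme.Hom.opensRange_localizationAway (R := CommRingCat.of A) (pr A M T.unop)

end Spec

end Groth.Agent.Lib.Helper25.LocTower
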