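import Mathlib
import Groth.Agent.S1460
import Groth.Agent.Lib.Helper25.ConsEmptyLim

/-!
# Noetherian approximation preserving a constructible fibrewise locus (EGA IV 8.3.2 + 8.9.1, affine)
-/

set_option autoImplicit false
set_option linter.deprecated false
set_option linter.style.haveILetI false
universe u
open CategoryTheory CategoryTheory.Limits AlgebraicGeometry Topology

namespace Groth.Agent.Lib.Helper25.LocusApprox

theorem exists_model {X S : Scheme.{u}} (f : X ⟶ S) [IsAffine X] [IsAffine S]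
    [LocallyOfFinitePresentation f]
    (E : ∀ ⦃X S : Scheme.{u}⦄, (X ⟶ S) → Set S)
    (hbc : ∀ ⦃X S X' S' : Scheme.{u}⦄ (f : X ⟶ S) (g : S' ⟶ S) (f' : X' ⟶ S') (g' : X' ⟶ X)
      [LocallyOfFiniteType f] [QuasiCompact f], IsPullback g' f' f g → E f' = g ⁻¹' E f)
    (hcons : ∀ ⦃X S : Scheme.{u}⦄ (f : X ⟶ S) [LocallyOfFinitePresentation f] [QuasiCompact f]
      [QuasiSeparated f], IsLocallyConstructible (E f))
    (hE : E f = Set.univ) :
    ∃ (X₀ S₀ : Scheme.{u}) (f₀ : X₀ ⟶ S₀) (g : S ⟶ S₀) (g' : X ⟶ X₀), IsAffine X₀ ∧ IsAffine S₀ ∧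
      IsPullback g' f f₀ g ∧ Algebra.FiniteType ℤ Γ(S₀, ⊤) ∧ LocallyOfFiniteType f₀ ∧
      E f₀ = Set.univ := by
  algebraize [f.appTop.hom]
  have hfp : Algebra.FinitePresentation Γ(S, ⊤) Γ(X, ⊤) := by
    have h1 : RingHom.FinitePresentation f.appTop.hom :=
      (HasRingHomProperty.iff_of_isAffine (P := @LocallyOfFinitePresentation)).mp inferInstance
    exact h1
  obtain ⟨R₀, B₀, φ₀, ψ, ψ', hpo, hR₀, hφ₀⟩ := Groth.Agent.S1460.ring_case Γ(S, ⊤) Γ(X, ⊤)
  have hpb := isPullback_SpecMap_of_isPushout _ _ _ _ hpo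
  have hsq : IsPullback X.isoSpec.hom f (Spec.map f.appTop) S.isoSpec.hom :=
    IsPullback.of_horiz_isIso ⟨Scheme.isoSpec_hom_naturality f⟩
  have hpb' : IsPullback (Spec.map ψ') (Spec.map f.appTop) (Spec.map φ₀) (Spec.map ψ) := hpb
  have hbig := hsq.paste_horiz hpb'
  haveI : IsNoetherianRing R₀ := Algebra.FiniteType.isNoetherianRing ℤ R₀
  have hφfp : φ₀.hom.FinitePresentation := RingHom.FinitePresentation.of_finiteType.mp hφ₀
  haveI : LocallyOfFinitePresentation (Spec.map φ₀) :=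
    (HasRingHomProperty.Spec_iff (P := @LocallyOfFinitePresentation)).mpr hφfp
  have hc : IsConstructible (E (Spec.map φ₀)) := (hcons (Spec.map φ₀)).isConstructible
  have hZ : IsConstructible (E (Spec.map φ₀))ᶜ := hc.compl
  have hpre : (Spec.map ψ) ⁻¹' (E (Spec.map φ₀))ᶜ = ∅ := by
    have h1 := hbc (Spec.map φ₀) _ f _ hbig
    rw [hE] at h1
    rw [Set.eq_empty_iff_forall_notMem]
    intro p hp
    obtain ⟨s, rfl⟩ := S.isoSpec.hom.surjective p
    have h2 : s ∈ (Set.univ : Set S) := trivial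
    rw [h1] at h2
    exact hp h2
  letI : Algebra R₀ Γ(S, ⊤) := ψ.hom.toAlgebra
  have hpre' : PrimeSpectrum.comap (algebraMap R₀ Γ(S, ⊤)) ⁻¹'
      ((E (Spec.map φ₀))ᶜ : Set (PrimeSpectrum R₀)) = ∅ := hpre
  have hZ' : IsConstructible ((E (Spec.map φ₀))ᶜ : Set (PrimeSpectrum R₀)) := hZ
  obtain ⟨s, hs⟩ := ConsEmptyLim.exists_finset_adjoin_preimage_eq_empty hZ' hpre'
  set R₁ := Algebra.adjoin R₀ (s : Set Γ(S, ⊤)) with hR₁
  let u : Spec (.of R₁) ⟶ Spec R₀ := Spec.map (CommRingCat.ofHom (algebraMap R₀ R₁))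
  let g₁ : S ⟶ Spec (.of R₁) := S.isoSpec.hom ≫ Spec.map (CommRingCat.ofHom R₁.val.toRingHom)
  have hg₁u : g₁ ≫ u = S.isoSpec.hom ≫ Spec.map ψ := by
    simp only [g₁, u, Category.assoc, ← Spec.map_comp]
    congr 2
  have hright : IsPullback (pullback.fst (Spec.map φ₀) u) (pullback.snd (Spec.map φ₀) u)
      (Spec.map φ₀) u := IsPullback.of_hasPullback _ _
  have hbig' : IsPullback (X.isoSpec.hom ≫ Spec.map ψ') f (Spec.map φ₀) (g₁ ≫ u) := by
    rw [hg₁u]; exact hbig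
  have hw : (X.isoSpec.hom ≫ Spec.map ψ') ≫ Spec.map φ₀ = (f ≫ g₁) ≫ u := by
    rw [Category.assoc f, hg₁u]; exact hbig.w
  have hleft : IsPullback (pullback.lift (X.isoSpec.hom ≫ Spec.map ψ') (f ≫ g₁) hw) f
      (pullback.snd (Spec.map φ₀) u) g₁ := by
    refine IsPullback.of_right ?_ (pullback.lift_snd _ _ _) hright
    rw [pullback.lift_fst]; exact hbig'
  refine ⟨pullback (Spec.map φ₀) u, Spec (.of R₁), pullback.snd (Spec.map φ₀) u, g₁, _,
    inferInstance, inferInstance, hleft, ?_, inferInstance, ?_⟩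
  · haveI : Algebra.FiniteType R₀ R₁ := Algebra.FiniteType.adjoin_of_finite s.finite_toSet
    have h1 : Algebra.FiniteType ℤ R₁ := Algebra.FiniteType.trans (S := R₀) hR₀ inferInstance
    exact Algebra.FiniteType.equiv h1
      { (Scheme.ΓSpecIso (.of R₁)).symm.commRingCatIsoToRingEquiv with
        commutes' := fun r => by simp }
  · rw [hbc (Spec.map φ₀) u (pullback.snd (Spec.map φ₀) u) _ hright]
    rw [Set.eq_univ_iff_forall]
    intro p
    by_contra hp
    have : p ∈ PrimeSpectrum.comap (algebraMap R₀ R₁) ⁻¹'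
        ((E (Spec.map φ₀))ᶜ : Set (PrimeSpectrum R₀)) := hp
    rw [hs] at this
    exact this

end Groth.Agent.Lib.Helper25.LocusApprox
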