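import Mathlib
import Groth.Agent.Lib.Helper25.IntTower
import Groth.Agent.Lib.Helper25.ConsModB
import Groth.Agent.Lib.Helper25.LimFlatTower
import Groth.Agent.Lib.Helper7.FlatBCComp
import Groth.Agent.Lib.Helper17.FibreStalk

/-!
# helper25 — NoethFlatA: Noetherian approximation over the tower of finitely generated `ℤ`-subalgebras
with descent of flatness (EGA IV 11.2.6/11.2.7).
-/

set_option backward.isDefEq.respectTransparency.types false
set_option autoImplicit false
set_option linter.unusedSectionVars false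
set_option linter.unusedVariables false
set_option linter.style.haveILetI false
universe u

open CategoryTheory CategoryTheory.Limits AlgebraicGeometry Topology

namespace Groth.Agent.Lib.Helper25.NoethFlat

open Groth.Agent.Lib.Helper25.IntTower Groth.Agent.Lib.Helper22
  Groth.Agent.Lib.Helper25.NoethApprox Groth.Agent.Lib.Helper25.ModMapLocal
  Groth.Agent.Lib.Helper25.LimModDesc Groth.Agent.Lib.Helper21.FPQuot
  Groth.Agent.Lib.Helper25.LimFlatTower Groth.Agent.Lib.Helper7.FlatChart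
  Groth.Agent.Lib.Helper17.FibreStalk

variable (H : FPDescent.{u})

instance bcDiag_quasiSeparatedSpace' {I : Type u} [Category.{u} I] (D : I ⥤ Scheme.{u})
    [∀ (i j : I) (f : i ⟶ j), IsAffineHom (D.map f)]
    (i : I) {T : Scheme.{u}} (a : T ⟶ D.obj i) [QuasiSeparatedSpace T] (j : Over i) :
    QuasiSeparatedSpace ((bcDiag D i a).obj j) :=
  Groth.Agent.Lib.Helper25.NoethApprox.bcDiag_quasiSeparatedSpace D i a j

include H in
/-- Noetherian approximation of `(X ⟶ Spec A, F)` at a stage of the tower of f.g. `ℤ`-subalgebras -/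
theorem exists_model {A : Type u} [CommRing A] {X : Scheme.{u}}
    (f : X ⟶ (specCone A).pt) [LocallyOfFinitePresentation f] [QuasiCompact f] [QuasiSeparated f]
    (F : X.Modules) [SheafOfModules.IsFinitePresentation.{u} (R := X.ringCatSheaf) F] :
    ∃ (k : (Finset A)ᵒᵖ) (Xk : Scheme.{u}) (uk : Xk ⟶ (specDiag A).obj k) (Fk : Xk.Modules)
      (q : X ⟶ Xk), LocallyOfFinitePresentation uk ∧ QuasiCompact uk ∧ QuasiSeparated uk ∧
        SheafOfModules.IsFinitePresentation.{u} (R := Xk.ringCatSheaf) Fk ∧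
        IsPullback q f uk ((specCone A).π.app k) ∧
        Nonempty (F ≅ (Scheme.Modules.pullback q).obj Fk) := by
  let D := specDiag A
  let c := specCone A
  let hc : IsLimit c := specIsLimit A
  obtain ⟨s₀, X₀, u₀, qX, h1, h2, h3, hX⟩ := H D c hc X f
  haveI := h1; haveI := h2; haveI := h3
  haveI : CompactSpace X₀ := QuasiCompact.compactSpace_of_compactSpace u₀
  haveI : QuasiSeparatedSpace X₀ := quasiSeparatedSpace_of_quasiSeparated u₀
  let D' := bcDiag D s₀ u₀
  let c' := bcCone D c s₀ u₀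
  let hc' : IsLimit c' := bcIsLimit D hc s₀ u₀
  let θ : X ≅ c'.pt := hX.flip.isoPullback
  have hθ1 : θ.hom ≫ pullback.fst (c.π.app s₀) u₀ = f := hX.flip.isoPullback_hom_fst
  have hθ2 : θ.hom ≫ pullback.snd (c.π.app s₀) u₀ = qX := hX.flip.isoPullback_hom_snd
  let F' : c'.pt.Modules := (Scheme.Modules.pullback θ.inv).obj F
  haveI : SheafOfModules.IsFinitePresentation.{u} (R := c'.pt.ringCatSheaf) F' := isFP_pullback θ.inv F
  haveI : ∀ (j k : Over s₀) (f : j ⟶ k), IsAffineHom (D'.map f) :=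
    fun _ _ f => bcDiag_isAffineHom D s₀ u₀ f
  haveI : CompactSpace (D'.obj (Over.mk (𝟙 s₀))) := bcDiag_compactSpace D s₀ u₀ _
  haveI : QuasiSeparatedSpace (D'.obj (Over.mk (𝟙 s₀))) := bcDiag_quasiSeparatedSpace D s₀ u₀ _
  obtain ⟨k, φk, Fk, hq, hfp, ⟨eF⟩⟩ := exists_module_descend D' hc' (Over.mk (𝟙 s₀)) F'
  haveI := hfp
  let πk : pullback (c.π.app s₀) u₀ ⟶ pullback (D.map k.hom) u₀ := c'.π.app k
  have hπ1 : πk ≫ pullback.snd (D.map k.hom) u₀ = pullback.snd (c.π.app s₀) u₀ :=
    bcCone_π_snd D c s₀ u₀ k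
  have hπ2 : πk ≫ pullback.fst (D.map k.hom) u₀ = pullback.fst (c.π.app s₀) u₀ ≫ c.π.app k.left :=
    bcCone_π_fst D c s₀ u₀ k
  let θ' : X ⟶ pullback (c.π.app s₀) u₀ := θ.hom
  let uk : pullback (D.map k.hom) u₀ ⟶ D.obj k.left := pullback.fst (D.map k.hom) u₀
  let qX' : X ⟶ pullback (D.map k.hom) u₀ := θ' ≫ πk
  have hqX'1 : qX' ≫ pullback.snd (D.map k.hom) u₀ = qX := by
    change (θ' ≫ πk) ≫ pullback.snd (D.map k.hom) u₀ = qX
    rw [Category.assoc, hπ1]
    exact hθ2
  have hqX'2 : qX' ≫ uk = f ≫ c.π.app k.left := by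
    change (θ' ≫ πk) ≫ pullback.fst (D.map k.hom) u₀ = f ≫ c.π.app k.left
    rw [Category.assoc, hπ2, ← Category.assoc]
    congr 1
  have hX' : IsPullback qX' f uk (c.π.app k.left) := by
    refine IsPullback.of_right ?_ hqX'2 (IsPullback.of_hasPullback (D.map k.hom) u₀).flip
    rw [hqX'1, c.w]
    exact hX
  let iso : F ≅ (Scheme.Modules.pullback qX').obj Fk :=
    ((compIso θ.hom θ.inv (𝟙 X) θ.hom_inv_id).app F ≪≫ (Scheme.Modules.pullbackId X).app F).symm ≪≫
      (Scheme.Modules.pullback θ.hom).mapIso eF.symm ≪≫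
      (compIso θ.hom πk qX' rfl).app Fk
  exact ⟨k.left, pullback (D.map k.hom) u₀, uk, Fk, qX', inferInstance, inferInstance,
    inferInstance, hfp, hX', ⟨iso⟩⟩

/-- transfer of flatness at a point to the canonical pullback model -/
theorem flatAt_transfer {S Sk X Xk : Scheme.{u}} {f : X ⟶ S} {π : S ⟶ Sk} {uk : Xk ⟶ Sk} {q : X ⟶ Xk}
    (hX : IsPullback q f uk π) (F : X.Modules) [F.IsQuasicoherent] (Fk : Xk.Modules)
    [Fk.IsQuasicoherent] (eF : F ≅ (Scheme.Modules.pullback q).obj Fk) (x : X)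
    (h : FlatMod.IsFlatOverAt f F x) :
    FlatMod.IsFlatOverAt (pullback.fst π uk)
      ((Scheme.Modules.pullback (pullback.snd π uk)).obj Fk) (hX.flip.isoPullback.hom x) := by
  set ι : X ≅ pullback π uk := hX.flip.isoPullback with hι
  have hι1 : ι.hom ≫ pullback.fst π uk = f := hX.flip.isoPullback_hom_fst
  have hι2 : ι.hom ≫ pullback.snd π uk = q := hX.flip.isoPullback_hom_snd
  have h0 : FlatMod.IsFlatOverAt f ((Scheme.Modules.pullback q).obj Fk) x :=
    isFlatOverAt_of_iso f eF x h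
  have sq : IsPullback ι.inv (pullback.fst π uk) f (𝟙 S) :=
    IsPullback.of_horiz_isIso ⟨by rw [Iso.inv_comp_eq, Category.comp_id, hι1]⟩
  have hx : ι.inv (ι.hom x) = x := by
    rw [← Scheme.Hom.comp_apply, Iso.hom_inv_id]; rfl
  have h1 := isFlatOverAt_baseChange f (pullback.fst π uk) ι.inv (𝟙 S) sq
    ((Scheme.Modules.pullback q).obj Fk) (ι.hom x) (by rw [hx]; exact h0)
  have hinvq : ι.inv ≫ q = pullback.snd π uk := by rw [Iso.inv_comp_eq, hι2]
  let eiso : (Scheme.Modules.pullback ι.inv).obj ((Scheme.Modules.pullback q).obj Fk) ≅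
      (Scheme.Modules.pullback (pullback.snd π uk)).obj Fk :=
    (Scheme.Modules.pullbackComp ι.inv q).app Fk ≪≫ (Scheme.Modules.pullbackCongr hinvq).app Fk
  exact isFlatOverAt_of_iso _ eiso _ h1

/-- the stage data produced from a stage `a : l ⟶ k` of the tower -/
theorem stage_data {J : Type u} [SmallCategory J] [IsCofiltered J] (E : J ⥤ Scheme.{u})
    (e : Cone E) [∀ (i j : J) (f : i ⟶ j), IsAffineHom (E.map f)]
    (k : J) {X Xk : Scheme.{u}} {f : X ⟶ e.pt} {uk : Xk ⟶ E.obj k} {q : X ⟶ Xk}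
    (hX : IsPullback q f uk (e.π.app k)) (F : X.Modules) (Fk : Xk.Modules)
    (eF : F ≅ (Scheme.Modules.pullback q).obj Fk) {l : J} (a : l ⟶ k) :
    IsPullback (hX.flip.isoPullback.hom ≫ proj E e k uk (Over.mk a)) f
        (pullback.fst (E.map a) uk) (e.π.app l) ∧
      Nonempty (F ≅ (Scheme.Modules.pullback
        (hX.flip.isoPullback.hom ≫ proj E e k uk (Over.mk a))).obj
          ((Scheme.Modules.pullback (pullback.snd (E.map a) uk)).obj Fk)) := by
  set ι : X ≅ pullback (e.π.app k) uk := hX.flip.isoPullback with hι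
  have hι1 : ι.hom ≫ pullback.fst (e.π.app k) uk = f := hX.flip.isoPullback_hom_fst
  have hι2 : ι.hom ≫ pullback.snd (e.π.app k) uk = q := hX.flip.isoPullback_hom_snd
  constructor
  · have sq : IsPullback ι.hom f (pullback.fst (e.π.app k) uk) (𝟙 e.pt) :=
      IsPullback.of_horiz_isIso ⟨by rw [Category.comp_id, hι1]⟩
    have := sq.paste_horiz (isPullback_proj E e k uk (Over.mk a))
    rwa [Category.id_comp] at this
  · have hq : (ι.hom ≫ proj E e k uk (Over.mk a)) ≫ pullback.snd (E.map a) uk = q := by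
      rw [Category.assoc, proj_mk_snd, hι2]
    exact ⟨eF ≪≫ ((compIso (ι.hom ≫ proj E e k uk (Over.mk a)) (pullback.snd (E.map a) uk) q hq).app
      Fk).symm⟩

include H in
/-- **EGA IV 11.2.6 (pointwise)**: Noetherian approximation with flatness at a point -/
theorem exists_flatAt_model {A : Type u} [CommRing A] {X : Scheme.{u}}
    (f : X ⟶ (specCone A).pt) [LocallyOfFinitePresentation f] [QuasiCompact f] [QuasiSeparated f]
    (F : X.Modules) [SheafOfModules.IsFinitePresentation.{u} (R := X.ringCatSheaf) F] (x : X)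
    (h : FlatMod.IsFlatOverAt f F x) :
    ∃ (l : (Finset A)ᵒᵖ) (Xl : Scheme.{u}) (ul : Xl ⟶ (specDiag A).obj l) (Fl : Xl.Modules)
      (q : X ⟶ Xl), LocallyOfFinitePresentation ul ∧ QuasiCompact ul ∧ QuasiSeparated ul ∧
        SheafOfModules.IsFinitePresentation.{u} (R := Xl.ringCatSheaf) Fl ∧
        IsPullback q f ul ((specCone A).π.app l) ∧
        Nonempty (F ≅ (Scheme.Modules.pullback q).obj Fl) ∧ FlatMod.IsFlatOverAt ul Fl (q x) := by
  obtain ⟨k, Xk, uk, Fk, q, h1, h2, h3, hfp, hX, ⟨eF⟩⟩ := exists_model H f F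
  haveI := h1; haveI := h2; haveI := h3; haveI := hfp
  haveI : F.IsQuasicoherent := Groth.Agent.Lib.Helper29.FPDict.isQuasicoherent_of_isFinitePresentation F
  haveI : Fk.IsQuasicoherent := Groth.Agent.Lib.Helper29.FPDict.isQuasicoherent_of_isFinitePresentation Fk
  have hfl := flatAt_transfer hX F Fk eF x h
  obtain ⟨l, a, hl⟩ := exists_stage_flatAt (specDiag A) (specCone A) k uk (specIsLimit A) Fk _ hfl
  obtain ⟨hpb, ⟨eFl⟩⟩ := stage_data (specDiag A) (specCone A) k hX F Fk eF a
  exact ⟨l, pullback ((specDiag A).map a) uk, pullback.fst ((specDiag A).map a) uk,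
    (Scheme.Modules.pullback (pullback.snd ((specDiag A).map a) uk)).obj Fk, _, inferInstance,
    inferInstance, inferInstance, isFP_pullback _ Fk, hpb, ⟨eFl⟩, hl⟩

include H in
/-- **EGA IV 11.2.6 (global)**: Noetherian approximation with flatness -/
theorem exists_flat_model {A : Type u} [CommRing A] {X : Scheme.{u}}
    (f : X ⟶ (specCone A).pt) [LocallyOfFinitePresentation f] [QuasiCompact f] [QuasiSeparated f]
    (F : X.Modules) [SheafOfModules.IsFinitePresentation.{u} (R := X.ringCatSheaf) F]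
    (h : FlatMod.IsFlatOver f F) :
    ∃ (l : (Finset A)ᵒᵖ) (Xl : Scheme.{u}) (ul : Xl ⟶ (specDiag A).obj l) (Fl : Xl.Modules)
      (q : X ⟶ Xl), LocallyOfFinitePresentation ul ∧ QuasiCompact ul ∧ QuasiSeparated ul ∧
        SheafOfModules.IsFinitePresentation.{u} (R := Xl.ringCatSheaf) Fl ∧
        IsPullback q f ul ((specCone A).π.app l) ∧
        Nonempty (F ≅ (Scheme.Modules.pullback q).obj Fl) ∧ FlatMod.IsFlatOver ul Fl := by
  obtain ⟨k, Xk, uk, Fk, q, h1, h2, h3, hfp, hX, ⟨eF⟩⟩ := exists_model H f F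
  haveI := h1; haveI := h2; haveI := h3; haveI := hfp
  haveI : F.IsQuasicoherent := Groth.Agent.Lib.Helper29.FPDict.isQuasicoherent_of_isFinitePresentation F
  haveI : Fk.IsQuasicoherent := Groth.Agent.Lib.Helper29.FPDict.isQuasicoherent_of_isFinitePresentation Fk
  haveI : CompactSpace Xk := QuasiCompact.compactSpace_of_compactSpace uk
  have hfl : ∀ x' : ↥(pullback ((specCone A).π.app k) uk),
      FlatMod.IsFlatOverAt (pullback.fst ((specCone A).π.app k) uk)
        ((Scheme.Modules.pullback (pullback.snd ((specCone A).π.app k) uk)).obj Fk) x' := by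
    intro x'
    have := flatAt_transfer hX F Fk eF (hX.flip.isoPullback.inv x') (h _)
    have hx : hX.flip.isoPullback.hom (hX.flip.isoPullback.inv x') = x' := by
      rw [← Scheme.Hom.comp_apply, Iso.inv_hom_id]; rfl
    rwa [hx] at this
  obtain ⟨l, a, hl⟩ := exists_stage_flat (specDiag A) (specCone A) k uk (specIsLimit A) Fk hfl
  obtain ⟨hpb, ⟨eFl⟩⟩ := stage_data (specDiag A) (specCone A) k hX F Fk eF a
  exact ⟨l, pullback ((specDiag A).map a) uk, pullback.fst ((specDiag A).map a) uk,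
    (Scheme.Modules.pullback (pullback.snd ((specDiag A).map a) uk)).obj Fk, _, inferInstance,
    inferInstance, inferInstance, isFP_pullback _ Fk, hpb, ⟨eFl⟩, hl⟩

end Groth.Agent.Lib.Helper25.NoethFlat
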