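import Mathlib
import Groth.Agent.Lib.Helper21.TorLES
import Groth.Agent.Lib.Helper21.TorClass

/-!
# Projective dimension versus Tor-dimension (helper25)

`TorLT M n`: `Tor_j(M, N) = 0` for all `j ≥ n` and all `N`.

* `torLT_of_hasProjectiveDimensionLT`: projective dimension `< n` implies `TorLT M n`.
* `SyzClosed 𝒞`: a class of finitely presented modules closed under (some) syzygy.
* `hasProjectiveDimensionLT_of_torLT`: in a syzygy-closed class, `TorLT M n` implies projective
  dimension `< n`.
* `projectiveDimension_eq_sInf_tor`: the resulting equality of dimensions.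
-/

set_option autoImplicit false
set_option linter.style.haveILetI false
universe u

namespace Groth.Agent.Lib.Helper25.PdTor

open CategoryTheory Limits MonoidalCategory
open Groth.Agent.Lib.Helper21

variable {S : Type u} [CommRing S]

/-- `Tor_j(M, N) = 0` for all `j ≥ n` and all `N`. -/
def TorLT (M : ModuleCat.{u} S) (n : ℕ) : Prop :=
  ∀ j, n ≤ j → ∀ N : ModuleCat.{u} S, IsZero (((Tor (ModuleCat.{u} S) j).obj M).obj N)

lemma torLT_of_isZero {M : ModuleCat.{u} S} (hM : IsZero M) (n : ℕ) : TorLT M n := by
  intro j _ N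
  haveI : Subsingleton M := ModuleCat.isZero_iff_subsingleton.mp hM
  haveI : Module.Flat S M := inferInstance
  rcases j with _ | j
  · refine IsZero.of_iso ?_ ((Functor.leftDerivedZeroIsoSelf (tensorLeft M)).app N)
    rw [ModuleCat.isZero_iff_subsingleton]
    show Subsingleton (TensorProduct S M N)
    infer_instance
  · exact TorClass.isZero_tor_succ_of_flat_left M N j

lemma torLT_of_projective {M : ModuleCat.{u} S} [Projective M] (n : ℕ) (hn : 1 ≤ n) :
    TorLT M n := by
  intro j hj N
  haveI : Module.Flat S M := TorLES.flat_of_projective_obj M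
  exact TorClass.isZero_tor_of_flat_left M N j (hn.trans hj)

/-- Shifting `TorLT` along a short exact sequence with flat middle term. -/
lemma torLT_shift {K P M : ModuleCat.{u} S} (i : K ⟶ P) (q : P ⟶ M) (w : i ≫ q = 0)
    (hS : (ShortComplex.mk i q w).ShortExact) [Module.Flat S P] (n : ℕ) :
    TorLT M (n + 2) ↔ TorLT K (n + 1) := by
  constructor
  · intro h j hj N
    obtain ⟨j, rfl⟩ : ∃ j', j = j' + 1 := ⟨j - 1, by omega⟩
    exact IsZero.of_iso (h (j + 2) (by omega) N) (TorLES.torFirstShiftIso i q w hS N j).symm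
  · intro h j hj N
    obtain ⟨j, rfl⟩ : ∃ j', j = j' + 2 := ⟨j - 2, by omega⟩
    exact IsZero.of_iso (h (j + 1) (by omega) N) (TorLES.torFirstShiftIso i q w hS N j)

theorem torLT_of_hasProjectiveDimensionLT :
    ∀ (n : ℕ) (M : ModuleCat.{u} S), HasProjectiveDimensionLT M n → TorLT M n := by
  intro n
  induction n using Nat.strong_induction_on with
  | _ n ih =>
    intro M hM
    rcases n with _ | _ | n
    · exact torLT_of_isZero (isZero_of_hasProjectiveDimensionLT_zero M) 0
    · haveI : Projective M := projective_iff_hasProjectiveDimensionLT_one.2 hM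
      exact torLT_of_projective 1 le_rfl
    · have hS := TorLES.presentation_shortExact M
      haveI : Module.Flat S (Projective.over M : ModuleCat.{u} S) :=
        TorLES.flat_of_projective_obj _
      rw [torLT_shift _ _ _ hS n]
      refine ih (n + 1) (by omega) _ ?_
      exact (hS.hasProjectiveDimensionLT_X₃_iff n inferInstance).mp hM

/-- A class of finitely presented modules closed under taking some syzygy. -/
structure SyzClosed (𝒞 : ModuleCat.{u} S → Prop) : Prop where
  fp : ∀ M, 𝒞 M → Module.FinitePresentation S M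
  syz : ∀ M, 𝒞 M → ∃ (K P : ModuleCat.{u} S) (i : K ⟶ P) (q : P ⟶ M) (w : i ≫ q = 0),
    (ShortComplex.mk i q w).ShortExact ∧ Projective P ∧ 𝒞 K

lemma isZero_of_torLT_zero {M : ModuleCat.{u} S} (h : TorLT M 0) : IsZero M := by
  have h0 := h 0 le_rfl (ModuleCat.of S S)
  have h1 : IsZero ((tensorLeft M).obj (ModuleCat.of S S)) :=
    IsZero.of_iso h0 ((Functor.leftDerivedZeroIsoSelf (tensorLeft M)).app _).symm
  rw [ModuleCat.isZero_iff_subsingleton] at h1 ⊢
  have h2 : Subsingleton (TensorProduct S M S) := h1
  exact (TensorProduct.rid S M).symm.toEquiv.subsingleton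

lemma flat_of_torLT_one {M : ModuleCat.{u} S} (h : TorLT M 1) : Module.Flat S M := by
  rw [Module.Flat.iff_lTensor_injective']
  intro I
  have h1 := h 1 le_rfl (ModuleCat.of S (S ⧸ I))
  have := (TorShift.subsingleton_tor_one_iff (R := S) M (K := I) (P := S) (N := S ⧸ I)
    I.subtype (Submodule.mkQ I) I.injective_subtype
    (LinearMap.exact_subtype_mkQ I) (Submodule.mkQ_surjective I)).mp
  refine this ?_
  rw [← ModuleCat.isZero_iff_subsingleton]
  exact IsZero.of_iso h1 (Iso.refl _)

theorem hasProjectiveDimensionLT_of_torLT {𝒞 : ModuleCat.{u} S → Prop} (h𝒞 : SyzClosed 𝒞) :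
    ∀ (n : ℕ) (M : ModuleCat.{u} S), 𝒞 M → TorLT M n → HasProjectiveDimensionLT M n := by
  intro n
  induction n using Nat.strong_induction_on with
  | _ n ih =>
    intro M hM hT
    rcases n with _ | _ | n
    · exact (isZero_of_torLT_zero hT).hasProjectiveDimensionLT_zero
    · haveI : Module.Flat S M := flat_of_torLT_one hT
      haveI : Module.FinitePresentation S M := h𝒞.fp M hM
      haveI : Module.Projective S M := Module.Flat.projective_of_finitePresentation
      haveI : Projective M := (IsProjective.iff_projective M).1 inferInstance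
      infer_instance
    · obtain ⟨K, P, i, q, w, hS, hP, hK⟩ := h𝒞.syz M hM
      haveI : Module.Flat S P := TorLES.flat_of_projective_obj P
      rw [hS.hasProjectiveDimensionLT_X₃_iff n hP]
      exact ih (n + 1) (by omega) K hK ((torLT_shift i q w hS n).mp hT)

theorem projectiveDimension_eq_sInf_tor {𝒞 : ModuleCat.{u} S → Prop} (h𝒞 : SyzClosed 𝒞)
    (M : ModuleCat.{u} S) (hM : 𝒞 M) :
    projectiveDimension M =
      sInf {n : WithBot ℕ∞ | ∀ i : ℕ, n < i → ∀ N : ModuleCat.{u} S,
        IsZero (((Tor (ModuleCat.{u} S) i).obj M).obj N)} := by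
  unfold projectiveDimension
  congr 1
  ext n
  simp only [Set.mem_ofPred_eq]
  constructor
  · intro h i hi N
    exact torLT_of_hasProjectiveDimensionLT i M (h i hi) i le_rfl N
  · intro h i hi
    refine hasProjectiveDimensionLT_of_torLT h𝒞 i M hM ?_
    intro j hj N
    exact h j (lt_of_lt_of_le hi (by exact_mod_cast hj)) N

end Groth.Agent.Lib.Helper25.PdTor
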