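import Mathlib
import Groth.Agent.Lib.Helper25.PdTor

/-!
# A syzygy-closed class from a Noetherian flat model (helper25)

Setting: `S = R ⊗[R₀] S₀` with `S₀` Noetherian and flat over `R₀`.  The class of `S`-modules of the
form `S ⊗[S₀] M₀` with `M₀` a finite `S₀`-module flat over `R₀` is syzygy-closed in the sense of
`PdTor.SyzClosed`.
-/

set_option autoImplicit false
set_option linter.style.haveILetI false
universe u

namespace Groth.Agent.Lib.Helper25.PdTorModel

open TensorProduct CategoryTheory

section Alg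

variable {R : Type*} [CommRing R] {K F P : Type*} [AddCommGroup K] [Module R K]
  [AddCommGroup F] [Module R F] [AddCommGroup P] [Module R P]

/-- The kernel of a surjection of flat modules is flat. -/
lemma flat_of_exact (g : K →ₗ[R] F) (f : F →ₗ[R] P) (hg : Function.Injective g)
    (hex : Function.Exact g f) (hf : Function.Surjective f) [Module.Flat R F] [Module.Flat R P] :
    Module.Flat R K := by
  rw [Module.Flat.iff_rTensor_injective']
  intro I
  have h1 : Function.Injective (g.lTensor I) :=
    LinearMap.lTensor_injective_of_exact_of_flat f hf g hg hex I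
  have h2 : Function.Injective (LinearMap.rTensor F I.subtype) :=
    Module.Flat.rTensor_preserves_injective_linearMap _ I.injective_subtype
  have h3 : (g.lTensor R) ∘ₗ (LinearMap.rTensor K I.subtype) =
      (LinearMap.rTensor F I.subtype) ∘ₗ (g.lTensor I) := by
    apply TensorProduct.ext'
    intro x y
    simp
  have h4 : Function.Injective ((g.lTensor R) ∘ₗ (LinearMap.rTensor K I.subtype)) := by
    rw [h3]; exact h2.comp h1
  exact Function.Injective.of_comp h4

end Alg

section Model

variable (R₀ R S₀ S : Type u) [CommRing R₀] [CommRing R] [CommRing S₀] [CommRing S]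
  [Algebra R₀ R] [Algebra R₀ S₀] [Algebra R S] [Algebra S₀ S] [Algebra R₀ S]
  [IsScalarTower R₀ R S] [IsScalarTower R₀ S₀ S] [Algebra.IsPushout R₀ R S₀ S]

include R in
/-- Base change along `S₀ → S` preserves injectivity of a map with `R₀`-flat cokernel. -/
lemma lTensor_injective_of_flat_coker
    {K₀ F₀ M₀ : Type u} [AddCommGroup K₀] [Module S₀ K₀] [Module R₀ K₀] [IsScalarTower R₀ S₀ K₀]
    [AddCommGroup F₀] [Module S₀ F₀] [Module R₀ F₀] [IsScalarTower R₀ S₀ F₀]
    [AddCommGroup M₀] [Module S₀ M₀] [Module R₀ M₀] [IsScalarTower R₀ S₀ M₀]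
    [Module.Flat R₀ M₀]
    (g : K₀ →ₗ[S₀] F₀) (f : F₀ →ₗ[S₀] M₀) (hg : Function.Injective g)
    (hex : Function.Exact g f) (hf : Function.Surjective f) :
    Function.Injective (g.lTensor S) := by
  have h1 : Function.Injective ((g.restrictScalars R₀).lTensor R) :=
    LinearMap.lTensor_injective_of_exact_of_flat (f.restrictScalars R₀) hf
      (g.restrictScalars R₀) hg hex R
  let eK := Algebra.IsPushout.cancelBaseChange R₀ R S₀ S K₀
  let eF := Algebra.IsPushout.cancelBaseChange R₀ R S₀ S F₀
  have h2 : ∀ x, (g.lTensor S) (eK.symm x) = eF.symm (((g.restrictScalars R₀).lTensor R) x) := by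
    intro x
    induction x using TensorProduct.induction_on with
    | zero => simp
    | tmul r k => simp [eK, eF]
    | add x y hx hy => simp only [map_add, hx, hy]
  intro a b hab
  obtain ⟨a, rfl⟩ := eK.symm.surjective a
  obtain ⟨b, rfl⟩ := eK.symm.surjective b
  rw [h2, h2] at hab
  rw [h1 (eF.symm.injective hab)]

/-- The class of `S`-modules `S ⊗[S₀] M₀` with `M₀` finite over `S₀` and flat over `R₀`. -/
def InClass (M : ModuleCat.{u} S) : Prop :=
  ∃ (M₀ : Type u) (_ : AddCommGroup M₀) (_ : Module S₀ M₀) (_ : Module R₀ M₀)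
    (_ : IsScalarTower R₀ S₀ M₀), Module.Finite S₀ M₀ ∧ Module.Flat R₀ M₀ ∧
    Nonempty (M ≅ ModuleCat.of S (S ⊗[S₀] M₀))

include R in
theorem syzClosed [IsNoetherianRing S₀] [Module.Flat R₀ S₀] :
    PdTor.SyzClosed (InClass R₀ S₀ S) := by
  refine ⟨?_, ?_⟩
  · rintro M ⟨M₀, _, _, _, _, hfin, hflat, ⟨e⟩⟩
    haveI : Module.FinitePresentation S₀ M₀ := Module.finitePresentation_of_finite S₀ M₀
    exact Module.FinitePresentation.of_equiv e.toLinearEquiv.symm
  · rintro M ⟨M₀, _, _, _, _, hfin, hflat, ⟨e⟩⟩
    obtain ⟨k, π₀, hπ₀⟩ := Module.Finite.exists_fin' S₀ M₀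
    let K₀ : Submodule S₀ (Fin k → S₀) := LinearMap.ker π₀
    have hex₀ : Function.Exact K₀.subtype π₀ := LinearMap.exact_subtype_ker_map π₀
    haveI : Module.Flat R₀ (Fin k → S₀) :=
      Module.Flat.of_linearEquiv
        (DFinsupp.linearEquivFunOnFintype (R := R₀) (M := fun _ : Fin k => S₀)).symm
    haveI hK₀flat : Module.Flat R₀ K₀ :=
      flat_of_exact (K₀.subtype.restrictScalars R₀) (π₀.restrictScalars R₀)
        K₀.injective_subtype hex₀ hπ₀
    haveI hK₀fin : Module.Finite S₀ K₀ := inferInstance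
    let i' : S ⊗[S₀] K₀ →ₗ[S] S ⊗[S₀] (Fin k → S₀) := K₀.subtype.baseChange S
    let b' : S ⊗[S₀] (Fin k → S₀) →ₗ[S] S ⊗[S₀] M₀ := π₀.baseChange S
    have hi' : Function.Injective i' := by
      have := lTensor_injective_of_flat_coker R₀ R S₀ S K₀.subtype π₀ K₀.injective_subtype hex₀ hπ₀
      simpa [i', LinearMap.baseChange_eq_ltensor] using this
    have hb' : Function.Surjective b' := by
      have := LinearMap.lTensor_surjective S hπ₀
      simpa [b', LinearMap.baseChange_eq_ltensor] using this
    have hex' : Function.Exact i' b' := by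
      have := lTensor_exact S hex₀ hπ₀
      simpa [i', b', LinearMap.baseChange_eq_ltensor] using this
    let i : ModuleCat.of S (S ⊗[S₀] K₀) ⟶ ModuleCat.of S (S ⊗[S₀] (Fin k → S₀)) :=
      ModuleCat.ofHom i'
    let q : ModuleCat.of S (S ⊗[S₀] (Fin k → S₀)) ⟶ M := ModuleCat.ofHom b' ≫ e.inv
    have w : i ≫ q = 0 := by
      ext x
      show e.inv.hom (b' (i' x)) = 0
      rw [hex'.apply_apply_eq_zero, map_zero]
    refine ⟨_, _, i, q, w, ?_, ?_, ?_⟩
    · apply ModuleCat.shortComplex_shortExact
      · show Function.Exact i' (e.toLinearEquiv.symm ∘ b')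
        intro y
        rw [← hex' y]
        simp
      · exact hi'
      · exact e.toLinearEquiv.symm.surjective.comp hb'
    · haveI : Module.Projective S (S ⊗[S₀] (Fin k → S₀)) := inferInstance
      exact (IsProjective.iff_projective _).1 inferInstance
    · exact ⟨K₀, inferInstance, inferInstance, inferInstance, inferInstance, hK₀fin, hK₀flat,
        ⟨Iso.refl _⟩⟩

end Model

end Groth.Agent.Lib.Helper25.PdTorModel
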