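import Mathlib
import Groth.Agent.Lib.Helper25.PdTorModel
import Groth.Agent.Lib.Helper21.FlatDescP

/-!
# Noetherian model with flat algebra and flat module (helper25)

For `B` a flat finitely presented `A`-algebra and `M` a finitely presented `B`-module flat over
`A`, there is a Noetherian model `(R₀, S₀, M₀)` with `S₀` and `M₀` flat over `R₀`.  Uses helper21's
`FlatDesc.exists_flat_model` and `FlatDesc.exists_fg_flat_baseChange`.
-/

set_option autoImplicit false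
set_option linter.style.haveILetI false
universe u

namespace Groth.Agent.Lib.Helper25.PdTorModel

open TensorProduct CategoryTheory
open Groth.Agent.Lib.Helper21.FlatDesc

attribute [local instance] Algebra.TensorProduct.rightAlgebra

theorem exists_flat_flat_model (A B M : Type u) [CommRing A] [CommRing B] [Algebra A B]
    [Algebra.FinitePresentation A B] [Module.Flat A B] [AddCommGroup M] [Module B M] [Module A M]
    [IsScalarTower A B M] [Module.FinitePresentation B M] [Module.Flat A M] :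
    ∃ (R₀ : Type u) (_ : CommRing R₀) (_ : Algebra R₀ A) (S₀ : Type u) (_ : CommRing S₀)
      (_ : Algebra R₀ S₀) (_ : Algebra S₀ B) (_ : Algebra R₀ B) (_ : IsScalarTower R₀ A B)
      (_ : IsScalarTower R₀ S₀ B), Algebra.IsPushout R₀ A S₀ B ∧ IsNoetherianRing S₀ ∧
        Module.Flat R₀ S₀ ∧ InClass R₀ S₀ B (ModuleCat.of B M) := by
  obtain ⟨R₁, _, _, S₁, _, _, _, _, _, _, M₁, _, _, _, _, _, _, f₁, hR₁ft, hS₁ft, hM₁fin, hM₁flat,
    hpush, hf₁⟩ := exists_flat_model A B M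
  haveI : IsNoetherianRing R₁ := Algebra.FiniteType.isNoetherianRing ℤ R₁
  haveI : Module.Flat A (A ⊗[R₁] S₁) :=
    Module.Flat.of_linearEquiv (Algebra.IsPushout.equiv R₁ A S₁ B).toLinearEquiv
  obtain ⟨A', hfg, hflat⟩ := exists_fg_flat_baseChange (R₁ := R₁) (S₁ := S₁) S₁ A
  haveI : Algebra.FiniteType R₁ A' := (Subalgebra.fg_iff_finiteType A').1 hfg
  haveI hA'ft : Algebra.FiniteType ℤ A' := Algebra.FiniteType.trans hR₁ft inferInstance
  haveI : IsNoetherianRing A' := Algebra.FiniteType.isNoetherianRing ℤ A'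
  -- the algebra `S₀ := A' ⊗ S₁ → B`
  let φ : A' ⊗[R₁] S₁ →ₐ[R₁] B :=
    Algebra.TensorProduct.lift (IsScalarTower.toAlgHom R₁ A' B) (IsScalarTower.toAlgHom R₁ S₁ B)
      (fun _ _ => Commute.all _ _)
  letI algSf : Algebra (A' ⊗[R₁] S₁) B := φ.toRingHom.toAlgebra
  have hφ : ∀ x, algebraMap (A' ⊗[R₁] S₁) B x = φ x := fun _ => rfl
  haveI : IsScalarTower A' (A' ⊗[R₁] S₁) B :=
    IsScalarTower.of_algebraMap_eq (R := A') (S := A' ⊗[R₁] S₁) (A := B) fun a => by
      rw [hφ, Algebra.TensorProduct.algebraMap_apply]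
      simp [φ]
  haveI : IsScalarTower S₁ (A' ⊗[R₁] S₁) B :=
    IsScalarTower.of_algebraMap_eq (R := S₁) (S := A' ⊗[R₁] S₁) (A := B) fun s => by
      rw [hφ]
      show algebraMap S₁ B s = φ ((1 : A') ⊗ₜ s)
      simp [φ]
  haveI : IsScalarTower R₁ (A' ⊗[R₁] S₁) B :=
    IsScalarTower.of_algebraMap_eq (R := R₁) (S := A' ⊗[R₁] S₁) (A := B) fun r => by
      rw [hφ, AlgHom.commutes]
  haveI : Algebra.IsPushout A' A (A' ⊗[R₁] S₁) B :=
    (Algebra.IsPushout.comp_iff R₁ A' S₁ (A' ⊗[R₁] S₁) (T := A) (T' := B)).1 inferInstance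
  letI modSfM : Module (A' ⊗[R₁] S₁) M := Module.compHom M (algebraMap (A' ⊗[R₁] S₁) B)
  haveI : IsScalarTower (A' ⊗[R₁] S₁) B M := IsScalarTower.of_algebraMap_smul fun _ _ => rfl
  haveI : IsScalarTower S₁ (A' ⊗[R₁] S₁) M := IsScalarTower.of_algebraMap_smul fun s m => by
    show algebraMap (A' ⊗[R₁] S₁) B (algebraMap S₁ (A' ⊗[R₁] S₁) s) • m = s • m
    rw [← IsScalarTower.algebraMap_apply, algebraMap_smul]
  -- the module
  let g : M₁ →ₗ[S₁] (A' ⊗[R₁] S₁) ⊗[S₁] M₁ := TensorProduct.mk S₁ (A' ⊗[R₁] S₁) M₁ 1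
  have hg : IsBaseChange (A' ⊗[R₁] S₁) g := TensorProduct.isBaseChange S₁ M₁ (A' ⊗[R₁] S₁)
  let f : (A' ⊗[R₁] S₁) ⊗[S₁] M₁ →ₗ[A' ⊗[R₁] S₁] M := hg.lift f₁
  have hfg' : (f.restrictScalars S₁) ∘ₗ g = f₁ := hg.lift_comp f₁
  have hf : IsBaseChange B f := IsBaseChange.of_comp hg (by rw [hfg']; exact hf₁)
  haveI : Module.Flat A' ((A' ⊗[R₁] S₁) ⊗[S₁] M₁) :=
    Module.Flat.of_linearEquiv (Algebra.IsPushout.cancelBaseChange R₁ A' S₁ (A' ⊗[R₁] S₁) M₁)
  haveI : Algebra.FiniteType A' (A' ⊗[R₁] S₁) := inferInstance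
  haveI : IsNoetherianRing (A' ⊗[R₁] S₁) := Algebra.FiniteType.isNoetherianRing A' _
  refine ⟨A', inferInstance, inferInstance, A' ⊗[R₁] S₁, inferInstance, inferInstance, algSf,
    inferInstance, inferInstance, inferInstance, inferInstance, inferInstance, hflat, ?_⟩
  refine ⟨(A' ⊗[R₁] S₁) ⊗[S₁] M₁, inferInstance, inferInstance, inferInstance, inferInstance,
    inferInstance, inferInstance, ⟨?_⟩⟩
  exact (hf.equiv.symm).toModuleIso

end Groth.Agent.Lib.Helper25.PdTorModel
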