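import Mathlib
import Groth.Prelude.Def_W4c5modbuncurvesppStab

/-!
# The stability function `h(W) = deg_W - Σ_W φ + cut(W)/2` and its submodularity (helper25)
-/

set_option autoImplicit false
set_option linter.unusedSectionVars false
set_option linter.unusedSimpArgs false
set_option linter.unusedVariables false
universe u
open Finset

namespace Groth.Agent.Lib.Helper25.PhiStabH

open LabGraph PhiStab

variable {V E : Type u} [Fintype V] [Fintype E] [DecidableEq V] [DecidableEq E]
  (ends : E → V × V) (φ : V → ℝ) (m : V → ℤ) (N : Finset E)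

/-- per-edge weight: `2` for an `N`-edge inside `W`, `1` for an edge cut by `W` -/
def wE (W : Finset V) (e : E) : ℤ :=
  (if e ∈ N ∧ (ends e).1 ∈ W ∧ (ends e).2 ∈ W then 2 else 0) +
    (if ((ends e).1 ∈ W ∧ (ends e).2 ∉ W) ∨ ((ends e).1 ∉ W ∧ (ends e).2 ∈ W) then 1 else 0)

/-- crossing indicator: non-`N` edge joining `W \ W'` and `W' \ W` -/
def crossE (W W' : Finset V) (e : E) : ℤ :=
  if e ∉ N ∧ (((ends e).1 ∈ W ∧ (ends e).1 ∉ W' ∧ (ends e).2 ∈ W' ∧ (ends e).2 ∉ W) ∨
    ((ends e).2 ∈ W ∧ (ends e).2 ∉ W' ∧ (ends e).1 ∈ W' ∧ (ends e).1 ∉ W)) then 1 else 0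

theorem wE_submod (W W' : Finset V) (e : E) :
    wE ends N W e + wE ends N W' e =
      wE ends N (W ∪ W') e + wE ends N (W ∩ W') e + 2 * crossE ends N W W' e := by
  unfold wE crossE
  simp only [Finset.mem_union, Finset.mem_inter]
  by_cases h0 : e ∈ N <;> by_cases h1 : (ends e).1 ∈ W <;> by_cases h2 : (ends e).1 ∈ W' <;>
    by_cases h3 : (ends e).2 ∈ W <;> by_cases h4 : (ends e).2 ∈ W' <;> simp [h0, h1, h2, h3, h4]

/-- the stability function -/
noncomputable def hh (W : Finset V) : ℝ :=
  (degOn ends m N W : ℝ) - (∑ v ∈ W, φ v) + (cut ends W : ℝ) / 2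

theorem two_mul_inner_add_cut (W : Finset V) :
    (2 * ((N ∩ PhiStab.inner ends W).card : ℤ) + (cut ends W : ℤ)) = ∑ e : E, wE ends N W e := by
  unfold wE
  rw [Finset.sum_add_distrib]
  congr 1
  · have : N ∩ PhiStab.inner ends W = Finset.univ.filter (fun e => e ∈ N ∧ (ends e).1 ∈ W ∧ (ends e).2 ∈ W) := by
      ext e
      simp [PhiStab.inner]
    rw [this, Finset.card_filter]
    push_cast
    rw [Finset.mul_sum]
    refine Finset.sum_congr rfl fun e _ => ?_
    split_ifs <;> simp
  · unfold cut
    rw [Finset.card_filter]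
    push_cast
    rfl

theorem two_hh (W : Finset V) :
    2 * hh ends φ m N W = 2 * ∑ v ∈ W, ((m v : ℝ) - φ v) + ((∑ e : E, wE ends N W e : ℤ) : ℝ) := by
  rw [← two_mul_inner_add_cut]
  unfold hh degOn
  push_cast
  rw [Finset.sum_sub_distrib]
  ring

/-- exact submodularity identity -/
theorem hh_submod (W W' : Finset V) :
    hh ends φ m N W + hh ends φ m N W' =
      hh ends φ m N (W ∪ W') + hh ends φ m N (W ∩ W') + ((∑ e : E, crossE ends N W W' e : ℤ) : ℝ) := by
  have h1 := two_hh ends φ m N W
  have h2 := two_hh ends φ m N W'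
  have h3 := two_hh ends φ m N (W ∪ W')
  have h4 := two_hh ends φ m N (W ∩ W')
  have hv : ∑ v ∈ W ∪ W', ((m v : ℝ) - φ v) + ∑ v ∈ W ∩ W', ((m v : ℝ) - φ v) =
      ∑ v ∈ W, ((m v : ℝ) - φ v) + ∑ v ∈ W', ((m v : ℝ) - φ v) := Finset.sum_union_inter
  have he : (∑ e : E, wE ends N W e) + ∑ e : E, wE ends N W' e =
      (∑ e : E, wE ends N (W ∪ W') e) + (∑ e : E, wE ends N (W ∩ W') e) +
        2 * ∑ e : E, crossE ends N W W' e := by
    rw [Finset.mul_sum, ← Finset.sum_add_distrib, ← Finset.sum_add_distrib, ← Finset.sum_add_distrib]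
    exact Finset.sum_congr rfl fun e _ => wE_submod ends N W W' e
  have he' := congrArg (fun z : ℤ => (z : ℝ)) he
  simp only [Int.cast_add, Int.cast_mul, Int.cast_ofNat] at he'
  linarith

theorem hh_empty : hh ends φ m N ∅ = 0 := by
  unfold hh degOn cut
  simp [PhiStab.inner]

theorem hh_univ (hdeg : (∑ v : V, φ v) = (totDeg m N : ℝ)) : hh ends φ m N Finset.univ = 0 := by
  unfold hh degOn cut
  have : N ∩ PhiStab.inner ends Finset.univ = N := by
    ext e; simp [PhiStab.inner]
  rw [this, hdeg]
  unfold totDeg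
  simp

theorem crossE_nonneg (W W' : Finset V) : 0 ≤ ∑ e : E, crossE ends N W W' e := by
  apply Finset.sum_nonneg
  intro e _
  unfold crossE
  split_ifs <;> simp

/-- additivity when there is no edge between the two disjoint parts -/
theorem hh_disjoint_union (W W' : Finset V) (hd : Disjoint W W')
    (hno : ∀ e : E, ¬ ((ends e).1 ∈ W ∧ (ends e).2 ∈ W') ∧ ¬ ((ends e).2 ∈ W ∧ (ends e).1 ∈ W')) :
    hh ends φ m N (W ∪ W') = hh ends φ m N W + hh ends φ m N W' := by
  have h := hh_submod ends φ m N W W'
  have h0 : ∑ e : E, crossE ends N W W' e = 0 := by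
    apply Finset.sum_eq_zero
    intro e _
    unfold crossE
    rw [if_neg]
    rintro ⟨_, ⟨h1, _, h3, _⟩ | ⟨h1, _, h3, _⟩⟩
    · exact (hno e).1 ⟨h1, h3⟩
    · exact (hno e).2 ⟨h1, h3⟩
  rw [h0, Finset.disjoint_iff_inter_eq_empty.mp hd, hh_empty] at h
  simp at h
  linarith

/-- splitting identity over a decomposition of the complement without crossing edges -/
theorem hh_split (hdeg : (∑ v : V, φ v) = (totDeg m N : ℝ)) (W K K' : Finset V)
    (hK : Disjoint W K) (hK' : Disjoint W K') (hKK' : Disjoint K K')
    (hcover : W ∪ K ∪ K' = Finset.univ)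
    (hno : ∀ e : E, ¬ ((ends e).1 ∈ K ∧ (ends e).2 ∈ K') ∧ ¬ ((ends e).2 ∈ K ∧ (ends e).1 ∈ K')) :
    hh ends φ m N (W ∪ K) + hh ends φ m N (W ∪ K') = hh ends φ m N W := by
  have h := hh_submod ends φ m N (W ∪ K) (W ∪ K')
  have hu : (W ∪ K) ∪ (W ∪ K') = Finset.univ := by
    rw [← hcover]; ext v; simp only [Finset.mem_union]; tauto
  have hi : (W ∪ K) ∩ (W ∪ K') = W := by
    ext v
    simp only [Finset.mem_inter, Finset.mem_union]
    constructor
    · rintro ⟨h1 | h1, h2 | h2⟩
      · exact h1
      · exact h1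
      · exact h2
      · exact absurd h2 (Finset.disjoint_left.mp hKK' h1)
    · intro hv; exact ⟨Or.inl hv, Or.inl hv⟩
  have h0 : ∑ e : E, crossE ends N (W ∪ K) (W ∪ K') e = 0 := by
    apply Finset.sum_eq_zero
    intro e _
    unfold crossE
    rw [if_neg]
    simp only [Finset.mem_union, not_or]
    rintro ⟨_, ⟨h1, h2, h3, h4⟩ | ⟨h1, h2, h3, h4⟩⟩
    · have a1 : (ends e).1 ∈ K := by tauto
      have a2 : (ends e).2 ∈ K' := by tauto
      exact (hno e).1 ⟨a1, a2⟩
    · have a1 : (ends e).2 ∈ K := by tauto
      have a2 : (ends e).1 ∈ K' := by tauto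
      exact (hno e).2 ⟨a1, a2⟩
  rw [hu, hi, h0, hh_univ ends φ m N hdeg] at h
  simp at h
  linarith

section Conn

/-- adjacency inside a vertex set -/
def AdjIn (W : Finset V) (a b : V) : Prop := a ∈ W ∧ b ∈ W ∧ Adj ends a b

/-- the induced subgraph on `W` is connected -/
def ConnIn (W : Finset V) : Prop :=
  W.Nonempty ∧ ∀ a ∈ W, ∀ b ∈ W, Relation.ReflTransGen (AdjIn ends W) a b

theorem adj_symm' {a b : V} (h : Adj ends a b) : Adj ends b a := by
  obtain ⟨e, he | he⟩ := h
  · exact ⟨e, Or.inr he⟩
  · exact ⟨e, Or.inl he⟩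

theorem adjIn_symm {W : Finset V} {a b : V} (h : AdjIn ends W a b) : AdjIn ends W b a :=
  ⟨h.2.1, h.1, adj_symm' ends h.2.2⟩

theorem reachIn_symm {W : Finset V} {a b : V} (h : Relation.ReflTransGen (AdjIn ends W) a b) :
    Relation.ReflTransGen (AdjIn ends W) b a := by
  induction h with
  | refl => exact .refl
  | tail _ hbc ih => exact Relation.ReflTransGen.head (adjIn_symm ends hbc) ih

theorem reachIn_mono {W W' : Finset V} (hW : W ⊆ W') {a b : V}
    (h : Relation.ReflTransGen (AdjIn ends W) a b) : Relation.ReflTransGen (AdjIn ends W') a b := by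
  induction h with
  | refl => exact .refl
  | tail _ hab ih => exact ih.tail ⟨hW hab.1, hW hab.2.1, hab.2.2⟩

theorem reachIn_mem {W : Finset V} {a b : V} (ha : a ∈ W)
    (h : Relation.ReflTransGen (AdjIn ends W) a b) : b ∈ W := by
  induction h with
  | refl => exact ha
  | tail _ hbc _ => exact hbc.2.1

/-- translation to the frozen notion of connectedness of the induced subgraph -/
theorem connected_indEnds_iff (W : Finset V) :
    Connected (indEnds ends W) ↔ ConnIn ends W := by
  constructor
  · rintro ⟨⟨a⟩, h⟩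
    refine ⟨⟨a.1, a.2⟩, fun x hx y hy => ?_⟩
    have := h ⟨x, hx⟩ ⟨y, hy⟩
    have key : ∀ p q : {v : V // v ∈ W}, Relation.ReflTransGen (Adj (indEnds ends W)) p q →
        Relation.ReflTransGen (AdjIn ends W) p.1 q.1 := by
      intro p q hpq
      induction hpq with
      | refl => exact .refl
      | @tail b c _ hbc ih =>
        refine ih.tail ⟨b.2, c.2, ?_⟩
        obtain ⟨e, he | he⟩ := hbc
        · refine ⟨e.1, Or.inl ?_⟩
          have h1 := congrArg (fun t => t.1.1) he
          have h2 := congrArg (fun t => t.2.1) he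
          exact Prod.ext h1 h2
        · refine ⟨e.1, Or.inr ?_⟩
          have h1 := congrArg (fun t => t.1.1) he
          have h2 := congrArg (fun t => t.2.1) he
          exact Prod.ext h1 h2
    exact key _ _ this
  · rintro ⟨⟨a, ha⟩, h⟩
    refine ⟨⟨⟨a, ha⟩⟩, fun p q => ?_⟩
    have key : ∀ x y : V, Relation.ReflTransGen (AdjIn ends W) x y → ∀ (hx : x ∈ W) (hy : y ∈ W),
        Relation.ReflTransGen (Adj (indEnds ends W)) ⟨x, hx⟩ ⟨y, hy⟩ := by
      intro x y hxy
      induction hxy with
      | refl => intro hx hy; exact .refl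
      | @tail b c _ hbc ih =>
        intro hx hy
        refine (ih hx hbc.1).tail ?_
        obtain ⟨e, he | he⟩ := hbc.2.2
        · have hmem : e ∈ PhiStab.inner ends W := by
            simp only [PhiStab.inner, Finset.mem_filter, Finset.mem_univ, true_and, he]
            exact ⟨hbc.1, hbc.2.1⟩
          refine ⟨⟨e, hmem⟩, Or.inl ?_⟩
          apply Prod.ext <;> apply Subtype.ext <;> simp [indEnds, he]
        · have hmem : e ∈ PhiStab.inner ends W := by
            simp only [PhiStab.inner, Finset.mem_filter, Finset.mem_univ, true_and, he]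
            exact ⟨hbc.2.1, hbc.1⟩
          refine ⟨⟨e, hmem⟩, Or.inr ?_⟩
          apply Prod.ext <;> apply Subtype.ext <;> simp [indEnds, he]
    exact key p.1 q.1 (h p.1 p.2 q.1 q.2) p.2 q.2

open Classical in
/-- the connected component of `a` inside `W` -/
noncomputable def comp (W : Finset V) (a : V) : Finset V :=
  W.filter (fun v => Relation.ReflTransGen (AdjIn ends W) a v)

theorem mem_comp {W : Finset V} {a v : V} :
    v ∈ comp ends W a ↔ v ∈ W ∧ Relation.ReflTransGen (AdjIn ends W) a v := by
  classical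
  unfold comp
  rw [Finset.mem_filter]

theorem comp_subset (W : Finset V) (a : V) : comp ends W a ⊆ W :=
  fun _ hv => ((mem_comp ends).1 hv).1

theorem mem_comp_self {W : Finset V} {a : V} (ha : a ∈ W) : a ∈ comp ends W a :=
  (mem_comp ends).2 ⟨ha, .refl⟩

theorem reach_comp {W : Finset V} {a x : V} (ha : a ∈ W)
    (h : Relation.ReflTransGen (AdjIn ends W) a x) :
    Relation.ReflTransGen (AdjIn ends (comp ends W a)) a x := by
  induction h with
  | refl => exact .refl
  | @tail b c hab hbc ih =>
    refine ih.tail ⟨(mem_comp ends).2 ⟨hbc.1, hab⟩, (mem_comp ends).2 ⟨hbc.2.1, hab.tail hbc⟩, hbc.2.2⟩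

theorem connIn_comp {W : Finset V} {a : V} (ha : a ∈ W) : ConnIn ends (comp ends W a) := by
  refine ⟨⟨a, mem_comp_self ends ha⟩, fun x hx y hy => ?_⟩
  have h1 := reach_comp ends ha ((mem_comp ends).1 hx).2
  have h2 := reach_comp ends ha ((mem_comp ends).1 hy).2
  exact (reachIn_symm ends h1).trans h2

theorem no_edge_comp {W : Finset V} {a u u' : V} (hu : u ∈ comp ends W a) (hu' : u' ∈ W)
    (hn : u' ∉ comp ends W a) : ¬ Adj ends u u' := by
  intro hadj
  apply hn
  have h := (mem_comp ends).1 hu
  exact (mem_comp ends).2 ⟨hu', h.2.tail ⟨h.1, hu', hadj⟩⟩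

theorem connIn_of_comp_eq {W : Finset V} {a : V} (ha : a ∈ W) (h : comp ends W a = W) :
    ConnIn ends W := by
  have := connIn_comp ends ha
  rwa [h] at this

/-- adding to a connected `W` a part `C` of the complement closed under adjacency in the
complement keeps the induced subgraph connected (in a connected graph) -/
theorem connIn_union (hconn : Connected ends) {W C : Finset V} (hW : ConnIn ends W)
    (hclosed : ∀ u ∈ C, ∀ u', u' ∉ W → Adj ends u u' → u' ∈ C) :
    ConnIn ends (W ∪ C) := by
  obtain ⟨⟨w₀, hw₀⟩, hWc⟩ := hW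
  have key : ∀ x y : V, Relation.ReflTransGen (Adj ends) x y → y ∈ W → x ∈ W ∪ C →
      ∃ w ∈ W, Relation.ReflTransGen (AdjIn ends (W ∪ C)) x w := by
    intro x y hxy hy
    induction hxy using Relation.ReflTransGen.head_induction_on with
    | refl => intro _; exact ⟨y, hy, .refl⟩
    | @head x x' hxx' _ ih =>
      intro hx
      by_cases hxW : x ∈ W
      · exact ⟨x, hxW, .refl⟩
      · have hxC : x ∈ C := by
          rcases Finset.mem_union.mp hx with h | h
          · exact absurd h hxW
          · exact h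
        have hx' : x' ∈ W ∪ C := by
          by_cases hx'W : x' ∈ W
          · exact Finset.mem_union_left _ hx'W
          · exact Finset.mem_union_right _ (hclosed x hxC x' hx'W hxx')
        obtain ⟨w, hw, hr⟩ := ih hx'
        exact ⟨w, hw, Relation.ReflTransGen.head ⟨hx, hx', hxx'⟩ hr⟩
  have toW : ∀ x ∈ W ∪ C, Relation.ReflTransGen (AdjIn ends (W ∪ C)) x w₀ := by
    intro x hx
    obtain ⟨w, hw, hr⟩ := key x w₀ (hconn.2 x w₀) hw₀ hx
    exact hr.trans (reachIn_mono ends Finset.subset_union_left (hWc w hw w₀ hw₀))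
  refine ⟨⟨w₀, Finset.mem_union_left _ hw₀⟩, fun a ha b hb => ?_⟩
  exact (toW a ha).trans (reachIn_symm ends (toW b hb))


section Reduce

variable (P : ℝ → Prop) (hP : ∀ x y, P x → P y → P (x + y))

include hP in
/-- Stage 1: connected `W` reduce to elementary sets. -/
theorem reduce_conn (hconn : Connected ends) (hdeg : (∑ v : V, φ v) = (totDeg m N : ℝ))
    (helem : ∀ W : Finset V, ConnIn ends W → ConnIn ends Wᶜ → P (hh ends φ m N W)) :
    ∀ (n : ℕ) (W : Finset V), Wᶜ.card = n → ConnIn ends W → W ≠ Finset.univ →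
      P (hh ends φ m N W) := by
  intro n
  induction n using Nat.strong_induction_on with
  | _ n ih =>
    intro W hn hW hne
    by_cases hc : ConnIn ends Wᶜ
    · exact helem W hW hc
    · have hcne : Wᶜ.Nonempty := by
        rw [Finset.nonempty_iff_ne_empty]
        intro h
        apply hne
        rw [← compl_compl W, h]
        simp
      obtain ⟨a, ha⟩ := hcne
      set K := comp ends Wᶜ a with hK
      set K' := Wᶜ \ K with hK'
      have hKsub : K ⊆ Wᶜ := comp_subset ends _ _
      have hK'ne : K'.Nonempty := by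
        rw [Finset.nonempty_iff_ne_empty]
        intro h
        apply hc
        apply connIn_of_comp_eq ends ha
        exact Finset.Subset.antisymm hKsub (Finset.sdiff_eq_empty_iff_subset.mp h)
      have hKne : K.Nonempty := ⟨a, mem_comp_self ends ha⟩
      have hdWK : Disjoint W K := by
        rw [Finset.disjoint_left]
        intro v hv hvK
        exact (Finset.mem_compl.mp (hKsub hvK)) hv
      have hdWK' : Disjoint W K' := by
        rw [Finset.disjoint_left]
        intro v hv hvK
        exact (Finset.mem_compl.mp (Finset.mem_sdiff.mp hvK).1) hv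
      have hdKK' : Disjoint K K' := Finset.disjoint_sdiff
      have hcover : W ∪ K ∪ K' = Finset.univ := by
        ext v
        simp only [Finset.mem_union, Finset.mem_univ, iff_true, hK', Finset.mem_sdiff,
          Finset.mem_compl]
        tauto
      have hno : ∀ e : E, ¬ ((ends e).1 ∈ K ∧ (ends e).2 ∈ K') ∧
          ¬ ((ends e).2 ∈ K ∧ (ends e).1 ∈ K') := by
        intro e
        constructor
        · rintro ⟨h1, h2⟩
          have h2' := Finset.mem_sdiff.mp h2
          exact no_edge_comp ends h1 h2'.1 h2'.2 ⟨e, Or.inl rfl⟩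
        · rintro ⟨h1, h2⟩
          have h2' := Finset.mem_sdiff.mp h2
          exact no_edge_comp ends h1 h2'.1 h2'.2 ⟨e, Or.inr rfl⟩
      have hsplit := hh_split ends φ m N hdeg W K K' hdWK hdWK' hdKK' hcover hno
      have hclK : ∀ u ∈ K, ∀ u', u' ∉ W → Adj ends u u' → u' ∈ K := by
        intro u hu u' hu' hadj
        by_contra hn'
        exact no_edge_comp ends hu (Finset.mem_compl.mpr hu') hn' hadj
      have hclK' : ∀ u ∈ K', ∀ u', u' ∉ W → Adj ends u u' → u' ∈ K' := by
        intro u hu u' hu' hadj
        have hu2 := Finset.mem_sdiff.mp hu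
        rw [hK', Finset.mem_sdiff]
        refine ⟨Finset.mem_compl.mpr hu', fun hK2 => ?_⟩
        exact no_edge_comp ends hK2 hu2.1 hu2.2 (adj_symm' ends hadj)
      have c1 : (W ∪ K)ᶜ = K' := by
        ext v
        simp only [Finset.mem_compl, Finset.mem_union, hK', Finset.mem_sdiff]
        tauto
      have c2 : (W ∪ K')ᶜ = K := by
        ext v
        simp only [Finset.mem_compl, Finset.mem_union, hK', Finset.mem_sdiff]
        constructor
        · intro h; by_contra hv; exact h (Or.inr ⟨fun hw => h (Or.inl hw), hv⟩)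
        · rintro hv (h | h)
          · exact (Finset.mem_compl.mp (hKsub hv)) h
          · exact h.2 hv
      have lt1 : K'.card < n := by
        rw [← hn]
        apply Finset.card_lt_card
        refine ⟨Finset.sdiff_subset, fun hsub => ?_⟩
        have := hsub ha
        exact (Finset.mem_sdiff.mp this).2 (mem_comp_self ends ha)
      have lt2 : K.card < n := by
        rw [← hn]
        apply Finset.card_lt_card
        refine ⟨hKsub, fun hsub => ?_⟩
        obtain ⟨b, hb⟩ := hK'ne
        have hb' := Finset.mem_sdiff.mp hb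
        exact hb'.2 (hsub hb'.1)
      have ne1 : W ∪ K ≠ Finset.univ := by
        intro h
        have : (W ∪ K)ᶜ = ∅ := by rw [h]; simp
        rw [c1] at this
        exact hK'ne.ne_empty this
      have ne2 : W ∪ K' ≠ Finset.univ := by
        intro h
        have : (W ∪ K')ᶜ = ∅ := by rw [h]; simp
        rw [c2] at this
        exact hKne.ne_empty this
      have p1 := ih K'.card lt1 (W ∪ K) (by rw [c1]) (connIn_union ends hconn hW hclK) ne1
      have p2 := ih K.card lt2 (W ∪ K') (by rw [c2]) (connIn_union ends hconn hW hclK') ne2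
      rw [← hsplit]
      exact hP _ _ p1 p2


include hP in
/-- Stage 2: arbitrary nonempty proper `W` reduce to connected ones, hence to elementary ones. -/
theorem reduce_all (hconn : Connected ends) (hdeg : (∑ v : V, φ v) = (totDeg m N : ℝ))
    (helem : ∀ W : Finset V, ConnIn ends W → ConnIn ends Wᶜ → P (hh ends φ m N W)) :
    ∀ (n : ℕ) (W : Finset V), W.card = n → W.Nonempty → W ≠ Finset.univ →
      P (hh ends φ m N W) := by
  intro n
  induction n using Nat.strong_induction_on with
  | _ n ih =>
    intro W hn hWne hne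
    by_cases hc : ConnIn ends W
    · exact reduce_conn ends φ m N P hP hconn hdeg helem _ W rfl hc hne
    · obtain ⟨a, ha⟩ := hWne
      set K := comp ends W a with hK
      set K' := W \ K with hK'
      have hKsub : K ⊆ W := comp_subset ends _ _
      have hK'ne : K'.Nonempty := by
        rw [Finset.nonempty_iff_ne_empty]
        intro h
        apply hc
        apply connIn_of_comp_eq ends ha
        exact Finset.Subset.antisymm hKsub (Finset.sdiff_eq_empty_iff_subset.mp h)
      have hKne : K.Nonempty := ⟨a, mem_comp_self ends ha⟩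
      have hdKK' : Disjoint K K' := Finset.disjoint_sdiff
      have hunion : K ∪ K' = W := Finset.union_sdiff_of_subset hKsub
      have hno : ∀ e : E, ¬ ((ends e).1 ∈ K ∧ (ends e).2 ∈ K') ∧
          ¬ ((ends e).2 ∈ K ∧ (ends e).1 ∈ K') := by
        intro e
        constructor
        · rintro ⟨h1, h2⟩
          have h2' := Finset.mem_sdiff.mp h2
          exact no_edge_comp ends h1 h2'.1 h2'.2 ⟨e, Or.inl rfl⟩
        · rintro ⟨h1, h2⟩
          have h2' := Finset.mem_sdiff.mp h2
          exact no_edge_comp ends h1 h2'.1 h2'.2 ⟨e, Or.inr rfl⟩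
      have hsum := hh_disjoint_union ends φ m N K K' hdKK' hno
      rw [hunion] at hsum
      have lt1 : K.card < n := by
        rw [← hn]
        apply Finset.card_lt_card
        refine ⟨hKsub, fun hsub => ?_⟩
        obtain ⟨b, hb⟩ := hK'ne
        have hb' := Finset.mem_sdiff.mp hb
        exact hb'.2 (hsub hb'.1)
      have lt2 : K'.card < n := by
        rw [← hn]
        apply Finset.card_lt_card
        refine ⟨Finset.sdiff_subset, fun hsub => ?_⟩
        have := hsub ha
        exact (Finset.mem_sdiff.mp this).2 (mem_comp_self ends ha)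
      have ne1 : K ≠ Finset.univ := by
        intro h
        apply hne
        apply Finset.eq_univ_of_forall
        intro v
        exact hKsub (h ▸ Finset.mem_univ v)
      have ne2 : K' ≠ Finset.univ := by
        intro h
        apply hne
        apply Finset.eq_univ_of_forall
        intro v
        exact Finset.sdiff_subset (h ▸ Finset.mem_univ v)
      have p1 := ih K.card lt1 K rfl hKne ne1
      have p2 := ih K'.card lt2 K' rfl hK'ne ne2
      rw [hsum]
      exact hP _ _ p1 p2

end Reduce

end Conn

end Groth.Agent.Lib.Helper25.PhiStabH
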