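import Mathlib
import Groth.Agent.Lib.Helper25.GraphTree2

/-!
# Sides of tree edges and the side-sum linear system (helper25)
-/

set_option autoImplicit false
set_option linter.unusedSectionVars false
set_option linter.unusedSimpArgs false
set_option linter.unusedVariables false
universe u
open Finset

namespace Groth.Agent.Lib.Helper25.TreeSide

open LabGraph DualGr Groth.Agent.Lib.Helper25.GraphInc Groth.Agent.Lib.Helper25.GraphTree

variable {V E : Type u} [Fintype V] [Fintype E] [DecidableEq V] [DecidableEq E]
  (ends : E → V × V)

/-- a connected multigraph has at least `|V| - 1` edges -/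
theorem card_le_of_connected (hconn : Connected ends) : Fintype.card V ≤ Fintype.card E + 1 := by
  obtain ⟨T, -, hT⟩ := exists_spanningTree_extending ends hconn ∅ (by
    intro C hC hcirc
    have : C = ∅ := Finset.subset_empty.mp hC
    subst this
    exact hcirc.1.ne_empty rfl)
  have h := card_of_isTree (sub ends T) hT.1 hT.2
  have h2 : Fintype.card T ≤ Fintype.card E := by
    rw [Fintype.card_coe]
    exact Finset.card_le_univ T
  omega

open Classical in
/-- the side of the tree edge `e` containing its first endpoint -/
noncomputable def sideT (T : Finset E) (e : E) : Finset V :=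
  Finset.univ.filter (fun v => Relation.ReflTransGen (Adj (sub ends (T.erase e))) (ends e).1 v)

theorem mem_sideT {T : Finset E} {e : E} {v : V} :
    v ∈ sideT ends T e ↔ Relation.ReflTransGen (Adj (sub ends (T.erase e))) (ends e).1 v := by
  classical
  unfold sideT
  simp

theorem fst_mem_sideT (T : Finset E) (e : E) : (ends e).1 ∈ sideT ends T e :=
  (mem_sideT ends).2 .refl

/-- edges of the tree other than `e` do not cross the side of `e` -/
theorem mem_sideT_iff_of_ne {T : Finset E} {e e' : E} (he' : e' ∈ T) (hne : e' ≠ e) :
    (ends e').1 ∈ sideT ends T e ↔ (ends e').2 ∈ sideT ends T e := by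
  have hmem : e' ∈ T.erase e := Finset.mem_erase.mpr ⟨hne, he'⟩
  have hadj : Adj (sub ends (T.erase e)) (ends e').1 (ends e').2 := adj_of_mem ends hmem
  rw [mem_sideT, mem_sideT]
  constructor
  · intro h; exact h.tail hadj
  · intro h; exact h.tail (adj_symm _ hadj)

/-- the second endpoint of a tree edge is not on the side of the first -/
theorem snd_not_mem_sideT {T : Finset E} (hT : IsTree (sub ends T)) {e : E} (he : e ∈ T) :
    (ends e).2 ∉ sideT ends T e := by
  intro hmem
  have r := (mem_sideT ends).1 hmem
  have hstep : ∀ a b : V, Adj (sub ends T) a b →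
      Relation.ReflTransGen (Adj (sub ends (T.erase e))) a b := by
    intro a b hab
    obtain ⟨t, ht⟩ := hab
    by_cases hte : t.1 = e
    · have h1 : sub ends T t = ends e := by simp [sub, hte]
      rcases ht with ht | ht
      · rw [h1] at ht
        have ha : a = (ends e).1 := by rw [ht]
        have hb : b = (ends e).2 := by rw [ht]
        rw [ha, hb]; exact r
      · rw [h1] at ht
        have ha : b = (ends e).1 := by rw [ht]
        have hb : a = (ends e).2 := by rw [ht]
        rw [ha, hb]; exact reach_symm _ r
    · have hmem' : t.1 ∈ T.erase e := Finset.mem_erase.mpr ⟨hte, t.2⟩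
      have hadj := adj_of_mem ends hmem'
      have h1 : sub ends T t = ends t.1 := rfl
      rcases ht with ht | ht
      · rw [h1] at ht
        have ha : a = (ends t.1).1 := by rw [ht]
        have hb : b = (ends t.1).2 := by rw [ht]
        rw [ha, hb]; exact .single hadj
      · rw [h1] at ht
        have ha : b = (ends t.1).1 := by rw [ht]
        have hb : a = (ends t.1).2 := by rw [ht]
        rw [ha, hb]; exact .single (adj_symm _ hadj)
  have hconn : Connected (sub ends (T.erase e)) := by
    refine ⟨hT.1.1, fun v w => ?_⟩
    have := hT.1.2 v w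
    induction this with
    | refl => exact .refl
    | tail _ hbc ih => exact ih.trans (hstep _ _ hbc)
  have h1 := card_le_of_connected (sub ends (T.erase e)) hconn
  have h2 := card_of_isTree (sub ends T) hT.1 hT.2
  rw [Fintype.card_coe] at h1 h2
  rw [Finset.card_erase_of_mem he] at h1
  have : 0 < T.card := Finset.card_pos.mpr ⟨e, he⟩
  omega

section LinAlg

variable (K : Type*) [CommRing K]

/-- `δ_{tail} - δ_{head}` -/
def bvec (e : E) : V → K := Pi.single (ends e).1 1 - Pi.single (ends e).2 1

/-- sum over the side -/
noncomputable def sideSum (T : Finset E) (e : E) (x : V → K) : K := ∑ v ∈ sideT ends T e, x v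

theorem sideSum_add (T : Finset E) (e : E) (x y : V → K) :
    sideSum ends K T e (x + y) = sideSum ends K T e x + sideSum ends K T e y := by
  simp [sideSum, Finset.sum_add_distrib]

theorem sideSum_smul (T : Finset E) (e : E) (a : K) (x : V → K) :
    sideSum ends K T e (a • x) = a * sideSum ends K T e x := by
  simp [sideSum, Finset.mul_sum]

theorem sideSum_sum {ι : Type*} (s : Finset ι) (T : Finset E) (e : E) (x : ι → V → K) :
    sideSum ends K T e (∑ i ∈ s, x i) = ∑ i ∈ s, sideSum ends K T e (x i) := by
  simp only [sideSum, Finset.sum_apply]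
  exact Finset.sum_comm

theorem sideSum_single (T : Finset E) (e : E) (v : V) :
    sideSum ends K T e (Pi.single v 1) = if v ∈ sideT ends T e then 1 else 0 := by
  classical
  unfold sideSum
  simp only [Pi.single_apply]
  rw [Finset.sum_ite_eq']

theorem sideSum_bvec {T : Finset E} (hT : IsTree (sub ends T)) {e e' : E} (he : e ∈ T) (he' : e' ∈ T) :
    sideSum ends K T e' (bvec ends K e) = if e = e' then 1 else 0 := by
  unfold bvec
  have : sideSum ends K T e' (Pi.single (ends e).1 1 - Pi.single (ends e).2 1) =
      sideSum ends K T e' (Pi.single (ends e).1 1) - sideSum ends K T e' (Pi.single (ends e).2 1) := by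
    simp [sideSum, Finset.sum_sub_distrib]
  rw [this, sideSum_single, sideSum_single]
  by_cases h : e = e'
  · subst h
    rw [if_pos (fst_mem_sideT ends T e), if_neg (snd_not_mem_sideT ends hT he), if_pos rfl, sub_zero]
  · rw [if_neg h]
    by_cases h1 : (ends e).1 ∈ sideT ends T e'
    · rw [if_pos h1, if_pos ((mem_sideT_iff_of_ne ends he h).1 h1), sub_self]
    · rw [if_neg h1, if_neg (fun h2 => h1 ((mem_sideT_iff_of_ne ends he h).2 h2)), sub_self]

theorem total_bvec (e : E) : ∑ v, bvec ends K e v = 0 := by
  classical
  simp [bvec, Finset.sum_sub_distrib]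

/-- differences of basis vectors are combinations of edge vectors (connectedness) -/
theorem single_sub_single_mem {T : Finset E} (hconn : Connected (sub ends T)) (r v : V) :
    (Pi.single v 1 - Pi.single r 1 : V → K) ∈
      Submodule.span K (Set.range fun t : T => bvec ends K t.1) := by
  have h := hconn.2 r v
  induction h with
  | refl => simp
  | @tail b c _ hbc ih =>
    obtain ⟨t, ht⟩ := hbc
    have hmem : bvec ends K t.1 ∈ Submodule.span K (Set.range fun t : T => bvec ends K t.1) :=
      Submodule.subset_span ⟨t, rfl⟩
    have h1 : sub ends T t = ends t.1 := rfl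
    rcases ht with ht | ht
    · rw [h1] at ht
      have : (Pi.single c 1 - Pi.single r 1 : V → K) =
          (Pi.single b 1 - Pi.single r 1) - bvec ends K t.1 := by
        unfold bvec; rw [ht]; abel
      rw [this]
      exact Submodule.sub_mem _ ih hmem
    · rw [h1] at ht
      have : (Pi.single c 1 - Pi.single r 1 : V → K) =
          (Pi.single b 1 - Pi.single r 1) + bvec ends K t.1 := by
        unfold bvec; rw [ht]; abel
      rw [this]
      exact Submodule.add_mem _ ih hmem


theorem total_zero_mem_span {T : Finset E} (hconn : Connected (sub ends T)) (z : V → K)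
    (hz : ∑ v, z v = 0) :
    z ∈ Submodule.span K (Set.range fun t : T => bvec ends K t.1) := by
  classical
  obtain ⟨r⟩ := hconn.1
  have hdecomp : z = ∑ v, z v • (Pi.single v 1 - Pi.single r 1 : V → K) := by
    funext w
    simp only [Finset.sum_apply, Pi.smul_apply, Pi.sub_apply, smul_eq_mul, mul_sub, Pi.single_apply,
      Finset.sum_sub_distrib, mul_ite, mul_one, mul_zero, Finset.sum_ite_eq, Finset.mem_univ, if_true]
    by_cases hwr : w = r
    · simp [hwr, hz]
    · simp [hwr]
  rw [hdecomp]
  exact Submodule.sum_mem _ fun v _ => Submodule.smul_mem _ _ (single_sub_single_mem ends K hconn r v)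

theorem eq_zero_of_sideSum_zero {T : Finset E} (hT : IsTree (sub ends T)) (z : V → K)
    (hz : ∑ v, z v = 0) (hs : ∀ e ∈ T, sideSum ends K T e z = 0) : z = 0 := by
  classical
  have hmem := total_zero_mem_span ends K hT.1 z hz
  rw [Submodule.mem_span_range_iff_exists_fun] at hmem
  obtain ⟨γ, hγ⟩ := hmem
  have hγ0 : ∀ t : T, γ t = 0 := by
    intro t
    have h := hs t.1 t.2
    rw [← hγ, sideSum_sum] at h
    simp only [sideSum_smul] at h
    have h2 : ∀ i : T, γ i * sideSum ends K T t.1 (bvec ends K i.1) = if i = t then γ i else 0 := by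
      intro i
      rw [sideSum_bvec ends K hT i.2 t.2]
      by_cases hit : i = t
      · subst hit; simp
      · have : i.1 ≠ t.1 := fun h => hit (Subtype.ext h)
        simp [hit, this]
    rw [Finset.sum_congr rfl (fun i _ => h2 i), Finset.sum_ite_eq' ] at h
    simpa using h
  rw [← hγ]
  simp [hγ0]

/-- the side-sum linear system on a tree has a unique solution over any commutative ring -/
theorem existsUnique_sideSum {T : Finset E} (hT : IsTree (sub ends T)) (c : E → K) (c₀ : K) :
    ∃! x : V → K, (∀ e ∈ T, sideSum ends K T e x = c e) ∧ ∑ v, x v = c₀ := by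
  classical
  obtain ⟨r⟩ := hT.1.1
  let s : E → K := fun t => if r ∈ sideT ends T t then 1 else 0
  let x : V → K := c₀ • (Pi.single r 1 : V → K) + ∑ t ∈ T, (c t - c₀ * s t) • bvec ends K t
  refine ⟨x, ⟨?_, ?_⟩, ?_⟩
  · intro e he
    simp only [x]
    rw [sideSum_add, sideSum_smul, sideSum_single, sideSum_sum]
    simp only [sideSum_smul]
    have h2 : ∀ t ∈ T, (c t - c₀ * s t) * sideSum ends K T e (bvec ends K t) =
        if t = e then (c t - c₀ * s t) else 0 := by
      intro t ht
      rw [sideSum_bvec ends K hT ht he]
      split_ifs <;> simp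
    rw [Finset.sum_congr rfl h2, Finset.sum_ite_eq' , if_pos he]
    simp only [s]
    ring
  · simp only [x, Pi.add_apply, Finset.sum_add_distrib, Pi.smul_apply, smul_eq_mul, Finset.sum_apply]
    rw [Finset.sum_comm]
    have h3 : ∀ t ∈ T, ∑ v, (c t - c₀ * s t) * bvec ends K t v = 0 := by
      intro t _
      rw [← Finset.mul_sum, total_bvec, mul_zero]
    rw [Finset.sum_congr rfl h3, Finset.sum_const_zero, add_zero, ← Finset.mul_sum]
    simp [Pi.single_apply]
  · intro y ⟨hy1, hy2⟩
    have hx1 : ∀ e ∈ T, sideSum ends K T e x = c e := by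
      intro e he
      simp only [x]
      rw [sideSum_add, sideSum_smul, sideSum_single, sideSum_sum]
      simp only [sideSum_smul]
      have h2 : ∀ t ∈ T, (c t - c₀ * s t) * sideSum ends K T e (bvec ends K t) =
          if t = e then (c t - c₀ * s t) else 0 := by
        intro t ht
        rw [sideSum_bvec ends K hT ht he]
        split_ifs <;> simp
      rw [Finset.sum_congr rfl h2, Finset.sum_ite_eq', if_pos he]
      simp only [s]
      ring
    have hx2 : ∑ v, x v = c₀ := by
      simp only [x, Pi.add_apply, Finset.sum_add_distrib, Pi.smul_apply, smul_eq_mul, Finset.sum_apply]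
      rw [Finset.sum_comm]
      have h3 : ∀ t ∈ T, ∑ v, (c t - c₀ * s t) * bvec ends K t v = 0 := by
        intro t _
        rw [← Finset.mul_sum, total_bvec, mul_zero]
      rw [Finset.sum_congr rfl h3, Finset.sum_const_zero, add_zero, ← Finset.mul_sum]
      simp [Pi.single_apply]
    have hz := eq_zero_of_sideSum_zero ends K hT (y - x)
      (by simp [Finset.sum_sub_distrib, hy2, hx2])
      (fun e he => by
        have : sideSum ends K T e (y - x) = sideSum ends K T e y - sideSum ends K T e x := by
          simp [sideSum, Finset.sum_sub_distrib]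
        rw [this, hy1 e he, hx1 e he, sub_self])
    exact sub_eq_zero.mp hz

end LinAlg

end Groth.Agent.Lib.Helper25.TreeSide
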