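import Mathlib
import Groth.Agent.Lib.Helper25.PhiStabH
import Groth.Agent.Lib.Helper25.TreeSide

/-!
# Stability for data supported on the complement of a spanning tree (helper25)
-/

set_option autoImplicit false
set_option linter.unusedSectionVars false
set_option linter.unusedSimpArgs false
set_option linter.unusedVariables false
universe u
open Finset

namespace Groth.Agent.Lib.Helper25.PhiStabTree

open LabGraph DualGr PhiStab Groth.Agent.Lib.Helper25.GraphInc Groth.Agent.Lib.Helper25.GraphTree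
  Groth.Agent.Lib.Helper25.TreeSide Groth.Agent.Lib.Helper25.PhiStabH

variable {V E : Type u} [Fintype V] [Fintype E] [DecidableEq V] [DecidableEq E]
  (ends : E → V × V) (φ : V → ℝ) (m : V → ℤ) (T : Finset E)

/-- an edge crosses `W` -/
def Crosses (W : Finset V) (e : E) : Prop :=
  ((ends e).1 ∈ W ∧ (ends e).2 ∉ W) ∨ ((ends e).1 ∉ W ∧ (ends e).2 ∈ W)

instance (W : Finset V) (e : E) : Decidable (Crosses ends W e) := by
  unfold Crosses; infer_instance

/-- tree edges crossing `W` -/
def crossT (W : Finset V) : Finset E := T.filter (fun e => Crosses ends W e)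

/-- `B` is a "half" of the tree at the edge `e` -/
structure IsHalf (e : E) (B : Finset V) : Prop where
  mem : e ∈ T
  crosses : Crosses ends B e
  others : ∀ f ∈ T, f ≠ e → ((ends f).1 ∈ B ↔ (ends f).2 ∈ B)

theorem isHalf_sideT (hT : IsTree (sub ends T)) {e : E} (he : e ∈ T) :
    IsHalf ends T e (sideT ends T e) :=
  ⟨he, Or.inl ⟨fst_mem_sideT ends T e, snd_not_mem_sideT ends hT he⟩,
    fun f hf hne => mem_sideT_iff_of_ne ends hf hne⟩

theorem IsHalf.compl {e : E} {B : Finset V} (h : IsHalf ends T e B) : IsHalf ends T e Bᶜ := by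
  refine ⟨h.mem, ?_, fun f hf hne => ?_⟩
  · unfold Crosses
    simp only [Finset.mem_compl, not_not]
    rcases h.crosses with ⟨h1, h2⟩ | ⟨h1, h2⟩
    · exact Or.inr ⟨h1, h2⟩
    · exact Or.inl ⟨h1, h2⟩
  · simp only [Finset.mem_compl]
    exact not_congr (h.others f hf hne)

/-- the edge `e` crosses `W` and its endpoint in `W` lies in `B` -/
def Points (W B : Finset V) (e : E) : Prop :=
  ((ends e).1 ∈ W ∧ (ends e).1 ∈ B ∧ (ends e).2 ∉ W) ∨
    ((ends e).2 ∈ W ∧ (ends e).2 ∈ B ∧ (ends e).1 ∉ W)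

theorem points_or_compl {W B : Finset V} {e : E} (h : Crosses ends W e) :
    Points ends W B e ∨ Points ends W Bᶜ e := by
  unfold Points
  simp only [Finset.mem_compl]
  rcases h with ⟨h1, h2⟩ | ⟨h1, h2⟩
  · by_cases hb : (ends e).1 ∈ B
    · exact Or.inl (Or.inl ⟨h1, hb, h2⟩)
    · exact Or.inr (Or.inl ⟨h1, hb, h2⟩)
  · by_cases hb : (ends e).2 ∈ B
    · exact Or.inl (Or.inr ⟨h2, hb, h1⟩)
    · exact Or.inr (Or.inr ⟨h2, hb, h1⟩)

theorem sum_crossE_half {e : E} {B : Finset V} (hB : IsHalf ends T e B) (W : Finset V)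
    (hp : Points ends W B e) : ∑ f : E, crossE ends Tᶜ W Bᶜ f = 1 := by
  rw [Finset.sum_eq_single e]
  · unfold crossE
    rw [if_pos]
    refine ⟨by simp [hB.mem], ?_⟩
    simp only [Finset.mem_compl, not_not]
    rcases hp with ⟨h1, h2, h3⟩ | ⟨h1, h2, h3⟩
    · rcases hB.crosses with ⟨c1, c2⟩ | ⟨c1, c2⟩
      · exact Or.inl ⟨h1, h2, c2, h3⟩
      · exact absurd h2 c1
    · rcases hB.crosses with ⟨c1, c2⟩ | ⟨c1, c2⟩
      · exact absurd h2 c2
      · exact Or.inr ⟨h1, h2, c1, h3⟩
  · intro f _ hfe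
    unfold crossE
    rw [if_neg]
    simp only [Finset.mem_compl, not_not]
    rintro ⟨hfT, h⟩
    have ho := hB.others f hfT hfe
    rcases h with ⟨_, h2, h3, _⟩ | ⟨_, h2, h3, _⟩
    · exact h3 (ho.1 h2)
    · exact h3 (ho.2 h2)
  · intro h; exact absurd (Finset.mem_univ e) h

theorem hh_half_add (hdeg : (∑ v : V, φ v) = (totDeg m Tᶜ : ℝ)) {e : E} {B : Finset V}
    (hB : IsHalf ends T e B) : hh ends φ m Tᶜ B + hh ends φ m Tᶜ Bᶜ = 1 := by
  have h := hh_submod ends φ m Tᶜ B Bᶜ
  have hp : Points ends B B e := by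
    rcases hB.crosses with ⟨c1, c2⟩ | ⟨c1, c2⟩
    · exact Or.inl ⟨c1, c1, c2⟩
    · exact Or.inr ⟨c2, c2, c1⟩
  rw [sum_crossE_half ends T hB B hp] at h
  have hu : B ∪ Bᶜ = Finset.univ := Finset.union_compl B
  have hi : B ∩ Bᶜ = ∅ := Finset.inter_compl B
  rw [hu, hi, hh_univ ends φ m Tᶜ hdeg, hh_empty] at h
  simpa using h

theorem hh_step (hdeg : (∑ v : V, φ v) = (totDeg m Tᶜ : ℝ)) {e : E} {B : Finset V}
    (hB : IsHalf ends T e B) (W : Finset V) (hp : Points ends W B e) :
    hh ends φ m Tᶜ W = hh ends φ m Tᶜ (W ∪ Bᶜ) + hh ends φ m Tᶜ (W ∩ Bᶜ) + hh ends φ m Tᶜ B := by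
  have h := hh_submod ends φ m Tᶜ W Bᶜ
  rw [sum_crossE_half ends T hB W hp] at h
  have h2 := hh_half_add ends φ m T hdeg hB
  simp only [Int.cast_one] at h
  linarith

theorem mem_crossT {W : Finset V} {e : E} : e ∈ crossT ends T W ↔ e ∈ T ∧ Crosses ends W e := by
  unfold crossT
  rw [Finset.mem_filter]

theorem crossT_union_subset {e : E} {B : Finset V} (hB : IsHalf ends T e B) (W : Finset V)
    (hp : Points ends W B e) : crossT ends T (W ∪ Bᶜ) ⊆ (crossT ends T W).erase e := by
  intro f hf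
  rw [mem_crossT] at hf
  obtain ⟨hfT, hfc⟩ := hf
  have hfe : f ≠ e := by
    rintro rfl
    unfold Crosses at hfc
    simp only [Finset.mem_union, Finset.mem_compl] at hfc
    rcases hp with ⟨h1, h2, h3⟩ | ⟨h1, h2, h3⟩
    · rcases hB.crosses with ⟨c1, c2⟩ | ⟨c1, c2⟩
      · tauto
      · exact absurd h2 c1
    · rcases hB.crosses with ⟨c1, c2⟩ | ⟨c1, c2⟩
      · exact absurd h2 c2
      · tauto
  rw [Finset.mem_erase, mem_crossT]
  refine ⟨hfe, hfT, ?_⟩
  have ho := hB.others f hfT hfe
  unfold Crosses at hfc ⊢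
  simp only [Finset.mem_union, Finset.mem_compl] at hfc
  tauto

theorem crossT_inter_subset {e : E} {B : Finset V} (hB : IsHalf ends T e B) (W : Finset V)
    (hp : Points ends W B e) : crossT ends T (W ∩ Bᶜ) ⊆ (crossT ends T W).erase e := by
  intro f hf
  rw [mem_crossT] at hf
  obtain ⟨hfT, hfc⟩ := hf
  have hfe : f ≠ e := by
    rintro rfl
    unfold Crosses at hfc
    simp only [Finset.mem_inter, Finset.mem_compl] at hfc
    rcases hp with ⟨h1, h2, h3⟩ | ⟨h1, h2, h3⟩
    · rcases hB.crosses with ⟨c1, c2⟩ | ⟨c1, c2⟩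
      · tauto
      · exact absurd h2 c1
    · rcases hB.crosses with ⟨c1, c2⟩ | ⟨c1, c2⟩
      · exact absurd h2 c2
      · tauto
  rw [Finset.mem_erase, mem_crossT]
  refine ⟨hfe, hfT, ?_⟩
  have ho := hB.others f hfT hfe
  unfold Crosses at hfc ⊢
  simp only [Finset.mem_inter, Finset.mem_compl] at hfc
  tauto

theorem points_crosses {W B : Finset V} {e : E} (hp : Points ends W B e) : Crosses ends W e := by
  rcases hp with ⟨h1, _, h3⟩ | ⟨h1, _, h3⟩
  · exact Or.inl ⟨h1, h3⟩
  · exact Or.inr ⟨h3, h1⟩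

theorem eq_empty_or_univ_of_crossT_empty (hT : Connected (sub ends T)) (W : Finset V)
    (h : crossT ends T W = ∅) : W = ∅ ∨ W = Finset.univ := by
  by_contra hcon
  rw [not_or] at hcon
  obtain ⟨a, ha⟩ := Finset.nonempty_iff_ne_empty.mpr hcon.1
  have : ∃ b, b ∉ W := by
    by_contra hall
    apply hcon.2
    apply Finset.eq_univ_of_forall
    intro x
    by_contra hx
    exact hall ⟨x, hx⟩
  obtain ⟨b, hb⟩ := this
  obtain ⟨t, ht⟩ := exists_boundary_edge (sub ends T) (fun v => v ∈ W) a b ha hb (hT.2 a b)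
  have hmem : t.1 ∈ crossT ends T W := by
    rw [mem_crossT]
    refine ⟨t.2, ?_⟩
    rcases ht with ⟨h1, h2⟩ | ⟨h1, h2⟩
    · exact Or.inl ⟨h1, h2⟩
    · exact Or.inr ⟨h2, h1⟩
  rw [h] at hmem
  exact absurd hmem (Finset.notMem_empty _)

/-- nonnegativity on all halves implies nonnegativity everywhere -/
theorem hh_nonneg_of_halves (hT : IsTree (sub ends T)) (hdeg : (∑ v : V, φ v) = (totDeg m Tᶜ : ℝ))
    (hpos : ∀ e ∈ T, 0 ≤ hh ends φ m Tᶜ (sideT ends T e) ∧ 0 ≤ hh ends φ m Tᶜ (sideT ends T e)ᶜ) :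
    ∀ W : Finset V, 0 ≤ hh ends φ m Tᶜ W := by
  have key : ∀ (n : ℕ) (W : Finset V), (crossT ends T W).card = n → 0 ≤ hh ends φ m Tᶜ W := by
    intro n
    induction n using Nat.strong_induction_on with
    | _ n ih =>
      intro W hn
      by_cases h0 : crossT ends T W = ∅
      · rcases eq_empty_or_univ_of_crossT_empty ends T hT.1 W h0 with h | h
        · rw [h, hh_empty]
        · rw [h, hh_univ ends φ m Tᶜ hdeg]
      · obtain ⟨e, he⟩ := Finset.nonempty_iff_ne_empty.mpr h0
        have he' := (mem_crossT ends T).1 he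
        have hB₀ := isHalf_sideT ends T hT he'.1
        have step : ∀ B : Finset V, IsHalf ends T e B → 0 ≤ hh ends φ m Tᶜ B →
            Points ends W B e → 0 ≤ hh ends φ m Tᶜ W := by
          intro B hB hBpos hp
          rw [hh_step ends φ m T hdeg hB W hp]
          have c1 : (crossT ends T (W ∪ Bᶜ)).card < n := by
            rw [← hn]
            exact lt_of_le_of_lt (Finset.card_le_card (crossT_union_subset ends T hB W hp))
              (Finset.card_erase_lt_of_mem he)
          have c2 : (crossT ends T (W ∩ Bᶜ)).card < n := by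
            rw [← hn]
            exact lt_of_le_of_lt (Finset.card_le_card (crossT_inter_subset ends T hB W hp))
              (Finset.card_erase_lt_of_mem he)
          have i1 := ih _ c1 (W ∪ Bᶜ) rfl
          have i2 := ih _ c2 (W ∩ Bᶜ) rfl
          linarith
        rcases points_or_compl ends (B := sideT ends T e) he'.2 with hp | hp
        · exact step _ hB₀ (hpos e he'.1).1 hp
        · exact step _ (hB₀.compl) (hpos e he'.1).2 hp
  intro W
  exact key _ W rfl

/-- positivity on all halves implies positivity on all nonempty proper subsets -/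
theorem hh_pos_of_halves (hT : IsTree (sub ends T)) (hdeg : (∑ v : V, φ v) = (totDeg m Tᶜ : ℝ))
    (hpos : ∀ e ∈ T, 0 < hh ends φ m Tᶜ (sideT ends T e) ∧ 0 < hh ends φ m Tᶜ (sideT ends T e)ᶜ)
    (W : Finset V) (hne : W.Nonempty) (hnu : W ≠ Finset.univ) : 0 < hh ends φ m Tᶜ W := by
  have hnn := hh_nonneg_of_halves ends φ m T hT hdeg (fun e he => ⟨(hpos e he).1.le, (hpos e he).2.le⟩)
  have h0 : crossT ends T W ≠ ∅ := by
    intro h0
    rcases eq_empty_or_univ_of_crossT_empty ends T hT.1 W h0 with h | h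
    · exact hne.ne_empty h
    · exact hnu h
  obtain ⟨e, he⟩ := Finset.nonempty_iff_ne_empty.mpr h0
  have he' := (mem_crossT ends T).1 he
  have hB₀ := isHalf_sideT ends T hT he'.1
  have step : ∀ B : Finset V, IsHalf ends T e B → 0 < hh ends φ m Tᶜ B →
      Points ends W B e → 0 < hh ends φ m Tᶜ W := by
    intro B hB hBpos hp
    rw [hh_step ends φ m T hdeg hB W hp]
    have i1 := hnn (W ∪ Bᶜ)
    have i2 := hnn (W ∩ Bᶜ)
    linarith
  rcases points_or_compl ends (B := sideT ends T e) he'.2 with hp | hp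
  · exact step _ hB₀ (hpos e he'.1).1 hp
  · exact step _ (hB₀.compl) (hpos e he'.1).2 hp

theorem isSemistable_iff_hh (N : Finset E) :
    IsSemistable ends φ m N ↔ ∀ W : Finset V, W.Nonempty → W ≠ Finset.univ → 0 ≤ hh ends φ m N W := by
  unfold IsSemistable hh
  constructor
  · intro h W h1 h2
    have := h W h1 h2
    linarith
  · intro h W h1 h2
    have := h W h1 h2
    linarith

theorem isStable_iff_hh (N : Finset E) :
    IsStable ends φ m N ↔ ∀ W : Finset V, W.Nonempty → W ≠ Finset.univ → 0 < hh ends φ m N W := by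
  unfold IsStable hh
  constructor
  · intro h W h1 h2
    have := h W h1 h2
    linarith
  · intro h W h1 h2
    have := h W h1 h2
    linarith

theorem half_nonempty {e : E} {B : Finset V} (hB : IsHalf ends T e B) : B.Nonempty := by
  rcases hB.crosses with ⟨c1, _⟩ | ⟨_, c2⟩
  · exact ⟨_, c1⟩
  · exact ⟨_, c2⟩

theorem half_ne_univ {e : E} {B : Finset V} (hB : IsHalf ends T e B) : B ≠ Finset.univ := by
  intro h
  rcases hB.crosses with ⟨_, c2⟩ | ⟨c1, _⟩
  · exact c2 (h ▸ Finset.mem_univ _)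
  · exact c1 (h ▸ Finset.mem_univ _)

/-- for a stable datum on the complement of a spanning tree, `hh` of a half lies in `(0,1)` -/
theorem hh_half_mem_Ioo (hdeg : (∑ v : V, φ v) = (totDeg m Tᶜ : ℝ))
    (hst : IsStable ends φ m Tᶜ) {e : E} {B : Finset V} (hB : IsHalf ends T e B) :
    0 < hh ends φ m Tᶜ B ∧ hh ends φ m Tᶜ B < 1 := by
  rw [isStable_iff_hh] at hst
  have h1 := hst B (half_nonempty ends T hB) (half_ne_univ ends T hB)
  have h2 := hst Bᶜ (half_nonempty ends T hB.compl) (half_ne_univ ends T hB.compl)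
  have h3 := hh_half_add ends φ m T hdeg hB
  constructor <;> linarith

theorem sideT_nonempty (e : E) : (sideT ends T e).Nonempty := ⟨_, fst_mem_sideT ends T e⟩

theorem hh_sideT_eq (e : E) :
    hh ends φ m Tᶜ (sideT ends T e) =
      ((sideSum ends ℤ T e m : ℤ) : ℝ) -
        ((∑ v ∈ sideT ends T e, φ v) - (cut ends (sideT ends T e) : ℝ) / 2 -
          ((Tᶜ ∩ PhiStab.inner ends (sideT ends T e)).card : ℝ)) := by
  unfold hh degOn sideSum
  push_cast
  ring

/-- existence and uniqueness of the stable multidegree on the complement of a spanning tree -/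
theorem existsUnique_stable (hT : IsTree (sub ends T)) (b : ℤ) (hφ : (∑ v : V, φ v) = (b : ℝ))
    (hnd : Nondegenerate ends φ) :
    ∃! m : V → ℤ, totDeg m Tᶜ = b ∧ IsStable ends φ m Tᶜ := by
  classical
  let r : E → ℝ := fun e => (∑ v ∈ sideT ends T e, φ v) - (cut ends (sideT ends T e) : ℝ) / 2 -
          ((Tᶜ ∩ PhiStab.inner ends (sideT ends T e)).card : ℝ)
  let c : E → ℤ := fun e => ⌊r e⌋ + 1
  obtain ⟨m, ⟨hm1, hm2⟩, -⟩ := existsUnique_sideSum ends ℤ hT c (b - (Tᶜ.card : ℤ))
  have htot : totDeg m Tᶜ = b := by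
    unfold totDeg
    rw [hm2]; ring
  have hdeg : (∑ v : V, φ v) = (totDeg m Tᶜ : ℝ) := by rw [htot, hφ]
  have hside : ∀ e ∈ T, 0 < hh ends φ m Tᶜ (sideT ends T e) ∧ hh ends φ m Tᶜ (sideT ends T e) ≤ 1 := by
    intro e he
    rw [hh_sideT_eq, hm1 e he]
    show 0 < ((⌊r e⌋ + 1 : ℤ) : ℝ) - r e ∧ ((⌊r e⌋ + 1 : ℤ) : ℝ) - r e ≤ 1
    push_cast
    have h1 := Int.floor_le (r e)
    have h2 := Int.lt_floor_add_one (r e)
    constructor <;> linarith
  have hss : IsSemistable ends φ m Tᶜ := by
    rw [isSemistable_iff_hh]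
    intro W _ _
    apply hh_nonneg_of_halves ends φ m T hT hdeg
    intro e he
    have h3 := hh_half_add ends φ m T hdeg (isHalf_sideT ends T hT he)
    have := hside e he
    constructor <;> linarith
  have hst : IsStable ends φ m Tᶜ := hnd m Tᶜ hdeg hss
  refine ⟨m, ⟨htot, hst⟩, ?_⟩
  rintro m' ⟨htot', hst'⟩
  have hdeg' : (∑ v : V, φ v) = (totDeg m' Tᶜ : ℝ) := by rw [htot', hφ]
  have hz : m' - m = 0 := by
    apply eq_zero_of_sideSum_zero ends ℤ hT
    · have e1 : ∑ v, m' v = b - (Tᶜ.card : ℤ) := by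
        unfold totDeg at htot'; linarith
      simp only [Pi.sub_apply, Finset.sum_sub_distrib]
      rw [e1, hm2]; ring
    · intro e he
      have hB := isHalf_sideT ends T hT he
      have a1 := hh_half_mem_Ioo ends φ m T hdeg hst hB
      have a2 := hh_half_mem_Ioo ends φ m' T hdeg' hst' hB
      rw [hh_sideT_eq] at a1 a2
      have hsub : sideSum ends ℤ T e (m' - m) = sideSum ends ℤ T e m' - sideSum ends ℤ T e m := by
        simp [sideSum, Finset.sum_sub_distrib]
      rw [hsub]
      have b1 : ((sideSum ends ℤ T e m' - sideSum ends ℤ T e m : ℤ) : ℝ) < 1 := by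
        push_cast; linarith [a1.1, a1.2, a2.1, a2.2]
      have b2 : (-1 : ℝ) < ((sideSum ends ℤ T e m' - sideSum ends ℤ T e m : ℤ) : ℝ) := by
        push_cast; linarith [a1.1, a1.2, a2.1, a2.2]
      have b1' : sideSum ends ℤ T e m' - sideSum ends ℤ T e m < 1 := by exact_mod_cast b1
      have b2' : -1 < sideSum ends ℤ T e m' - sideSum ends ℤ T e m := by exact_mod_cast b2
      omega
  exact sub_eq_zero.mp hz

section OneCrossing

theorem crosses_endpoints {S : Finset V} {g : E} (h : Crosses ends S g) :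
    ∃ p q : V, p ∈ S ∧ q ∉ S ∧ (ends g = (p, q) ∨ ends g = (q, p)) := by
  rcases h with ⟨h1, h2⟩ | ⟨h1, h2⟩
  · exact ⟨_, _, h1, h2, Or.inl rfl⟩
  · exact ⟨_, _, h2, h1, Or.inr rfl⟩

/-- for an elementary vertex set there is a spanning tree with exactly one edge crossing it -/
theorem exists_tree_half (hconn : Connected ends) (S : Finset V) (hS : ConnIn ends S)
    (hSc : ConnIn ends Sᶜ) :
    ∃ (T : Finset E) (e : E), IsTree (sub ends T) ∧ IsHalf ends T e S := by
  classical
  let E' : Finset E := Finset.univ.filter (fun e => ¬ Crosses ends S e)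
  let 𝒯 : Finset (Finset E) := Finset.univ.filter fun F => F ⊆ E' ∧ IsForestSet ends F
  have hne : 𝒯.Nonempty := ⟨∅, by
    simp only [𝒯, Finset.mem_filter, Finset.mem_univ, true_and]
    refine ⟨Finset.empty_subset _, ?_⟩
    intro C hC hcirc
    have : C = ∅ := Finset.subset_empty.mp hC
    subst this
    exact hcirc.1.ne_empty rfl⟩
  obtain ⟨F, hF, hmax⟩ := Finset.exists_max_image 𝒯 Finset.card hne
  simp only [𝒯, Finset.mem_filter, Finset.mem_univ, true_and] at hF
  have hreachF : ∀ e ∈ E', Relation.ReflTransGen (Adj (sub ends F)) (ends e).1 (ends e).2 := by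
    intro e he
    by_cases heF : e ∈ F
    · exact .single (adj_of_mem ends heF)
    · have hnot : ¬ IsForestSet ends (insert e F) := by
        intro hfor
        have hmem : insert e F ∈ 𝒯 := by
          simp only [𝒯, Finset.mem_filter, Finset.mem_univ, true_and]
          refine ⟨?_, hfor⟩
          intro x hx
          rcases Finset.mem_insert.mp hx with h | h
          · rw [h]; exact he
          · exact hF.1 h
        have := hmax _ hmem
        rw [Finset.card_insert_of_notMem heF] at this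
        omega
      unfold IsForestSet at hnot
      push Not at hnot
      obtain ⟨C, hCsub, hC⟩ := hnot
      have heC : e ∈ C := by
        by_contra heC
        apply hF.2 C _ hC
        intro x hx
        rcases Finset.mem_insert.mp (hCsub hx) with h | h
        · exact absurd (h ▸ hx) heC
        · exact h
      have hr := reach_of_circuit ends C hC e heC
      have hsub : C.erase e ⊆ F := by
        intro x hx
        rcases Finset.mem_insert.mp (hCsub (Finset.mem_of_mem_erase hx)) with h | h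
        · exact absurd h (Finset.ne_of_mem_erase hx)
        · exact h
      exact reach_sub_mono ends hsub hr
  have hin : ∀ (W : Finset V), (∀ e : E, (ends e).1 ∈ W → (ends e).2 ∈ W → e ∈ E') → ∀ a b : V,
      Relation.ReflTransGen (AdjIn ends W) a b → Relation.ReflTransGen (Adj (sub ends F)) a b := by
    intro W hW a b hab
    induction hab with
    | refl => exact .refl
    | @tail x y _ hxy ih =>
      refine ih.trans ?_
      obtain ⟨hx, hy, g, hg | hg⟩ := hxy
      · have := hreachF g (hW g (by rw [hg]; exact hx) (by rw [hg]; exact hy))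
        rw [hg] at this
        exact this
      · have := hreachF g (hW g (by rw [hg]; exact hy) (by rw [hg]; exact hx))
        rw [hg] at this
        exact reach_symm _ this
  have hE'S : ∀ e : E, (ends e).1 ∈ S → (ends e).2 ∈ S → e ∈ E' := by
    intro e h1 h2
    refine Finset.mem_filter.mpr ⟨Finset.mem_univ _, ?_⟩
    unfold Crosses
    tauto
  have hE'Sc : ∀ e : E, (ends e).1 ∈ Sᶜ → (ends e).2 ∈ Sᶜ → e ∈ E' := by
    intro e h1 h2
    rw [Finset.mem_compl] at h1 h2
    refine Finset.mem_filter.mpr ⟨Finset.mem_univ _, ?_⟩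
    unfold Crosses
    tauto
  obtain ⟨T, hFT, hT⟩ := exists_spanningTree_extending ends hconn F hF.2
  have hT' : IsTree (sub ends T) := hT
  obtain ⟨a, ha⟩ := hS.1
  obtain ⟨b, hb⟩ := hSc.1
  rw [Finset.mem_compl] at hb
  obtain ⟨t, ht⟩ := exists_boundary_edge (sub ends T) (fun v => v ∈ S) a b ha hb (hT'.1.2 a b)
  have htc : Crosses ends S t.1 := by
    rcases ht with ⟨h1, h2⟩ | ⟨h1, h2⟩
    · exact Or.inl ⟨h1, h2⟩
    · exact Or.inr ⟨h2, h1⟩
  refine ⟨T, t.1, hT', t.2, htc, ?_⟩
  intro f hfT hft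
  by_contra hcr
  have hfc : Crosses ends S f := by
    unfold Crosses; tauto
  obtain ⟨p₁, q₁, hp₁, hq₁, h1⟩ := crosses_endpoints ends htc
  obtain ⟨p₂, q₂, hp₂, hq₂, h2⟩ := crosses_endpoints ends hfc
  have hFsub : F ⊆ T.erase t.1 := by
    intro x hx
    rw [Finset.mem_erase]
    refine ⟨?_, hFT hx⟩
    rintro rfl
    have := (Finset.mem_filter.mp (hF.1 hx)).2
    exact this htc
  have hfmem : f ∈ T.erase t.1 := Finset.mem_erase.mpr ⟨hft, hfT⟩
  have r1 : Relation.ReflTransGen (Adj (sub ends (T.erase t.1))) p₁ p₂ :=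
    reach_sub_mono ends hFsub (hin S hE'S p₁ p₂ (hS.2 p₁ hp₁ p₂ hp₂))
  have r2 : Relation.ReflTransGen (Adj (sub ends (T.erase t.1))) q₂ q₁ :=
    reach_sub_mono ends hFsub (hin Sᶜ hE'Sc q₂ q₁
      (hSc.2 q₂ (Finset.mem_compl.mpr hq₂) q₁ (Finset.mem_compl.mpr hq₁)))
  have r3 : Relation.ReflTransGen (Adj (sub ends (T.erase t.1))) p₂ q₂ := by
    have := adj_of_mem ends hfmem
    rcases h2 with h2 | h2
    · rw [h2] at this; exact .single this
    · rw [h2] at this; exact .single (adj_symm _ this)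
  have r4 : Relation.ReflTransGen (Adj (sub ends (T.erase t.1))) p₁ q₁ := (r1.trans r3).trans r2
  have hbad : (ends t.1).2 ∈ sideT ends T t.1 := by
    rw [mem_sideT]
    rcases h1 with h1 | h1
    · rw [h1]; exact r4
    · rw [h1]; exact reach_symm _ r4
  exact snd_not_mem_sideT ends hT' t.2 hbad

end OneCrossing

end Groth.Agent.Lib.Helper25.PhiStabTree
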