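import Groth.Agent.Lib.Helper25.ProCons2

/-!
# Helper library (helper25): pro-constructible sets as images of spectra of products of fields
-/

set_option autoImplicit false
universe u
open Topology Set AlgebraicGeometry CategoryTheory
open scoped Set.Notation

namespace Groth.Agent.Lib.Helper25.PC

section Algebra
variable {A : Type*} [CommRing A] {ι : Type*} {K : ι → Type*} [∀ i, Field (K i)]

/-- the point `ker φ` of `Spec A` defined by a map to a field -/
def kerPt {L : Type*} [Field L] (φ : A →+* L) : PrimeSpectrum A :=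
  ⟨RingHom.ker φ, RingHom.ker_isPrime φ⟩

/-- The image of `Spec (∏ K i) → Spec A` lies in every constructible set containing the points
`ker φ i`. -/
theorem comap_pi_mem_of_isConstructible (φ : ∀ i, A →+* K i) {T : Set (PrimeSpectrum A)}
    (hT : IsConstructible T) (hmem : ∀ i, kerPt (φ i) ∈ T) (p : PrimeSpectrum (∀ i, K i)) :
    PrimeSpectrum.comap (RingHom.pi φ) p ∈ T := by
  classical
  by_contra hq
  obtain ⟨S, hS⟩ := PrimeSpectrum.exists_constructibleSetData_iff.mpr hT.compl
  have hq' : PrimeSpectrum.comap (RingHom.pi φ) p ∈ S.toSet := by rw [hS]; exact hq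
  obtain ⟨C, hCS, hqC⟩ := mem_iUnion₂.mp hq'
  obtain ⟨hg, hf⟩ := hqC
  have hg' : ∀ k, RingHom.pi φ (C.g k) ∈ p.asIdeal := by
    intro k
    exact hg ⟨k, rfl⟩
  have hf' : RingHom.pi φ C.f ∉ p.asIdeal := by
    intro h
    apply hf
    rw [PrimeSpectrum.mem_zeroLocus]
    rintro _ rfl
    exact h
  have hpt : ∀ i, (∀ k, φ i (C.g k) = 0) → φ i C.f = 0 := by
    intro i hk
    by_contra hne
    have : kerPt (φ i) ∈ S.toSet := by
      refine mem_iUnion₂.mpr ⟨C, hCS, ?_, ?_⟩
      · rintro _ ⟨k, rfl⟩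
        exact hk k
      · intro h
        apply hne
        exact h (mem_singleton _)
    rw [hS] at this
    exact this (hmem i)
  let e₀ : ∀ i, K i := fun i => if φ i C.f = 0 then 1 else 0
  let e : Fin C.n → ∀ i, K i := fun k i => φ i (C.g k) * (φ i (C.g k))⁻¹
  have he₀ : e₀ ∈ p.asIdeal := by
    have : RingHom.pi φ C.f * e₀ = 0 := by
      funext i
      by_cases h : φ i C.f = 0
      · simp [e₀, h]
      · simp [e₀, h]
    have := this ▸ p.asIdeal.zero_mem
    exact (p.isPrime.mem_or_mem this).resolve_left hf'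
  have he : ∀ k, e k ∈ p.asIdeal := by
    intro k
    have : e k = RingHom.pi φ (C.g k) * (fun i => (φ i (C.g k))⁻¹) := by
      funext i
      simp [e]
    rw [this]
    exact p.asIdeal.mul_mem_right _ (hg' k)
  have hprod : (1 - e₀) * ∏ k, (1 - e k) = 0 := by
    funext i
    simp only [Pi.mul_apply, Pi.sub_apply, Pi.one_apply, Finset.prod_apply, Pi.zero_apply]
    by_cases hfi : φ i C.f = 0
    · simp [e₀, hfi]
    · have : ¬ ∀ k, φ i (C.g k) = 0 := fun h => hfi (hpt i h)
      push Not at this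
      obtain ⟨k, hk⟩ := this
      rw [Finset.prod_eq_zero (Finset.mem_univ k), mul_zero]
      simp [e, hk]
  have h0 : (1 - e₀) * ∏ k, (1 - e k) ∈ p.asIdeal := hprod ▸ p.asIdeal.zero_mem
  have hone : (1 : ∀ i, K i) ∈ p.asIdeal := by
    rcases p.isPrime.mem_or_mem h0 with h | h
    · have := p.asIdeal.add_mem h he₀
      rwa [sub_add_cancel] at this
    · obtain ⟨k, -, hk⟩ := (p.isPrime.prod_mem_iff).mp h
      have := p.asIdeal.add_mem hk (he k)
      rwa [sub_add_cancel] at this
  exact p.isPrime.ne_top ((Ideal.eq_top_iff_one _).mpr hone)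

end Algebra

section Spec
variable {A : Type u} [CommRing A]

theorem kerPt_algebraMap_residueField (x : PrimeSpectrum A) :
    kerPt (algebraMap A x.asIdeal.ResidueField) = x :=
  PrimeSpectrum.ext (Ideal.ker_algebraMap_residueField _)

theorem comap_kerPt {B : Type*} [CommRing B] {L : Type*} [Field L] (φ : A →+* B) (ψ : B →+* L) :
    PrimeSpectrum.comap φ (kerPt ψ) = kerPt (ψ.comp φ) := by
  apply PrimeSpectrum.ext
  ext a
  simp [kerPt, RingHom.mem_ker]

/-- the product of the residue fields of the points of `E` -/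
abbrev ProdRes (E : Set (PrimeSpectrum A)) : Type u := ∀ x : E, x.1.asIdeal.ResidueField

/-- the canonical map `A → ∏_{x ∈ E} κ(x)` -/
noncomputable def toProdRes (E : Set (PrimeSpectrum A)) : A →+* ProdRes E :=
  RingHom.pi (fun x : E => algebraMap A x.1.asIdeal.ResidueField)

/-- A patch-closed subset of `Spec A` is the image of `Spec (∏_{x ∈ E} κ(x))`. -/
theorem range_comap_toProdRes {E : Set (PrimeSpectrum A)} (hE : IsPCl E) :
    range (PrimeSpectrum.comap (toProdRes E)) = E := by
  apply subset_antisymm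
  · rintro _ ⟨p, rfl⟩
    obtain ⟨S, hS, hES⟩ := isPCl_iff_sInter.mp hE
    have hsub : ∀ T ∈ S, E ⊆ T := fun T hT => hES ▸ sInter_subset_of_mem hT
    have hgoal : ∀ T ∈ S, PrimeSpectrum.comap (toProdRes E) p ∈ T := by
      intro T hT
      refine comap_pi_mem_of_isConstructible _ (hS T hT) (fun x => ?_) p
      rw [kerPt_algebraMap_residueField]
      exact hsub T hT x.2
    have : PrimeSpectrum.comap (toProdRes E) p ∈ ⋂₀ S := mem_sInter.mpr hgoal
    exact hES.symm ▸ this
  · intro x hx
    refine ⟨kerPt (Pi.evalRingHom (fun x : E => x.1.asIdeal.ResidueField) ⟨x, hx⟩), ?_⟩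
    rw [comap_kerPt]
    exact kerPt_algebraMap_residueField x

end Spec

section Global

theorem ProC.isPCl {Z : Type*} [TopologicalSpace Z] [CompactSpace Z] [QuasiSeparatedSpace Z]
    {E : Set Z} (hE : ProC E) : IsPCl E := by
  have hV : IsSpecOpen (univ : Set Z) := ⟨isOpen_univ, isCompact_univ, isQuasiSeparated_univ⟩
  have := hV.compactSpace
  rw [isPCl_iff_of_cover (fun _ : Unit => (Subtype.val : ↥(univ : Set Z) → Z))
    (fun _ => isOpen_univ.isOpenEmbedding_subtypeVal) (fun x => ⟨(), ⟨⟨x, mem_univ x⟩, rfl⟩⟩)]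
  intro _
  exact hE univ hV

/-- On an affine open `U`, a pro-constructible set `E` meets `U` in the image of an affine
scheme. -/
theorem exists_affine_range_eq_inter {X : Scheme.{u}} {U : X.Opens} (hU : IsAffineOpen U)
    {E : Set X} (hE : ProC E) :
    ∃ (X' : Scheme.{u}) (g : X' ⟶ X), IsAffine X' ∧ range g.base = E ∩ (U : Set X) := by
  let E' : Set (PrimeSpectrum Γ(X, U)) := hU.fromSpec.base ⁻¹' E
  have hE' : IsPCl E' := (ProC.preimage hU.fromSpec hE).isPCl
  refine ⟨Spec (CommRingCat.of (ProdRes E')),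
    (Spec.map (CommRingCat.ofHom (toProdRes E')) ≫ hU.fromSpec), inferInstance, ?_⟩
  have h1 : range (Spec.map (CommRingCat.ofHom (toProdRes E'))).base = E' :=
    range_comap_toProdRes hE'
  have : (Spec.map (CommRingCat.ofHom (toProdRes E')) ≫ hU.fromSpec).base =
      hU.fromSpec.base ∘ (Spec.map (CommRingCat.ofHom (toProdRes E'))).base := by
    ext x; simp
  rw [this, range_comp, h1]
  change hU.fromSpec.base '' (hU.fromSpec.base ⁻¹' E) = _
  rw [image_preimage_eq_inter_range, hU.range_fromSpec]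

end Global

section Final
open CategoryTheory.Limits

theorem range_sigmaDesc {ι : Type u} (f : ι → Scheme.{u}) {X : Scheme.{u}}
    (g : ∀ i, f i ⟶ X) : range (Sigma.desc g).base = ⋃ i, range (g i).base := by
  apply subset_antisymm
  · rintro _ ⟨z, rfl⟩
    obtain ⟨⟨i, y⟩, rfl⟩ := (sigmaMk f).surjective z
    refine mem_iUnion.mpr ⟨i, y, ?_⟩
    rw [sigmaMk_mk, ← Scheme.Hom.comp_apply, Sigma.ι_desc]
  · refine iUnion_subset (fun i => ?_)
    rintro _ ⟨y, rfl⟩
    refine ⟨(Sigma.ι f i).base y, ?_⟩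
    rw [← Scheme.Hom.comp_apply, Sigma.ι_desc]

/-- EGA IV 1.9.5 (ix), necessity: a pro-constructible subset of a quasi-compact scheme is the image
of an affine scheme -/
theorem ProC.exists_affine_range_eq {X : Scheme.{u}} [CompactSpace X] {E : Set X} (hE : ProC E) :
    ∃ (X' : Scheme.{u}) (f : X' ⟶ X), IsAffine X' ∧ range f.base = E := by
  have hex : ∀ x : X, ∃ U : X.Opens, IsAffineOpen U ∧ x ∈ U := exists_affine_mem
  choose U hU hxU using hex
  obtain ⟨t, -, ht⟩ := isCompact_univ.elim_nhds_subcover (fun x => (U x : Set X))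
    (fun x _ => (U x).2.mem_nhds (hxU x))
  have hloc := fun x : t => exists_affine_range_eq_inter (hU x.1) hE
  choose X' g hX' hg using hloc
  refine ⟨∐ X', Sigma.desc g, inferInstance, ?_⟩
  rw [range_sigmaDesc]
  simp_rw [hg]
  rw [← inter_iUnion]
  apply inter_eq_left.mpr
  intro z _
  obtain ⟨x, hxt, hzx⟩ := mem_iUnion₂.mp (ht (mem_univ z))
  exact mem_iUnion.mpr ⟨⟨x, hxt⟩, hzx⟩

end Final

end Groth.Agent.Lib.Helper25.PC
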