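import Mathlib

/-! A subalgebra of a finite product of normal domains closed under "support idempotents" and
"division" is a finite product of normal domains. -/

set_option autoImplicit false
set_option linter.unusedSectionVars false
universe u
open Polynomial

namespace Groth.Agent.Lib.Helper25.ProdNormal

theorem dvd_of_eval_scaleRoots {D : Type*} [CommRing D] [IsDomain D] [IsIntegrallyClosed D]
    {q : D[X]} (hq : q.Monic) {a b : D} (hb : b ≠ 0) (h : eval a (scaleRoots q b) = 0) : b ∣ a := by
  set f : D →+* FractionRing D := algebraMap D (FractionRing D) with hf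
  have hinj : Function.Injective f := IsFractionRing.injective D (FractionRing D)
  have hfb : f b ≠ 0 := (map_ne_zero_iff f hinj).mpr hb
  have h1 := scaleRoots_eval₂_mul (p := q) f (f a / f b) b
  rw [mul_div_cancel₀ _ hfb, Polynomial.eval₂_at_apply, h, map_zero] at h1
  have h2 : eval₂ f (f a / f b) q = 0 := by
    rcases mul_eq_zero.mp h1.symm with h3 | h3
    · exact absurd (pow_eq_zero_iff (by
        intro h0; rw [h0] at h3; simp at h3) |>.mp h3) hfb
    · exact h3
  have h3 : IsIntegral D (f a / f b) := ⟨q, hq, h2⟩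
  obtain ⟨y, hy⟩ := IsIntegrallyClosed.isIntegral_iff.mp h3
  refine ⟨y, hinj ?_⟩
  rw [map_mul, hy, mul_div_cancel₀ _ hfb]


section Main
variable {k : Type*} [CommRing k] {S : Type u} [CommRing S] [Algebra k S]
  {ι : Type u} [Fintype ι] (D : ι → Type u) [∀ i, CommRing (D i)] [∀ i, IsDomain (D i)]
  [∀ i, IsIntegrallyClosed (D i)] (e : S ≃+* Π i, D i) (A : Subalgebra k S)

open Classical in
/-- indicator idempotent of the support of `a` -/
noncomputable def suppInd (a : S) : S := e.symm (fun i => if e a i = 0 then 0 else 1)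

omit [Fintype ι] [∀ i, IsDomain (D i)] [∀ i, IsIntegrallyClosed (D i)] in
open Classical in
theorem e_suppInd (a : S) (i : ι) : e (suppInd D e a) i = if e a i = 0 then 0 else 1 := by
  simp [suppInd]

/-- the coordinate maps on `A` -/
noncomputable def coord (i : ι) : A →+* D i :=
  (Pi.evalRingHom D i).comp ((e : S →+* Π i, D i).comp A.val.toRingHom)

omit [Fintype ι] [∀ i, IsDomain (D i)] [∀ i, IsIntegrallyClosed (D i)] in
theorem coord_apply (i : ι) (a : A) : coord D e A i a = e (a : S) i := rfl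

omit [Fintype ι] [∀ i, IsIntegrallyClosed (D i)] in
theorem ker_coord_isPrime (i : ι) : (RingHom.ker (coord D e A i)).IsPrime :=
  RingHom.ker_isPrime _

variable (P1 : ∀ a ∈ A, suppInd D e a ∈ A)
  (P2 : ∀ b ∈ A, ∀ s : S, s * suppInd D e b = s → b * s ∈ A → s ∈ A)

include P1 in
omit [Fintype ι] [∀ i, IsIntegrallyClosed (D i)] in
theorem isCoprime_ker_coord {i i' : ι}
    (h : RingHom.ker (coord D e A i) ≠ RingHom.ker (coord D e A i')) :
    IsCoprime (RingHom.ker (coord D e A i)) (RingHom.ker (coord D e A i')) := by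
  classical
  have key : ∀ j j' : ι, ¬ RingHom.ker (coord D e A j) ≤ RingHom.ker (coord D e A j') →
      IsCoprime (RingHom.ker (coord D e A j)) (RingHom.ker (coord D e A j')) := by
    intro j j' hle
    obtain ⟨a, haj, haj'⟩ := SetLike.not_le_iff_exists.mp hle
    rw [RingHom.mem_ker, coord_apply] at haj haj'
    rw [Ideal.isCoprime_iff_exists]
    refine ⟨⟨suppInd D e a, P1 a a.2⟩, ?_, 1 - ⟨suppInd D e a, P1 a a.2⟩, ?_, by ring⟩
    · rw [RingHom.mem_ker, coord_apply]
      show e (suppInd D e (a : S)) j = 0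
      rw [e_suppInd, if_pos haj]
    · rw [RingHom.mem_ker, map_sub, map_one, coord_apply]
      show 1 - e (suppInd D e (a : S)) j' = 0
      rw [e_suppInd, if_neg haj', sub_self]
  by_cases hle : RingHom.ker (coord D e A i) ≤ RingHom.ker (coord D e A i')
  · have hle' : ¬ RingHom.ker (coord D e A i') ≤ RingHom.ker (coord D e A i) :=
      fun h' => h (le_antisymm hle h')
    exact (key i' i hle').symm
  · exact key i i' hle

set_option synthInstance.maxHeartbeats 400000 in
include P1 P2 in
theorem isIntegrallyClosed_quot (i : ι) :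
    haveI := ker_coord_isPrime D e A i
    IsIntegrallyClosed (A ⧸ RingHom.ker (coord D e A i)) := by
  classical
  have := ker_coord_isPrime D e A i
  set 𝔭 := RingHom.ker (coord D e A i) with h𝔭
  set E := A ⧸ 𝔭
  rw [isIntegrallyClosed_iff (FractionRing E)]
  intro x hx
  obtain ⟨a', b', hb', rfl⟩ := IsFractionRing.div_surjective (A := E) x
  obtain ⟨p', hp'monic, hp'⟩ := hx
  have hinj : Function.Injective (algebraMap E (FractionRing E)) :=
    IsFractionRing.injective E (FractionRing E)
  -- the scaled relation in E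
  have h1 : eval a' (scaleRoots p' b') = 0 := by
    have := scaleRoots_aeval_eq_zero_of_aeval_div_eq_zero hinj hp' hb'
    rw [aeval_algebraMap_apply] at this
    exact hinj (this.trans (map_zero _).symm)
  -- lift everything to A
  obtain ⟨a, rfl⟩ := Ideal.Quotient.mk_surjective a'
  obtain ⟨b, rfl⟩ := Ideal.Quotient.mk_surjective b'
  have hlift : p' ∈ lifts (Ideal.Quotient.mk 𝔭) := by
    rw [Polynomial.mem_lifts]
    exact Polynomial.map_surjective _ Ideal.Quotient.mk_surjective p'
  obtain ⟨p, rfl, -, hpmonic⟩ := lifts_and_natDegree_eq_and_monic hlift hp'monic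
  set r : A := eval a (scaleRoots p b) with hr
  have hb0 : e (b : S) i ≠ 0 := by
    have : Ideal.Quotient.mk 𝔭 b ≠ 0 := nonZeroDivisors.ne_zero hb'
    intro h0
    exact this (Ideal.Quotient.eq_zero_iff_mem.mpr (by rw [h𝔭, RingHom.mem_ker, coord_apply, h0]))
  have hri : e (r : S) i = 0 := by
    have h2 : Ideal.Quotient.mk 𝔭 r = 0 := by
      rw [hr, ← Polynomial.eval_map_apply, map_scaleRoots]
      · exact h1
      · rw [hpmonic.leadingCoeff, map_one]; exact one_ne_zero
    have := Ideal.Quotient.eq_zero_iff_mem.mp h2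
    rwa [h𝔭, RingHom.mem_ker, coord_apply] at this
  -- coordinates of r
  have hrcoord : ∀ j, e (r : S) j =
      eval (e (a : S) j) (scaleRoots (p.map (coord D e A j)) (e (b : S) j)) := by
    intro j
    have : coord D e A j r = eval (coord D e A j a) ((scaleRoots p b).map (coord D e A j)) := by
      rw [hr, Polynomial.eval_map_apply]
    rw [coord_apply, coord_apply] at this
    rw [this, ← coord_apply D e A j b, map_scaleRoots]
    rw [hpmonic.leadingCoeff, map_one]; exact one_ne_zero
  -- divisibility on U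
  have hdiv : ∀ j, e (b : S) j ≠ 0 → e (r : S) j = 0 → e (b : S) j ∣ e (a : S) j := by
    intro j hbj hrj
    rw [hrcoord j] at hrj
    exact dvd_of_eval_scaleRoots (hpmonic.map _) hbj hrj
  choose! t ht using hdiv
  -- the idempotent h
  set fb : A := ⟨suppInd D e b, P1 b b.2⟩ with hfb
  set g : A := ⟨suppInd D e r, P1 r r.2⟩ with hg
  obtain ⟨h, hh⟩ : ∃ h : A, h = fb * (1 - g) := ⟨_, rfl⟩
  have hcoord_h : ∀ j, e (h : S) j = if e (b : S) j ≠ 0 ∧ e (r : S) j = 0 then 1 else 0 := by
    intro j
    have : (h : S) = suppInd D e b * (1 - suppInd D e r) := by rw [hh]; rfl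
    rw [this, map_mul, map_sub, map_one, Pi.mul_apply, Pi.sub_apply, Pi.one_apply, e_suppInd,
      e_suppInd]
    by_cases h1 : e (b : S) j = 0 <;> by_cases h2 : e (r : S) j = 0 <;> simp [h1, h2]
  set s : S := e.symm (fun j => if e (b : S) j ≠ 0 ∧ e (r : S) j = 0 then t j else 0) with hs
  have hcoord_s : ∀ j, e s j = if e (b : S) j ≠ 0 ∧ e (r : S) j = 0 then t j else 0 := by
    intro j; simp [hs]
  have hbhs : ((b * h : A) : S) * s = ((a * h : A) : S) := by
    apply e.injective
    funext j
    simp only [Subalgebra.coe_mul, map_mul, Pi.mul_apply, hcoord_h, hcoord_s]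
    by_cases hj : e (b : S) j ≠ 0 ∧ e (r : S) j = 0
    · rw [if_pos hj, if_pos hj, mul_one, mul_one]
      exact (ht j hj.1 hj.2).symm
    · rw [if_neg hj, if_neg hj]; simp
  have hsupp : s * suppInd D e ((b * h : A) : S) = s := by
    apply e.injective
    funext j
    simp only [Subalgebra.coe_mul, map_mul, Pi.mul_apply, hcoord_h, hcoord_s, e_suppInd]
    by_cases hj : e (b : S) j ≠ 0 ∧ e (r : S) j = 0
    · rw [if_pos hj, if_pos hj, mul_one, if_neg hj.1, mul_one]
    · rw [if_neg hj, zero_mul]
  have hsA : s ∈ A := by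
    apply P2 _ (b * h).2 s hsupp
    rw [hbhs]
    exact (a * h).2
  have hh1 : Ideal.Quotient.mk 𝔭 h = 1 := by
    rw [← sub_eq_zero, ← map_one (Ideal.Quotient.mk 𝔭), ← map_sub, Ideal.Quotient.eq_zero_iff_mem,
      h𝔭, RingHom.mem_ker, map_sub, map_one, coord_apply, hcoord_h, if_pos ⟨hb0, hri⟩, sub_self]
  refine ⟨Ideal.Quotient.mk 𝔭 ⟨s, hsA⟩, ?_⟩
  have h3 : (b * h) * (⟨s, hsA⟩ : A) = a * h := Subtype.ext hbhs
  have h4 : Ideal.Quotient.mk 𝔭 b * Ideal.Quotient.mk 𝔭 ⟨s, hsA⟩ = Ideal.Quotient.mk 𝔭 a := by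
    have := congrArg (Ideal.Quotient.mk 𝔭) h3
    rwa [map_mul, map_mul, map_mul, hh1, mul_one, mul_one] at this
  have hbne : algebraMap E (FractionRing E) (Ideal.Quotient.mk 𝔭 b) ≠ 0 :=
    (map_ne_zero_iff _ hinj).mpr (nonZeroDivisors.ne_zero hb')
  rw [← h4, map_mul]
  exact (mul_div_cancel_left₀ _ hbne).symm

include P1 P2 in
theorem main :
    ∃ (κ : Type u) (_ : Fintype κ) (E : κ → Type u) (_ : ∀ j, CommRing (E j))
      (_ : ∀ j, IsDomain (E j)) (_ : ∀ j, IsIntegrallyClosed (E j)), Nonempty (A ≃+* Π j, E j) := by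
  classical
  let 𝔭 : ι → Ideal A := fun i => RingHom.ker (coord D e A i)
  let κ : Type u := ↥(Set.range 𝔭)
  have hfin : Finite κ := inferInstance
  have hκ : ∀ P : κ, ∃ i, 𝔭 i = P.1 := fun P => P.2
  choose idx hidx using hκ
  have hprime : ∀ P : κ, (P.1).IsPrime := fun P => by
    rw [← hidx P]; exact ker_coord_isPrime D e A _
  have hcop : Pairwise (Function.onFun IsCoprime fun P : κ => P.1) := by
    intro P Q hPQ
    rw [Function.onFun, ← hidx P, ← hidx Q]
    apply isCoprime_ker_coord D e A P1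
    intro h
    apply hPQ
    apply Subtype.ext
    rw [← hidx P, ← hidx Q]
    exact h
  have hinf : (⨅ P : κ, P.1) = ⊥ := by
    rw [eq_bot_iff]
    intro a ha
    rw [Ideal.mem_iInf] at ha
    rw [Ideal.mem_bot]
    apply Subtype.ext
    apply e.injective
    funext i
    have := ha ⟨𝔭 i, i, rfl⟩
    rw [RingHom.mem_ker, coord_apply] at this
    rw [this, ZeroMemClass.coe_zero, map_zero]
    rfl
  have hnorm : ∀ P : κ, @IsIntegrallyClosed (A ⧸ P.1) _ := by
    intro P
    have h1 := isIntegrallyClosed_quot D e A P1 P2 (idx P)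
    have h2 : RingHom.ker (coord D e A (idx P)) = P.1 := hidx P
    rw [h2] at h1
    exact h1
  refine ⟨κ, Fintype.ofFinite κ, fun P => A ⧸ P.1, fun P => inferInstance,
    fun P => by have := hprime P; exact Ideal.Quotient.isDomain P.1, hnorm, ⟨?_⟩⟩
  exact ((RingEquiv.quotientBot A).symm.trans (Ideal.quotEquivOfEq hinf.symm)).trans
    (Ideal.quotientInfRingEquivPiQuotient (fun P : κ => P.1) hcop)

end Main

end Groth.Agent.Lib.Helper25.ProdNormal
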