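import Mathlib
import Groth.Prelude.Def_CInt
import Groth.Agent.S13106
import Groth.Agent.Lib.Helper25.SchDenseFlat

/-!
# helper25 — PseudoMorDesc: fppf descent of the domain of definition of a pseudo-morphism into a separated scheme
(EGA IV 20.3.?), via Mathlib's effective epimorphisms and schematic density of flat preimages
-/

set_option autoImplicit false
set_option linter.unusedVariables false
set_option linter.style.haveILetI false
universe u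
open AlgebraicGeometry CategoryTheory Limits Opposite TopologicalSpace

namespace Groth.Agent.Lib.Helper25.PseudoMorDesc

open Groth.Agent.Lib.Helper25.SchDenseFlat

/-- two morphisms into a separated scheme which agree on a schematically dense open are equal -/
theorem eq_of_eq_on_schDense {Y Z T : Scheme.{u}} (U : Y.Opens) (hU : CInt.IsSchematicallyDense U)
    (z : Z ⟶ T) [IsSeparated z] (v₁ v₂ : Y ⟶ Z) (hz : v₁ ≫ z = v₂ ≫ z) (hUv : U.ι ≫ v₁ = U.ι ≫ v₂) :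
    v₁ = v₂ := by
  have hker := Groth.Agent.S13106.ker_ι_eq_bot U hU
  let Y' : Over T := Over.mk (v₁ ≫ z)
  let Z' : Over T := Over.mk z
  let w₁ : Y' ⟶ Z' := Over.homMk v₁ rfl
  let w₂ : Y' ⟶ Z' := Over.homMk v₂ hz.symm
  have : IsSeparated Z'.hom := ‹IsSeparated z›
  have hcl : IsClosedImmersion (equalizer.ι w₁ w₂).left := inferInstance
  let U' : Over T := Over.mk (U.ι ≫ v₁ ≫ z)
  let uι : U' ⟶ Y' := Over.homMk U.ι rfl
  have hu : uι ≫ w₁ = uι ≫ w₂ := by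
    ext
    exact hUv
  let k : U' ⟶ equalizer w₁ w₂ := equalizer.lift uι hu
  have hk : k.left ≫ (equalizer.ι w₁ w₂).left = U.ι := by
    have := equalizer.lift_ι uι hu
    exact congrArg CommaMorphism.left this
  have hιker : (equalizer.ι w₁ w₂).left.ker = ⊥ := by
    rw [eq_bot_iff, ← hker, ← hk]
    exact Scheme.Hom.le_ker_comp _ _
  have hiso : IsIso (equalizer.ι w₁ w₂).left := IsClosedImmersion.isIso_iff_ker_eq_bot.mpr hιker
  have hcond := congrArg CommaMorphism.left (equalizer.condition w₁ w₂)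
  simp only [Over.comp_left] at hcond
  exact (cancel_epi (equalizer.ι w₁ w₂).left).mp hcond

variable {X X' Y S : Scheme.{u}}

/-- a morphism into `V'` whose image in `X` lies in `U` is compatible with the pseudo-morphism -/
theorem exists_lift_of_range (U : X.Opens) (h : (U : Scheme.{u}) ⟶ Y) (f : X' ⟶ X) (V' : X'.Opens)
    (v' : (V' : Scheme.{u}) ⟶ Y)
    (hv' : X'.homOfLE (inf_le_right : f ⁻¹ᵁ U ⊓ V' ≤ V') ≫ v' =
      X'.homOfLE (inf_le_left : f ⁻¹ᵁ U ⊓ V' ≤ f ⁻¹ᵁ U) ≫ (f ∣_ U) ≫ h)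
    {W : Scheme.{u}} (a : W ⟶ (V' : Scheme.{u})) (ha : ∀ w : W, f (V'.ι (a w)) ∈ U) :
    ∃ b : W ⟶ (U : Scheme.{u}), b ≫ U.ι = a ≫ V'.ι ≫ f ∧ a ≫ v' = b ≫ h := by
  have hrange : Set.range (a ≫ V'.ι) ⊆ Set.range (f ⁻¹ᵁ U ⊓ V').ι := by
    rintro _ ⟨w, rfl⟩
    rw [Scheme.Opens.range_ι]
    refine ⟨ha w, ?_⟩
    rw [Scheme.Hom.comp_apply]
    exact (a w).2
  let l : W ⟶ ((f ⁻¹ᵁ U ⊓ V' : X'.Opens) : Scheme.{u}) :=
    IsOpenImmersion.lift (f ⁻¹ᵁ U ⊓ V').ι (a ≫ V'.ι) hrange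
  have hl : l ≫ (f ⁻¹ᵁ U ⊓ V').ι = a ≫ V'.ι := IsOpenImmersion.lift_fac _ _ _
  have hl2 : l ≫ X'.homOfLE (inf_le_right : f ⁻¹ᵁ U ⊓ V' ≤ V') = a := by
    rw [← cancel_mono V'.ι, Category.assoc, Scheme.homOfLE_ι, hl]
  refine ⟨l ≫ X'.homOfLE (inf_le_left : f ⁻¹ᵁ U ⊓ V' ≤ f ⁻¹ᵁ U) ≫ (f ∣_ U), ?_, ?_⟩
  · rw [Category.assoc, Category.assoc, morphismRestrict_ι, Scheme.homOfLE_ι_assoc, ← Category.assoc, hl,
      Category.assoc]
  · rw [← hl2, Category.assoc, hv']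
    simp only [Category.assoc]

/-- **EGA IV 20.3.?** the domain of definition of a pseudo-morphism into a separated scheme descends along flat
l.f.p. morphisms. -/
theorem extends_nhd (pX : X ⟶ S) (pY : Y ⟶ S)
    [IsSeparated pY] (U : X.Opens) (hU : CInt.IsSchematicallyDense U) (h : (U : Scheme.{u}) ⟶ Y)
    (hh : h ≫ pY = U.ι ≫ pX) (f : X' ⟶ X) [Flat f] [LocallyOfFinitePresentation f] (x' : ↥X')
    (V' : X'.Opens) (hx' : x' ∈ V') (v' : (V' : Scheme.{u}) ⟶ Y) (hv'S : v' ≫ pY = V'.ι ≫ f ≫ pX)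
    (hv' : X'.homOfLE (inf_le_right : f ⁻¹ᵁ U ⊓ V' ≤ V') ≫ v' =
      X'.homOfLE (inf_le_left : f ⁻¹ᵁ U ⊓ V' ≤ f ⁻¹ᵁ U) ≫ (f ∣_ U) ≫ h) :
    ∃ (V : X.Opens) (v : (V : Scheme.{u}) ⟶ Y), f x' ∈ V ∧ v ≫ pY = V.ι ≫ pX ∧
      X.homOfLE (inf_le_right : U ⊓ V ≤ V) ≫ v = X.homOfLE (inf_le_left : U ⊓ V ≤ U) ≫ h := by
  let V : X.Opens := ⟨f '' V', f.isOpenMap _ V'.isOpen⟩
  have hle : V' ≤ f ⁻¹ᵁ V := fun y hy => ⟨y, hy, rfl⟩
  let f₀ : (V' : Scheme.{u}) ⟶ (V : Scheme.{u}) := f.resLE V V' hle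
  have hf₀ι : f₀ ≫ V.ι = V'.ι ≫ f := Scheme.Hom.resLE_comp_ι f hle
  haveI : Flat f₀ := by dsimp only [f₀]; infer_instance
  haveI : LocallyOfFinitePresentation f₀ := by dsimp only [f₀]; infer_instance
  haveI : Surjective f₀ := ⟨by
    rintro ⟨y, x, hx, rfl⟩
    refine ⟨⟨x, hx⟩, ?_⟩
    apply Subtype.ext
    exact Scheme.Hom.coe_resLE_apply f hle ⟨x, hx⟩⟩
  -- the two pullbacks of `v'` agree
  have hP : pullback.fst f₀ f₀ ≫ v' = pullback.snd f₀ f₀ ≫ v' := by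
    let g : pullback f₀ f₀ ⟶ X := pullback.fst f₀ f₀ ≫ f₀ ≫ V.ι
    haveI : Flat g := by dsimp only [g]; infer_instance
    haveI : LocallyOfFinitePresentation g := by dsimp only [g]; infer_instance
    have hg1 : pullback.fst f₀ f₀ ≫ V'.ι ≫ f = g := by
      dsimp only [g]; rw [hf₀ι]
    have hg2 : pullback.snd f₀ f₀ ≫ V'.ι ≫ f = g := by
      dsimp only [g]; rw [← hf₀ι, pullback.condition_assoc]
    have hUP := isSchematicallyDense_preimage_of_flat_lfp g U hU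
    apply eq_of_eq_on_schDense (g ⁻¹ᵁ U) hUP pY
    · have e1 : pullback.fst f₀ f₀ ≫ V'.ι ≫ f ≫ pX = g ≫ pX := by rw [← hg1]; simp only [Category.assoc]
      have e2 : pullback.snd f₀ f₀ ≫ V'.ι ≫ f ≫ pX = g ≫ pX := by rw [← hg2]; simp only [Category.assoc]
      rw [Category.assoc, Category.assoc, hv'S, e1, e2]
    · obtain ⟨b₁, hb₁, hb₁'⟩ := exists_lift_of_range U h f V' v' hv' ((g ⁻¹ᵁ U).ι ≫ pullback.fst f₀ f₀) (by
        intro w
        have : f (V'.ι (((g ⁻¹ᵁ U).ι ≫ pullback.fst f₀ f₀) w)) = g ((g ⁻¹ᵁ U).ι w) := by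
          have := congrArg (fun q : pullback f₀ f₀ ⟶ X => q ((g ⁻¹ᵁ U).ι w)) hg1
          simpa only [Scheme.Hom.comp_apply] using this
        rw [this]
        exact w.2)
      obtain ⟨b₂, hb₂, hb₂'⟩ := exists_lift_of_range U h f V' v' hv' ((g ⁻¹ᵁ U).ι ≫ pullback.snd f₀ f₀) (by
        intro w
        have : f (V'.ι (((g ⁻¹ᵁ U).ι ≫ pullback.snd f₀ f₀) w)) = g ((g ⁻¹ᵁ U).ι w) := by
          have := congrArg (fun q : pullback f₀ f₀ ⟶ X => q ((g ⁻¹ᵁ U).ι w)) hg2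
          simpa only [Scheme.Hom.comp_apply] using this
        rw [this]
        exact w.2)
      have hb : b₁ = b₂ := by
        rw [← cancel_mono U.ι, hb₁, hb₂, Category.assoc, Category.assoc, hg1, hg2]
      rw [← Category.assoc, ← Category.assoc, hb₁', hb₂', hb]
  have hdesc : ∀ {Z : Scheme.{u}} (g₁ g₂ : Z ⟶ (V' : Scheme.{u})), g₁ ≫ f₀ = g₂ ≫ f₀ → g₁ ≫ v' = g₂ ≫ v' := by
    intro Z g₁ g₂ hg
    have h1 : pullback.lift g₁ g₂ hg ≫ pullback.fst f₀ f₀ = g₁ := pullback.lift_fst _ _ _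
    have h2 : pullback.lift g₁ g₂ hg ≫ pullback.snd f₀ f₀ = g₂ := pullback.lift_snd _ _ _
    calc g₁ ≫ v' = (pullback.lift g₁ g₂ hg ≫ pullback.fst f₀ f₀) ≫ v' := by rw [h1]
      _ = (pullback.lift g₁ g₂ hg ≫ pullback.snd f₀ f₀) ≫ v' := by rw [Category.assoc, Category.assoc, hP]
      _ = g₂ ≫ v' := by rw [h2]
  let v : (V : Scheme.{u}) ⟶ Y := EffectiveEpi.desc f₀ v' hdesc
  have hfac : f₀ ≫ v = v' := EffectiveEpi.fac f₀ v' hdesc
  refine ⟨V, v, ⟨x', hx', rfl⟩, ?_, ?_⟩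
  · rw [← cancel_epi f₀, ← Category.assoc, hfac, hv'S, ← Category.assoc, ← hf₀ι, Category.assoc]
  · have hle2 : f ⁻¹ᵁ U ⊓ V' ≤ f ⁻¹ᵁ (U ⊓ V) := fun y hy => ⟨hy.1, y, hy.2, rfl⟩
    let c : ((f ⁻¹ᵁ U ⊓ V' : X'.Opens) : Scheme.{u}) ⟶ ((U ⊓ V : X.Opens) : Scheme.{u}) :=
      f.resLE (U ⊓ V) (f ⁻¹ᵁ U ⊓ V') hle2
    have hcι : c ≫ (U ⊓ V).ι = (f ⁻¹ᵁ U ⊓ V').ι ≫ f := Scheme.Hom.resLE_comp_ι f hle2
    haveI : Flat c := by dsimp only [c]; infer_instance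
    haveI : LocallyOfFinitePresentation c := by dsimp only [c]; infer_instance
    haveI : Surjective c := ⟨by
      rintro ⟨y, hyU, x, hx, rfl⟩
      refine ⟨⟨x, hyU, hx⟩, ?_⟩
      apply Subtype.ext
      exact Scheme.Hom.coe_resLE_apply f hle2 ⟨x, hyU, hx⟩⟩
    haveI : Epi c := inferInstance
    have hc1 : c ≫ X.homOfLE (inf_le_right : U ⊓ V ≤ V) =
        X'.homOfLE (inf_le_right : f ⁻¹ᵁ U ⊓ V' ≤ V') ≫ f₀ := by
      rw [← cancel_mono V.ι, Category.assoc, Category.assoc, Scheme.homOfLE_ι, hcι, hf₀ι,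
        Scheme.homOfLE_ι_assoc]
    have hc2 : c ≫ X.homOfLE (inf_le_left : U ⊓ V ≤ U) =
        X'.homOfLE (inf_le_left : f ⁻¹ᵁ U ⊓ V' ≤ f ⁻¹ᵁ U) ≫ (f ∣_ U) := by
      rw [← cancel_mono U.ι, Category.assoc, Category.assoc, Scheme.homOfLE_ι, hcι, morphismRestrict_ι,
        Scheme.homOfLE_ι_assoc]
    rw [← cancel_epi c, ← Category.assoc, hc1, Category.assoc, hfac, hv', ← Category.assoc, ← hc2,
      Category.assoc]

end Groth.Agent.Lib.Helper25.PseudoMorDesc
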