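import Mathlib
import Groth.Agent.Lib.Helper25.PushComplDT
import Groth.Agent.S1763

/-!
# helper25 — PushComplH1: finiteness of `H^1_I(M)` over a universally catenary Nagata ring under the
codimension-two condition (EGA IV 5.11.1 / SGA2 VIII, affine form)
-/

set_option autoImplicit false
set_option backward.isDefEq.respectTransparency.types false
set_option linter.unusedVariables false
set_option linter.style.haveILetI false
universe u
open AlgebraicGeometry StructureSheaf TopologicalSpace CategoryTheory Opposite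

namespace Groth.Agent.Lib.Helper25.PushCompl

variable {A : Type u} [CommRing A]

/-- heights in `A ⧸ p` from heights in the poset of primes above `p` -/
theorem two_le_height_map_mk (p : PrimeSpectrum A) (I : Ideal A)
    (h : ∀ (q : PrimeSpectrum A) (hpq : p ≤ q), I ≤ q.asIdeal →
      (2 : ℕ∞) ≤ Order.height (⟨q, hpq⟩ : Set.Ici p)) :
    (2 : ℕ∞) ≤ (I.map (Ideal.Quotient.mk p.asIdeal)).height := by
  rw [Ideal.height_eq_inf_minimalPrimes]
  refine le_iInf₂ fun Q hQ => ?_
  haveI : Q.IsPrime := hQ.1.1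
  let q : PrimeSpectrum A := ⟨Q.comap (Ideal.Quotient.mk p.asIdeal), inferInstance⟩
  have hpq : p ≤ q := by
    intro a ha
    show Ideal.Quotient.mk p.asIdeal a ∈ Q
    rw [Ideal.Quotient.eq_zero_iff_mem.2 ha]
    exact Q.zero_mem
  have hIq : I ≤ q.asIdeal := Ideal.map_le_iff_le_comap.1 hQ.1.2
  have h2 := h q hpq hIq
  let g : Set.Ici p → PrimeSpectrum (A ⧸ p.asIdeal) := fun q' =>
    ⟨q'.1.asIdeal.map (Ideal.Quotient.mk p.asIdeal),
      Ideal.map_isPrime_of_surjective Ideal.Quotient.mk_surjective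
        (by rw [Ideal.mk_ker]; exact q'.2)⟩
  have hcm : ∀ q' : Set.Ici p, (q'.1.asIdeal.map (Ideal.Quotient.mk p.asIdeal)).comap
      (Ideal.Quotient.mk p.asIdeal) = q'.1.asIdeal := by
    intro q'
    rw [Ideal.comap_map_of_surjective _ Ideal.Quotient.mk_surjective, ← RingHom.ker_eq_comap_bot,
      Ideal.mk_ker]
    exact sup_eq_left.2 q'.2
  have hg : StrictMono g := by
    intro a b hab
    have hab' : a.1.asIdeal < b.1.asIdeal := hab
    rw [lt_iff_le_not_ge]
    refine ⟨Ideal.map_mono hab'.le, fun hle => ?_⟩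
    have hle' : (g b).asIdeal ≤ (g a).asIdeal := hle
    have := Ideal.comap_mono (f := Ideal.Quotient.mk p.asIdeal) hle'
    rw [hcm b, hcm a] at this
    exact (not_le_of_gt hab') this
  have h3 := Order.height_le_height_apply_of_strictMono g hg ⟨q, hpq⟩
  have hgq : g ⟨q, hpq⟩ = ⟨Q, inferInstance⟩ := by
    apply PrimeSpectrum.ext
    exact Ideal.map_comap_of_surjective _ Ideal.Quotient.mk_surjective Q
  rw [hgq, ← PrimeSpectrum.height_eq_orderHeight] at h3
  exact h2.trans h3

/-- **finiteness of `H^1_I(M)` over a universally catenary Nagata ring** -/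
theorem finite_H1_of_nagata_uc [IsNoetherianRing A] (hN : CAlg.IsNagata A)
    (hU : CAlg.IsUniversallyCatenary A) (I : Ideal A) (M : Type u) [AddCommGroup M] [Module A M]
    [Module.Finite A M]
    (h : ∀ (p q : PrimeSpectrum A) (hpq : p ≤ q), p.asIdeal ∈ associatedPrimes A M →
      ¬ I ≤ p.asIdeal → I ≤ q.asIdeal → (2 : ℕ∞) ≤ Order.height (⟨q, hpq⟩ : Set.Ici p)) :
    Module.Finite A (LocCoh.H I 1 M) := by
  rw [Groth.Agent.S1763.result A I M]
  intro p hp hIp
  haveI : p.IsPrime := hp.1
  apply finite_H1_of_finite_sec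
  rw [← secNoeth_iff_finite, ← isCoherentPushCompl_quot_iff, isCoherentPushCompl_iff]
  haveI : Algebra.FiniteType A (A ⧸ p) :=
    Algebra.FiniteType.of_surjective (Ideal.Quotient.mkₐ A p) Ideal.Quotient.mk_surjective
  have hUC : CAlg.IsUniversallyCatenary (A ⧸ p) :=
    Groth.Agent.Lib.Helper24.EssFTCat.main A (A ⧸ p) hU
  have hN1 : CAlg.IsN1 (A ⧸ p) := (hN.2 p) (FractionRing (A ⧸ p)) inferInstance
  refine finite_sec_of_uc_n1 (A ⧸ p) hUC hN1 _ ?_
  exact two_le_height_map_mk ⟨p, inferInstance⟩ I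
    (fun q hpq hIq => h ⟨p, inferInstance⟩ q hpq hp hIp hIq)

end Groth.Agent.Lib.Helper25.PushCompl
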