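import Mathlib
import Groth.Prelude.Def_FDesc
import Groth.Agent.Lib.Helper7.QuasiFlat
import Groth.Agent.Lib.Helper20.SubtrPC

/-!
# Descent of locally closed pro-constructible sets along quasi-flat quasi-compact surjections
(EGA IV 2.3.12-type) (helper25)
-/

set_option autoImplicit false
set_option linter.unusedSectionVars false
set_option linter.unusedVariables false
universe u

open CategoryTheory AlgebraicGeometry Topology Set

namespace Groth.Agent.Lib.Helper25.QFlatLC

open Groth.Agent.Lib.Helper25.PC Groth.Agent.Lib.Helper20.SubtrPC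

/-- for a generalizing morphism, preimages commute with closures of pro-constructible sets -/
theorem preimage_closure_eq {X Y : Scheme.{u}} (f : X ⟶ Y) (hgen : GeneralizingMap f.base)
    {Z : Set Y} (hZ : ProC Z) : f ⁻¹' closure Z = closure (f ⁻¹' Z) := by
  apply Subset.antisymm
  · intro x hx
    obtain ⟨z, hzZ, hzx⟩ := exists_specializes_of_proC hZ hx
    obtain ⟨x', hx'x, hfx'⟩ := hgen hzx
    have hx'mem : x' ∈ f ⁻¹' Z := by
      show f x' ∈ Z
      rw [hfx']; exact hzZ
    exact hx'x.mem_closed isClosed_closure (subset_closure hx'mem)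
  · exact f.continuous.closure_preimage_subset Z

theorem main {X Y : Scheme.{u}} (f : X ⟶ Y)
    (hf : FDesc.IsQuasiFlat f) [Surjective f] [QuasiCompact f] (Z : Set ↥Y) :
    (IsLocallyClosed Z ∧ ProCons.IsProConstructible Z) ↔
      (IsLocallyClosed (⇑f ⁻¹' Z) ∧ ProCons.IsProConstructible (⇑f ⁻¹' Z)) := by
  have hgen := Groth.Agent.Lib.Helper7.QuasiFlat.generalizingMap f hf
  have hq := Groth.Agent.Lib.Helper7.QuasiFlat.isQuotientMap f hf
  constructor
  · rintro ⟨h1, h2⟩
    exact ⟨h1.preimage f.continuous, (isPro_iff X).mpr (ProC.preimage f ((isPro_iff Y).mp h2))⟩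
  · rintro ⟨h1, h2⟩
    have hpro : ProC Z := (proC_preimage_iff f (Or.inl inferInstance)).mp ((isPro_iff X).mp h2)
    refine ⟨?_, (isPro_iff Y).mpr hpro⟩
    rw [isLocallyClosed_iff_isOpen_coborder] at h1 ⊢
    rw [← hq.isOpen_preimage]
    have : (f : X → Y) ⁻¹' coborder Z = coborder (f ⁻¹' Z) := by
      unfold coborder
      rw [preimage_compl, preimage_sdiff, preimage_closure_eq f hgen hpro]
    rw [this]
    exact h1

end Groth.Agent.Lib.Helper25.QFlatLC
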