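/-
Explicit formulas for the coefficient `1` of sums and products of Witt vectors (helper25), and
their consequences for `W₂(R) = TruncatedWittVector p 2 R`, in particular when `R` has
characteristic `p`.
-/
import Mathlib
import Groth.Prelude.Def_W4c1liftfrobW2

set_option autoImplicit false
set_option linter.unusedSectionVars false
set_option linter.style.haveILetI false
universe u v

namespace Groth.Agent.Lib.Helper25.W2Coeff

open Finset MvPolynomial WittVector

/-- the polynomial `((x+y)^p - x^p - y^p)/p` -/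
def QQ (p : ℕ) {R : Type*} [CommRing R] (x y : R) : R :=
  ∑ i ∈ Ioo 0 p, x ^ i * y ^ (p - i) * ((p.choose i / p : ℕ) : R)

lemma add_pow_eq (p : ℕ) [hp : Fact p.Prime] {R : Type*} [CommRing R] (x y : R) :
    (x + y) ^ p = x ^ p + y ^ p + (p : R) * QQ p x y :=
  add_pow_prime_eq' hp.out x y

lemma map_QQ (p : ℕ) {R S : Type*} [CommRing R] [CommRing S] (f : R →+* S) (x y : R) :
    f (QQ p x y) = QQ p (f x) (f y) := by
  simp [QQ, map_sum]

variable (p : ℕ) [hp : Fact p.Prime]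

theorem wittAdd_one :
    wittAdd p 1 = X (0, 1) + X (1, 1) - QQ p (X (0, 0)) (X (1, 0)) := by
  have h := wittStructureInt_prop p (X 0 + X 1 : MvPolynomial (Fin 2) ℤ) 1
  have hC : (C (p : ℤ) : MvPolynomial (Fin 2 × ℕ) ℤ) ≠ 0 := by
    rw [Ne, C_eq_zero]
    exact_mod_cast hp.out.ne_zero
  apply mul_left_cancel₀ hC
  rw [wittPolynomial_one] at h
  simp only [map_add, map_mul, map_pow, bind₁_X_right, rename_X,
    algHom_C, algebraMap_eq] at h
  have h0 : wittStructureInt p (X 0 + X 1 : MvPolynomial (Fin 2) ℤ) 0 = X (0, 0) + X (1, 0) :=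
    wittAdd_zero p
  have h1 : wittStructureInt p (X 0 + X 1 : MvPolynomial (Fin 2) ℤ) 1 = wittAdd p 1 := rfl
  rw [h0, h1, add_pow_eq p] at h
  have hp' : (C (p : ℤ) : MvPolynomial (Fin 2 × ℕ) ℤ) = (p : MvPolynomial (Fin 2 × ℕ) ℤ) := by
    simp
  rw [hp'] at h ⊢
  linear_combination h

theorem wittMul_one :
    wittMul p 1 = X (0, 0) ^ p * X (1, 1) + X (1, 0) ^ p * X (0, 1) +
      (p : MvPolynomial (Fin 2 × ℕ) ℤ) * X (0, 1) * X (1, 1) := by
  have h := wittStructureInt_prop p (X 0 * X 1 : MvPolynomial (Fin 2) ℤ) 1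
  have hC : (C (p : ℤ) : MvPolynomial (Fin 2 × ℕ) ℤ) ≠ 0 := by
    rw [Ne, C_eq_zero]
    exact_mod_cast hp.out.ne_zero
  apply mul_left_cancel₀ hC
  rw [wittPolynomial_one] at h
  simp only [map_add, map_mul, map_pow, bind₁_X_right, rename_X,
    algHom_C, algebraMap_eq] at h
  have h0 : wittStructureInt p (X 0 * X 1 : MvPolynomial (Fin 2) ℤ) 0 = X (0, 0) * X (1, 0) :=
    wittMul_zero p
  have h1 : wittStructureInt p (X 0 * X 1 : MvPolynomial (Fin 2) ℤ) 1 = wittMul p 1 := rfl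
  rw [h0, h1] at h
  have hp' : (C (p : ℤ) : MvPolynomial (Fin 2 × ℕ) ℤ) = (p : MvPolynomial (Fin 2 × ℕ) ℤ) := by
    simp
  rw [hp'] at h ⊢
  linear_combination h

section Witt

variable {p} {R : Type u} [CommRing R]

theorem add_coeff_one (x y : WittVector p R) :
    (x + y).coeff 1 = x.coeff 1 + y.coeff 1 - QQ p (x.coeff 0) (y.coeff 0) := by
  have hq := map_QQ p ((aeval (Function.uncurry ![x.coeff, y.coeff]) :
    MvPolynomial (Fin 2 × ℕ) ℤ →ₐ[ℤ] R) : MvPolynomial (Fin 2 × ℕ) ℤ →+* R) (X (0, 0)) (X (1, 0))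
  rw [RingHom.coe_coe] at hq
  rw [WittVector.add_coeff, wittAdd_one, WittVector.peval, map_sub, map_add, hq]
  simp [Function.uncurry]

theorem mul_coeff_one (x y : WittVector p R) :
    (x * y).coeff 1 = x.coeff 0 ^ p * y.coeff 1 + y.coeff 0 ^ p * x.coeff 1 +
      (p : R) * x.coeff 1 * y.coeff 1 := by
  rw [WittVector.mul_coeff, wittMul_one, WittVector.peval]
  simp [Function.uncurry]

end Witt

section Trunc

variable {p} {R : Type u} [CommRing R]

theorem w2_ext {x y : FrobAlg.W2 p R} (h0 : x.coeff 0 = y.coeff 0) (h1 : x.coeff 1 = y.coeff 1) :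
    x = y := by
  ext i
  fin_cases i
  · exact h0
  · exact h1

theorem w2_add_coeff_zero (x y : FrobAlg.W2 p R) : (x + y).coeff 0 = x.coeff 0 + y.coeff 0 := by
  rw [← FrobAlg.res_apply, map_add, FrobAlg.res_apply, FrobAlg.res_apply]

theorem w2_mul_coeff_zero (x y : FrobAlg.W2 p R) : (x * y).coeff 0 = x.coeff 0 * y.coeff 0 := by
  rw [← FrobAlg.res_apply, map_mul, FrobAlg.res_apply, FrobAlg.res_apply]

theorem w2_pow_coeff_zero (x : FrobAlg.W2 p R) (n : ℕ) : (x ^ n).coeff 0 = x.coeff 0 ^ n := by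
  rw [← FrobAlg.res_apply, map_pow, FrobAlg.res_apply]

theorem w2_add_coeff_one (x y : FrobAlg.W2 p R) :
    (x + y).coeff 1 = x.coeff 1 + y.coeff 1 - QQ p (x.coeff 0) (y.coeff 0) := by
  obtain ⟨X, rfl⟩ := WittVector.truncate_surjective p 2 R x
  obtain ⟨Y, rfl⟩ := WittVector.truncate_surjective p 2 R y
  rw [← map_add]
  simp only [WittVector.coeff_truncate]
  exact add_coeff_one X Y

theorem w2_mul_coeff_one (x y : FrobAlg.W2 p R) :
    (x * y).coeff 1 = x.coeff 0 ^ p * y.coeff 1 + y.coeff 0 ^ p * x.coeff 1 +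
      (p : R) * x.coeff 1 * y.coeff 1 := by
  obtain ⟨X, rfl⟩ := WittVector.truncate_surjective p 2 R x
  obtain ⟨Y, rfl⟩ := WittVector.truncate_surjective p 2 R y
  rw [← map_mul]
  simp only [WittVector.coeff_truncate]
  exact mul_coeff_one X Y

theorem w2_one_coeff_zero : (1 : FrobAlg.W2 p R).coeff 0 = 1 := by
  rw [← FrobAlg.res_apply, map_one]

theorem w2_one_coeff_one : (1 : FrobAlg.W2 p R).coeff 1 = 0 := by
  rw [← map_one (WittVector.truncate (p := p) (R := R) 2), WittVector.coeff_truncate]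
  exact WittVector.one_coeff_eq_of_pos p R 1 one_pos

theorem w2_zero_coeff (i : Fin 2) : (0 : FrobAlg.W2 p R).coeff i = 0 :=
  TruncatedWittVector.coeff_zero p 2 R i

lemma QQ_zero_right (x : R) : QQ p x 0 = 0 := by
  unfold QQ
  apply Finset.sum_eq_zero
  intro i hi
  rw [Finset.mem_Ioo] at hi
  rw [zero_pow (by omega), mul_zero, zero_mul]

lemma QQ_zero_left (x : R) : QQ p 0 x = 0 := by
  unfold QQ
  apply Finset.sum_eq_zero
  intro i hi
  rw [Finset.mem_Ioo] at hi
  rw [zero_pow (by omega), zero_mul, zero_mul]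

end Trunc

section CharP

variable {p} {R : Type u} [CommRing R] [CharP R p]

theorem w2_mul_coeff_one' (x y : FrobAlg.W2 p R) :
    (x * y).coeff 1 = x.coeff 0 ^ p * y.coeff 1 + y.coeff 0 ^ p * x.coeff 1 := by
  rw [w2_mul_coeff_one, CharP.cast_eq_zero, zero_mul, zero_mul, add_zero]

theorem w2_p_coeff_zero : ((p : ℕ) : FrobAlg.W2 p R).coeff 0 = 0 := by
  rw [← FrobAlg.res_apply, map_natCast, CharP.cast_eq_zero]

theorem w2_p_coeff_one : ((p : ℕ) : FrobAlg.W2 p R).coeff 1 = 1 := by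
  rw [← map_natCast (WittVector.truncate (p := p) (R := R) 2), WittVector.coeff_truncate]
  exact WittVector.coeff_p_one p R

theorem w2_p_mul_coeff_zero (z : FrobAlg.W2 p R) : ((p : FrobAlg.W2 p R) * z).coeff 0 = 0 := by
  rw [w2_mul_coeff_zero, w2_p_coeff_zero, zero_mul]

theorem w2_p_mul_coeff_one (z : FrobAlg.W2 p R) :
    ((p : FrobAlg.W2 p R) * z).coeff 1 = z.coeff 0 ^ p := by
  rw [w2_mul_coeff_one', w2_p_coeff_zero, w2_p_coeff_one, zero_pow hp.out.ne_zero, zero_mul,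
    zero_add, mul_one]

theorem w2_pow_succ_coeff_one (x : FrobAlg.W2 p R) (n : ℕ) :
    (x ^ (n + 1)).coeff 1 = ((n + 1 : ℕ) : R) * x.coeff 0 ^ (p * n) * x.coeff 1 := by
  induction n with
  | zero => simp
  | succ n ih =>
    rw [pow_succ, w2_mul_coeff_one', ih, w2_pow_coeff_zero]
    push_cast
    ring

theorem w2_pow_p_coeff_one (x : FrobAlg.W2 p R) : (x ^ p).coeff 1 = 0 := by
  obtain ⟨n, hn⟩ : ∃ n, p = n + 1 := ⟨p - 1, (Nat.succ_pred_eq_of_pos hp.out.pos).symm⟩
  have h := w2_pow_succ_coeff_one x n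
  rw [← hn, CharP.cast_eq_zero, zero_mul, zero_mul] at h
  exact h

/-- the Frobenius of `W₂(R)` is `w ↦ w ^ p + p * w'` for any `w'` with zeroth component `w₁` -/
theorem w2_frob_eq (x x' : FrobAlg.W2 p R) (h : x'.coeff 0 = x.coeff 1) :
    WittGrp.frob p 2 (CharP.cast_eq_zero R p) x = x ^ p + (p : FrobAlg.W2 p R) * x' := by
  apply w2_ext
  · rw [WittGrp.coeff_frob, w2_add_coeff_zero, w2_pow_coeff_zero, w2_p_mul_coeff_zero, add_zero]
  · rw [WittGrp.coeff_frob, w2_add_coeff_one, w2_pow_p_coeff_one, w2_p_mul_coeff_one,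
      w2_p_mul_coeff_zero, QQ_zero_right, h, zero_add, sub_zero]

end CharP

end Groth.Agent.Lib.Helper25.W2Coeff
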