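/-
The obstruction polynomial for lifting the truncated quadric cone (helper25).

`P = k[x_i, y_i : i < n]` (variables indexed by `Fin n × Fin 2`), `u j = x_j y_j`,
`Hn = ∑_{j<n} QQ (u_0 + ⋯ + u_{j-1}) (u_j)`, so that `(∑ u_j)^p = ∑ u_j^p + p Hn` over any lift.
Main result `core`: for `n ≥ 3` and `c : k`, `Hn + c ∉ (∑ x_i y_i, x_v^p)`.
-/
import Mathlib
import Groth.Agent.Lib.Helper25.W2Coeff

set_option autoImplicit false
set_option linter.unusedSectionVars false
set_option linter.style.haveILetI false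
universe u

namespace Groth.Agent.Lib.Helper25.QuadricCore

open MvPolynomial Finset
open Groth.Agent.Lib.Helper25.W2Coeff

section General

variable (p : ℕ) [hp : Fact p.Prime] {R : Type*} [CommRing R]

/-- `(∑_{j<m} U_j)^p = ∑ U_j^p + p ∑_j QQ (∑_{i<j} U_i) (U_j)` -/
theorem sum_pow_eq (U : ℕ → R) (m : ℕ) :
    (∑ j ∈ range m, U j) ^ p = ∑ j ∈ range m, U j ^ p +
      (p : R) * ∑ j ∈ range m, QQ p (∑ i ∈ range j, U i) (U j) := by
  induction m with
  | zero => simp [zero_pow hp.out.ne_zero]
  | succ m ih =>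
    rw [sum_range_succ, add_pow_eq p, ih, sum_range_succ, sum_range_succ]
    ring

end General

section Poly

variable (p : ℕ) [hp : Fact p.Prime] (k : Type u) [Field k] [CharP k p] (n : ℕ)

/-- `u j = x_j y_j` for `j < n`, zero otherwise -/
noncomputable def uu (j : ℕ) : MvPolynomial (Fin n × Fin 2) k :=
  if h : j < n then X (⟨j, h⟩, 0) * X (⟨j, h⟩, 1) else 0

/-- the obstruction polynomial -/
noncomputable def Hn : MvPolynomial (Fin n × Fin 2) k :=
  ∑ j ∈ range n, QQ p (∑ i ∈ range j, uu k n i) (uu k n j)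

theorem q_eq : (∑ i : Fin n, X (i, (0 : Fin 2)) * X (i, (1 : Fin 2)) :
    MvPolynomial (Fin n × Fin 2) k) = ∑ j ∈ range n, uu k n j := by
  rw [← Fin.sum_univ_eq_sum_range]
  apply Finset.sum_congr rfl
  intro i _
  rw [uu, dif_pos i.2]

/-- the monomial ideal `(x_v^p)` -/
noncomputable def Jm : Ideal (MvPolynomial (Fin n × Fin 2) k) :=
  Ideal.span (Set.range fun v : Fin n × Fin 2 => (X v : MvPolynomial (Fin n × Fin 2) k) ^ p)

/-- the ideal `(q, x_v^p)` -/
noncomputable def II : Ideal (MvPolynomial (Fin n × Fin 2) k) :=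
  Ideal.span (insert (∑ i : Fin n, X (i, (0 : Fin 2)) * X (i, (1 : Fin 2)))
    (Set.range fun v : Fin n × Fin 2 => (X v : MvPolynomial (Fin n × Fin 2) k) ^ p))

end Poly

section Laurent


variable {p : ℕ} [hp : Fact p.Prime] {k : Type u} [Field k] [CharP k p] {n : ℕ}

local notation "PP" => MvPolynomial (Fin n × Fin 2) k
local notation "T0" => (MvPolynomial (Fin n × Fin 2) k ⧸ Jm p k n)

/-- class of `-(u_0 + u_1)` modulo the monomial ideal -/
noncomputable def ss : T0 := Ideal.Quotient.mk (Jm p k n) (-(uu k n 0 + uu k n 1))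

variable (p k n) in
/-- images of the variables in the Laurent polynomial ring -/
noncomputable def gg (v : Fin n × Fin 2) : LaurentPolynomial T0 :=
  if v.1.val < 2 then LaurentPolynomial.C (Ideal.Quotient.mk (Jm p k n) (X v))
  else if v.1.val = 2 then (if v.2 = 0 then LaurentPolynomial.T 1 else LaurentPolynomial.C (ss : T0) * LaurentPolynomial.T (-1))
  else 0

variable (p k n) in
noncomputable def psi : PP →ₐ[k] LaurentPolynomial T0 := aeval (gg p k n)

lemma X_pow_mem_Jm (v : Fin n × Fin 2) : (X v : PP) ^ p ∈ Jm p k n :=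
  Ideal.subset_span ⟨v, rfl⟩

lemma uu_pow_mem_Jm (j : ℕ) : (uu k n j) ^ p ∈ Jm p k n := by
  unfold uu
  split_ifs with h
  · rw [mul_pow]
    exact Ideal.mul_mem_right _ _ (X_pow_mem_Jm _)
  · rw [zero_pow hp.out.ne_zero]
    exact Ideal.zero_mem _

lemma ss_pow : (ss : T0) ^ p = 0 := by
  unfold ss
  rw [← map_pow, neg_pow, add_pow_char, Ideal.Quotient.eq_zero_iff_mem]
  exact Ideal.mul_mem_left _ _ (Ideal.add_mem _ (uu_pow_mem_Jm 0) (uu_pow_mem_Jm 1))

lemma psi_X (v : Fin n × Fin 2) : psi p k n (X v) = gg p k n v := by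
  unfold psi
  rw [aeval_X]

lemma psi_uu_of_lt (j : ℕ) (hj : j < 2) (hn : j < n) :
    psi p k n (uu k n j) = LaurentPolynomial.C (Ideal.Quotient.mk (Jm p k n) (uu k n j)) := by
  unfold uu
  rw [dif_pos hn, map_mul, psi_X, psi_X, gg, gg, if_pos (by simpa using hj),
    if_pos (by simpa using hj), ← map_mul, ← map_mul]

lemma psi_uu_two (hn : 2 < n) : psi p k n (uu k n 2) = LaurentPolynomial.C (ss : T0) := by
  unfold uu
  rw [dif_pos hn, map_mul, psi_X, psi_X, gg, gg]
  simp only [lt_self_iff_false, if_false, if_true]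
  rw [if_neg (by decide), LaurentPolynomial.T_mul, LaurentPolynomial.mul_T_assoc]
  simp

lemma psi_uu_of_ge (j : ℕ) (hj : 3 ≤ j) : psi p k n (uu k n j) = 0 := by
  unfold uu
  split_ifs with h
  · rw [map_mul, psi_X, gg, if_neg (by simp; omega), if_neg (by simp; omega), zero_mul]
  · exact map_zero _

lemma psi_q (hn : 3 ≤ n) :
    psi p k n (∑ i : Fin n, X (i, (0 : Fin 2)) * X (i, (1 : Fin 2))) = 0 := by
  rw [q_eq, map_sum, ← Finset.sum_subset (Finset.range_subset_range.2 hn)
    (fun j _ hj => psi_uu_of_ge j (by simpa using hj))]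
  rw [sum_range_succ, sum_range_succ, sum_range_one, psi_uu_of_lt 0 (by omega) (by omega),
    psi_uu_of_lt 1 (by omega) (by omega), psi_uu_two (by omega), ss]
  simp only [← map_add]
  rw [add_neg_cancel, map_zero, map_zero]

lemma coeff_mul_C (x : LaurentPolynomial T0) (t : T0) (h : ℤ) :
    (x * LaurentPolynomial.C t).coeff h = x.coeff h * t := by
  rw [← LaurentPolynomial.single_eq_C]
  exact AddMonoidAlgebra.coeff_mul_single_zero x t h

lemma coeff_mul_T (x : LaurentPolynomial T0) (m h : ℤ) :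
    (x * LaurentPolynomial.T m).coeff h = x.coeff (h - m) := by
  unfold LaurentPolynomial.T
  rw [AddMonoidAlgebra.coeff_mul_single_apply, mul_one, sub_eq_add_neg]

lemma span_pow_succ_le (b : ℕ) :
    Ideal.span {(ss : T0) ^ (b + 1)} ≤ Ideal.span {(ss : T0) ^ b} := by
  rw [Ideal.span_le, Set.singleton_subset_iff, pow_succ]
  exact Ideal.mul_mem_right _ _ (Ideal.mem_span_singleton_self _)

lemma psi_coeff_neg (f : PP) :
    ∀ b : ℕ, (psi p k n f).coeff (-(b : ℤ)) ∈ Ideal.span {(ss : T0) ^ b} := by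
  induction f using MvPolynomial.induction_on with
  | C a =>
    intro b
    rw [psi, aeval_C, LaurentPolynomial.algebraMap_apply, LaurentPolynomial.C_apply]
    split_ifs with h
    · have hb : b = 0 := by omega
      subst hb
      rw [pow_zero, Ideal.span_singleton_one]
      exact Submodule.mem_top
    · exact Ideal.zero_mem _
  | add f g hf hg =>
    intro b
    rw [map_add, AddMonoidAlgebra.coeff_add]
    exact Ideal.add_mem _ (hf b) (hg b)
  | mul_X f v hf =>
    intro b
    rw [map_mul, psi_X, gg]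
    split_ifs with h1 h2 h3
    · rw [coeff_mul_C]
      exact Ideal.mul_mem_right _ _ (hf b)
    · rw [coeff_mul_T]
      have := span_pow_succ_le (p := p) (k := k) (n := n) b (hf (b + 1))
      have e : -((b + 1 : ℕ) : ℤ) = -(b : ℤ) - 1 := by push_cast; ring
      rwa [e] at this
    · rw [← mul_assoc, coeff_mul_T, coeff_mul_C]
      rcases b with _ | b
      · rw [pow_zero, Ideal.span_singleton_one]
        exact Submodule.mem_top
      · have e : -((b + 1 : ℕ) : ℤ) - -1 = -(b : ℤ) := by push_cast; ring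
        rw [e, pow_succ]
        exact Ideal.mem_span_singleton.2 (mul_dvd_mul_right (Ideal.mem_span_singleton.1 (hf b)) _)
    · rw [mul_zero]
      exact Ideal.zero_mem _

lemma gg_pow_of_ne (v : Fin n × Fin 2) (hv : ¬ (v.1.val = 2 ∧ v.2 = 0)) :
    gg p k n v ^ p = 0 := by
  rw [gg]
  split_ifs with h1 h2 h3
  · rw [← map_pow, ← map_pow, Ideal.Quotient.eq_zero_iff_mem.2 (X_pow_mem_Jm v), map_zero]
  · exact absurd ⟨h2, h3⟩ hv
  · rw [← LaurentPolynomial.single_eq_C_mul_T, AddMonoidAlgebra.single_pow, ss_pow,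
      AddMonoidAlgebra.single_zero]
  · exact zero_pow hp.out.ne_zero

lemma coeff_zero_psi_mul_of_mem (hn : 3 ≤ n) {f : PP} (hf : f ∈ II p k n) :
    ∀ g : PP, (psi p k n (g * f)).coeff 0 = 0 := by
  unfold II at hf
  induction hf using Submodule.span_induction with
  | mem f hf =>
    intro g
    rcases hf with rfl | ⟨v, rfl⟩
    · rw [map_mul, psi_q hn, mul_zero, AddMonoidAlgebra.coeff_zero, Finsupp.zero_apply]
    · rw [map_mul, map_pow, psi_X]
      by_cases hv : v.1.val = 2 ∧ v.2 = 0
      · rw [gg, if_neg (by omega), if_pos hv.1, if_pos hv.2, LaurentPolynomial.T_pow, coeff_mul_T]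
        have := psi_coeff_neg (p := p) g p
        rw [ss_pow, Ideal.span_singleton_eq_bot.2 rfl, Ideal.mem_bot] at this
        rw [← this]
        congr 1
        ring
      · rw [gg_pow_of_ne v hv, mul_zero, AddMonoidAlgebra.coeff_zero, Finsupp.zero_apply]
  | zero =>
    intro g
    simp
  | add f f' _ _ hf hf' =>
    intro g
    rw [mul_add, map_add, AddMonoidAlgebra.coeff_add, Finsupp.add_apply, hf g, hf' g, add_zero]
  | smul a f _ hf =>
    intro g
    rw [smul_eq_mul, ← mul_assoc]
    exact hf (g * a)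

lemma QQ_neg_self_mem (a : PP) (ha : a ^ p ∈ Jm p k n) : QQ p a (-a) ∈ Jm p k n := by
  unfold QQ
  apply Ideal.sum_mem
  intro i hi
  rw [Finset.mem_Ioo] at hi
  have e : a ^ i * (-a) ^ (p - i) * ((p.choose i / p : ℕ) : PP) =
      ((-1) ^ (p - i) * ((p.choose i / p : ℕ) : PP)) * a ^ p := by
    have : a ^ p = a ^ i * a ^ (p - i) := by
      rw [← pow_add, Nat.add_sub_cancel' hi.2.le]
    rw [this, neg_pow]
    ring
  rw [e]
  exact Ideal.mul_mem_left _ _ ha

lemma psi_Hn (hn : 3 ≤ n) : psi p k n (Hn p k n) =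
    LaurentPolynomial.C (Ideal.Quotient.mk (Jm p k n) (QQ p (uu k n 0) (uu k n 1))) := by
  have hmap : ∀ a b : PP, psi p k n (QQ p a b) = QQ p (psi p k n a) (psi p k n b) := by
    intro a b
    unfold QQ
    rw [map_sum]
    apply Finset.sum_congr rfl
    intro i _
    rw [map_mul, map_mul, map_pow, map_pow, map_natCast]
  have hmapC : ∀ a b : T0, (LaurentPolynomial.C (QQ p a b) : LaurentPolynomial T0) =
      QQ p (LaurentPolynomial.C a) (LaurentPolynomial.C b) := by
    intro a b
    unfold QQ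
    rw [map_sum]
    apply Finset.sum_congr rfl
    intro i _
    rw [map_mul, map_mul, map_pow, map_pow, map_natCast]
  unfold Hn
  rw [map_sum]
  simp_rw [hmap, map_sum]
  rw [← Finset.sum_subset (Finset.range_subset_range.2 hn)
    (fun j _ hj => by rw [psi_uu_of_ge j (by simpa using hj), QQ_zero_right])]
  rw [sum_range_succ, sum_range_succ, sum_range_one, sum_range_zero, QQ_zero_left, zero_add,
    sum_range_one, sum_range_succ, sum_range_one, psi_uu_of_lt 0 (by omega) (by omega),
    psi_uu_of_lt 1 (by omega) (by omega), psi_uu_two (by omega), ss, ← map_add, ← map_add,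
    ← hmapC, ← hmapC,
    ← map_QQ p (Ideal.Quotient.mk (Jm p k n)), ← map_QQ p (Ideal.Quotient.mk (Jm p k n)),
    Ideal.Quotient.eq_zero_iff_mem.2 (QQ_neg_self_mem (uu k n 0 + uu k n 1) ?_), map_zero,
    add_zero]
  rw [add_pow_char]
  exact Ideal.add_mem _ (uu_pow_mem_Jm 0) (uu_pow_mem_Jm 1)

lemma QQ_add_C_not_mem (hn : 2 ≤ n) (c : k) :
    QQ p (uu k n 0) (uu k n 1) + MvPolynomial.C c ∉ Jm p k n := by
  intro hmem
  have hp2 : 2 ≤ p := hp.out.two_le
  have h0 : 0 < n := by omega
  have h1 : 1 < n := by omega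
  set a0 : Fin n × Fin 2 := (⟨0, h0⟩, 0) with ha0
  set b0 : Fin n × Fin 2 := (⟨0, h0⟩, 1) with hb0
  set a1 : Fin n × Fin 2 := (⟨1, h1⟩, 0) with ha1
  set b1 : Fin n × Fin 2 := (⟨1, h1⟩, 1) with hb1
  have hJ : Jm p k n = Ideal.span ((fun s => monomial s (1 : k)) ''
      (Set.range fun v : Fin n × Fin 2 => Finsupp.single v p)) := by
    unfold Jm
    congr 1
    ext f
    simp only [Set.mem_range, Set.mem_image, exists_exists_eq_and, X_pow_eq_monomial]
  rw [hJ, mem_ideal_span_monomial_image] at hmem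
  -- the exponent vector of `u_0 * u_1^(p-1)`
  let e0 : (Fin n × Fin 2) →₀ ℕ := Finsupp.single a0 1 + Finsupp.single b0 1
  let e1 : (Fin n × Fin 2) →₀ ℕ := Finsupp.single a1 1 + Finsupp.single b1 1
  have hu0 : uu k n 0 = monomial e0 1 := by
    rw [uu, dif_pos h0, X, X, monomial_mul, one_mul]
  have hu1 : uu k n 1 = monomial e1 1 := by
    rw [uu, dif_pos h1, X, X, monomial_mul, one_mul]
  have hab : a0 ≠ a1 := by simp [ha0, ha1]
  have hab' : a0 ≠ b1 := by simp [ha0, hb1]
  have hab0 : a0 ≠ b0 := by simp [ha0, hb0]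
  have he0 : e0 a0 = 1 := by
    simp [e0, hab0.symm]
  have he1 : e1 a0 = 0 := by
    simp [e1, hab.symm, hab'.symm]
  set m0 : (Fin n × Fin 2) →₀ ℕ := 1 • e0 + (p - 1) • e1 with hm0
  have hcoef : coeff m0 (QQ p (uu k n 0) (uu k n 1) + MvPolynomial.C c) = 1 := by
    have hterm : ∀ i, (uu k n 0) ^ i * (uu k n 1) ^ (p - i) * ((p.choose i / p : ℕ) : PP) =
        monomial (i • e0 + (p - i) • e1) ((p.choose i / p : ℕ) : k) := by
      intro i
      rw [hu0, hu1, monomial_pow, monomial_pow, monomial_mul, one_pow, one_pow, one_mul,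
        ← C_eq_coe_nat, mul_comm, C_mul_monomial, mul_one]
    rw [coeff_add, coeff_C, if_neg, add_zero, QQ, coeff_sum]
    · rw [Finset.sum_eq_single 1]
      · rw [hterm, coeff_monomial, if_pos rfl, Nat.choose_one_right, Nat.div_self hp.out.pos,
          Nat.cast_one]
      · intro i _ hi
        rw [hterm, coeff_monomial, if_neg]
        intro heq
        have := congrArg (fun f => f a0) heq
        simp only [hm0, Finsupp.add_apply, Finsupp.smul_apply, he0, he1, smul_eq_mul, mul_one,
          mul_zero, add_zero] at this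
        exact hi this
      · intro h1p
        exact absurd (Finset.mem_Ioo.2 ⟨one_pos, hp2⟩) h1p
    · intro heq
      have := congrArg (fun f => f a0) heq
      simp only [hm0, Finsupp.add_apply, Finsupp.smul_apply, he0, he1, smul_eq_mul, mul_one,
        mul_zero, add_zero, Finsupp.zero_apply] at this
      exact one_ne_zero this.symm
  have hsupp : m0 ∈ (QQ p (uu k n 0) (uu k n 1) + MvPolynomial.C c).support := by
    rw [mem_support_iff, hcoef]
    exact one_ne_zero
  obtain ⟨si, ⟨v, rfl⟩, hle⟩ := hmem m0 hsupp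
  have hv := hle v
  rw [Finsupp.single_eq_same] at hv
  have hbound : m0 v ≤ p - 1 := by
    simp only [hm0, e0, e1, Finsupp.add_apply, Finsupp.smul_apply, smul_eq_mul,
      Finsupp.single_apply]
    have d1 : a0 ≠ a1 := hab
    have d2 : a0 ≠ b1 := hab'
    have d3 : a0 ≠ b0 := hab0
    have d4 : b0 ≠ a1 := by simp [hb0, ha1]
    have d5 : b0 ≠ b1 := by simp [hb0, hb1]
    have d6 : a1 ≠ b1 := by simp [ha1, hb1]
    by_cases c1 : a0 = v
    · subst c1
      simp [d1.symm, d2.symm, d3.symm]
      omega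
    by_cases c2 : b0 = v
    · subst c2
      simp [d3, d4.symm, d5.symm]
      omega
    by_cases c3 : a1 = v
    · subst c3
      simp [d1, d4, d6.symm]
    by_cases c4 : b1 = v
    · subst c4
      simp [d2, d5, d6]
    simp [c1, c2, c3, c4]
  omega

variable (p k n) in
/-- the obstruction polynomial plus any constant is not in the ideal `(q, x_v^p)`, `n ≥ 3` -/
theorem core (hn : 3 ≤ n) (c : k) : Hn p k n + MvPolynomial.C c ∉ II p k n := by
  intro hmem
  have h := coeff_zero_psi_mul_of_mem hn hmem 1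
  have hC : psi p k n (MvPolynomial.C c) =
      LaurentPolynomial.C (Ideal.Quotient.mk (Jm p k n) (MvPolynomial.C c)) := by
    rw [psi, aeval_C, LaurentPolynomial.algebraMap_apply]
    rfl
  rw [one_mul, map_add, psi_Hn hn, hC, ← map_add, ← map_add, LaurentPolynomial.C_apply,
    if_pos rfl, Ideal.Quotient.eq_zero_iff_mem] at h
  exact QQ_add_C_not_mem (by omega) c h

end Laurent

end Groth.Agent.Lib.Helper25.QuadricCore
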