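import Mathlib
import Groth.Prelude.Def_W4c2gaugesfzipsQuiet

/-!
# Root towers (`Quiet.IsRootTower`): transport, composition, base change
-/

set_option autoImplicit false
set_option linter.unusedSectionVars false
set_option linter.style.haveILetI false
set_option linter.unusedVariables false
universe u
open Polynomial Quiet TensorProduct

namespace Groth.Agent.Lib.Helper25.QuietTower

theorem isRootTower_zero_iff (p : ℕ) (A B : Type u) [CommRing A] [CommRing B] [Algebra A B] :
    IsRootTower p 0 A B ↔ Nonempty (B ≃ₐ[A] A) := Iff.rfl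

theorem isRootTower_succ_iff (p n : ℕ) (A B : Type u) [CommRing A] [CommRing B] [Algebra A B] :
    IsRootTower p (n + 1) A B ↔ ∃ (a : A) (_ : Algebra (RootRing p A a) B),
      IsScalarTower A (RootRing p A a) B ∧ IsRootTower p n (RootRing p A a) B := Iff.rfl

/-- the ring isomorphism of root rings induced by a ring isomorphism -/
noncomputable def rootRingEquiv (p : ℕ) {A A' : Type u} [CommRing A] [CommRing A'] (σ : A ≃+* A')
    (a : A) : RootRing p A a ≃+* RootRing p A' (σ a) :=
  AdjoinRoot.mapRingEquiv σ _ _ (by simp [Polynomial.map_sub, Polynomial.map_pow])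

theorem rootRingEquiv_of (p : ℕ) {A A' : Type u} [CommRing A] [CommRing A'] (σ : A ≃+* A')
    (a : A) (x : A) : rootRingEquiv p σ a (AdjoinRoot.of _ x) = AdjoinRoot.of _ (σ x) := by
  simp [rootRingEquiv]

theorem rootRingEquiv_symm_of (p : ℕ) {A A' : Type u} [CommRing A] [CommRing A'] (σ : A ≃+* A')
    (a : A) (x : A') :
    (rootRingEquiv p σ a).symm (AdjoinRoot.of _ x) = AdjoinRoot.of _ (σ.symm x) := by
  rw [RingEquiv.symm_apply_eq, rootRingEquiv_of, RingEquiv.apply_symm_apply]

/-- semilinear transport of root towers -/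
theorem of_ringEquiv (p : ℕ) : ∀ (n : ℕ) {A A' B B' : Type u} [CommRing A] [CommRing A']
    [CommRing B] [CommRing B'] [Algebra A B] [Algebra A' B'] (σ : A ≃+* A') (τ : B ≃+* B')
    (_ : ∀ x, τ (algebraMap A B x) = algebraMap A' B' (σ x)),
    IsRootTower p n A B → IsRootTower p n A' B' := by
  intro n
  induction n with
  | zero =>
    intro A A' B B' _ _ _ _ _ _ σ τ hc h
    obtain ⟨e⟩ := h
    refine ⟨AlgEquiv.ofRingEquiv (f := (τ.symm.trans e.toRingEquiv).trans σ) fun x => ?_⟩
    have h1 : τ.symm (algebraMap A' B' x) = algebraMap A B (σ.symm x) := by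
      rw [RingEquiv.symm_apply_eq, hc, RingEquiv.apply_symm_apply]
    simp [h1]
  | succ n ih =>
    intro A A' B B' _ _ _ _ _ _ σ τ hc h
    obtain ⟨a, alg, tow, h'⟩ := h
    let σ' : RootRing p A a ≃+* RootRing p A' (σ a) := rootRingEquiv p σ a
    letI alg' : Algebra (RootRing p A' (σ a)) B' :=
      ((τ : B →+* B').comp ((algebraMap (RootRing p A a) B).comp
        (σ'.symm : RootRing p A' (σ a) →+* RootRing p A a))).toAlgebra
    refine ⟨σ a, alg', ?_, ih σ' τ ?_ h'⟩
    · refine IsScalarTower.of_algebraMap_eq fun x => ?_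
      change _ = τ (algebraMap (RootRing p A a) B (σ'.symm (AdjoinRoot.of _ x)))
      rw [rootRingEquiv_symm_of, ← AdjoinRoot.algebraMap_eq, ← IsScalarTower.algebraMap_apply, hc,
        RingEquiv.apply_symm_apply]
    · intro y
      change _ = τ (algebraMap (RootRing p A a) B (σ'.symm (σ' y)))
      rw [RingEquiv.symm_apply_apply]

theorem of_algEquiv (p n : ℕ) {A B B' : Type u} [CommRing A] [CommRing B] [CommRing B']
    [Algebra A B] [Algebra A B'] (e : B ≃ₐ[A] B') (h : IsRootTower p n A B) :
    IsRootTower p n A B' :=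
  of_ringEquiv p n (RingEquiv.refl A) e.toRingEquiv (fun x => by simp) h

theorem zero_of_bijective (p : ℕ) {A B : Type u} [CommRing A] [CommRing B] [Algebra A B]
    (h : Function.Bijective (algebraMap A B)) : IsRootTower p 0 A B :=
  ⟨(AlgEquiv.ofBijective (Algebra.ofId A B) h).symm⟩

/-- one elementary extraction -/
theorem one_of_algEquiv (p : ℕ) {A B : Type u} [CommRing A] [CommRing B] [Algebra A B] (a : A)
    (e : RootRing p A a ≃ₐ[A] B) : IsRootTower p 1 A B := by
  letI alg : Algebra (RootRing p A a) B := (e : RootRing p A a →+* B).toAlgebra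
  refine ⟨a, alg, IsScalarTower.of_algebraMap_eq fun x => (e.commutes x).symm, ?_⟩
  exact ⟨AlgEquiv.ofRingEquiv (f := e.symm.toRingEquiv) fun x => by
    change e.symm (e x) = x
    simp⟩

/-- composition of root towers -/
theorem comp (p : ℕ) : ∀ (n m : ℕ) {A B C : Type u} [CommRing A] [CommRing B] [CommRing C]
    [Algebra A B] [Algebra B C] [Algebra A C] [IsScalarTower A B C],
    IsRootTower p n A B → IsRootTower p m B C → IsRootTower p (n + m) A C := by
  intro n
  induction n with
  | zero =>
    intro m A B C _ _ _ _ _ _ _ h1 h2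
    obtain ⟨e⟩ := h1
    rw [Nat.zero_add]
    refine of_ringEquiv p m e.toRingEquiv (RingEquiv.refl C) (fun x => ?_) h2
    obtain ⟨y, rfl⟩ := e.symm.surjective x
    have hy : e.symm y = algebraMap A B y := by simpa using e.symm.commutes y
    simp only [RingEquiv.refl_apply, AlgEquiv.coe_ringEquiv,
      AlgEquiv.apply_symm_apply]
    rw [hy, ← IsScalarTower.algebraMap_apply]
  | succ n ih =>
    intro m A B C _ _ _ _ _ _ _ h1 h2
    obtain ⟨a, alg, tow, h'⟩ := h1
    letI algC : Algebra (RootRing p A a) C :=
      ((algebraMap B C).comp (algebraMap (RootRing p A a) B)).toAlgebra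
    haveI : IsScalarTower (RootRing p A a) B C := IsScalarTower.of_algebraMap_eq fun x => rfl
    have := ih m h' h2
    rw [Nat.add_right_comm]
    refine ⟨a, algC, IsScalarTower.of_algebraMap_eq fun x => ?_, this⟩
    change _ = algebraMap B C (algebraMap (RootRing p A a) B (algebraMap A _ x))
    rw [← IsScalarTower.algebraMap_apply A (RootRing p A a) B, ← IsScalarTower.algebraMap_apply]


section BaseChange

variable (p : ℕ) {A A' B : Type u} [CommRing A] [CommRing A'] [CommRing B] [Algebra A A']
  [Algebra A B] (a : A)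

/-- the map of root rings induced by `A → A'` -/
noncomputable def rootRingMap : RootRing p A a →+* RootRing p A' (algebraMap A A' a) :=
  AdjoinRoot.map (algebraMap A A') _ _ (by simp [Polynomial.map_sub, Polynomial.map_pow])

theorem rootRingMap_of (x : A) :
    rootRingMap p (A' := A') a (AdjoinRoot.of _ x) = AdjoinRoot.of _ (algebraMap A A' x) := by
  simp [rootRingMap]

theorem rootRingMap_root :
    rootRingMap p (A' := A') a (AdjoinRoot.root _) = AdjoinRoot.root _ := by
  simp [rootRingMap]

theorem root_pow (a : A) : (AdjoinRoot.root (X ^ p - C a : A[X])) ^ p = AdjoinRoot.of _ a := by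
  have := AdjoinRoot.eval₂_root (X ^ p - C a : A[X])
  rw [eval₂_sub, eval₂_pow, eval₂_X, eval₂_C, sub_eq_zero] at this
  exact this

variable [Algebra (RootRing p A a) B] [IsScalarTower A (RootRing p A a) B]

/-- the map `R' → A' ⊗[A] B` -/
noncomputable def bcLeft : RootRing p A' (algebraMap A A' a) →+* A' ⊗[A] B :=
  AdjoinRoot.lift (Algebra.TensorProduct.includeLeftRingHom)
    ((1 : A') ⊗ₜ[A] (algebraMap (RootRing p A a) B (AdjoinRoot.root _))) (by
      rw [eval₂_sub, eval₂_pow, eval₂_X, eval₂_C, Algebra.TensorProduct.tmul_pow, one_pow,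
        ← map_pow, root_pow, ← AdjoinRoot.algebraMap_eq, ← IsScalarTower.algebraMap_apply,
        sub_eq_zero]
      simp [Algebra.algebraMap_eq_smul_one, TensorProduct.smul_tmul])

theorem bcLeft_of (x : A') : bcLeft p (B := B) a (AdjoinRoot.of _ x) = x ⊗ₜ 1 := by
  simp [bcLeft]

theorem bcLeft_root : bcLeft p (A' := A') (B := B) a (AdjoinRoot.root _) =
    (1 : A') ⊗ₜ[A] (algebraMap (RootRing p A a) B (AdjoinRoot.root _)) := by
  simp [bcLeft]

/-- forward map `R' ⊗[R] B → A' ⊗[A] B` -/
noncomputable def bcFwd :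
    letI : Algebra (RootRing p A a) (RootRing p A' (algebraMap A A' a)) :=
      (rootRingMap p a).toAlgebra
    (RootRing p A' (algebraMap A A' a)) ⊗[RootRing p A a] B →+* A' ⊗[A] B :=
  letI : Algebra (RootRing p A a) (RootRing p A' (algebraMap A A' a)) :=
    (rootRingMap p a).toAlgebra
  letI : Algebra (RootRing p A a) (A' ⊗[A] B) :=
    ((Algebra.TensorProduct.includeRight : B →ₐ[A] A' ⊗[A] B).toRingHom.comp
      (algebraMap (RootRing p A a) B)).toAlgebra
  let f₁ : RootRing p A' (algebraMap A A' a) →ₐ[RootRing p A a] A' ⊗[A] B :=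
    { bcLeft p a with
      commutes' := fun r => by
        change ((bcLeft p (B := B) a).comp (rootRingMap p a)) r =
          ((Algebra.TensorProduct.includeRight : B →ₐ[A] A' ⊗[A] B).toRingHom.comp
            (algebraMap (RootRing p A a) B)) r
        congr 1
        refine AdjoinRoot.ringHom_ext ?_ ?_
        · ext x
          simp only [RingHom.comp_apply, rootRingMap_of, bcLeft_of]
          rw [← AdjoinRoot.algebraMap_eq, ← IsScalarTower.algebraMap_apply]
          simp [Algebra.algebraMap_eq_smul_one, TensorProduct.smul_tmul]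
        · simp only [RingHom.comp_apply, rootRingMap_root, bcLeft_root]
          rfl }
  let f₂ : B →ₐ[RootRing p A a] A' ⊗[A] B :=
    { (Algebra.TensorProduct.includeRight : B →ₐ[A] A' ⊗[A] B).toRingHom with
      commutes' := fun r => rfl }
  (Algebra.TensorProduct.lift f₁ f₂ (fun _ _ => Commute.all _ _)).toRingHom

theorem bcFwd_tmul (r' : RootRing p A' (algebraMap A A' a)) (b : B) :
    letI : Algebra (RootRing p A a) (RootRing p A' (algebraMap A A' a)) :=
      (rootRingMap p a).toAlgebra
    bcFwd p a (r' ⊗ₜ[RootRing p A a] b) = bcLeft p a r' * ((1 : A') ⊗ₜ[A] b) := by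
  letI : Algebra (RootRing p A a) (RootRing p A' (algebraMap A A' a)) :=
    (rootRingMap p a).toAlgebra
  simp only [bcFwd, AlgHom.toRingHom_eq_coe, RingHom.coe_coe]
  rfl

/-- backward map `A' ⊗[A] B → R' ⊗[R] B` -/
noncomputable def bcBwd :
    letI : Algebra (RootRing p A a) (RootRing p A' (algebraMap A A' a)) :=
      (rootRingMap p a).toAlgebra
    A' ⊗[A] B →+* (RootRing p A' (algebraMap A A' a)) ⊗[RootRing p A a] B :=
  letI : Algebra (RootRing p A a) (RootRing p A' (algebraMap A A' a)) :=
    (rootRingMap p a).toAlgebra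
  let h₁ : A' →ₐ[A] (RootRing p A' (algebraMap A A' a)) ⊗[RootRing p A a] B :=
    { (Algebra.TensorProduct.includeLeftRingHom).comp (AdjoinRoot.of _) with
      commutes' := fun x => by
        rw [Algebra.TensorProduct.algebraMap_apply, AdjoinRoot.algebraMap_eq']
        rfl }
  let h₂ : B →ₐ[A] (RootRing p A' (algebraMap A A' a)) ⊗[RootRing p A a] B :=
    { (Algebra.TensorProduct.includeRight :
        B →ₐ[RootRing p A a] (RootRing p A' (algebraMap A A' a)) ⊗[RootRing p A a] B).toRingHom with
      commutes' := fun x => by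
        rw [Algebra.TensorProduct.algebraMap_apply, AdjoinRoot.algebraMap_eq']
        change (1 : RootRing p A' (algebraMap A A' a)) ⊗ₜ[RootRing p A a] (algebraMap A B x) =
          (AdjoinRoot.of _ (algebraMap A A' x)) ⊗ₜ[RootRing p A a] (1 : B)
        rw [IsScalarTower.algebraMap_apply A (RootRing p A a) B, AdjoinRoot.algebraMap_eq,
          Algebra.algebraMap_eq_smul_one (R := RootRing p A a) (A := B),
          ← TensorProduct.smul_tmul, Algebra.smul_def, mul_one]
        change (rootRingMap p a _) ⊗ₜ[RootRing p A a] (1 : B) = _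
        rw [rootRingMap_of] }
  (Algebra.TensorProduct.lift h₁ h₂ (fun _ _ => Commute.all _ _)).toRingHom

theorem bcBwd_tmul (x : A') (b : B) :
    letI : Algebra (RootRing p A a) (RootRing p A' (algebraMap A A' a)) :=
      (rootRingMap p a).toAlgebra
    bcBwd p a (x ⊗ₜ[A] b) = (AdjoinRoot.of _ x) ⊗ₜ[RootRing p A a] b := by
  letI : Algebra (RootRing p A a) (RootRing p A' (algebraMap A A' a)) :=
    (rootRingMap p a).toAlgebra
  simp only [bcBwd, AlgHom.toRingHom_eq_coe, RingHom.coe_coe, Algebra.TensorProduct.lift_tmul]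
  change ((AdjoinRoot.of _ x) ⊗ₜ[RootRing p A a] (1 : B)) * ((1 : RootRing p A' _) ⊗ₜ[RootRing p A a] b) = _
  rw [Algebra.TensorProduct.tmul_mul_tmul, mul_one, one_mul]

/-- `R' ⊗[R] B ≃+* A' ⊗[A] B` -/
noncomputable def bcEquiv :
    letI : Algebra (RootRing p A a) (RootRing p A' (algebraMap A A' a)) :=
      (rootRingMap p a).toAlgebra
    (RootRing p A' (algebraMap A A' a)) ⊗[RootRing p A a] B ≃+* A' ⊗[A] B :=
  letI : Algebra (RootRing p A a) (RootRing p A' (algebraMap A A' a)) :=
    (rootRingMap p a).toAlgebra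
  RingEquiv.ofRingHom (bcFwd p a) (bcBwd p a)
    (by
      refine RingHom.ext fun z => ?_
      induction z using TensorProduct.induction_on with
      | zero => simp
      | add x y hx hy => simp only [map_add, hx, hy]
      | tmul x b =>
        rw [RingHom.comp_apply, RingHom.id_apply, bcBwd_tmul, bcFwd_tmul, bcLeft_of,
          Algebra.TensorProduct.tmul_mul_tmul, mul_one, one_mul])
    (by
      refine RingHom.ext fun z => ?_
      induction z using TensorProduct.induction_on with
      | zero => simp
      | add x y hx hy => simp only [map_add, hx, hy]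
      | tmul r' b =>
        rw [RingHom.comp_apply, RingHom.id_apply, bcFwd_tmul, map_mul, bcBwd_tmul]
        have key : (bcBwd p (A' := A') (B := B) a).comp (bcLeft p (A' := A') (B := B) a) =
            Algebra.TensorProduct.includeLeftRingHom := by
          refine AdjoinRoot.ringHom_ext ?_ ?_
          · refine RingHom.ext fun x => ?_
            rw [RingHom.comp_apply, RingHom.comp_apply, bcLeft_of, bcBwd_tmul]
            rfl
          · rw [RingHom.comp_apply, bcLeft_root, bcBwd_tmul]
            change (AdjoinRoot.of _ (1 : A')) ⊗ₜ[RootRing p A a] _ = _ ⊗ₜ 1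
            rw [map_one, Algebra.algebraMap_eq_smul_one (R := RootRing p A a) (A := B),
              ← TensorProduct.smul_tmul, Algebra.smul_def, mul_one]
            change (rootRingMap p a _) ⊗ₜ[RootRing p A a] (1 : B) = _
            rw [rootRingMap_root]
        have := RingHom.congr_fun key r'
        rw [RingHom.comp_apply] at this
        rw [this]
        change (r' ⊗ₜ[RootRing p A a] (1 : B)) * _ = _
        rw [map_one, Algebra.TensorProduct.tmul_mul_tmul, mul_one, one_mul])

theorem bcEquiv_tmul (r' : RootRing p A' (algebraMap A A' a)) (b : B) :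
    letI : Algebra (RootRing p A a) (RootRing p A' (algebraMap A A' a)) :=
      (rootRingMap p a).toAlgebra
    bcEquiv p a (r' ⊗ₜ[RootRing p A a] b) = bcLeft p a r' * ((1 : A') ⊗ₜ[A] b) := by
  letI : Algebra (RootRing p A a) (RootRing p A' (algebraMap A A' a)) :=
    (rootRingMap p a).toAlgebra
  exact bcFwd_tmul p a r' b

end BaseChange

/-- base change of a root tower -/
theorem baseChange (p : ℕ) : ∀ (n : ℕ) {A A' B : Type u} [CommRing A] [CommRing A'] [CommRing B]
    [Algebra A A'] [Algebra A B], IsRootTower p n A B → IsRootTower p n A' (A' ⊗[A] B) := by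
  intro n
  induction n with
  | zero =>
    intro A A' B _ _ _ _ _ h
    obtain ⟨e⟩ := h
    exact ⟨(Algebra.TensorProduct.congr (AlgEquiv.refl : A' ≃ₐ[A'] A') e).trans
      (Algebra.TensorProduct.rid A A' A')⟩
  | succ n ih =>
    intro A A' B _ _ _ _ _ h
    obtain ⟨a, alg, tow, h'⟩ := h
    letI : Algebra (RootRing p A a) (RootRing p A' (algebraMap A A' a)) :=
      (rootRingMap p a).toAlgebra
    have h1 := ih (A := RootRing p A a) (A' := RootRing p A' (algebraMap A A' a)) (B := B) h'
    let e := bcEquiv p (A' := A') (B := B) a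
    letI alg' : Algebra (RootRing p A' (algebraMap A A' a)) (A' ⊗[A] B) :=
      ((e : _ →+* A' ⊗[A] B).comp (algebraMap (RootRing p A' (algebraMap A A' a))
        ((RootRing p A' (algebraMap A A' a)) ⊗[RootRing p A a] B))).toAlgebra
    refine ⟨algebraMap A A' a, alg', ?_,
      of_ringEquiv p n (RingEquiv.refl _) e (fun x => rfl) h1⟩
    refine IsScalarTower.of_algebraMap_eq fun x => ?_
    change _ = e (algebraMap (RootRing p A' (algebraMap A A' a))
        ((RootRing p A' (algebraMap A A' a)) ⊗[RootRing p A a] B) (AdjoinRoot.of _ x))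
    have h2 : algebraMap (RootRing p A' (algebraMap A A' a))
        ((RootRing p A' (algebraMap A A' a)) ⊗[RootRing p A a] B) (AdjoinRoot.of _ x) =
        (AdjoinRoot.of _ x) ⊗ₜ[RootRing p A a] (1 : B) := by
      rw [Algebra.TensorProduct.algebraMap_apply, Algebra.algebraMap_self, RingHom.id_apply]
    rw [h2]
    change _ = bcEquiv p (A' := A') (B := B) a _
    rw [bcEquiv_tmul, bcLeft_of, Algebra.TensorProduct.algebraMap_apply, Algebra.algebraMap_self,
      RingHom.id_apply]
    change _ = _ * (1 : A' ⊗[A] B)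
    rw [mul_one]

/-- base change of a root tower, pushout form -/
theorem of_isPushout (p n : ℕ) {A A' B B' : Type u} [CommRing A] [CommRing A'] [CommRing B]
    [CommRing B'] [Algebra A A'] [Algebra A B] [Algebra A' B'] [Algebra B B'] [Algebra A B']
    [IsScalarTower A A' B'] [IsScalarTower A B B'] [Algebra.IsPushout A A' B B']
    (h : IsRootTower p n A B) : IsRootTower p n A' B' :=
  of_algEquiv p n (Algebra.IsPushout.equiv A A' B B') (baseChange p n h)

/-! ### Unbundled (ring hom) form -/

/-- `f : A →+* B` makes `B` a root tower of length `n` over `A`. -/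
def TowerHom (p n : ℕ) {A B : Type u} [CommRing A] [CommRing B] (f : A →+* B) : Prop :=
  letI := f.toAlgebra
  IsRootTower p n A B

theorem towerHom_algebraMap (p n : ℕ) {A B : Type u} [CommRing A] [CommRing B] [inst : Algebra A B] :
    TowerHom p n (algebraMap A B) ↔ IsRootTower p n A B := by
  have : (algebraMap A B).toAlgebra = inst := Algebra.algebra_ext _ _ fun _ => rfl
  unfold TowerHom
  rw [this]

theorem TowerHom.of_ringEquiv {p n : ℕ} {A A' B B' : Type u} [CommRing A] [CommRing A']
    [CommRing B] [CommRing B'] {f : A →+* B} (h : TowerHom p n f) (σ : A ≃+* A') (τ : B ≃+* B')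
    (f' : A' →+* B') (hc : ∀ x, τ (f x) = f' (σ x)) : TowerHom p n f' := by
  letI := f.toAlgebra
  letI := f'.toAlgebra
  exact QuietTower.of_ringEquiv p n σ τ hc h

theorem TowerHom.zero_of_bijective (p : ℕ) {A B : Type u} [CommRing A] [CommRing B] (f : A →+* B)
    (h : Function.Bijective f) : TowerHom p 0 f := by
  letI := f.toAlgebra
  exact QuietTower.zero_of_bijective p h

theorem TowerHom.one (p : ℕ) {A B : Type u} [CommRing A] [CommRing B] (f : A →+* B) (a : A)
    (e : RootRing p A a ≃+* B) (he : ∀ x, e (AdjoinRoot.of _ x) = f x) : TowerHom p 1 f := by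
  letI := f.toAlgebra
  exact QuietTower.one_of_algEquiv p a (AlgEquiv.ofRingEquiv (f := e) he)

theorem TowerHom.comp {p n m : ℕ} {A B C : Type u} [CommRing A] [CommRing B] [CommRing C]
    {f : A →+* B} {g : B →+* C} (hf : TowerHom p n f) (hg : TowerHom p m g) :
    TowerHom p (n + m) (g.comp f) := by
  letI := f.toAlgebra
  letI := g.toAlgebra
  letI := (g.comp f).toAlgebra
  haveI : IsScalarTower A B C := IsScalarTower.of_algebraMap_eq fun x => rfl
  exact QuietTower.comp p n m hf hg

theorem TowerHom.congr {p n : ℕ} {A B : Type u} [CommRing A] [CommRing B] {f g : A →+* B}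
    (h : TowerHom p n f) (hfg : f = g) : TowerHom p n g := hfg ▸ h

end Groth.Agent.Lib.Helper25.QuietTower
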