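import Mathlib
import Groth.Prelude.Def_W4c2gaugesfzipsQuiet
import Groth.Agent.Lib.Helper25.QuietTower

/-!
# Normal form of quasi-etale morphisms (`Quiet.IsQuiet`)
-/

set_option autoImplicit false
set_option linter.unusedSectionVars false
set_option linter.style.haveILetI false
set_option linter.unusedVariables false
universe u
open Polynomial Quiet TensorProduct CategoryTheory AlgebraicGeometry

namespace Groth.Agent.Lib.Helper25.QuietNF
open Groth.Agent.Lib.Helper25.QuietTower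

/-- localisation of a root tower -/
theorem TowerHom.awayMap {p n : ℕ} {A B : Type u} [CommRing A] [CommRing B] {t : A →+* B}
    (h : TowerHom p n t) (g : A) (Ag Bg : Type u) [CommRing Ag] [CommRing Bg] [Algebra A Ag]
    [Algebra B Bg] [IsLocalization.Away g Ag] [IsLocalization.Away (t g) Bg] :
    TowerHom p n (IsLocalization.Away.map Ag Bg t g) := by
  letI := t.toAlgebra
  letI : Algebra Ag Bg := (IsLocalization.Away.map Ag Bg t g).toAlgebra
  letI : Algebra A Bg := ((algebraMap B Bg).comp t).toAlgebra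
  haveI : IsScalarTower A B Bg := IsScalarTower.of_algebraMap_eq fun x => rfl
  haveI : IsScalarTower A Ag Bg := IsScalarTower.of_algebraMap_eq fun x => by
    change algebraMap B Bg (t x) = IsLocalization.Away.map Ag Bg t g (algebraMap A Ag x)
    rw [IsLocalization.Away.map, IsLocalization.map_eq]
  haveI : IsLocalization (Algebra.algebraMapSubmonoid B (Submonoid.powers g)) Bg := by
    have : Algebra.algebraMapSubmonoid B (Submonoid.powers g) = Submonoid.powers (t g) := by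
      simp [Algebra.algebraMapSubmonoid, Submonoid.map_powers]
      rfl
    rw [this]
    infer_instance
  haveI : Algebra.IsPushout A Ag B Bg :=
    (Algebra.isPushout_of_isLocalization (Submonoid.powers g) Ag B Bg).symm
  exact of_isPushout p n (A := A) (A' := Ag) (B := B) (B' := Bg) h

/-- postcomposition with an isomorphism -/
theorem TowerHom.comp_iso {p n : ℕ} {A B C : CommRingCat.{u}} {φ : A ⟶ B}
    (h : TowerHom p n φ.hom) (ψ : B ⟶ C) [IsIso ψ] : TowerHom p n (φ ≫ ψ).hom :=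
  h.of_ringEquiv (RingEquiv.refl _) (asIso ψ).commRingCatIsoToRingEquiv _ (fun x => rfl)

/-- precomposition with an isomorphism -/
theorem TowerHom.iso_comp {p n : ℕ} {A B C : CommRingCat.{u}} {φ : B ⟶ C}
    (h : TowerHom p n φ.hom) (ψ : A ⟶ B) [IsIso ψ] : TowerHom p n (ψ ≫ φ).hom :=
  h.of_ringEquiv (asIso ψ).symm.commRingCatIsoToRingEquiv (RingEquiv.refl _) _ (fun x => by
    change φ.hom x = φ.hom (ψ.hom ((inv ψ).hom x))
    have : ψ.hom ((inv ψ).hom x) = x := by
      rw [← RingHom.comp_apply, ← CommRingCat.hom_comp, IsIso.inv_hom_id]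
      rfl
    rw [this])

/-- shrinking to a basic open of the target -/
theorem towerHom_app_basicOpen {p n : ℕ} {V Y' : Scheme.{u}} (r : V ⟶ Y') {W : Y'.Opens}
    (hW : IsAffineOpen W) (hrW : IsAffineOpen (r ⁻¹ᵁ W)) (h : TowerHom p n (r.app W).hom)
    (g : Γ(Y', W)) :
    IsAffineOpen (r ⁻¹ᵁ Y'.basicOpen g) ∧ TowerHom p n (r.app (Y'.basicOpen g)).hom := by
  refine ⟨?_, ?_⟩
  · rw [Scheme.preimage_basicOpen]
    exact hrW.basicOpen _
  · haveI := hW.isLocalization_basicOpen g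
    haveI := hrW.isLocalization_basicOpen (r.app W g)
    rw [hW.app_basicOpen_eq_away_map r hrW g]
    refine TowerHom.comp_iso (φ := CommRingCat.ofHom (IsLocalization.Away.map Γ(Y', Y'.basicOpen g)
      Γ(V, V.basicOpen (r.app W g)) (r.app W).hom g)) ?_ _
    exact TowerHom.awayMap h g _ _

/-- **Normal form** of a quasi-etale morphism: around every point of the source, over any affine
open of the target containing the image, the morphism is on sections "etale followed by a root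
tower". -/
theorem exists_nf {p : ℕ} {X Y : Scheme.{u}} {f : Y ⟶ X} (hf : IsQuiet p f) (y : Y)
    (U : X.affineOpens) (hyU : f y ∈ U.1) :
    ∃ (V : Y.affineOpens) (hVU : V.1 ≤ f ⁻¹ᵁ U.1), y ∈ V.1 ∧
      ∃ (A' : CommRingCat.{u}) (e : Γ(X, U.1) ⟶ A') (t : A' ⟶ Γ(Y, V.1)) (n : ℕ),
        e.hom.Etale ∧ TowerHom p n t.hom ∧ e ≫ t = f.appLE U.1 V.1 hVU := by
  obtain ⟨V₀, Y', r, e, hyV₀, hr, he, hre⟩ := hf y
  let y₀ : V₀.toScheme := ⟨y, hyV₀⟩
  have hpt : ∀ v : V₀.toScheme, e (r v) = f (V₀.ι v) := fun v => by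
    have := congrArg (fun φ => φ.base v) hre
    simpa using this
  obtain ⟨W, hxW, hrW, n, hn⟩ := hr (r y₀)
  have hmem : r y₀ ∈ e ⁻¹ᵁ U.1 := by
    change e (r y₀) ∈ U.1
    rw [hpt]
    exact hyU
  obtain ⟨g, hgle, hgmem⟩ := W.2.exists_basicOpen_le (V := e ⁻¹ᵁ U.1) ⟨r y₀, hmem⟩ hxW
  obtain ⟨haff, htow⟩ := towerHom_app_basicOpen r W.2 hrW hn g
  have hW' : IsAffineOpen (Y'.basicOpen g) := W.2.basicOpen g
  have hV : IsAffineOpen (V₀.ι ''ᵁ (r ⁻¹ᵁ Y'.basicOpen g)) := haff.image_of_isOpenImmersion V₀.ι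
  have hyV : y ∈ V₀.ι ''ᵁ (r ⁻¹ᵁ Y'.basicOpen g) := ⟨y₀, hgmem, rfl⟩
  have hVU : V₀.ι ''ᵁ (r ⁻¹ᵁ Y'.basicOpen g) ≤ f ⁻¹ᵁ U.1 := by
    rintro _ ⟨v, hv, rfl⟩
    change f (V₀.ι v) ∈ U.1
    rw [← hpt]
    exact hgle hv
  refine ⟨⟨_, hV⟩, hVU, hyV, Γ(Y', Y'.basicOpen g), e.appLE U.1 (Y'.basicOpen g) hgle,
    r.app (Y'.basicOpen g) ≫ (V₀.ι.appIso (r ⁻¹ᵁ Y'.basicOpen g)).inv, n, ?_, ?_, ?_⟩
  · exact HasRingHomProperty.appLE (P := @Etale) e he U ⟨_, hW'⟩ hgle
  · exact TowerHom.comp_iso htow _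
  · rw [← cancel_mono (V₀.ι.appIso (r ⁻¹ᵁ Y'.basicOpen g)).hom]
    simp only [Category.assoc, Iso.inv_hom_id, Category.comp_id]
    rw [Scheme.Hom.appIso_hom', Scheme.Hom.appLE_comp_appLE, Scheme.Hom.app_eq_appLE,
      Scheme.Hom.appLE_comp_appLE]
    simp only [hre]

/-- the tower condition for `Spec.map` on global sections -/
theorem towerHom_specMap_appTop {p n : ℕ} {A B : CommRingCat.{u}} (t : A ⟶ B)
    (h : TowerHom p n t.hom) : TowerHom p n (Spec.map t).appTop.hom := by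
  have e : (Spec.map t).appTop =
      (Scheme.ΓSpecIso A).hom ≫ t ≫ (Scheme.ΓSpecIso B).inv := by
    rw [← Scheme.ΓSpecIso_naturality_assoc, Iso.hom_inv_id, Category.comp_id]
  rw [e]
  exact TowerHom.iso_comp (TowerHom.comp_iso h _) _

/-- converse of the normal form: a morphism which is locally "etale followed by a root tower" on
sections is quasi-etale -/
theorem isQuiet_of_nf {p : ℕ} {X Y : Scheme.{u}} {f : Y ⟶ X}
    (h : ∀ y : Y, ∃ (V : Y.affineOpens) (U : X.affineOpens) (hVU : V.1 ≤ f ⁻¹ᵁ U.1), y ∈ V.1 ∧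
      ∃ (A' : CommRingCat.{u}) (e : Γ(X, U.1) ⟶ A') (t : A' ⟶ Γ(Y, V.1)) (n : ℕ),
        e.hom.Etale ∧ TowerHom p n t.hom ∧ e ≫ t = f.appLE U.1 V.1 hVU) : IsQuiet p f := by
  intro y
  obtain ⟨V, U, hVU, hyV, A', e, t, n, he, ht, hcomp⟩ := h y
  have hV : IsAffineOpen V.1 := V.2
  have hU : IsAffineOpen U.1 := U.2
  haveI : IsAffine V.1.toScheme := hV
  haveI : Etale (Spec.map e) := (HasRingHomProperty.Spec_iff (P := @Etale)).mpr he
  haveI : Etale (Spec.map e ≫ hU.fromSpec) := inferInstance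
  refine ⟨V.1, Spec A', hV.isoSpec.hom ≫ Spec.map t, Spec.map e ≫ hU.fromSpec, hyV, ?_,
    inferInstance, ?_⟩
  · intro x
    refine ⟨⟨⊤, isAffineOpen_top _⟩, trivial, isAffineOpen_top _, n, ?_⟩
    change TowerHom p n ((hV.isoSpec.hom ≫ Spec.map t).appTop).hom
    rw [Scheme.Hom.comp_appTop]
    haveI : IsIso (hV.isoSpec.hom.appTop) := by
      change IsIso (hV.isoSpec.hom.app ⊤)
      infer_instance
    exact TowerHom.comp_iso (towerHom_specMap_appTop t ht) _
  · rw [Category.assoc, ← Category.assoc (Spec.map t), ← Spec.map_comp, hcomp,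
      IsAffineOpen.SpecMap_appLE_fromSpec f hU hV hVU, IsAffineOpen.isoSpec_hom_fromSpec_assoc]

theorem mem_basicOpen_iff_primeIdealOf {Y : Scheme.{u}} {V : Y.Opens} (hV : IsAffineOpen V)
    (y : Y) (hyV : y ∈ V) (h : Γ(Y, V)) :
    y ∈ Y.basicOpen h ↔ h ∉ (hV.primeIdealOf ⟨y, hyV⟩).asIdeal := by
  have h1 : hV.fromSpec (hV.primeIdealOf ⟨y, hyV⟩) = y := hV.fromSpec_primeIdealOf ⟨y, hyV⟩
  have h2 := hV.fromSpec_preimage_basicOpen h
  have h3 : y ∈ Y.basicOpen h ↔ hV.primeIdealOf ⟨y, hyV⟩ ∈ hV.fromSpec ⁻¹ᵁ Y.basicOpen h := by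
    change _ ↔ hV.fromSpec (hV.primeIdealOf ⟨y, hyV⟩) ∈ Y.basicOpen h
    rw [h1]
  rw [h3, h2]
  rfl

/-- normal form with a standard etale first step -/
theorem exists_nf_standard {p : ℕ} {X Y : Scheme.{u}} {f : Y ⟶ X} (hf : IsQuiet p f) (y : Y)
    (U : X.affineOpens) (hyU : f y ∈ U.1) :
    ∃ (V : Y.affineOpens) (hVU : V.1 ≤ f ⁻¹ᵁ U.1), y ∈ V.1 ∧
      ∃ (A' : CommRingCat.{u}) (e : Γ(X, U.1) ⟶ A') (t : A' ⟶ Γ(Y, V.1)) (n : ℕ),
        (letI := e.hom.toAlgebra
         Algebra.IsStandardEtale Γ(X, U.1) A') ∧ TowerHom p n t.hom ∧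
          e ≫ t = f.appLE U.1 V.1 hVU := by
  obtain ⟨V, hVU, hyV, A', e, t, n, he, ht, hcomp⟩ := exists_nf hf y U hyU
  have hV : IsAffineOpen V.1 := V.2
  letI algUA' : Algebra Γ(X, U.1) A' := e.hom.toAlgebra
  haveI : Algebra.Etale Γ(X, U.1) A' := RingHom.etale_algebraMap.mp he
  haveI : (hV.primeIdealOf ⟨y, hyV⟩).asIdeal.IsPrime := (hV.primeIdealOf ⟨y, hyV⟩).isPrime
  haveI : ((hV.primeIdealOf ⟨y, hyV⟩).asIdeal.comap t.hom).IsPrime := Ideal.comap_isPrime _ _
  obtain ⟨g, hg, hstd⟩ := Algebra.IsEtaleAt.exists_isStandardEtale (R := Γ(X, U.1))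
    ((hV.primeIdealOf ⟨y, hyV⟩).asIdeal.comap t.hom)
  have hV₂ : IsAffineOpen (Y.basicOpen (t.hom g)) := hV.basicOpen _
  have hle : Y.basicOpen (t.hom g) ≤ f ⁻¹ᵁ U.1 := (Y.basicOpen_le _).trans hVU
  haveI := hV.isLocalization_basicOpen (t.hom g)
  refine ⟨⟨_, hV₂⟩, hle, (mem_basicOpen_iff_primeIdealOf hV y hyV _).mpr hg,
    CommRingCat.of (Localization.Away g),
    e ≫ CommRingCat.ofHom (algebraMap A' (Localization.Away g)),
    CommRingCat.ofHom (IsLocalization.Away.map (Localization.Away g)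
      Γ(Y, Y.basicOpen (t.hom g)) t.hom g), n, ?_, TowerHom.awayMap ht g _ _, ?_⟩
  · have : (e ≫ CommRingCat.ofHom (algebraMap A' (Localization.Away g))).hom.toAlgebra =
        (inferInstance : Algebra Γ(X, U.1) (Localization.Away g)) :=
      Algebra.algebra_ext _ _ fun r =>
        (IsScalarTower.algebraMap_apply Γ(X, U.1) A' (Localization.Away g) r).symm
    rw [this]
    exact hstd
  · rw [Category.assoc]
    have h1 : CommRingCat.ofHom (algebraMap A' (Localization.Away g)) ≫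
        CommRingCat.ofHom (IsLocalization.Away.map (Localization.Away g)
          Γ(Y, Y.basicOpen (t.hom g)) t.hom g) =
        t ≫ Y.presheaf.map (homOfLE (Y.basicOpen_le (t.hom g))).op := by
      ext x
      change IsLocalization.Away.map (Localization.Away g) Γ(Y, Y.basicOpen (t.hom g)) t.hom g
        (algebraMap A' (Localization.Away g) x) = _
      rw [IsLocalization.Away.map, IsLocalization.map_eq]
      rfl
    rw [h1, ← Category.assoc, hcomp, Scheme.Hom.appLE_map]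

/-- `Spec` of "etale followed by a root tower", followed by an etale morphism, is quasi-etale -/
theorem isQuiet_spec {p n : ℕ} {T : Scheme.{u}} {R A' B : CommRingCat.{u}} (e : R ⟶ A')
    (t : A' ⟶ B) (he : e.hom.Etale) (ht : TowerHom p n t.hom) (j : Spec R ⟶ T) [Etale j] :
    IsQuiet p (Spec.map (e ≫ t) ≫ j) := by
  intro y
  haveI : Etale (Spec.map e) := (HasRingHomProperty.Spec_iff (P := @Etale)).mpr he
  haveI : IsAffine (⊤ : (Spec B).Opens).toScheme := isAffineOpen_top (Spec B)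
  refine ⟨⊤, Spec A', (⊤ : (Spec B).Opens).ι ≫ Spec.map t, Spec.map e ≫ j, trivial, ?_,
    inferInstance, ?_⟩
  · intro x
    refine ⟨⟨⊤, isAffineOpen_top _⟩, trivial, isAffineOpen_top _, n, ?_⟩
    change TowerHom p n (((⊤ : (Spec B).Opens).ι ≫ Spec.map t).appTop).hom
    rw [Scheme.Hom.comp_appTop]
    haveI : IsIso ((⊤ : (Spec B).Opens).ι) := (Spec B).topIso.isIso_hom
    haveI : IsIso ((⊤ : (Spec B).Opens).ι.appTop) := by
      change IsIso ((⊤ : (Spec B).Opens).ι.app ⊤)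
      infer_instance
    exact TowerHom.comp_iso (towerHom_specMap_appTop t ht) _
  · rw [Spec.map_comp, Category.assoc, Category.assoc]

end Groth.Agent.Lib.Helper25.QuietNF
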