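import Mathlib
import Groth.Prelude.Def_W4c2gaugesfzipsQuiet
import Groth.Agent.Lib.Helper25.QuietTower
import Groth.Agent.Lib.Helper25.QuietNF

/-!
# Base change for root towers (categorical form) and sections of fibre products of affine opens
-/

set_option autoImplicit false
set_option linter.unusedSectionVars false
set_option linter.style.haveILetI false
set_option linter.unusedVariables false
universe u
open Polynomial Quiet TensorProduct CategoryTheory CategoryTheory.Limits AlgebraicGeometry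

namespace Groth.Agent.Lib.Helper25.QuietBC
open Groth.Agent.Lib.Helper25.QuietTower Groth.Agent.Lib.Helper25.QuietNF

theorem towerHom_respectsIso (p n : ℕ) :
    RingHom.RespectsIso (fun {R S : Type u} [CommRing R] [CommRing S] (f : R →+* S) =>
      TowerHom p n f) := by
  constructor
  · intro R S T _ _ _ f e hf
    exact hf.of_ringEquiv (RingEquiv.refl R) e _ (fun x => rfl)
  · intro R S T _ _ _ f e hf
    exact hf.of_ringEquiv e.symm (RingEquiv.refl T) _ (fun x => by simp)

theorem towerHom_isStableUnderBaseChange (p n : ℕ) :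
    RingHom.IsStableUnderBaseChange (fun {R S : Type u} [CommRing R] [CommRing S] (f : R →+* S) =>
      TowerHom p n f) := by
  intro R S R' S' _ _ _ _ _ _ _ _ _ _ _ hsq h
  haveI : Algebra.IsPushout R R' S S' := hsq.symm
  exact (towerHom_algebraMap p n).mpr
    (of_isPushout p n (A := R) (A' := R') (B := S) (B' := S') ((towerHom_algebraMap p n).mp h))

/-- cobase change of a root tower in `CommRingCat` -/
theorem towerHom_of_isPushout {p n : ℕ} {A A' B B' : CommRingCat.{u}} {f : A ⟶ A'} {g : A ⟶ B}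
    {f' : B ⟶ B'} {g' : A' ⟶ B'} (sq : IsPushout g f f' g') (hf : TowerHom p n f.hom) :
    TowerHom p n f'.hom := by
  have := (RingHom.isStableUnderCobaseChange_toMorphismProperty_iff
    (P := fun {R S : Type u} [CommRing R] [CommRing S] (f : R →+* S) => TowerHom p n f)).mpr
    (towerHom_isStableUnderBaseChange p n)
  exact this.of_isPushout sq hf

/-- cobase change of an etale map in `CommRingCat` -/
theorem etale_of_isPushout {A A' B B' : CommRingCat.{u}} {f : A ⟶ A'} {g : A ⟶ B}
    {f' : B ⟶ B'} {g' : A' ⟶ B'} (sq : IsPushout g f f' g') (hf : f.hom.Etale) :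
    f'.hom.Etale := by
  have := (RingHom.isStableUnderCobaseChange_toMorphismProperty_iff
    (P := fun {R S : Type u} [CommRing R] [CommRing S] (f : R →+* S) => f.Etale)).mpr
    RingHom.Etale.isStableUnderBaseChange
  exact this.of_isPushout sq hf

/-- For a pullback square of schemes and affine opens `U ⊆ X`, `U' ⊆ X'`, `V ⊆ Y` with `U' → U`,
`V → U`, the open `g'⁻¹V ∩ f'⁻¹U'` of the fibre product is affine, and its ring of sections is the
pushout of the rings of sections. -/
theorem isPushout_appLE_of_isPullback {X Y X' Y' : Scheme.{u}} {f : Y ⟶ X} {g : X' ⟶ X}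
    {f' : Y' ⟶ X'} {g' : Y' ⟶ Y} (H : IsPullback g' f' f g) {U : X.Opens} {U' : X'.Opens}
    {V : Y.Opens} (hU : IsAffineOpen U) (hU' : IsAffineOpen U') (hV : IsAffineOpen V)
    (hU'U : U' ≤ g ⁻¹ᵁ U) (hVU : V ≤ f ⁻¹ᵁ U) :
    IsAffineOpen (g' ⁻¹ᵁ V ⊓ f' ⁻¹ᵁ U') ∧
      IsPushout (f.appLE U V hVU) (g.appLE U U' hU'U)
        (g'.appLE V (g' ⁻¹ᵁ V ⊓ f' ⁻¹ᵁ U') inf_le_left)
        (f'.appLE U' (g' ⁻¹ᵁ V ⊓ f' ⁻¹ᵁ U') inf_le_right) := by
  have H' := Scheme.Hom.isPullback_resLE H hU'U hVU (UY := g' ⁻¹ᵁ V ⊓ f' ⁻¹ᵁ U') rfl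
  haveI : IsAffine U.toScheme := hU
  haveI : IsAffine U'.toScheme := hU'
  haveI : IsAffine V.toScheme := hV
  haveI : IsAffine (g' ⁻¹ᵁ V ⊓ f' ⁻¹ᵁ U').toScheme := IsAffine.of_isPullback H'
  refine ⟨‹_›, ?_⟩
  have P := isPushout_appTop_of_isPullback H'
  refine P.of_iso U.topIso V.topIso U'.topIso (g' ⁻¹ᵁ V ⊓ f' ⁻¹ᵁ U').topIso ?_ ?_ ?_ ?_
  · exact (arrowResLEAppIso f U V hVU).hom.w.symm
  · exact (arrowResLEAppIso g U U' hU'U).hom.w.symm
  · exact (arrowResLEAppIso g' V _ inf_le_left).hom.w.symm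
  · exact (arrowResLEAppIso f' U' _ inf_le_right).hom.w.symm

end Groth.Agent.Lib.Helper25.QuietBC
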