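import Mathlib
import Groth.Prelude.Def_W4c2gaugesfzipsQuiet
import Groth.Agent.Lib.Helper25.QuietTower
import Groth.Agent.Lib.Helper25.FrobEtale

/-!
# Descent of etale algebras through root towers (characteristic `p`)
-/

set_option autoImplicit false
set_option linter.unusedSectionVars false
set_option linter.style.haveILetI false
set_option linter.unusedVariables false
universe u
open Polynomial Quiet TensorProduct

namespace Groth.Agent.Lib.Helper25.QuietDescent
open Groth.Agent.Lib.Helper25.QuietTower

/-- a copy of `C` (to carry a Frobenius-twisted algebra structure) -/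
def Tw (C : Type u) : Type u := C

instance (C : Type u) [CommRing C] : CommRing (Tw C) := inferInstanceAs (CommRing C)

section ED1

variable (p : ℕ) [Fact p.Prime] {A : Type u} [CommRing A] [CharP A p] (a : A)

/-- `R → A`, `of x ↦ x ^ p`, `root ↦ a` -/
noncomputable def phi : RootRing p A a →+* A :=
  AdjoinRoot.lift (frobenius A p) a (by
    rw [eval₂_sub, eval₂_pow, eval₂_X, eval₂_C, frobenius_def, sub_self])

theorem phi_of (x : A) : phi p a (AdjoinRoot.of _ x) = x ^ p := by
  simp [phi, frobenius_def]

theorem phi_root : phi p a (AdjoinRoot.root _) = a := by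
  simp [phi]

theorem of_phi [CharP (RootRing p A a) p] (r : RootRing p A a) :
    AdjoinRoot.of _ (phi p a r) = r ^ p := by
  have : (AdjoinRoot.of _).comp (phi p a) = frobenius (RootRing p A a) p := by
    refine AdjoinRoot.ringHom_ext ?_ ?_
    · ext x
      simp [phi_of, frobenius_def]
    · simp [phi_root, frobenius_def, root_pow]
  exact RingHom.congr_fun this r

end ED1

section Main
open Groth.Agent.Lib.Helper25.FrobEtale

variable (p : ℕ) [Fact p.Prime] {A : Type u} [CommRing A] [CharP A p] (a : A)
  {D : Type u} [CommRing D] [CharP D p] [Algebra (RootRing p A a) D]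
  [Algebra.Etale (RootRing p A a) D]

theorem exists_descent_one_main :
    ∃ (D' : Type u) (_ : CommRing D') (e' : A →+* D') (t' : D' →+* D), e'.Etale ∧ TowerHom p 1 t' ∧
      t'.comp e' = (algebraMap (RootRing p A a) D).comp (AdjoinRoot.of _) := by
  have hp : p.Prime := Fact.out
  haveI : Nontrivial D := CharP.nontrivial_of_char_ne_one (R := D) hp.ne_one
  haveI : Nontrivial (RootRing p A a) := (algebraMap (RootRing p A a) D).domain_nontrivial
  haveI : CharP (RootRing p A a) p := (CharP.charP_iff_prime_eq_zero hp).mpr (by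
    rw [← map_natCast (AdjoinRoot.of (X ^ p - Polynomial.C a : A[X])), CharP.cast_eq_zero, map_zero])
  letI algRA : Algebra (RootRing p A a) A := (phi p a).toAlgebra
  letI algAC : Algebra A D := ((algebraMap (RootRing p A a) D).comp (AdjoinRoot.of _)).toAlgebra
  haveI : IsScalarTower A (RootRing p A a) D := IsScalarTower.of_algebraMap_eq fun x => rfl
  letI algATw : Algebra A (Tw D) := algAC
  letI algRTw : Algebra (RootRing p A a) (Tw D) :=
    ((algebraMap A (Tw D)).comp (phi p a)).toAlgebra
  haveI : IsScalarTower (RootRing p A a) A (Tw D) := IsScalarTower.of_algebraMap_eq fun x => rfl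
  -- Frobenius of `D` as an `R`-algebra map into the twisted copy
  let g : D →ₐ[RootRing p A a] Tw D :=
    { toRingHom := (frobenius D p : D →+* D)
      commutes' := fun r => by
        change (algebraMap (RootRing p A a) D r) ^ p =
          algebraMap (RootRing p A a) D (AdjoinRoot.of _ (phi p a r))
        rw [of_phi, map_pow] }
  let θ₁ : A ⊗[RootRing p A a] D →ₐ[A] Tw D :=
    Algebra.TensorProduct.lift (Algebra.ofId A (Tw D)) g (fun _ _ => Commute.all _ _)
  have hθ₁ : ∀ (x : A) (c : D), θ₁ (x ⊗ₜ c) =
      (algebraMap (RootRing p A a) D (AdjoinRoot.of _ x) * c ^ p : D) := fun x c => by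
    simp only [θ₁, Algebra.TensorProduct.lift_tmul]
    rfl
  let θ₁' : A ⊗[RootRing p A a] D →ₐ[A] D :=
    { toRingHom := (θ₁ : A ⊗[RootRing p A a] D →+* Tw D)
      commutes' := θ₁.commutes' }
  let Θ : RootRing p A a ⊗[A] (A ⊗[RootRing p A a] D) →ₐ[RootRing p A a] D :=
    Algebra.TensorProduct.lift (Algebra.ofId _ D) θ₁' (fun _ _ => Commute.all _ _)
  have hΘ : ∀ (r : RootRing p A a) (c' : A ⊗[RootRing p A a] D),
      Θ (r ⊗ₜ c') = algebraMap _ D r * θ₁' c' := fun r c' => by
    simp only [Θ, Algebra.TensorProduct.lift_tmul]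
    rfl
  have hθ₁' : ∀ (x : A) (d : D), θ₁' (x ⊗ₜ d) =
      algebraMap (RootRing p A a) D (AdjoinRoot.of _ x) * d ^ p := hθ₁
  let V : D → RootRing p A a ⊗[A] (A ⊗[RootRing p A a] D) := fun c => 1 ⊗ₜ (1 ⊗ₜ c)
  have h2 : ∀ d : D, Θ (V d) = d ^ p := fun d => by
    simp only [V]
    rw [hΘ, map_one, one_mul, hθ₁', map_one, map_one, one_mul]
  have h1 : ∀ w, V (Θ w) = w ^ p := by
    intro w
    rcases subsingleton_or_nontrivial (RootRing p A a ⊗[A] (A ⊗[RootRing p A a] D)) with hs | hn
    · exact Subsingleton.elim _ _
    · haveI : CharP (RootRing p A a ⊗[A] (A ⊗[RootRing p A a] D)) p :=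
        (CharP.charP_iff_prime_eq_zero hp).mpr (by
          rw [← map_natCast (algebraMap (RootRing p A a)
            (RootRing p A a ⊗[A] (A ⊗[RootRing p A a] D))), CharP.cast_eq_zero, map_zero])
      have hVadd : ∀ x y, V (x + y) = V x + V y := fun x y => by
        simp only [V, TensorProduct.tmul_add]
      have hV0 : V 0 = 0 := by simp only [V, TensorProduct.tmul_zero]
      induction w using TensorProduct.induction_on with
      | zero => rw [map_zero, hV0, zero_pow hp.ne_zero]
      | add x y hx hy => rw [map_add, hVadd, hx, hy, add_pow_char]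
      | tmul r c' =>
        induction c' using TensorProduct.induction_on with
        | zero => rw [TensorProduct.tmul_zero, map_zero, hV0, zero_pow hp.ne_zero]
        | add x y hx hy => rw [TensorProduct.tmul_add, map_add, hVadd, hx, hy, add_pow_char]
        | tmul x d =>
          rw [hΘ, hθ₁', Algebra.TensorProduct.tmul_pow, Algebra.TensorProduct.tmul_pow]
          have e1 : algebraMap (RootRing p A a) D r *
              (algebraMap (RootRing p A a) D (AdjoinRoot.of _ x) * d ^ p) =
              (r * AdjoinRoot.of _ x) • (d ^ p) := by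
            rw [Algebra.smul_def, map_mul, mul_assoc]
          simp only [V]
          rw [e1, ← TensorProduct.smul_tmul]
          have e2 : (r * AdjoinRoot.of _ x) • (1 : A) = phi p a r * x ^ p := by
            rw [Algebra.smul_def, mul_one]
            change phi p a (r * AdjoinRoot.of _ x) = _
            rw [map_mul, phi_of]
          rw [e2]
          have e3 : (phi p a r * x ^ p) ⊗ₜ[RootRing p A a] (d ^ p) =
              (phi p a r) • ((x ^ p) ⊗ₜ[RootRing p A a] (d ^ p)) := by
            rw [TensorProduct.smul_tmul', smul_eq_mul]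
          rw [e3, ← TensorProduct.smul_tmul]
          have e4 : (phi p a r) • (1 : RootRing p A a) = r ^ p := by
            rw [Algebra.smul_def, mul_one, AdjoinRoot.algebraMap_eq, of_phi]
          rw [e4]
  haveI etAD' : Algebra.Etale A (A ⊗[RootRing p A a] D) := inferInstance
  haveI etRW : Algebra.Etale (RootRing p A a)
      (RootRing p A a ⊗[A] (A ⊗[RootRing p A a] D)) := inferInstance
  have hbij : Function.Bijective Θ := bijective_of_frob p Θ V h1 h2
  have ht1 : IsRootTower p 1 A (RootRing p A a) := one_of_algEquiv p a AlgEquiv.refl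
  have ht2 : IsRootTower p 1 (A ⊗[RootRing p A a] D)
      ((A ⊗[RootRing p A a] D) ⊗[A] RootRing p A a) := baseChange p 1 ht1
  refine ⟨A ⊗[RootRing p A a] D, inferInstance, algebraMap A _,
    (θ₁' : A ⊗[RootRing p A a] D →+* D), ?_, ?_, ?_⟩
  · exact RingHom.etale_algebraMap.mpr etAD'
  · refine ((towerHom_algebraMap p 1).mpr ht2).of_ringEquiv (RingEquiv.refl _)
      ((Algebra.TensorProduct.comm A (A ⊗[RootRing p A a] D) (RootRing p A a)).toRingEquiv.trans
        (RingEquiv.ofBijective Θ hbij)) _ (fun c' => ?_)
    change Θ (Algebra.TensorProduct.comm A (A ⊗[RootRing p A a] D) (RootRing p A a)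
      (c' ⊗ₜ (1 : RootRing p A a))) = θ₁' c'
    rw [Algebra.TensorProduct.comm_tmul, hΘ, map_one, one_mul]
  · refine RingHom.ext fun x => ?_
    change θ₁' (x ⊗ₜ (1 : D)) = _
    rw [hθ₁', one_pow, mul_one]
    rfl

end Main

/-- any ring map to the zero ring is etale -/
theorem etale_of_subsingleton {A D : Type u} [CommRing A] [CommRing D] [Subsingleton D]
    (f : A →+* D) : f.Etale := by
  letI := f.toAlgebra
  haveI : IsLocalization.Away (0 : A) D := by
    rw [IsLocalization.Away, isLocalization_iff]
    refine ⟨fun y => isUnit_of_subsingleton _, fun z => ⟨(0, ⟨0, 1, pow_one _⟩), Subsingleton.elim _ _⟩,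
      fun {x y} _ => ⟨⟨0, 1, pow_one _⟩, by simp⟩⟩
  exact RingHom.etale_algebraMap.mpr (Algebra.Etale.of_isLocalizationAway (0 : A))

/-- the identity of the zero ring is a root tower of any length -/
theorem towerHom_of_subsingleton (p : ℕ) : ∀ (n : ℕ) {A B : Type u} [CommRing A] [CommRing B]
    [Subsingleton B] (f : A →+* B) (_ : Function.Surjective f) [Subsingleton A], TowerHom p n f := by
  intro n
  induction n with
  | zero =>
    intro A B _ _ _ f hf _
    exact TowerHom.zero_of_bijective p f ⟨fun x y _ => Subsingleton.elim _ _, hf⟩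
  | succ n ih =>
    intro A B _ _ _ f hf _
    letI := f.toAlgebra
    haveI : Subsingleton (RootRing p A 0) := by
      refine subsingleton_of_zero_eq_one ?_
      rw [← map_zero (AdjoinRoot.of (X ^ p - C (0 : A) : A[X])), ← map_one (AdjoinRoot.of _)]
      exact congrArg _ (Subsingleton.elim _ _)
    let g : RootRing p A 0 →+* B := AdjoinRoot.lift f 0 (Subsingleton.elim _ _)
    letI alg : Algebra (RootRing p A 0) B := g.toAlgebra
    refine ⟨0, alg, IsScalarTower.of_algebraMap_eq fun x => ?_, ?_⟩
    · change f x = g (AdjoinRoot.of _ x)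
      simp [g]
    · exact ih g (fun b => ⟨0, Subsingleton.elim _ _⟩)

theorem exists_descent_one (p : ℕ) [Fact p.Prime] {A D : Type u} [CommRing A] [CommRing D]
    (hpA : (p : A) = 0) (a : A) (e : RootRing p A a →+* D) (he : e.Etale) :
    ∃ (D' : Type u) (_ : CommRing D') (e' : A →+* D') (t' : D' →+* D), e'.Etale ∧ TowerHom p 1 t' ∧
      t'.comp e' = e.comp (AdjoinRoot.of _) := by
  have hp : p.Prime := Fact.out
  rcases subsingleton_or_nontrivial D with hs | hn
  · exact ⟨D, inferInstance, e.comp (AdjoinRoot.of _), RingHom.id D, etale_of_subsingleton _,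
      towerHom_of_subsingleton p 1 _ Function.surjective_id, rfl⟩
  · haveI : Nontrivial A := (e.comp (AdjoinRoot.of _)).domain_nontrivial
    haveI : CharP A p := (CharP.charP_iff_prime_eq_zero hp).mpr hpA
    haveI : CharP D p := (CharP.charP_iff_prime_eq_zero hp).mpr (by
      rw [← map_natCast (e.comp (AdjoinRoot.of _)), hpA, map_zero])
    letI := e.toAlgebra
    haveI : Algebra.Etale (RootRing p A a) D := RingHom.etale_algebraMap.mp he
    exact exists_descent_one_main p a

/-- **Descent of etale algebras through a root tower**: if `A → B` is a root tower of length `n`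
(in characteristic `p`) and `B → D` is etale, there is an etale `A → D'` and a root tower
`D' → D` of length `n` with the same composite. -/
theorem exists_descent (p : ℕ) [Fact p.Prime] : ∀ (n : ℕ) {A B D : Type u} [CommRing A] [CommRing B]
    [CommRing D] (_ : (p : A) = 0) (t : A →+* B) (e : B →+* D), TowerHom p n t → e.Etale →
    ∃ (D' : Type u) (_ : CommRing D') (e' : A →+* D') (t' : D' →+* D), e'.Etale ∧ TowerHom p n t' ∧
      t'.comp e' = e.comp t := by
  intro n
  induction n with
  | zero =>
    intro A B D _ _ _ hpA t e ht he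
    have hbij : Function.Bijective t := by
      letI := t.toAlgebra
      obtain ⟨ψ⟩ := ht
      have : ∀ x, t x = ψ.symm x := fun x => (ψ.symm.commutes x).symm
      rw [show (t : A → B) = ψ.symm from funext this]
      exact ψ.symm.bijective
    exact ⟨D, inferInstance, e.comp t, RingHom.id D,
      RingHom.Etale.stableUnderComposition _ _ (RingHom.Etale.of_bijective hbij) he,
      TowerHom.zero_of_bijective p _ Function.bijective_id, rfl⟩
  | succ n ih =>
    intro A B D _ _ _ hpA t e ht he
    letI := t.toAlgebra
    obtain ⟨a, alg, tow, h'⟩ := ht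
    have hpR : (p : RootRing p A a) = 0 := by
      rw [← map_natCast (AdjoinRoot.of (X ^ p - C a : A[X])), hpA, map_zero]
    obtain ⟨D₁, _, e₁, t₁, he₁, ht₁, hc₁⟩ := ih hpR (algebraMap (RootRing p A a) B) e
      ((towerHom_algebraMap p n).mpr h') he
    obtain ⟨D', _, e', t₀, he', ht₀, hc₀⟩ := exists_descent_one p hpA a e₁ he₁
    refine ⟨D', inferInstance, e', t₁.comp t₀, he', ?_, ?_⟩
    · have := ht₀.comp ht₁
      rwa [Nat.add_comm] at this
    · rw [RingHom.comp_assoc, hc₀, ← RingHom.comp_assoc, hc₁, RingHom.comp_assoc]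
      congr 1
      refine RingHom.ext fun x => ?_
      exact (IsScalarTower.algebraMap_apply A (RootRing p A a) B x).symm

end Groth.Agent.Lib.Helper25.QuietDescent
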