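import Mathlib
import Groth.Prelude.Def_W4c2gaugesfzipsQuiet
import Groth.Agent.Lib.Helper25.QuietTower
import Groth.Agent.Lib.Helper25.QuietNF
import Groth.Agent.Lib.Helper25.QuietBC

/-!
# Lifting standard etale algebras and root towers along surjections
-/

set_option autoImplicit false
set_option linter.unusedSectionVars false
set_option linter.style.haveILetI false
set_option linter.unusedVariables false
universe u
open Polynomial Quiet TensorProduct CategoryTheory CategoryTheory.Limits

namespace Groth.Agent.Lib.Helper25.QuietLift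
open Groth.Agent.Lib.Helper25.QuietTower Groth.Agent.Lib.Helper25.QuietNF

section StdEtale

variable {R Rb A' : Type u} [CommRing R] [CommRing Rb] [CommRing A'] (π : R →+* Rb)
  (hπ : Function.Surjective π) [Algebra Rb A']

include hπ in
/-- lifting a standard etale algebra along a surjection of base rings -/
theorem exists_lift_standardEtale (P : StandardEtalePresentation Rb A') :
    ∃ (At : Type u) (_ : CommRing At) (_ : Algebra R At) (_ : Algebra.Etale R At) (ρ : At →+* A'),
      IsPushout (CommRingCat.ofHom (algebraMap R At)) (CommRingCat.ofHom π) (CommRingCat.ofHom ρ)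
        (CommRingCat.ofHom (algebraMap Rb A')) := by
  obtain ⟨p₁b, p₂b, n, hcond⟩ := P.cond
  obtain ⟨f, hf, hfm⟩ : ∃ f : R[X], f.map π = P.f ∧ f.Monic := by
    rcases subsingleton_or_nontrivial Rb with hs | hn
    · exact ⟨1, Subsingleton.elim _ _, monic_one⟩
    · obtain ⟨f, hf, -, hfm⟩ := Polynomial.lifts_and_degree_eq_and_monic
        ((Polynomial.mem_lifts _).mpr (Polynomial.map_surjective π hπ P.f)) P.monic_f
      exact ⟨f, hf, hfm⟩
  obtain ⟨g, hg⟩ := Polynomial.map_surjective π hπ P.g
  obtain ⟨p₁, hp₁⟩ := Polynomial.map_surjective π hπ p₁b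
  obtain ⟨p₂, hp₂⟩ := Polynomial.map_surjective π hπ p₂b
  let Pt : StandardEtalePair R :=
    ⟨f, hfm, derivative f * (p₁ * g) + f * (p₂ * g), ⟨p₁ * g, p₂ * g, 1, by rw [pow_one]⟩⟩
  have hgt : Pt.g.map π = P.g ^ (n + 1) := by
    have hd : (derivative f).map π = derivative P.f := by rw [← Polynomial.derivative_map, hf]
    simp only [Pt, Polynomial.map_add, Polynomial.map_mul, hd, hf, hg, hp₁, hp₂]
    rw [pow_succ, ← hcond]
    ring
  letI algRA' : Algebra R A' := ((algebraMap Rb A').comp π).toAlgebra
  have haeval : ∀ (q : R[X]) (x : A'), aeval x q = aeval x (q.map π) := fun q x => by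
    rw [aeval_def, aeval_def, Polynomial.eval₂_map]
    rfl
  have hx : Pt.HasMap P.x := by
    refine ⟨?_, ?_⟩
    · rw [haeval, hf]
      exact P.hasMap.1
    · rw [haeval, hgt, map_pow]
      exact P.hasMap.2.pow _
  refine ⟨Pt.Ring, inferInstance, inferInstance, inferInstance, (Pt.lift P.x hx : Pt.Ring →+* A'),
    ?_⟩
  have hw : CommRingCat.ofHom (algebraMap R Pt.Ring) ≫
      CommRingCat.ofHom (Pt.lift P.x hx : Pt.Ring →+* A') =
      CommRingCat.ofHom π ≫ CommRingCat.ofHom (algebraMap Rb A') := by
    ext r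
    exact (Pt.lift P.x hx).commutes r
  have key : ∀ (D : CommRingCat.{u}) (α : CommRingCat.of Pt.Ring ⟶ D) (β : CommRingCat.of Rb ⟶ D),
      CommRingCat.ofHom (algebraMap R Pt.Ring) ≫ α = CommRingCat.ofHom π ≫ β →
      ∃ m : CommRingCat.of A' ⟶ D,
        (CommRingCat.ofHom (Pt.lift P.x hx : Pt.Ring →+* A') ≫ m = α ∧
          CommRingCat.ofHom (algebraMap Rb A') ≫ m = β) ∧
        ∀ m' : CommRingCat.of A' ⟶ D,
          CommRingCat.ofHom (Pt.lift P.x hx : Pt.Ring →+* A') ≫ m' = α →
          CommRingCat.ofHom (algebraMap Rb A') ≫ m' = β → m' = m := by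
    intro D α β hαβ
    letI algRbD : Algebra Rb D := β.hom.toAlgebra
    letI algRD : Algebra R D := (β.hom.comp π).toAlgebra
    have hαβ' : ∀ r : R, α.hom (algebraMap R Pt.Ring r) = β.hom (π r) := fun r =>
      congrArg (fun φ => φ.hom r) hαβ
    -- `α` as an `R`-algebra map
    let αA : Pt.Ring →ₐ[R] D := { α.hom with commutes' := hαβ' }
    have haevalD : ∀ (q : R[X]) (y : D), aeval y q = aeval y (q.map π) := fun q y => by
      rw [aeval_def, aeval_def, Polynomial.eval₂_map]
      rfl
    have hy : P.HasMap (α.hom Pt.X) := by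
      have h0 : Pt.HasMap (αA Pt.X) := Pt.hasMap_X.map αA
      refine ⟨?_, ?_⟩
      · have := h0.1
        rw [haevalD, hf] at this
        exact this
      · have := h0.2
        rw [haevalD, hgt, map_pow] at this
        exact (isUnit_pow_iff (Nat.succ_ne_zero n)).mp this
    let mA : A' →ₐ[Rb] D := (P.P.lift (α.hom Pt.X) hy).comp P.equivRing.toAlgHom
    have hmx : mA P.x = α.hom Pt.X := by
      simp [mA]
    refine ⟨CommRingCat.ofHom (mA : A' →+* D), ⟨?_, ?_⟩, ?_⟩
    · -- both are `R`-algebra maps out of `Pt.Ring` agreeing on `X`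
      let m1 : Pt.Ring →ₐ[R] D :=
        { (mA : A' →+* D).comp (Pt.lift P.x hx : Pt.Ring →+* A') with
          commutes' := fun r => by
            change mA (Pt.lift P.x hx (algebraMap R Pt.Ring r)) = _
            rw [(Pt.lift P.x hx).commutes]
            exact mA.commutes (π r) }
      have : m1 = αA := Pt.hom_ext (by
        change mA (Pt.lift P.x hx Pt.X) = α.hom Pt.X
        rw [Pt.lift_X, hmx])
      ext z
      exact congrArg (fun φ : Pt.Ring →ₐ[R] D => φ z) this
    · ext r
      exact mA.commutes r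
    · intro m' h1 h2
      let m'A : A' →ₐ[Rb] D :=
        { m'.hom with commutes' := fun r => congrArg (fun φ => φ.hom r) h2 }
      have : m'A = mA := P.hom_ext (by
        change m'.hom P.x = mA P.x
        rw [hmx, ← Pt.lift_X P.x hx]
        exact congrArg (fun φ => φ.hom Pt.X) h1)
      ext z
      exact congrArg (fun φ : A' →ₐ[Rb] D => φ z) this
  refine ⟨⟨hw⟩, ⟨PushoutCocone.IsColimit.mk _ (fun s => (key s.pt s.inl s.inr s.condition).choose)
    (fun s => (key s.pt s.inl s.inr s.condition).choose_spec.1.1)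
    (fun s => (key s.pt s.inl s.inr s.condition).choose_spec.1.2)
    (fun s m h1 h2 => (key s.pt s.inl s.inr s.condition).choose_spec.2 m h1 h2)⟩⟩

end StdEtale

section Tower

/-- the root ring of the image is the pushout of the root ring -/
theorem isPushout_rootRing (p : ℕ) {At A : Type u} [CommRing At] [CommRing A] [Algebra At A]
    (a : At) :
    IsPushout (CommRingCat.ofHom (AdjoinRoot.of (X ^ p - C a : At[X]))) (CommRingCat.ofHom (algebraMap At A))
      (CommRingCat.ofHom (rootRingMap p (A' := A) a))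
      (CommRingCat.ofHom (AdjoinRoot.of (X ^ p - C (algebraMap At A a) : A[X]))) := by
  have hw : CommRingCat.ofHom (AdjoinRoot.of (X ^ p - C a : At[X])) ≫
      CommRingCat.ofHom (rootRingMap p (A' := A) a) =
      CommRingCat.ofHom (algebraMap At A) ≫ CommRingCat.ofHom (AdjoinRoot.of (X ^ p - C (algebraMap At A a) : A[X])) := by
    ext x
    exact rootRingMap_of p (A' := A) a x
  have key : ∀ (D : CommRingCat.{u}) (α : CommRingCat.of (RootRing p At a) ⟶ D)
      (β : CommRingCat.of A ⟶ D),
      CommRingCat.ofHom (AdjoinRoot.of (X ^ p - C a : At[X])) ≫ α = CommRingCat.ofHom (algebraMap At A) ≫ β →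
      ∃ m : CommRingCat.of (RootRing p A (algebraMap At A a)) ⟶ D,
        (CommRingCat.ofHom (rootRingMap p (A' := A) a) ≫ m = α ∧
          CommRingCat.ofHom (AdjoinRoot.of (X ^ p - C (algebraMap At A a) : A[X])) ≫ m = β) ∧
        ∀ m' : CommRingCat.of (RootRing p A (algebraMap At A a)) ⟶ D,
          CommRingCat.ofHom (rootRingMap p (A' := A) a) ≫ m' = α →
          CommRingCat.ofHom (AdjoinRoot.of (X ^ p - C (algebraMap At A a) : A[X])) ≫ m' = β → m' = m := by
    intro D α β hαβ
    have hαβ' : ∀ x : At, α.hom (AdjoinRoot.of _ x) = β.hom (algebraMap At A x) := fun x =>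
      congrArg (fun φ => φ.hom x) hαβ
    have h0 : (X ^ p - C (algebraMap At A a) : A[X]).eval₂ β.hom (α.hom (AdjoinRoot.root _)) = 0 := by
      rw [eval₂_sub, eval₂_pow, eval₂_X, eval₂_C, ← map_pow, root_pow, hαβ', sub_self]
    refine ⟨CommRingCat.ofHom (AdjoinRoot.lift β.hom (α.hom (AdjoinRoot.root _)) h0), ⟨?_, ?_⟩, ?_⟩
    · ext : 1
      refine AdjoinRoot.ringHom_ext ?_ ?_
      · refine RingHom.ext fun x => ?_
        change AdjoinRoot.lift β.hom _ h0 (rootRingMap p (A' := A) a (AdjoinRoot.of _ x)) = _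
        rw [rootRingMap_of, AdjoinRoot.lift_of]
        exact (hαβ' x).symm
      · change AdjoinRoot.lift β.hom _ h0 (rootRingMap p (A' := A) a (AdjoinRoot.root _)) = _
        rw [rootRingMap_root, AdjoinRoot.lift_root]
    · ext x
      exact AdjoinRoot.lift_of h0
    · intro m' h1 h2
      ext : 1
      refine AdjoinRoot.ringHom_ext ?_ ?_
      · refine RingHom.ext fun x => ?_
        change m'.hom (AdjoinRoot.of _ x) = AdjoinRoot.lift β.hom _ h0 (AdjoinRoot.of _ x)
        rw [AdjoinRoot.lift_of]
        exact congrArg (fun φ => φ.hom x) h2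
      · change m'.hom (AdjoinRoot.root _) = AdjoinRoot.lift β.hom _ h0 (AdjoinRoot.root _)
        rw [AdjoinRoot.lift_root, ← rootRingMap_root p (A' := A) a]
        exact congrArg (fun φ => φ.hom (AdjoinRoot.root _)) h1
  exact ⟨⟨hw⟩, ⟨PushoutCocone.IsColimit.mk _ (fun s => (key s.pt s.inl s.inr s.condition).choose)
    (fun s => (key s.pt s.inl s.inr s.condition).choose_spec.1.1)
    (fun s => (key s.pt s.inl s.inr s.condition).choose_spec.1.2)
    (fun s m h1 h2 => (key s.pt s.inl s.inr s.condition).choose_spec.2 m h1 h2)⟩⟩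

theorem rootRingMap_surjective (p : ℕ) {At A : Type u} [CommRing At] [CommRing A] [Algebra At A]
    (hρ : Function.Surjective (algebraMap At A)) (a : At) :
    Function.Surjective (rootRingMap p (A' := A) a) := by
  intro z
  obtain ⟨q, rfl⟩ := AdjoinRoot.mk_surjective z
  obtain ⟨q', rfl⟩ := Polynomial.map_surjective (algebraMap At A) hρ q
  refine ⟨AdjoinRoot.mk _ q', ?_⟩
  simp only [rootRingMap, AdjoinRoot.map, AdjoinRoot.lift_mk]
  rw [← Polynomial.eval₂_map, ← AdjoinRoot.aeval_eq, aeval_def, AdjoinRoot.algebraMap_eq]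

/-- **Lifting a root tower along a surjection** -/
theorem exists_lift_tower (p : ℕ) : ∀ (n : ℕ) {At A B : Type u} [CommRing At] [CommRing A]
    [CommRing B] (ρ : At →+* A) (_ : Function.Surjective ρ) (t : A →+* B), TowerHom p n t →
    ∃ (Bt : Type u) (_ : CommRing Bt) (tt : At →+* Bt) (ρ' : Bt →+* B), TowerHom p n tt ∧
      IsPushout (CommRingCat.ofHom tt) (CommRingCat.ofHom ρ) (CommRingCat.ofHom ρ')
        (CommRingCat.ofHom t) := by
  intro n
  induction n with
  | zero =>
    intro At A B _ _ _ ρ hρ t ht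
    have hbij : Function.Bijective t := by
      letI := t.toAlgebra
      obtain ⟨ψ⟩ := ht
      have : ∀ x, t x = ψ.symm x := fun x => (ψ.symm.commutes x).symm
      rw [show (t : A → B) = ψ.symm from funext this]
      exact ψ.symm.bijective
    refine ⟨At, inferInstance, RingHom.id At, t.comp ρ,
      TowerHom.zero_of_bijective p _ Function.bijective_id, ?_⟩
    haveI : IsIso (CommRingCat.ofHom t) := (ConcreteCategory.isIso_iff_bijective _).mpr hbij
    haveI : IsIso (CommRingCat.ofHom (RingHom.id At)) := by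
      change IsIso (𝟙 (CommRingCat.of At))
      infer_instance
    exact IsPushout.of_horiz_isIso ⟨rfl⟩
  | succ n ih =>
    intro At A B _ _ _ ρ hρ t ht
    letI algAB : Algebra A B := t.toAlgebra
    letI algAtA : Algebra At A := ρ.toAlgebra
    obtain ⟨a, alg, tow, h'⟩ := ht
    obtain ⟨a', rfl⟩ := hρ a
    obtain ⟨Bt, _, st, ρ', hst, hpo⟩ := ih (rootRingMap p (A' := A) a')
      (rootRingMap_surjective p hρ a') (algebraMap (RootRing p A (algebraMap At A a')) B)
      ((towerHom_algebraMap p n).mpr h')
    refine ⟨Bt, inferInstance, st.comp (AdjoinRoot.of _), ρ', ?_, ?_⟩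
    · letI algAtBt : Algebra At Bt := (st.comp (AdjoinRoot.of (X ^ p - C a' : At[X]))).toAlgebra
      letI algRBt : Algebra (RootRing p At a') Bt := st.toAlgebra
      exact ⟨a', algRBt, IsScalarTower.of_algebraMap_eq fun x => rfl, hst⟩
    · have h1 := (isPushout_rootRing p (A := A) a').paste_horiz hpo
      have e1 : CommRingCat.ofHom (AdjoinRoot.of (X ^ p - C a' : At[X])) ≫ CommRingCat.ofHom st =
          CommRingCat.ofHom (st.comp (AdjoinRoot.of _)) := rfl
      have e2 : CommRingCat.ofHom (AdjoinRoot.of (X ^ p - C (algebraMap At A a') : A[X])) ≫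
          CommRingCat.ofHom (algebraMap (RootRing p A (algebraMap At A a')) B) =
          CommRingCat.ofHom t := by
        ext x
        exact (IsScalarTower.algebraMap_apply A (RootRing p A (algebraMap At A a')) B x).symm
      rw [e1, e2] at h1
      exact h1

end Tower

end Groth.Agent.Lib.Helper25.QuietLift
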