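import Mathlib
import Groth.Prelude.Def_W4c2gaugesfzipsQuiet
import Groth.Agent.Lib.Helper25.QuietTower
import Groth.Agent.Lib.Helper25.QuietNF
import Groth.Agent.Lib.Helper25.QuietBC

/-!
# Quotients as base change; base change of `p`-th root morphisms; regular sequences under
faithfully flat ring maps
-/

set_option autoImplicit false
set_option linter.unusedSectionVars false
set_option linter.style.haveILetI false
set_option linter.unusedVariables false
universe u
open Polynomial Quiet TensorProduct CategoryTheory CategoryTheory.Limits AlgebraicGeometry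

namespace Groth.Agent.Lib.Helper25.QuietQuot
open Groth.Agent.Lib.Helper25.QuietTower Groth.Agent.Lib.Helper25.QuietNF
  Groth.Agent.Lib.Helper25.QuietBC

section Quot

variable {R R' : Type u} [CommRing R] [CommRing R'] [Algebra R R'] (I : Ideal R)

/-- `R' ⧸ I R'` is the pushout of `R'` and `R ⧸ I` over `R`. -/
theorem isPushout_quotient :
    Algebra.IsPushout R R' (R ⧸ I) (R' ⧸ I.map (algebraMap R R')) := by
  constructor
  refine IsBaseChange.of_equiv
    (Algebra.TensorProduct.quotIdealMapEquivTensorQuot R' I).symm.toLinearEquiv ?_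
  intro x
  obtain ⟨x, rfl⟩ := Ideal.Quotient.mk_surjective x
  rw [AlgEquiv.toLinearEquiv_apply, AlgEquiv.symm_apply_eq]
  have h1 : (IsScalarTower.toAlgHom R (R ⧸ I) (R' ⧸ Ideal.map (algebraMap R R') I)).toLinearMap
      ((Ideal.Quotient.mk I) x) = Ideal.Quotient.mk _ (algebraMap R R' x) := rfl
  rw [h1, Algebra.TensorProduct.quotIdealMapEquivTensorQuot_mk, Algebra.algebraMap_eq_smul_one,
    TensorProduct.smul_tmul, ← Ideal.Quotient.algebraMap_eq, Algebra.algebraMap_eq_smul_one]

end Quot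

section Stable

/-- A property of ring homomorphisms stable under base change passes to quotients. -/
theorem quotientMap_of_stable
    {P : ∀ {R S : Type u} [CommRing R] [CommRing S], (R →+* S) → Prop}
    (hP : RingHom.IsStableUnderBaseChange @P) {R R' : Type u} [CommRing R] [CommRing R']
    (φ : R →+* R') (I : Ideal R) (h : P φ) :
    P (Ideal.quotientMap (I.map φ) φ Ideal.le_comap_map) := by
  letI := φ.toAlgebra
  haveI hpo := isPushout_quotient (R := R) (R' := R') I
  exact hP R R' (R ⧸ I) (R' ⧸ I.map (algebraMap R R')) h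

/-- The spectrum of the quotient map is the base change of the spectrum of the map. -/
theorem isPullback_spec_quotient {R R' : Type u} [CommRing R] [CommRing R']
    (φ : R →+* R') (I : Ideal R) :
    IsPullback (Spec.map (CommRingCat.ofHom (Ideal.Quotient.mk (I.map φ))))
      (Spec.map (CommRingCat.ofHom (Ideal.quotientMap (I.map φ) φ Ideal.le_comap_map)))
      (Spec.map (CommRingCat.ofHom φ)) (Spec.map (CommRingCat.ofHom (Ideal.Quotient.mk I))) := by
  letI := φ.toAlgebra
  haveI := isPushout_quotient (R := R) (R' := R') I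
  exact isPullback_SpecMap_of_isPushout _ _ _ _
    (CommRingCat.isPushout_of_isPushout R R' (R ⧸ I) (R' ⧸ I.map (algebraMap R R')))

end Stable

section PthRoot

/-- Extractions of `p`-th roots are stable under base change. -/
theorem isPthRoot_of_isPullback {p : ℕ} {X Y X' Y' : Scheme.{u}} {f : Y ⟶ X} {g : X' ⟶ X}
    {f' : Y' ⟶ X'} {g' : Y' ⟶ Y} (H : IsPullback g' f' f g) (hf : IsPthRoot p f) :
    IsPthRoot p f' := by
  intro x'
  obtain ⟨U, hxU, hfU, n, hn⟩ := hf (g x')
  have hn' : TowerHom p n (f.app U.1).hom := hn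
  have hmem : x' ∈ g ⁻¹ᵁ U.1 := hxU
  obtain ⟨_, ⟨U', hU', rfl⟩, hxU', hU'U⟩ :=
    X'.isBasis_affineOpens.exists_subset_of_mem_open hmem (g ⁻¹ᵁ U.1).isOpen
  obtain ⟨hW, hpo⟩ := isPushout_appLE_of_isPullback H U.2 hU' hfU hU'U (le_refl _)
  have hWeq : g' ⁻¹ᵁ (f ⁻¹ᵁ U.1) ⊓ f' ⁻¹ᵁ U' = f' ⁻¹ᵁ U' := by
    apply inf_eq_right.mpr
    intro y hy
    change f (g' y) ∈ U.1
    have hw : f (g' y) = g (f' y) := by
      have := congrArg (fun φ => φ.base y) H.w
      simpa using this
    rw [hw]
    exact hU'U hy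
  have ht : TowerHom p n
      (f'.appLE U' (g' ⁻¹ᵁ (f ⁻¹ᵁ U.1) ⊓ f' ⁻¹ᵁ U') inf_le_right).hom := by
    refine towerHom_of_isPushout hpo.flip ?_
    rw [Scheme.Hom.appLE_eq_app]
    exact hn'
  have key : ∀ (W : Y'.Opens) (hW : W = f' ⁻¹ᵁ U') (e : W ≤ f' ⁻¹ᵁ U'),
      TowerHom p n (f'.appLE U' W e).hom → TowerHom p n (f'.app U').hom := by
    rintro _ rfl e h
    rwa [Scheme.Hom.app_eq_appLE]
  exact ⟨⟨U', hU'⟩, hxU', hWeq ▸ hW, n, key _ hWeq _ ht⟩

end PthRoot

section Regular
open RingTheory.Sequence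

/-- Faithfully flat ring maps preserve regular sequences. -/
theorem isRegular_map {R R' : Type u} [CommRing R] [CommRing R'] (φ : R →+* R')
    (hφ : φ.FaithfullyFlat) {rs : List R} (h : IsRegular R rs) : IsRegular R' (rs.map φ) := by
  letI := φ.toAlgebra
  haveI : Module.FaithfullyFlat R R' := hφ
  exact IsRegular.of_faithfullyFlat h

/-- Concatenation of regular sequences. -/
theorem isRegular_append {R : Type u} [CommRing R] (rs₁ rs₂ : List R) (I : Ideal R)
    (hI : I = Ideal.ofList rs₁) (h1 : IsRegular R rs₁)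
    (h2 : IsRegular (R ⧸ I) (rs₂.map (Ideal.Quotient.mk I))) : IsRegular R (rs₁ ++ rs₂) := by
  subst hI
  refine ⟨(isWeaklyRegular_append_iff' R rs₁ rs₂).mpr ⟨h1.1, ?_⟩, ?_⟩
  · have heq : (Ideal.ofList rs₁ • ⊤ : Submodule R R) = Ideal.ofList rs₁ := by
      rw [smul_eq_mul, Ideal.mul_top]
    let e : (R ⧸ (Ideal.ofList rs₁ • ⊤ : Submodule R R)) ≃+ (R ⧸ Ideal.ofList rs₁) :=
      (Submodule.quotEquivOfEq _ _ heq).toAddEquiv
    refine (e.isWeaklyRegular_congr (List.forall₂_same.mpr fun r _ x => ?_)).mpr h2.1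
    obtain ⟨r, rfl⟩ := Ideal.Quotient.mk_surjective r
    obtain ⟨x, rfl⟩ := Submodule.Quotient.mk_surjective _ x
    rfl
  · intro htop
    apply h2.2
    rw [← Ideal.map_ofList]
    have h3 : Ideal.ofList rs₁ ⊔ Ideal.ofList rs₂ = ⊤ := by
      rw [← Ideal.ofList_append]
      have := htop.symm
      rwa [smul_eq_mul, Ideal.mul_top] at this
    have h4 : (Ideal.ofList rs₂).map (Ideal.Quotient.mk (Ideal.ofList rs₁)) = ⊤ := by
      have := congrArg (Ideal.map (Ideal.Quotient.mk (Ideal.ofList rs₁))) h3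
      rwa [Ideal.map_sup, Ideal.map_quotient_self, bot_sup_eq, Ideal.map_top] at this
    rw [h4, smul_eq_mul, Ideal.mul_top]

end Regular

end Groth.Agent.Lib.Helper25.QuietQuot
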