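import Mathlib
import Groth.Prelude.Def_W4c2gaugesfzipsQuiet
import Groth.Prelude.Def_RegImm
import Groth.Agent.Lib.Helper25.QuietTower
import Groth.Agent.Lib.Helper25.QuietNF
import Groth.Agent.Lib.Helper25.FiniteSyntomic
import Groth.Agent.Lib.Helper25.GlobalCI

/-!
# Quasi-etale ring maps are (locally) syntomic
-/

set_option autoImplicit false
set_option linter.unusedSectionVars false
set_option linter.style.haveILetI false
set_option linter.unusedVariables false
universe u
open Polynomial Quiet TensorProduct

namespace Groth.Agent.Lib.Helper25.QuietSynt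
open Groth.Agent.Lib.Helper25.QuietTower Groth.Agent.Lib.Helper25.QuietNF
open Groth.Agent.Lib.Helper25.FiniteSyntomic Groth.Agent.Lib.Helper25.GlobalCI

/-- `S` has a presentation over `R` with as many relations as generators -/
def HasSqPres (R S : Type u) [CommRing R] [CommRing S] [Algebra R S] : Prop :=
  ∃ (ι σ : Type) (_ : Fintype ι) (_ : Fintype σ),
    Fintype.card σ = Fintype.card ι ∧ Nonempty (Algebra.Presentation R S ι σ)

theorem HasSqPres.of_isStandardEtale (R S : Type u) [CommRing R] [CommRing S] [Algebra R S]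
    [Algebra.IsStandardEtale R S] : HasSqPres R S := by
  obtain ⟨⟨P⟩⟩ := (inferInstance : Algebra.IsStandardEtale R S)
  exact ⟨Fin 2, Fin 2, inferInstance, inferInstance, rfl, ⟨P.toPresentation⟩⟩

theorem HasSqPres.comp {R S T : Type u} [CommRing R] [CommRing S] [CommRing T] [Algebra R S]
    [Algebra S T] [Algebra R T] [IsScalarTower R S T] (hQ : HasSqPres S T) (hP : HasSqPres R S) :
    HasSqPres R T := by
  obtain ⟨ι', σ', _, _, hc', ⟨Q⟩⟩ := hQ
  obtain ⟨ι, σ, _, _, hc, ⟨P⟩⟩ := hP
  exact ⟨ι' ⊕ ι, σ' ⊕ σ, inferInstance, inferInstance, by simp [hc, hc'], ⟨Q.comp P⟩⟩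

theorem HasSqPres.of_algEquiv {R S T : Type u} [CommRing R] [CommRing S] [CommRing T]
    [Algebra R S] [Algebra R T] (e : S ≃ₐ[R] T) (h : HasSqPres R S) : HasSqPres R T := by
  obtain ⟨ι, σ, _, _, hc, ⟨P⟩⟩ := h
  exact ⟨ι, σ, inferInstance, inferInstance, hc, ⟨P.ofAlgEquiv e⟩⟩

theorem HasSqPres.self (R : Type u) [CommRing R] : HasSqPres R R := by
  refine ⟨Empty, Empty, inferInstance, inferInstance, rfl,
    ⟨presOfSurj (MvPolynomial.isEmptyAlgEquiv R Empty).toAlgHom
      (MvPolynomial.isEmptyAlgEquiv R Empty).surjective Empty.elim ?_⟩⟩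
  have : Set.range (Empty.elim : Empty → MvPolynomial Empty R) = ∅ := Set.range_eq_empty _
  rw [this, Ideal.span_empty]
  exact (RingHom.injective_iff_ker_eq_bot _).1 (MvPolynomial.isEmptyAlgEquiv R Empty).injective

/-- a root tower is finite, free and has a square presentation -/
theorem tower_props (p : ℕ) (hp : p ≠ 0) : ∀ (n : ℕ) {A B : Type u} [CommRing A] [CommRing B]
    [Algebra A B], IsRootTower p n A B →
      Module.Finite A B ∧ Module.Free A B ∧ HasSqPres A B := by
  intro n
  induction n with
  | zero =>
    intro A B _ _ _ h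
    obtain ⟨e⟩ := h
    exact ⟨Module.Finite.equiv e.symm.toLinearEquiv, Module.Free.of_equiv e.symm.toLinearEquiv,
      (HasSqPres.self A).of_algEquiv e.symm⟩
  | succ n ih =>
    intro A B _ _ _ h
    obtain ⟨a, alg, tow, h'⟩ := h
    obtain ⟨h1, h2, h3⟩ := ih h'
    have hm : (X ^ p - C a : A[X]).Monic := monic_X_pow_sub_C a hp
    haveI := hm.finite_adjoinRoot
    haveI := hm.free_adjoinRoot
    refine ⟨Module.Finite.trans (RootRing p A a) B, Module.Free.trans (R := A) (S := RootRing p A a)
      (M := B), h3.comp ?_⟩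
    exact ⟨PUnit.{1}, PUnit.{1}, inferInstance, inferInstance, rfl, ⟨presAdjoinRoot _⟩⟩

/-- flat + quasi-finite + square presentation ⇒ syntomic -/
theorem isSyntomic_of_flat_quasiFinite (R S : Type u) [CommRing R] [CommRing S] [Algebra R S]
    [Module.Flat R S] [Algebra.QuasiFinite R S] (h : HasSqPres R S) : Synt.IsSyntomic R S := by
  obtain ⟨ι, σ, _, _, hcard, ⟨P⟩⟩ := h
  refine ⟨inferInstance, P.finitePresentation_of_isFinite, fun q => ?_⟩
  let Q : Algebra.Presentation q.asIdeal.ResidueField (q.asIdeal.Fiber S) ι σ :=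
    P.baseChange q.asIdeal.ResidueField
  exact isLCIOver_of_finite q.asIdeal.ResidueField (q.asIdeal.Fiber S) (Fintype.card ι)
    (Fintype.card σ) hcard (Q.reindex (Fintype.equivFin ι).symm (Fintype.equivFin σ).symm)

/-- **Ring-level local syntomicity**: if `A → A'` is etale and `A' → B` is a root tower, then
around any prime of `B` a principal localisation of `B` is syntomic over `A`. -/
theorem exists_isSyntomic_away (p : ℕ) [Fact p.Prime] {A A' B : Type u} [CommRing A] [CommRing A']
    [CommRing B] (e : A →+* A') (he : e.Etale) (t : A' →+* B) (n : ℕ) (ht : TowerHom p n t)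
    (Q : Ideal B) [Q.IsPrime] :
    ∃ h ∉ Q,
      letI := ((algebraMap B (Localization.Away h)).comp (t.comp e)).toAlgebra
      Synt.IsSyntomic A (Localization.Away h) := by
  have hp : p.Prime := Fact.out
  letI := e.toAlgebra
  haveI : Algebra.Etale A A' := RingHom.etale_algebraMap.mp he
  haveI : (Q.comap t).IsPrime := Ideal.comap_isPrime t Q
  obtain ⟨g, hg, hstd⟩ := Algebra.IsEtaleAt.exists_isStandardEtale (R := A) (Q.comap t)
  refine ⟨t g, hg, ?_⟩
  letI algAB : Algebra A (Localization.Away (t g)) :=
    ((algebraMap B (Localization.Away (t g))).comp (t.comp e)).toAlgebra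
  change Synt.IsSyntomic A (Localization.Away (t g))
  have htg : TowerHom p n (IsLocalization.Away.map (Localization.Away g)
      (Localization.Away (t g)) t g) := TowerHom.awayMap ht g _ _
  letI algA'B : Algebra (Localization.Away g) (Localization.Away (t g)) :=
    (IsLocalization.Away.map (Localization.Away g) (Localization.Away (t g)) t g).toAlgebra
  haveI : IsScalarTower A (Localization.Away g) (Localization.Away (t g)) :=
    IsScalarTower.of_algebraMap_eq fun x => by
      change algebraMap B _ (t (e x)) = IsLocalization.Away.map (Localization.Away g)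
        (Localization.Away (t g)) t g (algebraMap A' _ (e x))
      rw [IsLocalization.Away.map, IsLocalization.map_eq]
  obtain ⟨hfin, hfree, hsq⟩ := tower_props p hp.ne_zero n htg
  haveI : Module.Flat A (Localization.Away g) := inferInstance
  haveI : Module.Flat A (Localization.Away (t g)) :=
    Module.Flat.trans A (Localization.Away g) (Localization.Away (t g))
  haveI : Algebra.QuasiFinite A (Localization.Away g) := inferInstance
  haveI : Algebra.QuasiFinite A (Localization.Away (t g)) :=
    Algebra.QuasiFinite.trans A (Localization.Away g) (Localization.Away (t g))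
  exact isSyntomic_of_flat_quasiFinite A _ (hsq.comp (HasSqPres.of_isStandardEtale A _))

end Groth.Agent.Lib.Helper25.QuietSynt
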