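import Mathlib
import Groth.Agent.Lib.lead.GROpenG
import Groth.Agent.Lib.Helper21.RedFlat
import Groth.Agent.Lib.Helper21.FlatDescQ

/-!
# Helper25 — RedAscent: ascent of reducedness along flat finitely presented algebras with
(geometrically) reduced fibres, over an arbitrary reduced base (no Noetherian hypothesis)
-/

set_option autoImplicit false
set_option linter.style.haveILetI false
set_option linter.unusedSectionVars false
universe u
open TensorProduct IsLocalRing

namespace Groth.Agent.Lib.Helper25.RedAscent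

open Groth.Agent.Lib.Helper25.RedLoc Groth.Agent.Lib.lead.GROpen Groth.Agent.Lib.Helper21

section LG

variable (A B : Type u) [CommRing A] [CommRing B] [Algebra A B]

/-- local to global: the fibre over `P` is reduced if its local rings are. -/
theorem isReduced_fiber_of_forall_FR (P : Ideal A) [P.IsPrime]
    (h : ∀ q : PrimeSpectrum B, q.asIdeal.under A = P →
      FR A (Localization.AtPrime q.asIdeal) P) :
    IsReduced (P.ResidueField ⊗[A] B) := by
  refine ⟨fun t ht => ?_⟩
  by_contra hne
  let I : Ideal (P.ResidueField ⊗[A] B) :=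
    LinearMap.ker (LinearMap.mulRight (P.ResidueField ⊗[A] B) t)
  have hI : I ≠ ⊤ := by
    intro h1
    have h2 : (1 : P.ResidueField ⊗[A] B) ∈ I := h1 ▸ Submodule.mem_top
    rw [LinearMap.mem_ker] at h2
    simp at h2
    exact hne h2
  obtain ⟨𝔪, hmax, hle⟩ := Ideal.exists_le_maximal I hI
  let ι : B →+* P.ResidueField ⊗[A] B :=
    (Algebra.TensorProduct.includeRight (R := A) (A := P.ResidueField) (B := B)).toRingHom
  haveI : 𝔪.IsPrime := hmax.isPrime
  let q : PrimeSpectrum B := ⟨𝔪.comap ι, Ideal.IsPrime.comap ι⟩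
  have hι : ∀ a : A, ι (algebraMap A B a) =
      algebraMap P.ResidueField (P.ResidueField ⊗[A] B) (algebraMap A P.ResidueField a) := by
    intro a
    show (Algebra.TensorProduct.includeRight (R := A) (A := P.ResidueField) (B := B))
      (algebraMap A B a) = _
    rw [AlgHom.commutes, ← IsScalarTower.algebraMap_apply]
  have hq : q.asIdeal.under A = P := by
    ext a
    show ι (algebraMap A B a) ∈ 𝔪 ↔ a ∈ P
    rw [hι]
    constructor
    · intro ha
      by_contra haP
      have hu : IsUnit (algebraMap A P.ResidueField a) := by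
        rw [isUnit_iff_ne_zero]
        intro h0
        exact haP (Ideal.algebraMap_residueField_eq_zero.1 h0)
      exact hmax.ne_top (Ideal.eq_top_of_isUnit_mem _ ha (hu.map _))
    · intro ha
      rw [Ideal.algebraMap_residueField_eq_zero.2 ha, map_zero]
      exact 𝔪.zero_mem
  haveI hred : IsReduced (P.ResidueField ⊗[A] Localization.AtPrime q.asIdeal) :=
    h q hq P.ResidueField (Ideal.ker_algebraMap_residueField P)
  letI : Algebra (P.ResidueField ⊗[A] B) (P.ResidueField ⊗[A] Localization.AtPrime q.asIdeal) :=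
    (Algebra.TensorProduct.map (AlgHom.id A P.ResidueField)
      (IsScalarTower.toAlgHom A B (Localization.AtPrime q.asIdeal))).toAlgebra
  haveI : IsScalarTower P.ResidueField (P.ResidueField ⊗[A] B)
      (P.ResidueField ⊗[A] Localization.AtPrime q.asIdeal) :=
    .of_algebraMap_eq <| by intro; simp [RingHom.algebraMap_toAlgebra]
  haveI := IsLocalization.tensorProduct_tensorProduct_right A P.ResidueField
    q.asIdeal.primeCompl (Localization.AtPrime q.asIdeal)
    (by ext; simp [RingHom.algebraMap_toAlgebra])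
  have h0 : algebraMap (P.ResidueField ⊗[A] B)
      (P.ResidueField ⊗[A] Localization.AtPrime q.asIdeal) t = 0 :=
    (ht.map _).eq_zero
  obtain ⟨m, hm⟩ := (IsLocalization.map_eq_zero_iff
    (q.asIdeal.primeCompl.map (Algebra.TensorProduct.includeRight (R := A) (A := P.ResidueField)))
    _ t).1 h0
  obtain ⟨s, hs, hsm⟩ := m.2
  have h1 : (m : P.ResidueField ⊗[A] B) ∈ I := by
    rw [LinearMap.mem_ker]
    simpa using hm
  have h2 : (m : P.ResidueField ⊗[A] B) ∈ 𝔪 := hle h1
  apply hs
  show ι s ∈ 𝔪
  have : ι s = (m : P.ResidueField ⊗[A] B) := hsm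
  rw [this]
  exact h2

end LG

section Noeth

/-- the Noetherian core: a flat algebra over a reduced Noetherian ring whose fibres over the
minimal primes become reduced after some field extension is reduced. -/
theorem isReduced_of_noeth (R' S' : Type u) [CommRing R'] [CommRing S'] [Algebra R' S']
    [IsNoetherianRing R'] [IsReduced R'] [Module.Flat R' S']
    (h : ∀ p' ∈ minimalPrimes R', ∃ (L : Type u) (_ : Field L) (_ : Algebra R' L),
      RingHom.ker (algebraMap R' L) = p' ∧ IsReduced (L ⊗[R'] S')) : IsReduced S' := by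
  refine RedFlat.isReduced_of_flat_of_fibres (minimalPrimes.finite_of_isNoetherianRing R') ?_
  intro p' _ hp'
  obtain ⟨L, _, _, hker, hred⟩ := h p' hp'
  let j : p'.ResidueField →ₐ[R'] L := Ideal.ResidueField.liftₐ p' (Algebra.ofId R' L)
    (fun x hx => by
      rw [RingHom.mem_ker]
      have : x ∈ RingHom.ker (algebraMap R' L) := hker ▸ hx
      exact this)
    (fun x hx => by
      show IsUnit (algebraMap R' L x)
      rw [isUnit_iff_ne_zero]
      intro h0
      exact hx (hker ▸ (RingHom.mem_ker.2 h0)))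
  have hj : Function.Injective j := (j : p'.ResidueField →+* L).injective
  have h1 : Function.Injective (LinearMap.rTensor S' j.toLinearMap) :=
    Module.Flat.rTensor_preserves_injective_linearMap _ hj
  have h2 : ∀ z : p'.ResidueField ⊗[R'] S',
      Algebra.TensorProduct.map j (AlgHom.id R' S') z = LinearMap.rTensor S' j.toLinearMap z := by
    intro z
    induction z using TensorProduct.induction_on with
    | zero => simp
    | tmul x y => simp
    | add x y hx hy => rw [map_add, map_add, hx, hy]
  refine isReduced_of_injective (Algebra.TensorProduct.map j (AlgHom.id R' S')) ?_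
  intro x y hxy
  apply h1
  rw [← h2, ← h2]
  exact hxy

end Noeth

section Transfer

/-- transfer of reducedness of an `L`-fibre between a pushout and an intermediate model. -/
theorem isReduced_transfer (R₀ R' R S₀ S L : Type u) [CommRing R₀] [CommRing R'] [CommRing R]
    [CommRing S₀] [CommRing S] [CommRing L]
    [Algebra R₀ R'] [Algebra R₀ R] [Algebra R' R] [IsScalarTower R₀ R' R]
    [Algebra R₀ S₀] [Algebra R S] [Algebra S₀ S] [Algebra R₀ S] [IsScalarTower R₀ R S]
    [IsScalarTower R₀ S₀ S] [Algebra.IsPushout R₀ R S₀ S]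
    [Algebra R L] [Algebra R' L] [Algebra R₀ L] [IsScalarTower R' R L] [IsScalarTower R₀ R L]
    [IsScalarTower R₀ R' L]
    (h : IsReduced (L ⊗[R] S)) : IsReduced (L ⊗[R'] (R' ⊗[R₀] S₀)) := by
  let e1 : L ⊗[R'] (R' ⊗[R₀] S₀) ≃ₐ[R'] L ⊗[R₀] S₀ :=
    Algebra.TensorProduct.cancelBaseChange R₀ R' R' L S₀
  let e2 : L ⊗[R] (R ⊗[R₀] S₀) ≃ₐ[R] L ⊗[R₀] S₀ :=
    Algebra.TensorProduct.cancelBaseChange R₀ R R L S₀
  let e3 : L ⊗[R] (R ⊗[R₀] S₀) ≃ₐ[R] L ⊗[R] S :=
    Algebra.TensorProduct.congr (AlgEquiv.refl : L ≃ₐ[R] L) (Algebra.IsPushout.equiv R₀ R S₀ S)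
  let φ : L ⊗[R'] (R' ⊗[R₀] S₀) →+* L ⊗[R] S :=
    (e3.toRingEquiv.toRingHom.comp e2.symm.toRingEquiv.toRingHom).comp e1.toRingEquiv.toRingHom
  refine isReduced_of_injective φ ?_
  intro x y hxy
  have h3 := e3.injective hxy
  have h2 := e2.symm.injective h3
  exact e1.injective h2

end Transfer

section Main

/-- **ascent of reducedness**: a flat finitely presented algebra over a reduced ring all of whose
fibres are reduced is reduced (no Noetherian hypothesis). -/
theorem isReduced_of_flat_fp (R S : Type u) [CommRing R] [CommRing S] [Algebra R S]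
    [Algebra.FinitePresentation R S] [Module.Flat R S] [IsReduced R]
    (hfib : ∀ (P : Ideal R) [P.IsPrime], IsReduced (P.ResidueField ⊗[R] S)) : IsReduced S := by
  obtain ⟨R₀, _, _, S₀, _, _, _, _, _, _, hft, hft', hflat, hpush⟩ :=
    FlatDesc.exists_flat_algebra_model R S
  classical
  haveI := hft
  haveI := hft'
  haveI := hflat
  haveI := hpush
  haveI : IsNoetherianRing R₀ := Algebra.FiniteType.isNoetherianRing ℤ R₀
  let e : R ⊗[R₀] S₀ ≃ₐ[R] S := Algebra.IsPushout.equiv R₀ R S₀ S
  refine ⟨fun b hb => ?_⟩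
  obtain ⟨F, hF⟩ := TensorProduct.exists_finset (e.symm b)
  let R' : Subalgebra R₀ R := Algebra.adjoin R₀ ((F.image (fun i => i.1) : Finset R) : Set R)
  haveI : Algebra.FiniteType R₀ R' :=
    (Subalgebra.fg_iff_finiteType R').1 (Subalgebra.fg_adjoin_finset _)
  haveI : IsNoetherianRing R' := Algebra.FiniteType.isNoetherianRing R₀ R'
  haveI : IsReduced R' := isReduced_of_injective R'.val Subtype.val_injective
  let ψ : R' ⊗[R₀] S₀ →ₐ[R₀] R ⊗[R₀] S₀ := Algebra.TensorProduct.map R'.val (AlgHom.id R₀ S₀)
  have hψ : Function.Injective ψ := by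
    have h1 : Function.Injective (LinearMap.rTensor S₀ R'.val.toLinearMap) :=
      Module.Flat.rTensor_preserves_injective_linearMap _ Subtype.val_injective
    have h2 : ∀ z, ψ z = LinearMap.rTensor S₀ R'.val.toLinearMap z := by
      intro z
      induction z using TensorProduct.induction_on with
      | zero => simp
      | tmul x y => simp [ψ]
      | add x y hx hy => rw [map_add, map_add, hx, hy]
    intro x y hxy
    apply h1
    rw [← h2, ← h2]
    exact hxy
  have hmem : e.symm b ∈ ψ.range := by
    rw [hF]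
    refine Subalgebra.sum_mem _ (fun i hi => ?_)
    have hi' : i.1 ∈ R' :=
      Algebra.subset_adjoin (Finset.mem_coe.2 (Finset.mem_image_of_mem _ hi))
    exact ⟨(⟨i.1, hi'⟩ : R') ⊗ₜ i.2, by simp [ψ]⟩
  obtain ⟨b', hb'0⟩ := hmem
  have hb' : ψ b' = e.symm b := hb'0
  haveI hS'red : IsReduced (R' ⊗[R₀] S₀) := by
    refine isReduced_of_noeth R' (R' ⊗[R₀] S₀) (fun p' hp' => ?_)
    obtain ⟨P, hP, hPp⟩ := Ideal.exists_comap_eq_of_mem_minimalPrimes_of_injective
      (f := algebraMap R' R) Subtype.val_injective p' hp'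
    haveI := hP
    refine ⟨P.ResidueField, inferInstance, inferInstance, ?_, ?_⟩
    · rw [IsScalarTower.algebraMap_eq R' R P.ResidueField, ← RingHom.comap_ker,
        Ideal.ker_algebraMap_residueField]
      exact hPp
    · exact isReduced_transfer R₀ R' R S₀ S P.ResidueField (hfib P)
  have hb'nil : IsNilpotent b' := by
    obtain ⟨n, hn⟩ := hb
    refine ⟨n, hψ ?_⟩
    rw [map_pow, hb', map_zero, ← map_pow, hn, map_zero]
  have hb'z : b' = 0 := hb'nil.eq_zero
  rw [hb'z, map_zero] at hb'
  exact (map_eq_zero_iff e.symm e.symm.injective).1 hb'.symm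

attribute [local instance] Algebra.TensorProduct.rightAlgebra in
/-- pointwise form: if all the fibres of a flat finitely presented `A`-algebra `B` are
geometrically reduced at all their points and `A_p` is reduced (`p = q ∩ A`), then `B_q` is
reduced. -/
theorem isReduced_localization_of_grSet (A B : Type u) [CommRing A] [CommRing B] [Algebra A B]
    [Algebra.FinitePresentation A B] [Module.Flat A B]
    (hall : ∀ q : PrimeSpectrum B, q ∈ grSet A B)
    (q : Ideal B) [q.IsPrime] (hp : IsReduced (Localization.AtPrime (q.under A))) :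
    IsReduced (Localization.AtPrime q) := by
  have hall₁ : ∀ q₁ : PrimeSpectrum (Localization.AtPrime (q.under A) ⊗[A] B),
      q₁ ∈ grSet (Localization.AtPrime (q.under A)) (Localization.AtPrime (q.under A) ⊗[A] B) :=
    fun q₁ => (mem_grSet_bc A (Localization.AtPrime (q.under A)) B
      (Localization.AtPrime (q.under A) ⊗[A] B) q₁).2 (hall _)
  have hfib : ∀ (P : Ideal (Localization.AtPrime (q.under A))) [P.IsPrime],
      IsReduced (P.ResidueField ⊗[Localization.AtPrime (q.under A)]
        (Localization.AtPrime (q.under A) ⊗[A] B)) := by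
    intro P _
    refine isReduced_fiber_of_forall_FR _ _ P (fun q₁ hq₁ => ?_)
    have h1 := hall₁ q₁
    rw [← hq₁]
    exact h1
  haveI : IsReduced (Localization.AtPrime (q.under A) ⊗[A] B) :=
    isReduced_of_flat_fp (Localization.AtPrime (q.under A)) _ hfib
  haveI : IsLocalization (Algebra.algebraMapSubmonoid B (q.under A).primeCompl)
      (Localization.AtPrime (q.under A) ⊗[A] B) := inferInstance
  have hM : Algebra.algebraMapSubmonoid B (q.under A).primeCompl ≤ q.primeCompl := by
    rintro _ ⟨a, ha, rfl⟩ haq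
    exact ha haq
  letI : Algebra (Localization.AtPrime (q.under A) ⊗[A] B) (Localization.AtPrime q) :=
    IsLocalization.localizationAlgebraOfSubmonoidLe _ _
      (Algebra.algebraMapSubmonoid B (q.under A).primeCompl) q.primeCompl hM
  haveI : IsScalarTower B (Localization.AtPrime (q.under A) ⊗[A] B) (Localization.AtPrime q) :=
    IsLocalization.localization_isScalarTower_of_submonoid_le _ _
      (Algebra.algebraMapSubmonoid B (q.under A).primeCompl) q.primeCompl hM
  haveI : IsLocalization (q.primeCompl.map (algebraMap B (Localization.AtPrime (q.under A) ⊗[A] B)))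
      (Localization.AtPrime q) :=
    IsLocalization.isLocalization_of_submonoid_le _ _
      (Algebra.algebraMapSubmonoid B (q.under A).primeCompl) q.primeCompl hM
  exact isReduced_localizationPreserves
    (q.primeCompl.map (algebraMap B (Localization.AtPrime (q.under A) ⊗[A] B))) _ inferInstance

end Main

section Sch

open CategoryTheory AlgebraicGeometry

theorem isReduced_stalk_iff {X : Scheme.{u}} {U : X.Opens} (hU : IsAffineOpen U) (x : X)
    (hx : x ∈ U) :
    IsReduced (X.presheaf.stalk x) ↔
      IsReduced (Localization.AtPrime (hU.primeIdealOf ⟨x, hx⟩).asIdeal) := by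
  letI : Algebra Γ(X, U) (X.presheaf.stalk x) :=
    TopCat.Presheaf.algebra_section_stalk X.presheaf ⟨x, hx⟩
  haveI := hU.isLocalization_stalk ⟨x, hx⟩
  let e := IsLocalization.algEquiv (hU.primeIdealOf ⟨x, hx⟩).asIdeal.primeCompl
    (Localization.AtPrime (hU.primeIdealOf ⟨x, hx⟩).asIdeal) (X.presheaf.stalk x)
  exact ⟨fun h => isReduced_of_injective e e.injective,
    fun h => isReduced_of_injective e.symm e.symm.injective⟩

theorem isReduced_atPrime_congr {A : Type u} [CommRing A] (I J : Ideal A) [I.IsPrime]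
    [J.IsPrime] (h : I = J) (hJ : IsReduced (Localization.AtPrime J)) :
    IsReduced (Localization.AtPrime I) := by
  subst h
  exact hJ

variable {X Y : Scheme.{u}}

/-- **EGA IV 11.3.x / 12.1.x (S2567)**, chart form: if `f` is flat, locally of finite
presentation, with fibres geometrically reduced at all points of the affine open `U`, and the
local ring of `Y` at `f x` is reduced, then so is the local ring of `X` at `x ∈ U`. -/
theorem isReducedAt_of_chart (f : X ⟶ Y) [Flat f] [LocallyOfFinitePresentation f] (x : X)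
    {V : Y.Opens} (hV : IsAffineOpen V) {U : X.Opens} (hU : IsAffineOpen U) (hUV : U ≤ f ⁻¹ᵁ V)
    (hxU : x ∈ U) (hUW : ∀ z ∈ U, GR f z) (hy : FBase.IsReducedAt Y (f.base x)) :
    FBase.IsReducedAt X x := by
  have hfp : (f.appLE V U hUV).hom.FinitePresentation :=
    HasRingHomProperty.appLE @LocallyOfFinitePresentation f inferInstance ⟨V, hV⟩ ⟨U, hU⟩ hUV
  have hfl : (f.appLE V U hUV).hom.Flat :=
    HasRingHomProperty.appLE @Flat f inferInstance ⟨V, hV⟩ ⟨U, hU⟩ hUV
  letI alg : Algebra Γ(Y, V) Γ(X, U) := (f.appLE V U hUV).hom.toAlgebra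
  haveI : Algebra.FinitePresentation Γ(Y, V) Γ(X, U) := hfp
  haveI : Module.Flat Γ(Y, V) Γ(X, U) := hfl
  have hsq : Spec.map (f.appLE V U hUV) ≫ hV.fromSpec = hU.fromSpec ≫ f :=
    IsAffineOpen.SpecMap_appLE_fromSpec f hV hU hUV
  have key : ∀ b : Spec Γ(X, U), GR (Spec.map (f.appLE V U hUV)) b ↔ GR f (hU.fromSpec b) := by
    intro b
    rw [gr_tgt (Spec.map (f.appLE V U hUV)) hV.fromSpec b, gr_congr hsq b]
    exact gr_src hU.fromSpec f b
  have hall : ∀ q : PrimeSpectrum Γ(X, U), q ∈ grSet Γ(Y, V) Γ(X, U) := by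
    intro q
    have h1 : GR (Spec.map (f.appLE V U hUV)) q := (key q).2 (hUW _ (by
      have : hU.fromSpec q ∈ Set.range hU.fromSpec := ⟨q, rfl⟩
      rw [hU.range_fromSpec] at this
      exact this))
    exact (mem_grSet_iff_gr Γ(Y, V) Γ(X, U) q).2 h1
  unfold FBase.IsReducedAt at hy ⊢
  rw [isReduced_stalk_iff hU x hxU]
  haveI : (hU.primeIdealOf ⟨x, hxU⟩).asIdeal.IsPrime := (hU.primeIdealOf ⟨x, hxU⟩).isPrime
  refine isReduced_localization_of_grSet Γ(Y, V) Γ(X, U) hall _ ?_
  have hcomap : (hU.primeIdealOf ⟨x, hxU⟩).asIdeal.under Γ(Y, V) =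
      (hV.primeIdealOf ⟨f x, hUV hxU⟩).asIdeal :=
    congrArg PrimeSpectrum.asIdeal (IsAffineOpen.comap_primeIdealOf_appLE V hV U hU hUV hxU)
  haveI : (hV.primeIdealOf ⟨f x, hUV hxU⟩).asIdeal.IsPrime :=
    (hV.primeIdealOf ⟨f x, hUV hxU⟩).isPrime
  refine isReduced_atPrime_congr _ _ hcomap ?_
  exact (isReduced_stalk_iff hV (f x) (hUV hxU)).1 hy

end Sch

end Groth.Agent.Lib.Helper25.RedAscent
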