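import Mathlib
import Groth.Prelude.Def_Found
import Groth.Prelude.Def_EGA4b
import Groth.Agent.Lib.Helper25.RedLocC
import Groth.Agent.Lib.Helper12.AnUnramF

set_option autoImplicit false
set_option linter.style.haveILetI false
universe u
open TensorProduct IsLocalRing

namespace Groth.Agent.Lib.Helper25.RedLoc

/-- base change of a faithfully flat ring map `B → B'` along any `A`-algebra `L` stays
injective. -/
theorem map_injective_of_faithfullyFlat (A B B' : Type u) [CommRing A] [CommRing B] [CommRing B']
    [Algebra A B] [Algebra A B'] [Algebra B B'] [IsScalarTower A B B']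
    [Module.FaithfullyFlat B B'] (L : Type u) [CommRing L] [Algebra A L] :
    Function.Injective (Algebra.TensorProduct.map (AlgHom.id L L)
      (IsScalarTower.toAlgHom A B B') : L ⊗[A] B →ₐ[L] L ⊗[A] B') := by
  let ψ : L ⊗[A] B →ₐ[L] L ⊗[A] B' := Algebra.TensorProduct.map (AlgHom.id L L)
      (IsScalarTower.toAlgHom A B B')
  let g : B ⊗[A] L →ₗ[B] B' ⊗[B] (B ⊗[A] L) := TensorProduct.mk B B' (B ⊗[A] L) 1
  have hg : Function.Injective g := Module.FaithfullyFlat.tensorProduct_mk_injective _
  let e := Algebra.TensorProduct.cancelBaseChange A B B' B' L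
  let c1 := Algebra.TensorProduct.comm A L B
  let c2 := Algebra.TensorProduct.comm A L B'
  have hcomp : ∀ z : L ⊗[A] B, e (g (c1 z)) = c2 (ψ z) := by
    intro z
    induction z using TensorProduct.induction_on with
    | zero => simp
    | tmul l b =>
      show e ((1 : B') ⊗ₜ[B] (b ⊗ₜ[A] l)) = c2 (l ⊗ₜ[A] (algebraMap B B' b))
      rw [Algebra.TensorProduct.cancelBaseChange_tmul, Algebra.TensorProduct.comm_tmul,
        Algebra.smul_def, mul_one]
    | add z w hz hw => simp only [map_add, hz, hw]
  intro z w hzw
  have h1 : e (g (c1 z)) = e (g (c1 w)) := by rw [hcomp, hcomp, hzw]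
  exact c1.injective (hg (e.injective h1))

/-- EGA IV 7.5.3-type statement for `reduced`: geometric reducedness of all fibres of a flat
local homomorphism from that of the closed fibre of the completion. -/
theorem geomReduced_fibres_of_cpl (A B : Type u) [CommRing A] [CommRing B]
    [IsNoetherianRing A] [IsNoetherianRing B] [IsLocalRing A] [IsLocalRing B] [Algebra A B]
    [IsLocalHom (algebraMap A B)] [Module.Flat A B]
    (hA : EGA4.HasGeomReducedFormalFibres A)
    (h : Algebra.IsGeometricallyReduced (IsLocalRing.maximalIdeal A).ResidueField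
      ((IsLocalRing.maximalIdeal A).Fiber (EGA4.Cpl B)))
    (p : Ideal A) [p.IsPrime] : Algebra.IsGeometricallyReduced p.ResidueField (p.Fiber B) := by
  have hNag := Groth.Agent.Lib.Helper12.AnUnram.isNagata_of_geomReducedFormalFibres A hA
  haveI := Groth.Agent.Lib.Helper12.AnUnram.faithfullyFlat_cpl B
  haveI : IsScalarTower A B (EGA4.Cpl B) := IsScalarTower.of_algebraMap_eq (fun _ => rfl)
  haveI := h
  haveI hcl : Algebra.IsGeometricallyReduced (IsLocalRing.maximalIdeal A).ResidueField
      ((IsLocalRing.maximalIdeal A).Fiber B) :=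
    Algebra.IsGeometricallyReduced.of_injective
      (Algebra.TensorProduct.map (AlgHom.id (IsLocalRing.maximalIdeal A).ResidueField
        (IsLocalRing.maximalIdeal A).ResidueField) (IsScalarTower.toAlgHom A B (EGA4.Cpl B)))
      (map_injective_of_faithfullyFlat A B (EGA4.Cpl B) _)
  exact isGeometricallyReduced_of_FR p
    (FR_of_closed A B hNag (FR_of_isGeometricallyReduced (IsLocalRing.maximalIdeal A)) p)

end Groth.Agent.Lib.Helper25.RedLoc
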