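import Mathlib
import Groth.Prelude.Def_FrobAlg
import Groth.Agent.Lib.Helper25.FrobEtale

/-!
# Flatness of the relative Frobenius of a smooth algebra (helper library for S14036)

* `flat_expand`: `MvPolynomial.expand p` is flat (free on the monomials with exponents `< p`).
* `flat_relFrob_mvPolynomial`: relative Frobenius of a polynomial algebra is flat.
* `flat_relFrob_of_etale`: étale `P → C`, relative Frobenius of `P/A` flat ⇒ that of `C/A` flat.
* `relFrob_natural`, `flat_relFrob_of_isStandardSmooth`, `flat_relFrob_of_smooth`.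
-/

set_option autoImplicit false
set_option linter.unusedSectionVars false
set_option linter.style.haveILetI false
universe u v w
open FrobAlg

namespace Groth.Agent.Lib.Helper25.RelFrobFlat
open TensorProduct Groth.Agent.Lib.Helper25.FrobEtale

theorem flat_of_basis {R : Type*} {S : Type*} [CommRing R] [CommRing S] (f : R →+* S)
    {ι : Type*} (v : ι → S)
    (h : Function.Bijective (fun c : ι →₀ R => c.sum (fun i a => f a * v i))) : f.Flat := by
  algebraize [f]
  have h1 : (Finsupp.linearCombination R v : (ι →₀ R) → S) =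
      fun c => c.sum (fun i a => f a * v i) := by
    ext c
    rw [Finsupp.linearCombination_apply]
    rfl
  let E : (ι →₀ R) ≃ₗ[R] S := LinearEquiv.ofBijective (Finsupp.linearCombination R v) (h1 ▸ h)
  exact Module.Flat.of_linearEquiv E.symm

section poly

variable (p : ℕ) [hp : Fact p.Prime] (A : Type u) [CommRing A] (σ : Type w)

/-- exponent vectors with all entries `< p` -/
def Idx : Type w := {r : σ →₀ ℕ // ∀ i, r i < p}

noncomputable def eqv' : (Idx p σ × (σ →₀ ℕ)) ≃ (σ →₀ ℕ) where
  toFun x := p • x.2 + x.1.1
  invFun d := ⟨⟨d.mapRange (· % p) (Nat.zero_mod p), fun i => by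
      rw [Finsupp.mapRange_apply]; exact Nat.mod_lt _ hp.out.pos⟩,
    d.mapRange (· / p) (Nat.zero_div p)⟩
  left_inv := by
    rintro ⟨⟨r, hr⟩, q⟩
    refine Prod.ext (Subtype.ext ?_) ?_
    · ext i
      simp [Nat.add_mod, Nat.mod_eq_of_lt (hr i)]
    · ext i
      simp [Nat.add_div hp.out.pos, Nat.div_eq_of_lt (hr i), Nat.mod_eq_of_lt (hr i), hp.out.pos]
      exact hr i
  right_inv := by
    intro d
    ext i
    simp [Nat.div_add_mod]


noncomputable def eqv : (Σ _ : Idx p σ, (σ →₀ ℕ)) ≃ (σ →₀ ℕ) :=
  (Equiv.sigmaEquivProd _ _).trans (eqv' p σ)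

theorem eqv_apply (r : Idx p σ) (q : σ →₀ ℕ) : eqv p σ ⟨r, q⟩ = p • q + r.1 := rfl

noncomputable def Phi : (Idx p σ →₀ MvPolynomial σ A) →ₗ[A] MvPolynomial σ A :=
  Finsupp.lsum A (fun r => (LinearMap.mulRight A (MvPolynomial.monomial r.1 (1:A))).comp
    (MvPolynomial.expand p).toLinearMap)

theorem Phi_apply (c : Idx p σ →₀ MvPolynomial σ A) :
    Phi p A σ c = c.sum (fun r f => MvPolynomial.expand p f * MvPolynomial.monomial r.1 (1:A)) := by
  rw [Phi, Finsupp.lsum_apply]
  rfl

noncomputable def PhiE : (Idx p σ →₀ MvPolynomial σ A) ≃ₗ[A] MvPolynomial σ A :=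
  (Finsupp.basis (fun _ : Idx p σ => MvPolynomial.basisMonomials σ A)).equiv
    (MvPolynomial.basisMonomials σ A) (eqv p σ)

theorem Phi_eq : Phi p A σ = (PhiE p A σ : _ →ₗ[A] _) := by
  refine (Finsupp.basis (fun _ : Idx p σ => MvPolynomial.basisMonomials σ A)).ext ?_
  rintro ⟨r, q⟩
  rw [LinearEquiv.coe_coe, PhiE, Module.Basis.equiv_apply, Finsupp.coe_basis, Phi_apply,
    MvPolynomial.coe_basisMonomials]
  simp only
  rw [Finsupp.sum_single_index (by simp), MvPolynomial.expand_monomial, MvPolynomial.monomial_mul,
    one_mul, eqv_apply]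

theorem flat_expand : (MvPolynomial.expand p : MvPolynomial σ A →ₐ[A] _).toRingHom.Flat := by
  refine flat_of_basis _ (fun r : Idx p σ => MvPolynomial.monomial r.1 (1:A)) ?_
  have : (fun c : Idx p σ →₀ MvPolynomial σ A => c.sum (fun i a =>
      (MvPolynomial.expand p : MvPolynomial σ A →ₐ[A] _).toRingHom a *
        MvPolynomial.monomial i.1 (1:A))) = PhiE p A σ := by
    ext1 c
    rw [← LinearEquiv.coe_coe, ← Phi_eq, Phi_apply]
    rfl
  rw [this]
  exact (PhiE p A σ).bijective


variable [CharP A p]

noncomputable def polyE : MvPolynomial σ A ≃+* BaseChange p A (MvPolynomial σ A) :=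
  (MvPolynomial.mapEquiv σ (toTwist p A)).trans
    ((MvPolynomial.algebraTensorAlgEquiv (σ := σ) A (Twist p A)).symm.toRingEquiv.trans
      (Algebra.TensorProduct.comm A (Twist p A) (MvPolynomial σ A)).toRingEquiv)

theorem polyE_C (a : A) : polyE p A σ (MvPolynomial.C a) = 1 ⊗ₜ toTwist p A a := by
  simp only [polyE, RingEquiv.trans_apply, MvPolynomial.mapEquiv_apply, MvPolynomial.map_C,
    RingEquiv.coe_toRingHom]
  change (Algebra.TensorProduct.comm A (Twist p A) (MvPolynomial σ A))
      ((MvPolynomial.algebraTensorAlgEquiv A (Twist p A)).symm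
        (MvPolynomial.C ((toTwist p A) a))) = _
  rw [← MvPolynomial.monomial_zero', MvPolynomial.algebraTensorAlgEquiv_symm_monomial,
    Algebra.TensorProduct.comm_tmul, MvPolynomial.monomial_zero', map_one]

theorem polyE_X (i : σ) : polyE p A σ (MvPolynomial.X i) = MvPolynomial.X i ⊗ₜ 1 := by
  simp [polyE]

theorem relFrob_comp_polyE :
    (relFrob p A (MvPolynomial σ A)).comp (polyE p A σ).toRingHom =
      (MvPolynomial.expand p : MvPolynomial σ A →ₐ[A] _).toRingHom := by
  refine MvPolynomial.ringHom_ext (fun a => ?_) (fun i => ?_)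
  · simp [polyE_C, relFrob_tmul]
  · simp [polyE_X, relFrob_tmul]

theorem flat_relFrob_mvPolynomial : (relFrob p A (MvPolynomial σ A)).Flat := by
  have h : relFrob p A (MvPolynomial σ A) =
      ((MvPolynomial.expand p : MvPolynomial σ A →ₐ[A] _).toRingHom).comp
        (polyE p A σ).symm.toRingHom := by
    rw [← relFrob_comp_polyE]
    refine RingHom.ext (fun x => ?_)
    simp
  rw [h]
  exact RingHom.Flat.comp (RingHom.Flat.of_bijective (polyE p A σ).symm.bijective)
    (flat_expand p A σ)

end poly
section chart

variable (p : ℕ) [Fact p.Prime] (A : Type u) [CommRing A] [CharP A p]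
  (P : Type w) [CommRing P] [Algebra A P] [CharP P p]
  (C : Type v) [CommRing C] [Algebra A C] [Algebra P C] [IsScalarTower A P C] [CharP C p]

/-- `W_P → W_C` -/
noncomputable def mapW : BaseChange p A P →ₐ[A] BaseChange p A C :=
  Algebra.TensorProduct.map (IsScalarTower.toAlgHom A P C) (AlgHom.id A (Twist p A))

/-- `W_P → Tw_P` -/
noncomputable def jP : BaseChange p A P →+* Twist p P :=
  (toTwist p P : P →+* Twist p P).comp (relFrob p A P)

/-- `Tw_A → T' = C ⊗[P] Tw_P` -/
noncomputable def gR : Twist p A →ₐ[A] BaseChange p P C where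
  toRingHom := (Algebra.TensorProduct.includeRight (R := P) (A := C) (B := Twist p P)).toRingHom.comp
    ((toTwist p P : P →+* Twist p P).comp
      ((algebraMap A P).comp ((toTwist p A).symm : Twist p A →+* A)))
  commutes' a := by
    change (1 : C) ⊗ₜ[P] (toTwist p P (algebraMap A P ((toTwist p A).symm (algebraMap A (Twist p A) a)))) =
      algebraMap A C a ⊗ₜ 1
    rw [algebraMap_twist, RingEquiv.symm_apply_apply, map_pow, ← algebraMap_twist,
      Algebra.algebraMap_eq_smul_one, ← TensorProduct.smul_tmul, Algebra.smul_def, mul_one,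
      IsScalarTower.algebraMap_apply A P C]

theorem gR_apply (t : Twist p A) :
    gR p A P C t = (1 : C) ⊗ₜ[P] (toTwist p P (algebraMap A P ((toTwist p A).symm t))) := rfl

/-- `α : W_C → T'` -/
noncomputable def alpha : BaseChange p A C →ₐ[A] BaseChange p P C :=
  Algebra.TensorProduct.productMap
    ((Algebra.TensorProduct.includeLeft (R := P) (S := P) (A := C) (B := Twist p P)).restrictScalars A)
    (gR p A P C)

theorem alpha_tmul (c : C) (t : Twist p A) :
    alpha p A P C (c ⊗ₜ t) = c ⊗ₜ[P] (toTwist p P (algebraMap A P ((toTwist p A).symm t))) := by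
  rw [alpha, Algebra.TensorProduct.productMap_apply_tmul, gR_apply]
  simp

theorem relFrob_comp_alpha :
    (relFrob p P C).comp (alpha p A P C).toRingHom = relFrob p A C := by
  refine Algebra.TensorProduct.ringHom_ext ?_ ?_
  · ext c
    simp [alpha_tmul, relFrob_tmul]
  · ext t
    simp [alpha_tmul, relFrob_tmul, ← IsScalarTower.algebraMap_apply]


theorem flat_relFrob_of_etale [Algebra.Etale P C] (hP : (relFrob p A P).Flat) :
    (relFrob p A C).Flat := by
  -- algebra structures
  letI iSS' : Algebra (BaseChange p A P) (BaseChange p A C) := (mapW p A P C).toRingHom.toAlgebra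
  letI iST : Algebra (BaseChange p A P) (Twist p P) := (jP p A P).toAlgebra
  letI iS'T' : Algebra (BaseChange p A C) (BaseChange p P C) := (alpha p A P C).toRingHom.toAlgebra
  letI iST' : Algebra (BaseChange p A P) (BaseChange p P C) :=
    ((algebraMap (Twist p P) (BaseChange p P C)).comp (jP p A P)).toAlgebra
  have hSS' : ∀ x, algebraMap (BaseChange p A P) (BaseChange p A C) x = mapW p A P C x := fun _ => rfl
  have hST : ∀ x, algebraMap (BaseChange p A P) (Twist p P) x = jP p A P x := fun _ => rfl
  have hS'T' : ∀ x, algebraMap (BaseChange p A C) (BaseChange p P C) x = alpha p A P C x := fun _ => rfl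
  have hST' : ∀ x, algebraMap (BaseChange p A P) (BaseChange p P C) x =
    algebraMap (Twist p P) (BaseChange p P C) (jP p A P x) := fun _ => rfl
  -- towers
  haveI t1 : IsScalarTower P (BaseChange p A P) (BaseChange p A C) :=
    IsScalarTower.of_algebraMap_eq (fun x => by
      rw [hSS', Algebra.TensorProduct.algebraMap_apply, Algebra.TensorProduct.algebraMap_apply, mapW,
        Algebra.TensorProduct.map_tmul]
      simp)
  haveI t2 : IsScalarTower P (BaseChange p A P) (Twist p P) :=
    IsScalarTower.of_algebraMap_eq (fun x => by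
      rw [hST, Algebra.TensorProduct.algebraMap_apply, jP, RingHom.comp_apply, relFrob_tmul,
        algebraMap_twist]
      simp)
  haveI t4 : IsScalarTower (BaseChange p A P) (Twist p P) (BaseChange p P C) :=
    IsScalarTower.of_algebraMap_eq (fun x => hST' x)
  haveI t5 : IsScalarTower (BaseChange p A P) (BaseChange p A C) (BaseChange p P C) :=
    IsScalarTower.of_algebraMap_eq (fun x => by
      rw [hST', hSS', hS'T']
      induction x using TensorProduct.induction_on with
      | zero => simp
      | add x y hx hy => simp only [map_add, hx, hy]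
      | tmul y t =>
        rw [mapW, Algebra.TensorProduct.map_tmul, alpha_tmul, jP, RingHom.comp_apply, relFrob_tmul]
        change (1 : C) ⊗ₜ[P] (toTwist p P (y ^ p * algebraMap A P ((toTwist p A).symm t))) =
          algebraMap P C y ⊗ₜ[P] toTwist p P (algebraMap A P ((toTwist p A).symm t))
        rw [map_mul, ← algebraMap_twist, ← Algebra.smul_def, TensorProduct.tmul_smul,
          TensorProduct.smul_tmul', Algebra.smul_def, mul_one])
  haveI t7 : IsScalarTower P (BaseChange p A C) (BaseChange p P C) :=
    IsScalarTower.of_algebraMap_eq (fun x => by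
      rw [hS'T', Algebra.TensorProduct.algebraMap_apply, Algebra.TensorProduct.algebraMap_apply,
        alpha_tmul]
      simp)
  haveI t8 : IsScalarTower C (BaseChange p A C) (BaseChange p P C) :=
    IsScalarTower.of_algebraMap_eq (fun x => by
      rw [hS'T', Algebra.TensorProduct.algebraMap_apply, Algebra.TensorProduct.algebraMap_apply,
        alpha_tmul]
      simp)
  haveI po1 : Algebra.IsPushout P (BaseChange p A P) C (BaseChange p A C) := by
    refine Algebra.IsPushout.symm ?_
    refine Algebra.IsPushout.tensorProduct_tensorProduct A (Twist p A) P C ?_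
    ext t
    simp [hSS', mapW]
  haveI po2 : Algebra.IsPushout P (Twist p P) C (BaseChange p P C) := inferInstance
  have po3 : Algebra.IsPushout (BaseChange p A P) (Twist p P) (BaseChange p A C) (BaseChange p P C) :=
    (Algebra.IsPushout.comp_iff P (BaseChange p A P) C (BaseChange p A C)).mp po2
  haveI fl1 : Module.Flat (BaseChange p A P) (Twist p P) :=
    (RingHom.Flat.comp hP (RingHom.Flat.of_bijective (toTwist p P).bijective) : (jP p A P).Flat)
  have fl2 : Module.Flat (BaseChange p A C) (BaseChange p P C) :=
    Module.Flat.isBaseChange (BaseChange p A P) (BaseChange p A C) (Twist p P) (BaseChange p P C)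
      po3.symm.out
  have fl3 : (alpha p A P C).toRingHom.Flat := fl2
  rw [← relFrob_comp_alpha p A P C]
  exact RingHom.Flat.comp fl3 (RingHom.Flat.of_bijective (relFrob_bijective_of_etale p P C))

end chart

section main

variable (p : ℕ) [Fact p.Prime] (A : Type u) [CommRing A] [CharP A p]
  (B : Type v) [CommRing B] [Algebra A B] [CharP B p]

theorem relFrob_natural (B' : Type w) [CommRing B'] [Algebra A B'] [CharP B' p] (g : B →ₐ[A] B') :
    (relFrob p A B').comp (Algebra.TensorProduct.map g (AlgHom.id A (Twist p A))).toRingHom =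
      g.toRingHom.comp (relFrob p A B) := by
  refine Algebra.TensorProduct.ringHom_ext ?_ ?_
  · ext b
    simp [relFrob_tmul]
  · ext t
    simp [relFrob_tmul]

theorem flat_relFrob_of_isStandardSmooth [Algebra.IsStandardSmooth A B] :
    (relFrob p A B).Flat := by
  obtain ⟨ι, σ, _, _, ⟨Pr⟩⟩ := (inferInstance : Algebra.IsStandardSmooth A B)
  haveI : Algebra.IsStandardSmoothOfRelativeDimension Pr.dimension A B := ⟨ι, σ, _, ‹_›, Pr, rfl⟩
  obtain ⟨g, hg⟩ :=
    Algebra.IsStandardSmoothOfRelativeDimension.exists_etale_mvPolynomial Pr.dimension A B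
  letI := g.toRingHom.toAlgebra
  haveI : IsScalarTower A (MvPolynomial (Fin Pr.dimension) A) B :=
    IsScalarTower.of_algebraMap_eq' g.comp_algebraMap.symm
  haveI : Algebra.Etale (MvPolynomial (Fin Pr.dimension) A) B := hg
  exact flat_relFrob_of_etale p A (MvPolynomial (Fin Pr.dimension) A) B
    (flat_relFrob_mvPolynomial p A (Fin Pr.dimension))


theorem flat_relFrob_of_smooth [Algebra.Smooth A B] : (relFrob p A B).Flat := by
  obtain ⟨s, hs, h⟩ := Algebra.Smooth.exists_span_eq_top_isStandardSmooth A B
  letI := (relFrob p A B).toAlgebra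
  change Module.Flat (BaseChange p A B) B
  refine Module.flat_of_isLocalized_span _ _ s hs _
    (fun r ↦ Algebra.linearMap B (Localization.Away r.1)) ?_
  intro r
  haveI := h r.1 r.2
  rcases subsingleton_or_nontrivial (Localization.Away r.1) with hsub | hnt
  · infer_instance
  · haveI : CharP (Localization.Away r.1) p := by
      refine (CharP.charP_iff_prime_eq_zero (Fact.out : p.Prime)).mpr ?_
      have : ((p : ℕ) : Localization.Away r.1) = algebraMap B (Localization.Away r.1) ((p : ℕ) : B) := by
        rw [map_natCast]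
      rw [this, CharP.cast_eq_zero, map_zero]
    have h1 : (relFrob p A (Localization.Away r.1)).Flat :=
      flat_relFrob_of_isStandardSmooth p A (Localization.Away r.1)
    have h2 : (Algebra.TensorProduct.map (IsScalarTower.toAlgHom A B (Localization.Away r.1))
        (AlgHom.id A (Twist p A))).Flat := by
      refine RingHom.Flat.tensorProductMap ?_ (RingHom.Flat.id _)
      exact RingHom.flat_algebraMap_iff.mpr (IsLocalization.flat _ (Submonoid.powers r.1))
    have h3 := RingHom.Flat.comp h2 h1
    rw [relFrob_natural] at h3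
    dsimp only [RingHom.Flat] at h3
    convert! h3
    ext
    apply Algebra.smul_def

end main
end Groth.Agent.Lib.Helper25.RelFrobFlat
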