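import Mathlib
import Groth.Prelude.Def_FrobAlg
import Groth.Agent.Lib.Helper25.FrobEtale
import Groth.Agent.Lib.Helper25.RelFrobFlat

/-!
# The relative Frobenius of a smooth algebra is finite locally free of rank `p ^ r` (helper library for S13999)

* `finite_relFrob`, `finitePresentation_relFrob`: relative Frobenius of a finite type / f.p. algebra is finite / f.p.
* `finrank_expand`, `finrank_relFrob_mvPolynomial`: rank `p ^ card σ` for polynomial algebras.
* `finrank_relFrob_of_etale`: rank of relative Frobenius is compatible with étale maps `P → C`.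
* `comap_relFrob_surjective`, `rankAtStalk_kaehler_of_away`, `relFrob_finite_projective_rank`.
-/

set_option autoImplicit false
set_option linter.unusedSectionVars false
set_option linter.style.haveILetI false
universe u v w
open FrobAlg

namespace Groth.Agent.Lib.Helper25.RelFrobRank
open TensorProduct Groth.Agent.Lib.Helper25.FrobEtale Groth.Agent.Lib.Helper25.RelFrobFlat

section finite
variable (p : ℕ) [Fact p.Prime] (A : Type u) [CommRing A] [CharP A p]
  (B : Type v) [CommRing B] [Algebra A B] [CharP B p]

theorem finite_relFrob [Algebra.FiniteType A B] : (relFrob p A B).Finite := by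
  letI := (relFrob p A B).toAlgebra
  letI := algTB p A B
  haveI := IsScalarTower.of_algebraMap_eq (R := Twist p A) (S := BaseChange p A B) (A := B)
    (fun t => ((relFrobAlg p A B).commutes t).symm)
  haveI : Algebra.FiniteType (Twist p A) B := ‹Algebra.FiniteType A B›
  haveI : Algebra.FiniteType (BaseChange p A B) B :=
    Algebra.FiniteType.of_restrictScalars_finiteType (Twist p A) _ _
  haveI : Algebra.IsIntegral (BaseChange p A B) B := ⟨fun b =>
    ⟨Polynomial.X ^ p - Polynomial.C (b ⊗ₜ 1),
      Polynomial.monic_X_pow_sub_C _ (Fact.out : p.Prime).ne_zero, by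
      rw [Polynomial.eval₂_sub, Polynomial.eval₂_pow, Polynomial.eval₂_X, Polynomial.eval₂_C]
      change b ^ p - relFrob p A B (b ⊗ₜ 1) = 0
      rw [relFrob_tmul, map_one, map_one, mul_one, sub_self]⟩⟩
  change Module.Finite (BaseChange p A B) B
  exact Algebra.IsIntegral.finite

theorem finitePresentation_relFrob [Algebra.FinitePresentation A B] :
    letI := (relFrob p A B).toAlgebra
    Module.FinitePresentation (BaseChange p A B) B := by
  letI := (relFrob p A B).toAlgebra
  letI := algTB p A B
  haveI := IsScalarTower.of_algebraMap_eq (R := Twist p A) (S := BaseChange p A B) (A := B)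
    (fun t => ((relFrobAlg p A B).commutes t).symm)
  haveI : Algebra.FinitePresentation (Twist p A) B := ‹Algebra.FinitePresentation A B›
  haveI : Algebra.FiniteType (Twist p A) (BaseChange p A B) :=
    Algebra.FiniteType.equiv inferInstance (Algebra.TensorProduct.commRight A (Twist p A) B)
  haveI : Algebra.FinitePresentation (BaseChange p A B) B :=
    Algebra.FinitePresentation.of_restrict_scalars_finitePresentation (Twist p A) _ _
  haveI : Module.Finite (BaseChange p A B) B := finite_relFrob p A B
  exact Module.FinitePresentation.of_finite_of_finitePresentation _ _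

end finite

section rank

theorem finrank_of_basis {R : Type*} {S : Type*} [CommRing R] [CommRing S] (f : R →+* S)
    {ι : Type*} [Fintype ι] (v : ι → S)
    (h : Function.Bijective (fun c : ι →₀ R => c.sum (fun i a => f a * v i)))
    (x : PrimeSpectrum R) : f.finrank x = Fintype.card ι := by
  algebraize [f]
  have h1 : (Finsupp.linearCombination R v : (ι →₀ R) → S) =
      fun c => c.sum (fun i a => f a * v i) := by
    ext c
    rw [Finsupp.linearCombination_apply]
    rfl
  let E : (ι →₀ R) ≃ₗ[R] S := LinearEquiv.ofBijective (Finsupp.linearCombination R v) (h1 ▸ h)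
  haveI : Module.Free R S := Module.Free.of_equiv E
  haveI : Nontrivial R := x.nontrivial
  change Module.rankAtStalk S x = _
  rw [Module.rankAtStalk_eq_finrank_of_free, Pi.natCast_apply, ← E.finrank_eq,
    Module.finrank_finsupp_self]
  rfl

variable (p : ℕ) [hp : Fact p.Prime] (A : Type u) [CommRing A] (σ : Type w) [Fintype σ]

noncomputable def idxEquiv : Idx p σ ≃ (σ → Fin p) where
  toFun r := fun i => ⟨r.1 i, r.2 i⟩
  invFun g := ⟨Finsupp.equivFunOnFinite.symm (fun i => (g i : ℕ)), fun i => by simp⟩
  left_inv r := by
    apply Subtype.ext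
    ext i
    simp
  right_inv g := by
    ext i
    simp

noncomputable instance : Fintype (Idx p σ) := by
  classical exact Fintype.ofEquiv _ (idxEquiv p σ).symm

theorem card_idx : Fintype.card (Idx p σ) = p ^ Fintype.card σ := by
  classical
  exact (Fintype.card_congr (idxEquiv p σ)).trans (by simp)

theorem finrank_expand (x : PrimeSpectrum (MvPolynomial σ A)) :
    (MvPolynomial.expand p : MvPolynomial σ A →ₐ[A] _).toRingHom.finrank x = p ^ Fintype.card σ := by
  rw [← card_idx p σ]
  refine finrank_of_basis _ (fun r : Idx p σ => MvPolynomial.monomial r.1 (1:A)) ?_ x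
  have : (fun c : Idx p σ →₀ MvPolynomial σ A => c.sum (fun i a =>
      (MvPolynomial.expand p : MvPolynomial σ A →ₐ[A] _).toRingHom a *
        MvPolynomial.monomial i.1 (1:A))) = PhiE p A σ := by
    ext1 c
    rw [← LinearEquiv.coe_coe, ← Phi_eq, Phi_apply]
    rfl
  rw [this]
  exact (PhiE p A σ).bijective


variable [CharP A p]

theorem finrank_relFrob_mvPolynomial (y : PrimeSpectrum (BaseChange p A (MvPolynomial σ A))) :
    (relFrob p A (MvPolynomial σ A)).finrank y = p ^ Fintype.card σ := by
  have h : relFrob p A (MvPolynomial σ A) =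
      ((MvPolynomial.expand p : MvPolynomial σ A →ₐ[A] _).toRingHom).comp
        (polyE p A σ).symm.toRingHom := by
    rw [← relFrob_comp_polyE]
    refine RingHom.ext (fun x => ?_)
    simp
  have hfin : ((MvPolynomial.expand p : MvPolynomial σ A →ₐ[A] _).toRingHom).Finite := by
    rw [← relFrob_comp_polyE]
    exact RingHom.Finite.comp (finite_relFrob p A (MvPolynomial σ A))
      (RingHom.Finite.of_surjective _ (polyE p A σ).surjective)
  rw [h, RingHom.finrank_comp_right_of_bijective _ _ (polyE p A σ).symm.bijective hfin
    (flat_expand p A σ) y (PrimeSpectrum.comap (polyE p A σ).toRingHom y) ?_, finrank_expand]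
  rw [← PrimeSpectrum.comap_comp_apply]
  have : ((polyE p A σ).toRingHom).comp ((polyE p A σ).symm.toRingHom) = RingHom.id _ := by
    refine RingHom.ext (fun x => ?_)
    simp
  rw [this, PrimeSpectrum.comap_id]

end rank

section chart

variable (p : ℕ) [Fact p.Prime] (A : Type u) [CommRing A] [CharP A p]
  (P : Type w) [CommRing P] [Algebra A P] [CharP P p]
  (C : Type v) [CommRing C] [Algebra A C] [Algebra P C] [IsScalarTower A P C] [CharP C p]

theorem finrank_relFrob_of_etale [Algebra.Etale P C] (hP : (relFrob p A P).Flat)
    (hPf : (relFrob p A P).Finite) (y : PrimeSpectrum (BaseChange p A C)) :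
    (relFrob p A C).finrank y =
      (relFrob p A P).finrank (PrimeSpectrum.comap (mapW p A P C).toRingHom y) := by
  -- algebra structures
  letI iSS' : Algebra (BaseChange p A P) (BaseChange p A C) := (mapW p A P C).toRingHom.toAlgebra
  letI iST : Algebra (BaseChange p A P) (Twist p P) := (jP p A P).toAlgebra
  letI iS'T' : Algebra (BaseChange p A C) (BaseChange p P C) := (alpha p A P C).toRingHom.toAlgebra
  letI iST' : Algebra (BaseChange p A P) (BaseChange p P C) :=
    ((algebraMap (Twist p P) (BaseChange p P C)).comp (jP p A P)).toAlgebra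
  have hSS' : ∀ x, algebraMap (BaseChange p A P) (BaseChange p A C) x = mapW p A P C x := fun _ => rfl
  have hST : ∀ x, algebraMap (BaseChange p A P) (Twist p P) x = jP p A P x := fun _ => rfl
  have hS'T' : ∀ x, algebraMap (BaseChange p A C) (BaseChange p P C) x = alpha p A P C x := fun _ => rfl
  have hST' : ∀ x, algebraMap (BaseChange p A P) (BaseChange p P C) x =
    algebraMap (Twist p P) (BaseChange p P C) (jP p A P x) := fun _ => rfl
  -- towers
  haveI t1 : IsScalarTower P (BaseChange p A P) (BaseChange p A C) :=
    IsScalarTower.of_algebraMap_eq (fun x => by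
      rw [hSS', Algebra.TensorProduct.algebraMap_apply, Algebra.TensorProduct.algebraMap_apply, mapW,
        Algebra.TensorProduct.map_tmul]
      simp)
  haveI t2 : IsScalarTower P (BaseChange p A P) (Twist p P) :=
    IsScalarTower.of_algebraMap_eq (fun x => by
      rw [hST, Algebra.TensorProduct.algebraMap_apply, jP, RingHom.comp_apply, relFrob_tmul,
        algebraMap_twist]
      simp)
  haveI t4 : IsScalarTower (BaseChange p A P) (Twist p P) (BaseChange p P C) :=
    IsScalarTower.of_algebraMap_eq (fun x => hST' x)
  haveI t5 : IsScalarTower (BaseChange p A P) (BaseChange p A C) (BaseChange p P C) :=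
    IsScalarTower.of_algebraMap_eq (fun x => by
      rw [hST', hSS', hS'T']
      induction x using TensorProduct.induction_on with
      | zero => simp
      | add x y hx hy => simp only [map_add, hx, hy]
      | tmul y t =>
        rw [mapW, Algebra.TensorProduct.map_tmul, alpha_tmul, jP, RingHom.comp_apply, relFrob_tmul]
        change (1 : C) ⊗ₜ[P] (toTwist p P (y ^ p * algebraMap A P ((toTwist p A).symm t))) =
          algebraMap P C y ⊗ₜ[P] toTwist p P (algebraMap A P ((toTwist p A).symm t))
        rw [map_mul, ← algebraMap_twist, ← Algebra.smul_def, TensorProduct.tmul_smul,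
          TensorProduct.smul_tmul', Algebra.smul_def, mul_one])
  haveI t7 : IsScalarTower P (BaseChange p A C) (BaseChange p P C) :=
    IsScalarTower.of_algebraMap_eq (fun x => by
      rw [hS'T', Algebra.TensorProduct.algebraMap_apply, Algebra.TensorProduct.algebraMap_apply,
        alpha_tmul]
      simp)
  haveI t8 : IsScalarTower C (BaseChange p A C) (BaseChange p P C) :=
    IsScalarTower.of_algebraMap_eq (fun x => by
      rw [hS'T', Algebra.TensorProduct.algebraMap_apply, Algebra.TensorProduct.algebraMap_apply,
        alpha_tmul]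
      simp)
  haveI po1 : Algebra.IsPushout P (BaseChange p A P) C (BaseChange p A C) := by
    refine Algebra.IsPushout.symm ?_
    refine Algebra.IsPushout.tensorProduct_tensorProduct A (Twist p A) P C ?_
    ext t
    simp [hSS', mapW]
  haveI po2 : Algebra.IsPushout P (Twist p P) C (BaseChange p P C) := inferInstance
  have po3 : Algebra.IsPushout (BaseChange p A P) (Twist p P) (BaseChange p A C) (BaseChange p P C) :=
    (Algebra.IsPushout.comp_iff P (BaseChange p A P) C (BaseChange p A C)).mp po2
  haveI fl1 : Module.Flat (BaseChange p A P) (Twist p P) :=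
    (RingHom.Flat.comp hP (RingHom.Flat.of_bijective (toTwist p P).bijective) : (jP p A P).Flat)
  have fl2 : Module.Flat (BaseChange p A C) (BaseChange p P C) :=
    Module.Flat.isBaseChange (BaseChange p A P) (BaseChange p A C) (Twist p P) (BaseChange p P C)
      po3.symm.out
  have fl3 : (alpha p A P C).toRingHom.Flat := fl2
  haveI fin1 : Module.Finite (BaseChange p A P) (Twist p P) :=
    (RingHom.Finite.comp (RingHom.Finite.of_surjective _ (toTwist p P).surjective) hPf :
      (jP p A P).Finite)
  haveI po4 : Algebra.IsPushout (BaseChange p A P) (BaseChange p A C) (Twist p P) (BaseChange p P C) :=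
    po3.symm
  have fin2 : Module.Finite (BaseChange p A C) (BaseChange p P C) :=
    Module.Finite.equiv (Algebra.IsPushout.equiv (BaseChange p A P) (BaseChange p A C) (Twist p P)
      (BaseChange p P C)).toLinearEquiv
  have fin3 : (alpha p A P C).toRingHom.Finite := fin2
  rw [← relFrob_comp_alpha p A P C, RingHom.finrank_comp_left_of_bijective _ _
    (relFrob_bijective_of_etale p P C) fin3 fl3]
  have e1 : (alpha p A P C).toRingHom.finrank y =
      Module.rankAtStalk (R := BaseChange p A C) (BaseChange p P C) y := rfl
  rw [e1, Algebra.rankAtStalk_eq_of_isPushout (BaseChange p A P) (Twist p P) (BaseChange p A C)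
    (BaseChange p P C) y]
  have e2 : Module.rankAtStalk (R := BaseChange p A P) (Twist p P)
      (PrimeSpectrum.comap (algebraMap (BaseChange p A P) (BaseChange p A C)) y) =
      (jP p A P).finrank (PrimeSpectrum.comap (mapW p A P C).toRingHom y) := rfl
  rw [e2, jP, RingHom.finrank_comp_left_of_bijective _ _ (toTwist p P).bijective hPf hP]

end chart

section main

variable (p : ℕ) [Fact p.Prime] (A : Type u) [CommRing A] [CharP A p]
  (B : Type v) [CommRing B] [Algebra A B] [CharP B p]

theorem finrank_relFrob_of_isStandardSmoothOfRelativeDimension (n : ℕ)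
    [Algebra.IsStandardSmoothOfRelativeDimension n A B] (y : PrimeSpectrum (BaseChange p A B)) :
    (relFrob p A B).finrank y = p ^ n := by
  obtain ⟨g, hg⟩ :=
    Algebra.IsStandardSmoothOfRelativeDimension.exists_etale_mvPolynomial n A B
  letI := g.toRingHom.toAlgebra
  haveI : IsScalarTower A (MvPolynomial (Fin n) A) B :=
    IsScalarTower.of_algebraMap_eq' g.comp_algebraMap.symm
  haveI : Algebra.Etale (MvPolynomial (Fin n) A) B := hg
  rw [finrank_relFrob_of_etale p A (MvPolynomial (Fin n) A) B
    (flat_relFrob_mvPolynomial p A (Fin n)) (finite_relFrob p A _) y,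
    finrank_relFrob_mvPolynomial, Fintype.card_fin]

theorem comap_relFrob_surjective (q : PrimeSpectrum (BaseChange p A B)) :
    ∃ Q : PrimeSpectrum B, PrimeSpectrum.comap (relFrob p A B) Q = q := by
  letI := (relFrob p A B).toAlgebra
  haveI : Algebra.IsIntegral (BaseChange p A B) B := ⟨fun b =>
    ⟨Polynomial.X ^ p - Polynomial.C (b ⊗ₜ 1),
      Polynomial.monic_X_pow_sub_C _ (Fact.out : p.Prime).ne_zero, by
      rw [Polynomial.eval₂_sub, Polynomial.eval₂_pow, Polynomial.eval₂_X, Polynomial.eval₂_C]
      change b ^ p - relFrob p A B (b ⊗ₜ 1) = 0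
      rw [relFrob_tmul, map_one, map_one, mul_one, sub_self]⟩⟩
  have hker : (⊥ : Ideal B).comap (algebraMap (BaseChange p A B) B) ≤ q.asIdeal := by
    intro w hw
    have h1 : relFrob p A B w = 0 := Ideal.mem_bot.mp (Ideal.mem_comap.mp hw)
    have h2 := relFrob_includeLeft p A B w
    rw [h1, TensorProduct.zero_tmul] at h2
    exact q.isPrime.mem_of_pow_mem p (h2 ▸ zero_mem _)
  obtain ⟨Q, -, hQ, hQq⟩ := Ideal.exists_ideal_over_prime_of_isIntegral q.asIdeal ⊥ hker
  exact ⟨⟨Q, hQ⟩, PrimeSpectrum.ext hQq⟩

theorem rankAtStalk_kaehler_of_away [Module.Finite B (KaehlerDifferential A B)]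
    [Module.Flat B (KaehlerDifferential A B)] (t : B) (n : ℕ)
    [Algebra.IsStandardSmoothOfRelativeDimension n A (Localization.Away t)]
    (Q' : PrimeSpectrum (Localization.Away t)) :
    Module.rankAtStalk (R := B) (KaehlerDifferential A B)
      (PrimeSpectrum.comap (algebraMap B (Localization.Away t)) Q') = n := by
  haveI : Nontrivial (Localization.Away t) := Q'.nontrivial
  haveI : Algebra.IsStandardSmooth A (Localization.Away t) :=
    Algebra.IsStandardSmoothOfRelativeDimension.isStandardSmooth n
  rw [← Module.rankAtStalk_baseChange, Module.rankAtStalk_eq_of_equiv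
    (KaehlerDifferential.tensorKaehlerEquivOfFormallyEtale A B (Localization.Away t)),
    Module.rankAtStalk_eq_finrank_of_free, Pi.natCast_apply]
  exact_mod_cast Module.finrank_eq_of_rank_eq
    (Algebra.IsStandardSmoothOfRelativeDimension.rank_kaehlerDifferential n)


theorem relFrob_finite_projective_rank [Algebra.Smooth A B] (r : ℕ)
    (hr : ∀ q : PrimeSpectrum B, Module.rankAtStalk (R := B) (KaehlerDifferential A B) q = r) :
    letI := (FrobAlg.relFrob p A B).toAlgebra
    Module.Finite (FrobAlg.BaseChange p A B) B ∧ Module.Projective (FrobAlg.BaseChange p A B) B ∧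
      ∀ q : PrimeSpectrum (FrobAlg.BaseChange p A B),
        Module.rankAtStalk (R := FrobAlg.BaseChange p A B) B q = p ^ r := by
  letI := (relFrob p A B).toAlgebra
  have hflat0 : (relFrob p A B).Flat := flat_relFrob_of_smooth p A B
  have hfin0 : (relFrob p A B).Finite := finite_relFrob p A B
  haveI hflat : Module.Flat (BaseChange p A B) B := hflat0
  haveI hfin : Module.Finite (BaseChange p A B) B := hfin0
  haveI hfp : Module.FinitePresentation (BaseChange p A B) B := finitePresentation_relFrob p A B
  refine ⟨hfin, Module.Flat.projective_of_finitePresentation, fun q => ?_⟩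
  obtain ⟨s, hs, h⟩ := Algebra.Smooth.exists_span_eq_top_isStandardSmooth A B
  obtain ⟨Q, rfl⟩ := comap_relFrob_surjective p A B q
  obtain ⟨t, hts, htQ⟩ : ∃ t ∈ s, t ∉ Q.asIdeal := by
    by_contra hcon
    push Not at hcon
    have h1 : Ideal.span s ≤ Q.asIdeal := Ideal.span_le.mpr hcon
    rw [hs] at h1
    exact Q.isPrime.ne_top (top_le_iff.mp h1)
  haveI := h t hts
  obtain ⟨Q', hQ'⟩ : ∃ Q' : PrimeSpectrum (Localization.Away t),
      PrimeSpectrum.comap (algebraMap B (Localization.Away t)) Q' = Q := by
    have : Q ∈ Set.range (PrimeSpectrum.comap (algebraMap B (Localization.Away t))) := by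
      rw [PrimeSpectrum.localization_away_comap_range (Localization.Away t) t]
      exact htQ
    exact this
  haveI : Nontrivial (Localization.Away t) := Q'.nontrivial
  haveI : CharP (Localization.Away t) p := by
    refine (CharP.charP_iff_prime_eq_zero (Fact.out : p.Prime)).mpr ?_
    have : ((p : ℕ) : Localization.Away t) = algebraMap B (Localization.Away t) ((p : ℕ) : B) := by
      rw [map_natCast]
    rw [this, CharP.cast_eq_zero, map_zero]
  obtain ⟨ι, σ, _, _, ⟨Pr⟩⟩ := (inferInstance : Algebra.IsStandardSmooth A (Localization.Away t))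
  haveI : Algebra.IsStandardSmoothOfRelativeDimension Pr.dimension A (Localization.Away t) :=
    ⟨ι, σ, _, ‹_›, Pr, rfl⟩
  have hn : Pr.dimension = r := by
    rw [← hr Q, ← hQ', rankAtStalk_kaehler_of_away A B t Pr.dimension Q']
  have key := finrank_relFrob_of_etale p A B (Localization.Away t) hflat0 hfin0
    (PrimeSpectrum.comap (relFrob p A (Localization.Away t)) Q')
  rw [finrank_relFrob_of_isStandardSmoothOfRelativeDimension p A _ Pr.dimension, hn] at key
  rw [key]
  change (relFrob p A B).finrank _ = (relFrob p A B).finrank _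
  congr 1
  rw [← hQ', ← PrimeSpectrum.comap_comp_apply, ← PrimeSpectrum.comap_comp_apply]
  congr 1
  exact (relFrob_natural p A B (Localization.Away t)
    (IsScalarTower.toAlgHom A B (Localization.Away t))).symm

end main
end Groth.Agent.Lib.Helper25.RelFrobRank
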