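import Mathlib
import Groth.Prelude.Def_FrobAlg
import Groth.Prelude.Def_RegImm
import Groth.Agent.Lib.Helper25.RelFrobFlat
import Groth.Agent.Lib.Helper25.RelFrobRank
import Groth.Agent.Lib.Helper25.FiniteSyntomic
import Groth.Agent.S18933

/-!
# The relative Frobenius of a standard smooth algebra is syntomic

* `presTw`: square presentation of `P = A[x_σ]` over its Frobenius twist (via the relative Frobenius).
* `isSyntomic_relFrob_of_etale`: étale `P → C` transports the square presentation.
* `isSyntomic_relFrob`: for `B` standard smooth of relative dimension `n` over `A`.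
* `isSyntomic_of_isPushout`: the same for an abstract pushout `T` of `B ← R → R` (Frobenius).
-/

set_option autoImplicit false
set_option linter.unusedSectionVars false
set_option linter.style.haveILetI false
set_option linter.unusedVariables false
universe u
open FrobAlg

namespace Groth.Agent.Lib.Helper25.RelFrobSynt
open TensorProduct Groth.Agent.Lib.Helper25.FrobEtale Groth.Agent.Lib.Helper25.RelFrobFlat
  Groth.Agent.Lib.Helper25.RelFrobRank Groth.Agent.Lib.Helper25.FiniteSyntomic

section poly
variable (p : ℕ) [hp : Fact p.Prime] (A : Type u) [CommRing A] [CharP A p] (σ : Type)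

/-- the algebra structure `W_P → Tw_P` given by the relative Frobenius -/
@[reducible] noncomputable def jPAlg (P : Type u) [CommRing P] [Algebra A P] [CharP P p] :
    Algebra (BaseChange p A P) (Twist p P) := (jP p A P).toAlgebra

local notation "Q" => MvPolynomial σ A

/-- `W_P`-algebra structure on `Q` through the inverse of `polyE` -/
@[reducible] noncomputable def algWQ : Algebra (BaseChange p A Q) Q :=
  ((polyE p A σ).symm : BaseChange p A Q →+* Q).toAlgebra

/-- `W_P`-algebra structure on `Tgt` -/
@[reducible] noncomputable def algWT : Algebra (BaseChange p A Q) (Groth.Agent.S18933.Tgt p σ A) :=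
  ((algebraMap Q (Groth.Agent.S18933.Tgt p σ A)).comp
    ((polyE p A σ).symm : BaseChange p A Q →+* Q)).toAlgebra

/-- the comparison `Tgt ≃ Tw_P` over `W_P` -/
noncomputable def tgtEquiv :
    letI := algWT p A σ
    letI := jPAlg p A Q
    Groth.Agent.S18933.Tgt p σ A ≃ₐ[BaseChange p A Q] Twist p Q :=
  letI := algWT p A σ
  letI := jPAlg p A Q
  AlgEquiv.ofRingEquiv (f := (toTwist p Q : Q ≃+* Twist p Q)) (by
    intro w
    change toTwist p Q (MvPolynomial.expand p ((polyE p A σ).symm w)) =
      toTwist p Q (relFrob p A Q w)
    congr 1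
    have h := relFrob_comp_polyE p A σ
    have h2 := congrArg (fun f => f ((polyE p A σ).symm w)) h
    simp only [RingHom.comp_apply, RingEquiv.toRingHom_eq_coe, RingEquiv.coe_toRingHom,
      RingEquiv.apply_symm_apply] at h2
    exact h2.symm)

/-- square presentation of `Tw_P` over `W_P` -/
noncomputable def presTw :
    @Algebra.Presentation (BaseChange p A Q) (Twist p Q) (σ ⊕ PEmpty.{1}) (σ ⊕ PEmpty.{1}) _ _
      (jPAlg p A Q) :=
  letI := algWQ p A σ
  letI := algWT p A σ
  letI := jPAlg p A Q
  haveI : IsScalarTower (BaseChange p A Q) Q (Groth.Agent.S18933.Tgt p σ A) :=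
    IsScalarTower.of_algebraMap_eq (fun _ => rfl)
  ((Groth.Agent.S18933.pres p σ A).comp
    (Algebra.Presentation.ofBijectiveAlgebraMap.{0, 0} (R := BaseChange p A Q) (S := Q)
      (polyE p A σ).symm.bijective)).ofAlgEquiv (tgtEquiv p A σ)

end poly

section chart

variable (p : ℕ) [Fact p.Prime] (A : Type u) [CommRing A] [CharP A p]
  (P : Type u) [CommRing P] [Algebra A P] [CharP P p]
  (C : Type u) [CommRing C] [Algebra A C] [Algebra P C] [IsScalarTower A P C] [CharP C p]

theorem exists_pres_relFrob_of_etale [Algebra.Etale P C] {ι σ : Type}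
    (Pr : @Algebra.Presentation (BaseChange p A P) (Twist p P) ι σ _ _ (jPAlg p A P)) :
    Nonempty (@Algebra.Presentation (BaseChange p A C) C ι σ _ _ (relFrob p A C).toAlgebra) := by
  -- algebra structures
  letI iSS' : Algebra (BaseChange p A P) (BaseChange p A C) := (mapW p A P C).toRingHom.toAlgebra
  letI iST : Algebra (BaseChange p A P) (Twist p P) := jPAlg p A P
  letI iS'T' : Algebra (BaseChange p A C) (BaseChange p P C) := (alpha p A P C).toRingHom.toAlgebra
  letI iST' : Algebra (BaseChange p A P) (BaseChange p P C) :=
    ((algebraMap (Twist p P) (BaseChange p P C)).comp (jP p A P)).toAlgebra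
  have hSS' : ∀ x, algebraMap (BaseChange p A P) (BaseChange p A C) x = mapW p A P C x := fun _ => rfl
  have hST : ∀ x, algebraMap (BaseChange p A P) (Twist p P) x = jP p A P x := fun _ => rfl
  have hS'T' : ∀ x, algebraMap (BaseChange p A C) (BaseChange p P C) x = alpha p A P C x := fun _ => rfl
  have hST' : ∀ x, algebraMap (BaseChange p A P) (BaseChange p P C) x =
    algebraMap (Twist p P) (BaseChange p P C) (jP p A P x) := fun _ => rfl
  -- towers
  haveI t1 : IsScalarTower P (BaseChange p A P) (BaseChange p A C) :=
    IsScalarTower.of_algebraMap_eq (fun x => by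
      rw [hSS', Algebra.TensorProduct.algebraMap_apply, Algebra.TensorProduct.algebraMap_apply, mapW,
        Algebra.TensorProduct.map_tmul]
      simp)
  haveI t2 : IsScalarTower P (BaseChange p A P) (Twist p P) :=
    IsScalarTower.of_algebraMap_eq (fun x => by
      rw [hST, Algebra.TensorProduct.algebraMap_apply, jP, RingHom.comp_apply, relFrob_tmul,
        algebraMap_twist]
      simp)
  haveI t4 : IsScalarTower (BaseChange p A P) (Twist p P) (BaseChange p P C) :=
    IsScalarTower.of_algebraMap_eq (fun x => hST' x)
  haveI t5 : IsScalarTower (BaseChange p A P) (BaseChange p A C) (BaseChange p P C) :=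
    IsScalarTower.of_algebraMap_eq (fun x => by
      rw [hST', hSS', hS'T']
      induction x using TensorProduct.induction_on with
      | zero => simp
      | add x y hx hy => simp only [map_add, hx, hy]
      | tmul y t =>
        rw [mapW, Algebra.TensorProduct.map_tmul, alpha_tmul, jP, RingHom.comp_apply, relFrob_tmul]
        change (1 : C) ⊗ₜ[P] (toTwist p P (y ^ p * algebraMap A P ((toTwist p A).symm t))) =
          algebraMap P C y ⊗ₜ[P] toTwist p P (algebraMap A P ((toTwist p A).symm t))
        rw [map_mul, ← algebraMap_twist, ← Algebra.smul_def, TensorProduct.tmul_smul,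
          TensorProduct.smul_tmul', Algebra.smul_def, mul_one])
  haveI t7 : IsScalarTower P (BaseChange p A C) (BaseChange p P C) :=
    IsScalarTower.of_algebraMap_eq (fun x => by
      rw [hS'T', Algebra.TensorProduct.algebraMap_apply, Algebra.TensorProduct.algebraMap_apply,
        alpha_tmul]
      simp)
  haveI t8 : IsScalarTower C (BaseChange p A C) (BaseChange p P C) :=
    IsScalarTower.of_algebraMap_eq (fun x => by
      rw [hS'T', Algebra.TensorProduct.algebraMap_apply, Algebra.TensorProduct.algebraMap_apply,
        alpha_tmul]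
      simp)
  haveI po1 : Algebra.IsPushout P (BaseChange p A P) C (BaseChange p A C) := by
    refine Algebra.IsPushout.symm ?_
    refine Algebra.IsPushout.tensorProduct_tensorProduct A (Twist p A) P C ?_
    ext t
    simp [hSS', mapW]
  haveI po2 : Algebra.IsPushout P (Twist p P) C (BaseChange p P C) := inferInstance
  have po3 : Algebra.IsPushout (BaseChange p A P) (Twist p P) (BaseChange p A C) (BaseChange p P C) :=
    (Algebra.IsPushout.comp_iff P (BaseChange p A P) C (BaseChange p A C)).mp po2
  haveI po4 : Algebra.IsPushout (BaseChange p A P) (BaseChange p A C) (Twist p P) (BaseChange p P C) :=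
    po3.symm
  -- the presentation
  let eq1 : (BaseChange p A C) ⊗[BaseChange p A P] (Twist p P) ≃ₐ[BaseChange p A C] BaseChange p P C :=
    Algebra.IsPushout.equiv (BaseChange p A P) (BaseChange p A C) (Twist p P) (BaseChange p P C)
  letI iWC : Algebra (BaseChange p A C) C := (relFrob p A C).toAlgebra
  let eq2 : BaseChange p P C ≃ₐ[BaseChange p A C] C :=
    AlgEquiv.ofRingEquiv (f := RingEquiv.ofBijective (relFrob p P C)
      (relFrob_bijective_of_etale p P C)) (by
        intro x
        change relFrob p P C (alpha p A P C x) = relFrob p A C x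
        rw [← relFrob_comp_alpha p A P C]
        rfl)
  exact ⟨(Pr.baseChange (BaseChange p A C)).ofAlgEquiv (eq1.trans eq2)⟩

end chart

section main

variable (p : ℕ) [Fact p.Prime] (A : Type u) [CommRing A] [CharP A p]
  (B : Type u) [CommRing B] [Algebra A B] [CharP B p]

/-- square presentation of a standard smooth algebra over its Frobenius twist -/
theorem exists_pres_relFrob (n : ℕ) [Algebra.IsStandardSmoothOfRelativeDimension n A B] :
    Nonempty (@Algebra.Presentation (BaseChange p A B) B (Fin n ⊕ PEmpty.{1}) (Fin n ⊕ PEmpty.{1})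
      _ _ (relFrob p A B).toAlgebra) := by
  obtain ⟨g, hg⟩ :=
    Algebra.IsStandardSmoothOfRelativeDimension.exists_etale_mvPolynomial n A B
  letI := g.toRingHom.toAlgebra
  haveI : IsScalarTower A (MvPolynomial (Fin n) A) B :=
    IsScalarTower.of_algebraMap_eq' g.comp_algebraMap.symm
  haveI : Algebra.Etale (MvPolynomial (Fin n) A) B := hg
  exact exists_pres_relFrob_of_etale p A (MvPolynomial (Fin n) A) B (presTw p A (Fin n))

/-- the relative Frobenius of a standard smooth algebra is syntomic -/
theorem isSyntomic_relFrob (n : ℕ) [Algebra.IsStandardSmoothOfRelativeDimension n A B] :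
    @Synt.IsSyntomic (BaseChange p A B) _ B _ (relFrob p A B).toAlgebra := by
  obtain ⟨Pr⟩ := exists_pres_relFrob p A B n
  haveI : Algebra.IsStandardSmooth A B :=
    Algebra.IsStandardSmoothOfRelativeDimension.isStandardSmooth n
  letI : Algebra (BaseChange p A B) B := (relFrob p A B).toAlgebra
  haveI : Module.Flat (BaseChange p A B) B := flat_relFrob_of_smooth p A B
  haveI : Module.Finite (BaseChange p A B) B := finite_relFrob p A B
  exact isSyntomic_of_finite_flat _ _ rfl Pr

open CategoryTheory in
/-- the same for an abstract pushout `T` of `B ← R → R` (second map the Frobenius) -/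
theorem isSyntomic_of_isPushout (n : ℕ) [Algebra.IsStandardSmoothOfRelativeDimension n A B]
    (T : Type u) [CommRing T] (α : B →+* T) (β : A →+* T) (φ : T →+* B)
    (hpo : IsPushout (CommRingCat.ofHom (algebraMap A B)) (CommRingCat.ofHom (frobenius A p))
      (CommRingCat.ofHom α) (CommRingCat.ofHom β))
    (hφα : φ.comp α = frobenius B p) (hφβ : φ.comp β = algebraMap A B) :
    @Synt.IsSyntomic T _ B _ φ.toAlgebra := by
  have H := CommRingCat.isPushout_tensorProduct A B (Twist p A)
  have hpo' : IsPushout (CommRingCat.ofHom (algebraMap A B))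
      (CommRingCat.ofHom (algebraMap A (Twist p A)))
      (CommRingCat.ofHom α) (CommRingCat.ofHom (β.comp ((toTwist p A).symm : Twist p A →+* A))) :=
    hpo
  let E := H.isoIsPushout _ _ hpo'
  let e : BaseChange p A B ≃+* T := E.commRingCatIsoToRingEquiv
  have he1 : ∀ b : B, e (b ⊗ₜ 1) = α b := fun b => by
    have h := IsPushout.inl_isoIsPushout_hom _ _ H hpo'
    exact ConcreteCategory.congr_hom h b
  have he2 : ∀ t : Twist p A, e (1 ⊗ₜ t) = β ((toTwist p A).symm t) := fun t => by
    have h := IsPushout.inr_isoIsPushout_hom _ _ H hpo'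
    exact ConcreteCategory.congr_hom h t
  have hφe : φ.comp (e : BaseChange p A B →+* T) = relFrob p A B := by
    refine Algebra.TensorProduct.ringHom_ext ?_ ?_
    · ext b
      change φ (e (b ⊗ₜ 1)) = relFrob p A B (b ⊗ₜ 1)
      rw [he1, relFrob_tmul]
      have := congrArg (fun f => f b) hφα
      simp only [RingHom.comp_apply, frobenius_def] at this
      rw [this]
      simp
    · ext t
      change φ (e (1 ⊗ₜ t)) = relFrob p A B (1 ⊗ₜ t)
      rw [he2, relFrob_tmul]
      have := congrArg (fun f => f ((toTwist p A).symm t)) hφβ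
      simp only [RingHom.comp_apply] at this
      rw [this]
      simp
  obtain ⟨Pr⟩ := exists_pres_relFrob p A B n
  haveI : Algebra.IsStandardSmooth A B :=
    Algebra.IsStandardSmoothOfRelativeDimension.isStandardSmooth n
  letI i1 : Algebra (BaseChange p A B) B := (relFrob p A B).toAlgebra
  letI i2 : Algebra T (BaseChange p A B) := (e.symm : T →+* BaseChange p A B).toAlgebra
  letI i3 : Algebra T B := φ.toAlgebra
  haveI tw : @IsScalarTower T (BaseChange p A B) B i2.toSMul i1.toSMul i3.toSMul :=
    @IsScalarTower.of_algebraMap_eq T (BaseChange p A B) B _ _ _ i2 i1 i3 (fun x => by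
      change φ x = relFrob p A B (e.symm x)
      rw [← hφe]
      simp)
  let Pr' : Algebra.Presentation T B ((Fin n ⊕ PEmpty.{1}) ⊕ PEmpty.{1})
      ((Fin n ⊕ PEmpty.{1}) ⊕ PEmpty.{1}) :=
    Pr.comp (@Algebra.Presentation.ofBijectiveAlgebraMap.{0, 0} T (BaseChange p A B) _ _ i2
      e.symm.bijective)
  have hfl : (relFrob p A B).Flat := flat_relFrob_of_smooth p A B
  have hfin : (relFrob p A B).Finite := finite_relFrob p A B
  have hφ' : φ = (relFrob p A B).comp (e.symm : T →+* BaseChange p A B) := by
    rw [← hφe]
    ext x
    simp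
  haveI : Module.Flat T B := by
    change φ.Flat
    rw [hφ']
    exact RingHom.Flat.comp (RingHom.Flat.of_bijective e.symm.bijective) hfl
  haveI : Module.Finite T B := by
    change φ.Finite
    rw [hφ']
    exact RingHom.Finite.comp hfin (RingHom.Finite.of_surjective _ e.symm.surjective)
  exact isSyntomic_of_finite_flat _ _ rfl Pr'

end main

end Groth.Agent.Lib.Helper25.RelFrobSynt
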