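import Mathlib
import Groth.Prelude.Def_RegImm
import Groth.Agent.Lib.Helper25.ConsEmptyLim
import Groth.Agent.Lib.Helper24.ValRing.Main0444
import Groth.Agent.S1333
import Groth.Agent.S9777

/-!
# Noetherian approximation of standard syntomic morphisms
-/

set_option autoImplicit false
set_option linter.deprecated false
set_option linter.style.haveILetI false
set_option linter.unusedVariables false
universe u
open CategoryTheory CategoryTheory.Limits AlgebraicGeometry Topology TensorProduct

namespace Groth.Agent.Lib.Helper25.RelGCIApprox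

open Synt

section BaseChange

variable {R₀ R' : Type u} [CommRing R₀] [CommRing R'] [Algebra R₀ R'] (n c : ℕ)
  (F₀ : Fin c → MvPolynomial (Fin n) R₀) (F' : Fin c → MvPolynomial (Fin n) R')

/-- base change of a presented algebra `R₀[x]/(F₀)`. -/
noncomputable def relEquiv (hF' : ∀ i, F' i = MvPolynomial.map (algebraMap R₀ R') (F₀ i)) :
    RelGCIRing R' n c F' ≃ₐ[R'] R' ⊗[R₀] RelGCIRing R₀ n c F₀ :=
  let P₀ : Algebra.Presentation R₀ (RelGCIRing R₀ n c F₀) (Fin n) (Fin c) :=
    Algebra.Presentation.naive (v := F₀)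
  have hker : Ideal.span (Set.range F') = (P₀.baseChange R').ker := by
    rw [← (P₀.baseChange R').span_range_relation_eq_ker]
    congr 2
    ext i
    rw [hF' i]
    rfl
  (Ideal.quotientEquivAlgOfEq R' hker).trans ((P₀.baseChange R').quotientEquiv.restrictScalars R')

theorem exists_isPushout (hF' : ∀ i, F' i = MvPolynomial.map (algebraMap R₀ R') (F₀ i)) :
    ∃ θ : CommRingCat.of (RelGCIRing R₀ n c F₀) ⟶ CommRingCat.of (RelGCIRing R' n c F'),
      IsPushout (CommRingCat.ofHom (algebraMap R₀ (RelGCIRing R₀ n c F₀)))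
        (CommRingCat.ofHom (algebraMap R₀ R')) θ
        (CommRingCat.ofHom (algebraMap R' (RelGCIRing R' n c F'))) := by
  let e : CommRingCat.of (R' ⊗[R₀] RelGCIRing R₀ n c F₀) ≅ CommRingCat.of (RelGCIRing R' n c F') :=
    (relEquiv n c F₀ F' hF').symm.toRingEquiv.toCommRingCatIso
  have h := (CommRingCat.isPushout_tensorProduct R₀ R' (RelGCIRing R₀ n c F₀)).flip
  refine ⟨CommRingCat.ofHom Algebra.TensorProduct.includeRight.toRingHom ≫ e.hom, ?_⟩
  refine h.of_iso (Iso.refl _) (Iso.refl _) (Iso.refl _) e (by simp) (by simp) (by simp) ?_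
  ext r
  have := (relEquiv n c F₀ F' hF').symm.commutes r
  simpa [Algebra.TensorProduct.algebraMap_apply, e] using this

end BaseChange

section Fibre

variable (R : Type u) [CommRing R] (n c : ℕ) (F : Fin c → MvPolynomial (Fin n) R)

/-- the morphism of spectra of a presented algebra. -/
noncomputable abbrev specMap : Spec (.of (RelGCIRing R n c F)) ⟶ Spec (.of R) :=
  Spec.map (CommRingCat.ofHom (algebraMap R (RelGCIRing R n c F)))

/-- the admissible fibre dimensions. -/
def Good (n c : ℕ) (d : WithBot ℕ∞) : Prop := d = ⊥ ∨ (c ≤ n ∧ d = ((n - c : ℕ) : WithBot ℕ∞))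

theorem isRelGCI_iff : IsRelGCI R n c F ↔
    ∀ p : PrimeSpectrum R, Good n c (topologicalKrullDim ↥((specMap R n c F).fiber p)) := by
  unfold IsRelGCI
  refine forall_congr' fun p => ?_
  rw [Groth.Agent.Lib.Helper24.ValRing.dim_fiber_Spec]
  constructor
  · intro h
    by_cases hn : Nontrivial (p.asIdeal.Fiber (RelGCIRing R n c F))
    · exact Or.inr (h hn)
    · left
      rw [not_nontrivial_iff_subsingleton] at hn
      exact ringKrullDim_eq_bot_of_subsingleton
  · rintro (h | h) hn
    · exfalso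
      have h0 := ringKrullDim_nonneg_of_nontrivial (R := p.asIdeal.Fiber (RelGCIRing R n c F))
      change ringKrullDim (p.asIdeal.Fiber (RelGCIRing R n c F)) = ⊥ at h
      rw [h] at h0
      exact absurd h0 (by simp)
    · exact h

/-- the locus of admissible fibres is locally constructible. -/
theorem isLocallyConstructible_good {X S : Scheme.{u}} (f : X ⟶ S) [LocallyOfFinitePresentation f]
    [QuasiCompact f] [QuasiSeparated f] :
    IsLocallyConstructible {s : S | Good n c (topologicalKrullDim ↥(f.fiber s))} := by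
  have h1 := Groth.Agent.S1333.result f ⊥
  have h2 := Groth.Agent.S1333.result f ((n - c : ℕ) : WithBot ℕ∞)
  by_cases hcn : c ≤ n
  · convert h1.union h2 using 1
    ext s
    simp [Good, hcn]
  · convert h1 using 1
    ext s
    simp [Good, hcn]

end Fibre

section Main

variable (R : Type u) [CommRing R] (n c : ℕ)

theorem exists_coeff_model (F : Fin c → MvPolynomial (Fin n) R) :
    ∃ (R₀ : Subalgebra ℤ R), R₀.FG ∧ ∃ F₀ : Fin c → MvPolynomial (Fin n) R₀,
      ∀ i, F i = MvPolynomial.map (algebraMap R₀ R) (F₀ i) := by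
  classical
  let T : Set R := ⋃ i, ((F i).coeffs : Set R)
  have hT : T.Finite := Set.finite_iUnion fun i => Finset.finite_toSet _
  refine ⟨Algebra.adjoin ℤ T, Subalgebra.fg_def.mpr ⟨T, hT, rfl⟩, ?_⟩
  have h : ∀ i, F i ∈ Set.range (MvPolynomial.map (algebraMap (Algebra.adjoin ℤ T) R)) := by
    intro i
    rw [MvPolynomial.mem_range_map_iff_coeffs_subset]
    intro x hx
    have hx' : x ∈ Algebra.adjoin ℤ T := Algebra.subset_adjoin (Set.mem_iUnion.mpr ⟨i, hx⟩)
    exact ⟨⟨x, hx'⟩, rfl⟩
  choose F₀ hF₀ using h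
  exact ⟨F₀, fun i => (hF₀ i).symm⟩

theorem finitePresentation_relGCIRing (F : Fin c → MvPolynomial (Fin n) R) :
    Algebra.FinitePresentation R (RelGCIRing R n c F) := by
  classical
  exact .quotient ⟨Finset.image F .univ, by simp⟩

theorem main (R₀ : Subalgebra ℤ R) (hfg : R₀.FG) (F₀ : Fin c → MvPolynomial (Fin n) R₀)
    (hGCI : IsRelGCI R n c (fun i => MvPolynomial.map (algebraMap R₀ R) (F₀ i))) :
    ∃ s : Finset R, IsRelGCI (Algebra.adjoin R₀ (s : Set R)) n c
      (fun i => MvPolynomial.map (algebraMap R₀ (Algebra.adjoin R₀ (s : Set R))) (F₀ i)) := by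
  haveI : Algebra.FiniteType ℤ R₀ := (Subalgebra.fg_iff_finiteType R₀).mp hfg
  haveI : IsNoetherianRing R₀ := Algebra.FiniteType.isNoetherianRing ℤ R₀
  haveI := finitePresentation_relGCIRing R₀ n c F₀
  haveI : LocallyOfFinitePresentation (specMap R₀ n c F₀) :=
    (HasRingHomProperty.Spec_iff (P := @LocallyOfFinitePresentation)).mpr
      (RingHom.finitePresentation_algebraMap.mpr inferInstance)
  set E₀ : Set (Spec (.of R₀)) :=
    {p | Good n c (topologicalKrullDim ↥((specMap R₀ n c F₀).fiber p))} with hE₀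
  have hc : IsConstructible E₀ := (isLocallyConstructible_good n c (specMap R₀ n c F₀)).isConstructible
  have key : ∀ (R' : Type u) [CommRing R'] [Algebra R₀ R'] (q : PrimeSpectrum R'),
      topologicalKrullDim ↥((specMap R' n c
        (fun i => MvPolynomial.map (algebraMap R₀ R') (F₀ i))).fiber q) =
      topologicalKrullDim ↥((specMap R₀ n c F₀).fiber (PrimeSpectrum.comap (algebraMap R₀ R') q)) := by
    intro R' _ _ q
    obtain ⟨θ, hθ⟩ := exists_isPushout n c F₀
      (fun i => MvPolynomial.map (algebraMap R₀ R') (F₀ i)) (fun i => rfl)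
    have hpb := isPullback_SpecMap_of_isPushout _ _ _ _ hθ
    exact Groth.Agent.S9777.result (specMap R₀ n c F₀)
      (Spec.map (CommRingCat.ofHom (algebraMap R₀ R'))) _ _ hpb q
  have hpre : PrimeSpectrum.comap (algebraMap R₀ R) ⁻¹' (E₀ᶜ : Set (PrimeSpectrum R₀)) = ∅ := by
    rw [Set.eq_empty_iff_forall_notMem]
    intro q hq
    apply hq
    show Good n c _
    rw [← key R q]
    exact (isRelGCI_iff R n c _).mp hGCI q
  have hZ : IsConstructible (E₀ᶜ : Set (PrimeSpectrum R₀)) := hc.compl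
  obtain ⟨s, hs⟩ := ConsEmptyLim.exists_finset_adjoin_preimage_eq_empty hZ hpre
  refine ⟨s, ?_⟩
  rw [isRelGCI_iff]
  intro p
  rw [key (Algebra.adjoin R₀ (s : Set R)) p]
  by_contra hp
  have : p ∈ PrimeSpectrum.comap (algebraMap R₀ (Algebra.adjoin R₀ (s : Set R))) ⁻¹'
      (E₀ᶜ : Set (PrimeSpectrum R₀)) := hp
  rw [hs] at this
  exact this

end Main

section Final

/-- **S9736**: Noetherian approximation of standard syntomic morphisms. -/
theorem standardSyntomic_approx {X S : Scheme.{u}} (f : X ⟶ S) (hf : Synt.IsStandardSyntomic f) :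
    ∃ (X₀ S₀ : Scheme.{u}) (f₀ : X₀ ⟶ S₀) (g : S ⟶ S₀) (g' : X ⟶ X₀), IsAffine X₀ ∧ IsAffine S₀ ∧
      IsPullback g' f f₀ g ∧ Algebra.FiniteType ℤ Γ(S₀, ⊤) ∧ LocallyOfFiniteType f₀ ∧
      Synt.IsStandardSyntomic f₀ := by
  obtain ⟨R, _, n, c, F, hGCI, e₁, e₂, hcomm⟩ := hf
  obtain ⟨R₀, hfg, F₀, hF⟩ := exists_coeff_model R n c F
  obtain rfl : F = fun i => MvPolynomial.map (algebraMap R₀ R) (F₀ i) := funext hF
  obtain ⟨s, hs⟩ := main R n c R₀ hfg F₀ hGCI
  set R₁ := Algebra.adjoin R₀ (s : Set R) with hR₁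
  set F₁ : Fin c → MvPolynomial (Fin n) R₁ :=
    fun i => MvPolynomial.map (algebraMap R₀ R₁) (F₀ i) with hF₁
  have hF' : ∀ i, (fun i => MvPolynomial.map (algebraMap R₀ R) (F₀ i)) i =
      MvPolynomial.map (algebraMap R₁ R) (F₁ i) := by
    intro i
    simp only [hF₁, MvPolynomial.map_map]
    congr 1
  obtain ⟨θ, hθ⟩ := exists_isPushout n c F₁ _ hF'
  have hpb := isPullback_SpecMap_of_isPushout _ _ _ _ hθ
  have hsq : IsPullback e₁.hom f (specMap R n c _) e₂.hom := IsPullback.of_horiz_isIso ⟨hcomm⟩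
  refine ⟨Spec (.of (RelGCIRing R₁ n c F₁)), Spec (.of R₁), specMap R₁ n c F₁,
    e₂.hom ≫ Spec.map (CommRingCat.ofHom (algebraMap R₁ R)), e₁.hom ≫ Spec.map θ,
    inferInstance, inferInstance, hsq.paste_horiz hpb, ?_, ?_, ?_⟩
  · haveI : Algebra.FiniteType ℤ R₀ := (Subalgebra.fg_iff_finiteType R₀).mp hfg
    haveI : Algebra.FiniteType R₀ R₁ := Algebra.FiniteType.adjoin_of_finite s.finite_toSet
    have h1 : Algebra.FiniteType ℤ R₁ := Algebra.FiniteType.trans (S := R₀) inferInstance inferInstance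
    exact Algebra.FiniteType.equiv h1
      { (Scheme.ΓSpecIso (.of R₁)).symm.commRingCatIsoToRingEquiv with
        commutes' := fun r => by simp }
  · haveI := finitePresentation_relGCIRing R₁ n c F₁
    exact (HasRingHomProperty.Spec_iff (P := @LocallyOfFiniteType)).mpr
      (RingHom.finiteType_algebraMap.mpr inferInstance)
  · exact ⟨R₁, inferInstance, n, c, F₁, hs, Iso.refl _, Iso.refl _, by simp⟩

end Final

end Groth.Agent.Lib.Helper25.RelGCIApprox
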