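import Mathlib
import Groth.Agent.Lib.Helper21.QCohCompact2
import Groth.Agent.Lib.Helper28.EpiAffine
import Groth.Agent.Lib.Helper25.LimModDescA

/-!
# helper25 — RelGenA: compactness form of relative global generation.

* `epi_counit_of_isAffineHom`: for an affine morphism `π` and a quasi-coherent `M`, the counit `π^*π_*M ⟶ M`
  is an epimorphism.
* `exists_fp_epi_of_epi`: if `h : X ⟶ Y` with `Y` qcqs, `X` quasi-compact, `L` quasi-coherent of finite type on
  `X` and `κ : h^*Q ⟶ L` an epimorphism with `Q` quasi-coherent, then there is a finitely presented `H` on `Y`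
  with an epimorphism `h^*H ⟶ L`.
* `exists_fp_epi_comp`: if `L` is generated relative to `f : X ⟶ Y'` and `π : Y' ⟶ Y` is affine with `Y` qcqs,
  then `L` is a quotient of `(f ≫ π)^* H` with `H` finitely presented on `Y`.
-/

set_option backward.isDefEq.respectTransparency.types false
set_option autoImplicit false
set_option linter.unusedVariables false
set_option linter.style.haveILetI false
set_option linter.unusedSectionVars false
universe u
open AlgebraicGeometry CategoryTheory Limits TopologicalSpace Opposite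

namespace Groth.Agent.Lib.Helper25.RelGen

open Groth.Agent.Lib.Helper28.QCohLoc Groth.Agent.Lib.Helper21.QCohColim
  Groth.Agent.Lib.Helper21.FPQuot Groth.Agent.Lib.Helper21.QCohCompact
  Groth.Agent.Lib.Helper7.FPKer Groth.Agent.Lib.Helper17.CohKer

/-- the counit at `M` is an epimorphism as soon as `M` is a quotient of some `f^*Q` -/
theorem epi_counit_of_epi {X Y : Scheme.{u}} (f : X ⟶ Y) {Q : Y.Modules} {M : X.Modules}
    (κ : (Scheme.Modules.pullback f).obj Q ⟶ M) [Epi κ] :
    Epi ((Scheme.Modules.pullbackPushforwardAdjunction f).counit.app M) := by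
  have h1 : (Scheme.Modules.pullback f).map
      ((Scheme.Modules.pullbackPushforwardAdjunction f).homEquiv Q M κ) ≫
      (Scheme.Modules.pullbackPushforwardAdjunction f).counit.app M = κ :=
    ((Scheme.Modules.pullbackPushforwardAdjunction f).homEquiv_counit (X := Q) (Y := M)
      (g := (Scheme.Modules.pullbackPushforwardAdjunction f).homEquiv Q M κ)).symm.trans
      (((Scheme.Modules.pullbackPushforwardAdjunction f).homEquiv Q M).symm_apply_apply κ)
  exact epi_of_epi_fac h1

/-- for an affine morphism the counit `π^*π_*M ⟶ M` is an epimorphism on quasi-coherent modules -/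
theorem epi_counit_of_isAffineHom {X Y : Scheme.{u}} (π : X ⟶ Y) [IsAffineHom π] (M : X.Modules)
    [M.IsQuasicoherent] :
    Epi ((Scheme.Modules.pullbackPushforwardAdjunction π).counit.app M) := by
  have hφ : (Scheme.Modules.pullbackPushforwardAdjunction π).counit.app M =
      ((Scheme.Modules.pullbackPushforwardAdjunction π).homEquiv _ M).symm (𝟙 (PM π M)) := by
    rw [Adjunction.homEquiv_counit]
    simp
  rw [hφ]
  refine epi_of_affine_cover _ (fun U : Y.affineOpens => π ⁻¹ᵁ U.1) (fun U => U.2.preimage π) ?_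
      (fun U => isLocOn_of_isQuasicoherent M (U.2.preimage π)) ?_
  · intro x
    obtain ⟨U, hU, hx, -⟩ := Opens.isBasis_iff_nbhd.mp Y.isBasis_affineOpens
      (show π x ∈ (⊤ : Y.Opens) from trivial)
    exact ⟨⟨U, hU⟩, hx⟩
  · intro U m
    exact ⟨_, (adjunct_app (𝟙 (PM π M)) U.1 (ofM π M U.1 m)).trans rfl⟩

section Compact

variable {X Y : Scheme.{u}} (h : X ⟶ Y) [CompactSpace Y] [QuasiSeparatedSpace Y] [CompactSpace X]

/-- **compactness**: a finite type quasi-coherent quotient of `h^*Q` is a quotient of `h^*H` with `H`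
finitely presented. -/
theorem exists_fp_epi_of_epi (Q : Y.Modules) [Q.IsQuasicoherent] (L : X.Modules) [L.IsQuasicoherent]
    [SheafOfModules.IsFiniteType.{u} (R := X.ringCatSheaf) L]
    (κ : (Scheme.Modules.pullback h).obj Q ⟶ L) [Epi κ] :
    ∃ (H : Y.Modules) (κ' : (Scheme.Modules.pullback h).obj H ⟶ L),
      SheafOfModules.IsFinitePresentation.{u} (R := Y.ringCatSheaf) H ∧ Epi κ' := by
  classical
  haveI : ((Scheme.Modules.pullback h).obj Q).IsQuasicoherent := inferInstance
  obtain ⟨T, -, hT⟩ := exists_gen_points L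
  -- lift the generating sections to `h^*Q`
  have hsurj : ∀ p : Pt L, ∃ y : Γ((Scheme.Modules.pullback h).obj Q, p.1.1), κ.app p.1.1 y = p.2 :=
    fun p => surjective_app_of_epi κ p.1.2 (isLocOn_of_isQuasicoherent _ p.1.2)
      (isLocOn_of_isQuasicoherent _ p.1.2) p.2
  choose lift hlift using hsurj
  let hcol : IsColimit ((Scheme.Modules.pullback h).mapCocone (cocone Q)) :=
    isColimitOfPreserves (Scheme.Modules.pullback h) (isColimit Q)
  let T' : Finset (Pt ((Scheme.Modules.pullback h).obj Q)) :=
    T.image fun p => (⟨p.1, lift p⟩ : Pt ((Scheme.Modules.pullback h).obj Q))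
  obtain ⟨σ, hσ⟩ := exists_lift_finset (c := (Scheme.Modules.pullback h).mapCocone (cocone Q)) hcol T'
  have hA := isCoh_D Q σ
  haveI : ((D Q).obj σ).IsQuasicoherent := hA.1
  haveI : SheafOfModules.IsFiniteType.{u} (R := Y.ringCatSheaf) ((D Q).obj σ) := hA.2
  obtain ⟨H, p, hH, hp⟩ := exists_fp_epi ((D Q).obj σ)
  haveI := hp
  let κ₁ : (Scheme.Modules.pullback h).obj ((D Q).obj σ) ⟶ L :=
    (Scheme.Modules.pullback h).map ((cocone Q).ι.app σ) ≫ κ
  haveI : Epi κ₁ := by
    refine hT _ κ₁ (fun p hp => ?_)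
    obtain ⟨y, hy⟩ := hσ ⟨p.1, lift p⟩ (Finset.mem_image.mpr ⟨p, hp, rfl⟩)
    refine ⟨y, ?_⟩
    change κ.app p.1.1 (((Scheme.Modules.pullback h).map ((cocone Q).ι.app σ)).app p.1.1 y) = p.2
    have hy' : ((Scheme.Modules.pullback h).map ((cocone Q).ι.app σ)).app p.1.1 y = lift p := hy
    rw [hy', hlift]
  haveI : Epi ((Scheme.Modules.pullback h).map p) := inferInstance
  exact ⟨H, (Scheme.Modules.pullback h).map p ≫ κ₁, hH, epi_comp _ _⟩

end Compact

/-- if `L` is generated relative to `f : X ⟶ Y'` and `π : Y' ⟶ Y` is affine with `Y` qcqs, then `L` is a quotient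
of `(f ≫ π)^*H` with `H` finitely presented on `Y`. -/
theorem exists_fp_epi_comp {X Y' Y : Scheme.{u}} (f : X ⟶ Y') [QuasiCompact f] [QuasiSeparated f]
    (π : Y' ⟶ Y) [IsAffineHom π] [CompactSpace Y] [QuasiSeparatedSpace Y] [CompactSpace X]
    (L : X.Modules) [L.IsQuasicoherent] [SheafOfModules.IsFiniteType.{u} (R := X.ringCatSheaf) L]
    (hgen : Epi ((Scheme.Modules.pullbackPushforwardAdjunction f).counit.app L)) :
    ∃ (H : Y.Modules) (κ : (Scheme.Modules.pullback (f ≫ π)).obj H ⟶ L),
      SheafOfModules.IsFinitePresentation.{u} (R := Y.ringCatSheaf) H ∧ Epi κ := by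
  haveI := hgen
  let M : Y'.Modules := (Scheme.Modules.pushforward f).obj L
  haveI : M.IsQuasicoherent := isQuasicoherent_pushforward f L
  let Q₀ : Y.Modules := (Scheme.Modules.pushforward π).obj M
  haveI : Q₀.IsQuasicoherent := isQuasicoherent_pushforward π M
  haveI := epi_counit_of_isAffineHom π M
  let κ₀ : (Scheme.Modules.pullback (f ≫ π)).obj Q₀ ⟶ L :=
    (Scheme.Modules.pullbackComp f π).inv.app Q₀ ≫
      (Scheme.Modules.pullback f).map ((Scheme.Modules.pullbackPushforwardAdjunction π).counit.app M) ≫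
      (Scheme.Modules.pullbackPushforwardAdjunction f).counit.app L
  haveI : Epi ((Scheme.Modules.pullback f).map
      ((Scheme.Modules.pullbackPushforwardAdjunction π).counit.app M)) := inferInstance
  haveI : Epi κ₀ := epi_comp _ _
  exact exists_fp_epi_of_epi (f ≫ π) Q₀ L κ₀

end Groth.Agent.Lib.Helper25.RelGen
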