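import Mathlib
import Groth.Agent.Lib.Helper25.RelGenA
import Groth.Agent.Lib.Helper25.LimFlatTower
import Groth.Agent.Lib.Helper25.LimHomC
import Groth.Agent.Lib.Helper13.LimDescendCore

/-!
# helper25 — RelGenB: relative global generation descends to a stage of a cofiltered limit.
-/

set_option backward.isDefEq.respectTransparency.types false
set_option autoImplicit false
set_option linter.unusedVariables false
set_option linter.style.haveILetI false
set_option linter.unusedSectionVars false
universe u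
open AlgebraicGeometry CategoryTheory Limits TopologicalSpace Opposite

namespace Groth.Agent.Lib.Helper25.RelGen

open Groth.Agent.Lib.Helper22 Groth.Agent.Lib.Helper25.LimFlatTower
  Groth.Agent.Lib.Helper25.ModMapLocal Groth.Agent.Lib.Helper25.LimModMap
  Groth.Agent.Lib.Helper25.LimHom Groth.Agent.Lib.Helper21.FPQuot
  Groth.Agent.Lib.Helper13.LimDescend

/-- persistence of relative generation along a commutative square -/
theorem epi_counit_of_square {X Y X' Y' : Scheme.{u}} (f : X ⟶ Y) (f' : X' ⟶ Y') (b : X' ⟶ X) (a : Y' ⟶ Y)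
    (w : b ≫ f = f' ≫ a) {Q : Y.Modules} {M : X.Modules}
    (κ : (Scheme.Modules.pullback f).obj Q ⟶ M) [Epi κ] {M' : X'.Modules}
    (i : (Scheme.Modules.pullback b).obj M ≅ M') :
    Epi ((Scheme.Modules.pullbackPushforwardAdjunction f').counit.app M') := by
  let κ' : (Scheme.Modules.pullback f').obj ((Scheme.Modules.pullback a).obj Q) ⟶ M' :=
    (compIso f' a (b ≫ f) w.symm).hom.app Q ≫ (compIso b f (b ≫ f) rfl).inv.app Q ≫
      (Scheme.Modules.pullback b).map κ ≫ i.hom
  haveI : Epi ((Scheme.Modules.pullback b).map κ) := inferInstance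
  haveI : Epi κ' := by
    refine @epi_comp _ _ _ _ _ _ inferInstance _ (@epi_comp _ _ _ _ _ _ inferInstance _ (epi_comp _ _))
  exact epi_counit_of_epi f' κ'

/-- persistence of relative generation along a commutative square, starting from the counit -/
theorem epi_counit_of_square' {X Y X' Y' : Scheme.{u}} (f : X ⟶ Y) (f' : X' ⟶ Y') (b : X' ⟶ X) (a : Y' ⟶ Y)
    (w : b ≫ f = f' ≫ a) {M : X.Modules}
    (hgen : Epi ((Scheme.Modules.pullbackPushforwardAdjunction f).counit.app M)) {M' : X'.Modules}
    (i : (Scheme.Modules.pullback b).obj M ≅ M') :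
    Epi ((Scheme.Modules.pullbackPushforwardAdjunction f').counit.app M') := by
  haveI := hgen
  exact epi_counit_of_square f f' b a w
    ((Scheme.Modules.pullbackPushforwardAdjunction f).counit.app M) i

variable {J : Type u} [SmallCategory J] [IsCofiltered J] (E : J ⥤ Scheme.{u})
  {e : Cone E} (he : IsLimit e) [∀ (i j : J) (f : i ⟶ j), IsAffineHom (E.map f)]
  (k : J) [CompactSpace (E.obj k)] [QuasiSeparatedSpace (E.obj k)]
  {Xk : Scheme.{u}} (fk : Xk ⟶ E.obj k) [QuasiCompact fk] [QuasiSeparated fk]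
  (Lk : Xk.Modules) [SheafOfModules.IsFinitePresentation.{u} (R := Xk.ringCatSheaf) Lk]

include he in
set_option maxHeartbeats 1000000 in
/-- **relative global generation in the limit gives a quotient presentation at a stage** -/
theorem exists_stage_epi
    (hgen : Epi ((Scheme.Modules.pullbackPushforwardAdjunction (pullback.fst (e.π.app k) fk)).counit.app
      ((Scheme.Modules.pullback (pullback.snd (e.π.app k) fk)).obj Lk))) :
    ∃ (m : Over k) (Q : (E.obj m.left).Modules)
      (κ : (Scheme.Modules.pullback (pullback.fst (E.map m.hom) fk)).obj Q ⟶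
        (Scheme.Modules.pullback (pullback.snd (E.map m.hom) fk)).obj Lk), Epi κ := by
  classical
  haveI : CompactSpace Xk := QuasiCompact.compactSpace_of_compactSpace fk
  haveI : QuasiSeparatedSpace Xk := quasiSeparatedSpace_of_quasiSeparated fk
  haveI : IsAffineHom (e.π.app k) := isAffineHom_π_app E e he k
  haveI : IsAffineHom (pullback.snd (e.π.app k) fk) :=
    MorphismProperty.pullback_snd (P := @IsAffineHom) _ _ inferInstance
  haveI : CompactSpace ↥(pullback (e.π.app k) fk) :=
    QuasiCompact.compactSpace_of_compactSpace (pullback.snd (e.π.app k) fk)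
  haveI : QuasiCompact (pullback.fst (e.π.app k) fk) :=
    MorphismProperty.pullback_fst (P := @QuasiCompact) _ _ inferInstance
  haveI : QuasiSeparated (pullback.fst (e.π.app k) fk) :=
    MorphismProperty.pullback_fst (P := @QuasiSeparated) _ _ inferInstance
  let sI := pullback.snd (e.π.app k) fk
  let fI := pullback.fst (e.π.app k) fk
  let LI := (Scheme.Modules.pullback sI).obj Lk
  haveI hLI : SheafOfModules.IsFinitePresentation.{u} (R := (pullback (e.π.app k) fk).ringCatSheaf) LI :=
    isFP_pullback sI Lk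
  haveI : LI.IsQuasicoherent :=
    Groth.Agent.Lib.Helper29.FPDict.isQuasicoherent_of_isFinitePresentation LI
  haveI : SheafOfModules.IsFiniteType.{u} (R := (pullback (e.π.app k) fk).ringCatSheaf) LI :=
    Groth.Agent.Lib.Helper29.FPDict.isFiniteType_of_isFinitePresentation LI
  obtain ⟨H, κ₁, hH, hκ₁⟩ := exists_fp_epi_comp fI (e.π.app k) LI hgen
  haveI := hH
  haveI := hκ₁
  -- the `X`-tower
  let tp : Over k := top k
  let stop : pullback (E.map tp.hom) fk ⟶ Xk := pullback.snd (E.map tp.hom) fk
  haveI : IsAffineHom stop := MorphismProperty.pullback_snd (P := @IsAffineHom) _ _ inferInstance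
  haveI hcomp : ∀ m : Over k, CompactSpace ((bcDiag E k fk).obj m) := fun m => inferInstance
  haveI : IsSeparated stop := IsSeparated.of_isAffineHom stop
  have hqs : QuasiSeparatedSpace ↥(pullback (E.map tp.hom) fk) :=
    quasiSeparatedSpace_of_quasiSeparated stop
  haveI : QuasiSeparatedSpace ((bcDiag E k fk).obj tp) := hqs
  let N : Xk.Modules := (Scheme.Modules.pullback fk).obj H
  haveI hN : SheafOfModules.IsFinitePresentation.{u} (R := Xk.ringCatSheaf) N := isFP_pullback fk H
  let F₀ : ((bcDiag E k fk).obj tp).Modules := (Scheme.Modules.pullback stop).obj N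
  let G₀ : ((bcDiag E k fk).obj tp).Modules := (Scheme.Modules.pullback stop).obj Lk
  haveI hF₀ : SheafOfModules.IsFinitePresentation.{u} (R := ((bcDiag E k fk).obj tp).ringCatSheaf) F₀ :=
    isFP_pullback stop N
  haveI hG₀ : SheafOfModules.IsFinitePresentation.{u} (R := ((bcDiag E k fk).obj tp).ringCatSheaf) G₀ :=
    isFP_pullback stop Lk
  haveI : G₀.IsQuasicoherent :=
    Groth.Agent.Lib.Helper29.FPDict.isQuasicoherent_of_isFinitePresentation G₀
  have hw1 : proj E e k fk tp ≫ stop = sI := proj_snd E e k fk tp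
  have hw2 : sI ≫ fk = fI ≫ e.π.app k := pullback.condition.symm
  let κ₃ : (Scheme.Modules.pullback ((bcCone E e k fk).π.app tp)).obj F₀ ⟶
      (Scheme.Modules.pullback ((bcCone E e k fk).π.app tp)).obj G₀ :=
    (compIso (proj E e k fk tp) stop sI hw1).hom.app N ≫
      (compIso sI fk (fI ≫ e.π.app k) hw2).hom.app H ≫ κ₁ ≫
      (compIso (proj E e k fk tp) stop sI hw1).inv.app Lk
  have e1 : Epi (κ₁ ≫ (compIso (proj E e k fk tp) stop sI hw1).inv.app Lk) := epi_comp _ _
  have e2 : Epi ((compIso sI fk (fI ≫ e.π.app k) hw2).hom.app H ≫ κ₁ ≫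
      (compIso (proj E e k fk tp) stop sI hw1).inv.app Lk) := epi_comp _ _
  have e3 : Epi ((compIso (proj E e k fk tp) stop sI hw1).hom.app N ≫
      (compIso sI fk (fI ≫ e.π.app k) hw2).hom.app H ≫ κ₁ ≫
      (compIso (proj E e k fk tp) stop sI hw1).inv.app Lk) := epi_comp _ _
  haveI hκ₃ : Epi κ₃ := e3
  obtain ⟨m, φ, hj, hΘ⟩ := exists_hom_descend (bcDiag E k fk) (bcIsLimit E he k fk) tp
    (F₀ := F₀) (G₀ := G₀) κ₃
  -- epi at the limit
  have hepi : Epi ((Scheme.Modules.pullback ((bcCone E e k fk).π.app m)).map hj) := by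
    have h1 : (Scheme.Modules.pullback ((bcCone E e k fk).π.app m)).map hj =
        (compIso ((bcCone E e k fk).π.app m) ((bcDiag E k fk).map φ) ((bcCone E e k fk).π.app tp)
          ((bcCone E e k fk).w φ)).hom.app F₀ ≫ κ₃ ≫
        (compIso ((bcCone E e k fk).π.app m) ((bcDiag E k fk).map φ) ((bcCone E e k fk).π.app tp)
          ((bcCone E e k fk).w φ)).inv.app G₀ := by
      rw [← hΘ]
      unfold Theta
      simp
    rw [h1]
    have e4 : Epi (κ₃ ≫ (compIso ((bcCone E e k fk).π.app m) ((bcDiag E k fk).map φ)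
        ((bcCone E e k fk).π.app tp) ((bcCone E e k fk).w φ)).inv.app G₀) := epi_comp _ _
    exact epi_comp _ _
  haveI hFm : SheafOfModules.IsFinitePresentation.{u} (R := ((bcDiag E k fk).obj m).ringCatSheaf)
      ((Scheme.Modules.pullback ((bcDiag E k fk).map φ)).obj F₀) := isFP_pullback _ F₀
  haveI hGm : SheafOfModules.IsFinitePresentation.{u} (R := ((bcDiag E k fk).obj m).ringCatSheaf)
      ((Scheme.Modules.pullback ((bcDiag E k fk).map φ)).obj G₀) := isFP_pullback _ G₀
  haveI : ((Scheme.Modules.pullback ((bcDiag E k fk).map φ)).obj F₀).IsQuasicoherent :=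
    Groth.Agent.Lib.Helper29.FPDict.isQuasicoherent_of_isFinitePresentation _
  haveI : ((Scheme.Modules.pullback ((bcDiag E k fk).map φ)).obj G₀).IsQuasicoherent :=
    Groth.Agent.Lib.Helper29.FPDict.isQuasicoherent_of_isFinitePresentation _
  haveI : SheafOfModules.IsFiniteType.{u} (R := ((bcDiag E k fk).obj m).ringCatSheaf)
      ((Scheme.Modules.pullback ((bcDiag E k fk).map φ)).obj G₀) :=
    Groth.Agent.Lib.Helper29.FPDict.isFiniteType_of_isFinitePresentation _
  obtain ⟨m', φ', hepi'⟩ := (epi_pullback_map_iff_eventually (bcDiag E k fk)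
    (bcIsLimit E he k fk) (i₀ := m) hj).1 hepi
  haveI := hepi'
  -- repackage at stage `m'`
  let t : pullback (E.map m'.hom) fk ⟶ pullback (E.map tp.hom) fk := tmap E k fk (φ' ≫ φ)
  let s' := pullback.snd (E.map m'.hom) fk
  let f' := pullback.fst (E.map m'.hom) fk
  have ht : tmap E k fk φ' ≫ tmap E k fk φ = t := ((bcDiag E k fk).map_comp φ' φ).symm
  have hts : t ≫ stop = s' := tmap_snd E k fk (φ' ≫ φ)
  have hsf : s' ≫ fk = f' ≫ E.map m'.hom := pullback.condition.symm
  let κ : (Scheme.Modules.pullback f').obj ((Scheme.Modules.pullback (E.map m'.hom)).obj H) ⟶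
      (Scheme.Modules.pullback s').obj Lk :=
    (compIso f' (E.map m'.hom) (f' ≫ E.map m'.hom) rfl).hom.app H ≫
      (compIso s' fk (f' ≫ E.map m'.hom) hsf).inv.app H ≫
      (compIso t stop s' hts).inv.app N ≫
      (compIso (tmap E k fk φ') (tmap E k fk φ) t ht).inv.app F₀ ≫
      (Scheme.Modules.pullback (tmap E k fk φ')).map hj ≫
      (compIso (tmap E k fk φ') (tmap E k fk φ) t ht).hom.app G₀ ≫
      (compIso t stop s' hts).hom.app Lk
  have hκ : Epi κ := by
    haveI : Epi ((Scheme.Modules.pullback (tmap E k fk φ')).map hj) := hepi'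
    have e5 : Epi ((compIso (tmap E k fk φ') (tmap E k fk φ) t ht).hom.app G₀ ≫
      (compIso t stop s' hts).hom.app Lk) := epi_comp _ _
    have e6 : Epi ((Scheme.Modules.pullback (tmap E k fk φ')).map hj ≫
      (compIso (tmap E k fk φ') (tmap E k fk φ) t ht).hom.app G₀ ≫
      (compIso t stop s' hts).hom.app Lk) := @epi_comp _ _ _ _ _ _ hepi' _ e5
    have e7 : Epi ((compIso (tmap E k fk φ') (tmap E k fk φ) t ht).inv.app F₀ ≫
      (Scheme.Modules.pullback (tmap E k fk φ')).map hj ≫
      (compIso (tmap E k fk φ') (tmap E k fk φ) t ht).hom.app G₀ ≫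
      (compIso t stop s' hts).hom.app Lk) := @epi_comp _ _ _ _ _ _ inferInstance _ e6
    have e8 : Epi ((compIso t stop s' hts).inv.app N ≫
      (compIso (tmap E k fk φ') (tmap E k fk φ) t ht).inv.app F₀ ≫
      (Scheme.Modules.pullback (tmap E k fk φ')).map hj ≫
      (compIso (tmap E k fk φ') (tmap E k fk φ) t ht).hom.app G₀ ≫
      (compIso t stop s' hts).hom.app Lk) := epi_comp _ _
    have e9 : Epi ((compIso s' fk (f' ≫ E.map m'.hom) hsf).inv.app H ≫
      (compIso t stop s' hts).inv.app N ≫
      (compIso (tmap E k fk φ') (tmap E k fk φ) t ht).inv.app F₀ ≫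
      (Scheme.Modules.pullback (tmap E k fk φ')).map hj ≫
      (compIso (tmap E k fk φ') (tmap E k fk φ) t ht).hom.app G₀ ≫
      (compIso t stop s' hts).hom.app Lk) := epi_comp _ _
    exact epi_comp _ _
  exact ⟨m', (Scheme.Modules.pullback (E.map m'.hom)).obj H, κ, hκ⟩

end Groth.Agent.Lib.Helper25.RelGen
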