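import Mathlib
import Groth.Agent.Lib.Helper25.GenRedAlg2

/-!
# Spreading out "no element killed by finitely many given elements" (algebra for EGA IV 9.5-type
statements on schematically dense opens of fibres)
-/

set_option autoImplicit false
set_option linter.deprecated false
set_option linter.style.haveILetI false
set_option linter.unusedVariables false
set_option linter.unusedSectionVars false
universe u
open TensorProduct

namespace Groth.Agent.Lib.Helper25.SchDenseAlg

open Groth.Agent.Lib.Helper25.GenRedAlg Groth.Agent.Lib.Helper25.GenRedAlg2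

section Basic

variable {A B : Type u} [CommRing A] [CommRing B] [Algebra A B] {m : ℕ}

/-- no nonzero element of `L ⊗ B` is killed by all the `1 ⊗ g k`. -/
def AnnInj (g : Fin m → B) (L : Type u) [CommRing L] [Algebra A L] : Prop :=
  ∀ c : L ⊗[A] B, (∀ k, ((1 : L) ⊗ₜ[A] g k) * c = 0) → c = 0

/-- `b ↦ (g k * b)_k`. -/
noncomputable def mulPi (g : Fin m → B) : B →ₗ[A] (Fin m → B) :=
  LinearMap.pi (fun k => LinearMap.mulLeft A (g k))

theorem mulPi_apply (g : Fin m → B) (b : B) (k : Fin m) : mulPi (A := A) g b k = g k * b := rfl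

theorem piRight_lTensor_mulPi (g : Fin m → B) (L : Type u) [CommRing L] [Algebra A L]
    (c : L ⊗[A] B) :
    TensorProduct.piRight A A L (fun _ : Fin m => B) ((mulPi (A := A) g).lTensor L c) =
      fun k => ((1 : L) ⊗ₜ[A] g k) * c := by
  induction c using TensorProduct.induction_on with
  | zero => ext k; simp
  | add x y hx hy =>
    rw [map_add, map_add, hx, hy]
    ext k
    simp [mul_add]
  | tmul l b =>
    ext k
    simp [mulPi_apply, Algebra.TensorProduct.tmul_mul_tmul]

theorem annInj_iff_injective (g : Fin m → B) (L : Type u) [CommRing L] [Algebra A L] :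
    AnnInj (A := A) g L ↔ Function.Injective ((mulPi (A := A) g).lTensor L) := by
  rw [injective_iff_map_eq_zero]
  refine forall_congr' fun c => ?_
  constructor
  · intro h hc
    apply h
    intro k
    have := piRight_lTensor_mulPi (A := A) g L c
    rw [hc, map_zero] at this
    exact (congrFun this k).symm
  · intro h hc
    apply h
    apply (TensorProduct.piRight A A L (fun _ : Fin m => B)).injective
    rw [piRight_lTensor_mulPi, map_zero]
    ext k
    exact hc k

end Basic

section Transfer

variable {A B : Type u} [CommRing A] [CommRing B] [Algebra A B] {m : ℕ}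

/-- the annihilator condition is insensitive to an intermediate base change. -/
theorem annInj_baseChange (A' : Type u) [CommRing A'] [Algebra A A'] (g : Fin m → B)
    (L : Type u) [CommRing L] [Algebra A L] [Algebra A' L] [IsScalarTower A A' L] :
    AnnInj (A := A') (B := A' ⊗[A] B) (fun k => (1 : A') ⊗ₜ[A] g k) L ↔ AnnInj (A := A) g L := by
  let e := Algebra.TensorProduct.cancelBaseChange A A' A' L B
  have he : ∀ k, e ((1 : L) ⊗ₜ[A'] ((1 : A') ⊗ₜ[A] g k)) = (1 : L) ⊗ₜ[A] g k := by
    intro k
    rw [Algebra.TensorProduct.cancelBaseChange_tmul, one_smul]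
  constructor
  · intro h c hc
    obtain ⟨c', rfl⟩ := e.surjective c
    rw [h c' ?_, map_zero]
    intro k
    apply e.injective
    rw [map_mul, he, hc k, map_zero]
  · intro h c hc
    apply e.injective
    rw [map_zero]
    apply h
    intro k
    rw [← he k, ← map_mul, hc k, map_zero]

end Transfer

section KL

variable {A : Type u} [CommRing A]

/-- variant of `lTensor_injective_of_flat_away` where injectivity is only known after the first
base change. -/
theorem lTensor_injective_of_flat_away' {M N Q : Type u} [AddCommGroup M] [AddCommGroup N]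
    [AddCommGroup Q] [Module A M] [Module A N] [Module A Q] (μ : M →ₗ[A] N) (π : N →ₗ[A] Q)
    (hπ : Function.Surjective π) (hex : Function.Exact μ π)
    (R₂ : Type u) [CommRing R₂] [Algebra A R₂] [Module.Flat R₂ (R₂ ⊗[A] Q)]
    (hμ₂ : Function.Injective (TensorProduct.AlgebraTensorModule.lTensor R₂ R₂ μ))
    (L : Type u) [CommRing L] [Algebra A L] [Algebra R₂ L] [IsScalarTower A R₂ L] :
    Function.Injective (μ.lTensor L) := by
  let μ₂ : R₂ ⊗[A] M →ₗ[R₂] R₂ ⊗[A] N := TensorProduct.AlgebraTensorModule.lTensor R₂ R₂ μ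
  let π₂ : R₂ ⊗[A] N →ₗ[R₂] R₂ ⊗[A] Q := TensorProduct.AlgebraTensorModule.lTensor R₂ R₂ π
  have hπ₂ : Function.Surjective π₂ := LinearMap.lTensor_surjective R₂ hπ
  have hex₂ : Function.Exact μ₂ π₂ := lTensor_exact R₂ hex hπ
  have hinj := LinearMap.lTensor_injective_of_exact_of_flat π₂ hπ₂ μ₂ hμ₂ hex₂ L
  let eM := TensorProduct.AlgebraTensorModule.cancelBaseChange A R₂ R₂ L M
  let eN := TensorProduct.AlgebraTensorModule.cancelBaseChange A R₂ R₂ L N
  have hcomm : ∀ z, μ.lTensor L (eM z) = eN (μ₂.lTensor L z) := by
    intro z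
    induction z using TensorProduct.induction_on with
    | zero => simp
    | add x y hx hy => simp only [map_add, hx, hy]
    | tmul l w =>
      induction w using TensorProduct.induction_on with
      | zero => simp
      | add x y hx hy => simp only [tmul_add, map_add, hx, hy]
      | tmul r m => rfl
  intro x y hxy
  obtain ⟨x', rfl⟩ := eM.surjective x
  obtain ⟨y', rfl⟩ := eM.surjective y
  rw [hcomm, hcomm] at hxy
  rw [hinj (eN.injective hxy)]

/-- injectivity over the localization follows from injectivity over the fraction field, for a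
module that becomes flat over the localization. -/
theorem lTensor_injective_of_fractionField {M N : Type u} [AddCommGroup M] [AddCommGroup N]
    [Module A M] [Module A N] (μ : M →ₗ[A] N)
    (R₂ : Type u) [CommRing R₂] [Algebra A R₂] [Module.Flat R₂ (R₂ ⊗[A] M)]
    (K : Type u) [Field K] [Algebra A K] [Algebra R₂ K] [IsScalarTower A R₂ K]
    (hinjRK : Function.Injective (algebraMap R₂ K))
    (hK : Function.Injective (μ.lTensor K)) :
    Function.Injective (TensorProduct.AlgebraTensorModule.lTensor R₂ R₂ μ) := by
  let μ₂ : R₂ ⊗[A] M →ₗ[R₂] R₂ ⊗[A] N := TensorProduct.AlgebraTensorModule.lTensor R₂ R₂ μ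
  let eM := TensorProduct.AlgebraTensorModule.cancelBaseChange A R₂ R₂ K M
  let eN := TensorProduct.AlgebraTensorModule.cancelBaseChange A R₂ R₂ K N
  have hcomm : ∀ z, μ.lTensor K (eM z) = eN (μ₂.lTensor K z) := by
    intro z
    induction z using TensorProduct.induction_on with
    | zero => simp
    | add x y hx hy => simp only [map_add, hx, hy]
    | tmul l w =>
      induction w using TensorProduct.induction_on with
      | zero => simp
      | add x y hx hy => simp only [tmul_add, map_add, hx, hy]
      | tmul r m => rfl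
  rw [injective_iff_map_eq_zero]
  intro x hx
  have h1 : (1 : K) ⊗ₜ[R₂] x = 0 := by
    apply eM.injective
    apply hK
    rw [hcomm, LinearMap.lTensor_tmul]
    rw [hx, tmul_zero, map_zero, map_zero, map_zero]
  have hinj := Module.Flat.rTensor_preserves_injective_linearMap (M := R₂ ⊗[A] M)
    (Algebra.linearMap R₂ K) hinjRK
  have h4 : (Algebra.linearMap R₂ K).rTensor (R₂ ⊗[A] M) ((1 : R₂) ⊗ₜ[R₂] x) = 0 := by
    rw [LinearMap.rTensor_tmul, Algebra.linearMap_apply, map_one, h1]
  have h5 : (1 : R₂) ⊗ₜ[R₂] x = 0 := hinj (by rw [h4, map_zero])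
  have := congrArg (TensorProduct.lid R₂ (R₂ ⊗[A] M)) h5
  rwa [TensorProduct.lid_tmul, one_smul, map_zero] at this

end KL

section Core

variable {A B : Type u} [CommRing A] [IsDomain A] [CommRing B] [Algebra A B]
  [Algebra.FiniteType A B] {m : ℕ}

/-- the domain case, with an abstract cokernel. -/
theorem annInj_domain_aux (K : Type u) [Field K] [Algebra A K] [IsFractionRing A K]
    (g : Fin m → B) (h : AnnInj (A := A) g K)
    (Q : Type u) [AddCommGroup Q] [Module B Q] [Module A Q] [IsScalarTower A B Q]
    [Module.Finite B Q] (π : (Fin m → B) →ₗ[A] Q) (hπ : Function.Surjective π)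
    (hex : Function.Exact (mulPi (A := A) g) π) :
    ∃ f : A, f ≠ 0 ∧ ∀ (L : Type u) [Field L] [Algebra A L], algebraMap A L f ≠ 0 →
      AnnInj (A := A) g L := by
  classical
  obtain ⟨f, hf, hQ, hB, -⟩ := exists_free_away A B Q
  refine ⟨f, hf, ?_⟩
  haveI := hQ
  haveI := hB
  have hinjAK : Function.Injective (algebraMap A K) := IsFractionRing.injective A K
  have hKf : algebraMap A K f ≠ 0 := fun h0 => hf (hinjAK (by rw [h0, map_zero]))
  have hμ₂ : Function.Injective
      (TensorProduct.AlgebraTensorModule.lTensor (Localization.Away f) (Localization.Away f)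
        (mulPi (A := A) g)) := by
    letI := awayAlgebra f K hKf
    haveI := awayAlgebra_tower f K hKf
    refine lTensor_injective_of_fractionField (mulPi (A := A) g) (Localization.Away f) K ?_
      ((annInj_iff_injective g K).mp h)
    rw [injective_iff_map_eq_zero]
    intro r hr
    obtain ⟨⟨a, t⟩, hat⟩ := IsLocalization.surj (Submonoid.powers f) r
    have h2 : algebraMap A K a = 0 := by
      rw [IsScalarTower.algebraMap_apply A (Localization.Away f) K, ← hat, map_mul, hr, zero_mul]
    have h3 : a = 0 := hinjAK (by rw [h2, map_zero])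
    rw [h3, map_zero] at hat
    have hu : IsUnit (algebraMap A (Localization.Away f) t) :=
      IsLocalization.map_units (Localization.Away f) t
    exact (hu.mul_left_eq_zero).mp hat
  intro L _ _ hL
  letI := awayAlgebra f L hL
  haveI := awayAlgebra_tower f L hL
  rw [annInj_iff_injective]
  exact lTensor_injective_of_flat_away' (mulPi (A := A) g) π hπ hex (Localization.Away f) hμ₂ L

/-- the domain case. -/
theorem annInj_domain (K : Type u) [Field K] [Algebra A K] [IsFractionRing A K] (g : Fin m → B)
    (h : AnnInj (A := A) g K) :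
    ∃ f : A, f ≠ 0 ∧ ∀ (L : Type u) [Field L] [Algebra A L], algebraMap A L f ≠ 0 →
      AnnInj (A := A) g L := by
  classical
  let ψB : B →ₗ[B] (Fin m → B) := LinearMap.pi (fun k => LinearMap.mulLeft B (g k))
  refine annInj_domain_aux K g h ((Fin m → B) ⧸ LinearMap.range ψB)
    ((Submodule.mkQ (LinearMap.range ψB)).restrictScalars A) ?_ ?_
  · intro q
    obtain ⟨y, rfl⟩ := Submodule.mkQ_surjective (LinearMap.range ψB) q
    exact ⟨y, rfl⟩
  · intro y
    constructor
    · intro hy
      have hy' : Submodule.mkQ (LinearMap.range ψB) y = 0 := hy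
      rw [Submodule.mkQ_apply, Submodule.Quotient.mk_eq_zero] at hy'
      obtain ⟨b, rfl⟩ := hy'
      exact ⟨b, rfl⟩
    · rintro ⟨b, rfl⟩
      show Submodule.mkQ (LinearMap.range ψB) _ = 0
      rw [Submodule.mkQ_apply, Submodule.Quotient.mk_eq_zero]
      exact ⟨b, rfl⟩

end Core

section Generic

variable {A B : Type u} [CommRing A] [CommRing B] [Algebra A B] {m : ℕ}

/-- general irreducible base. -/
theorem annInj_generic [Algebra.FiniteType A B] (K₀ : Type u) [Field K₀] [Algebra A K₀]
    (hK : IsGenericField A K₀) (g : Fin m → B) (h : AnnInj (A := A) g K₀) :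
    ∃ a : A, algebraMap A K₀ a ≠ 0 ∧ ∀ (L : Type u) [Field L] [Algebra A L],
      algebraMap A L a ≠ 0 → AnnInj (A := A) g L := by
  haveI := hK.isPrime
  letI := redAlgebra (A := A) K₀
  haveI := redAlgebra_tower (A := A) K₀
  haveI := hK.isFractionRing
  have h' : AnnInj (A := A ⧸ nilradical A) (B := (A ⧸ nilradical A) ⊗[A] B)
      (fun k => (1 : A ⧸ nilradical A) ⊗ₜ[A] g k) K₀ :=
    (annInj_baseChange (A ⧸ nilradical A) g K₀).mpr h
  obtain ⟨a', ha', haL⟩ := annInj_domain (A := A ⧸ nilradical A)
    (B := (A ⧸ nilradical A) ⊗[A] B) K₀ _ h'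
  obtain ⟨a, rfl⟩ := Ideal.Quotient.mk_surjective a'
  refine ⟨a, ?_, ?_⟩
  · intro h0
    apply ha'
    rw [Ideal.Quotient.eq_zero_iff_mem, mem_nilradical]
    exact hK.nilp a h0
  · intro L _ _ hL
    letI := redAlgebra (A := A) L
    haveI := redAlgebra_tower (A := A) L
    rw [← annInj_baseChange (A ⧸ nilradical A) g L]
    exact haL L hL

end Generic

end Groth.Agent.Lib.Helper25.SchDenseAlg
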