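import Mathlib
import Groth.Agent.Lib.Helper25.SchDenseAlg
import Groth.Agent.Lib.Helper25.GenRedSch

/-!
# Scheme theoretically dense opens of fibres near the generic point
-/

set_option autoImplicit false
set_option linter.style.haveILetI false
set_option linter.unusedVariables false
set_option linter.unusedSectionVars false
universe u
open CategoryTheory CategoryTheory.Limits AlgebraicGeometry TensorProduct

namespace Groth.Agent.Lib.Helper25.SchDenseSch

open Groth.Agent.Lib.Helper25.FibField Groth.Agent.Lib.Helper25.GenRedAlg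
  Groth.Agent.Lib.Helper25.GenRedSch Groth.Agent.Lib.Helper25.SchDenseAlg

section Affine

variable {X : Scheme.{u}} [IsAffine X] (Ω : X.Opens)

theorem ker_appTop_eq_bot [IsSchemeTheoreticallyDominant Ω.ι] :
    RingHom.ker Ω.ι.appTop.hom = ⊥ := by
  have h1 := Ω.ι.ker_eq_bot
  rw [Scheme.ker_of_isAffine] at h1
  have h2 := congr(($h1).ideal ⟨⊤, isAffineOpen_top X⟩)
  simpa using h2

theorem res_eq_zero_of_mul_eq_zero (h s : Γ(X, ⊤)) (hs : h * s = 0) :
    X.presheaf.map (homOfLE (X.basicOpen_le h)).op s = 0 := by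
  have hu := X.toRingedSpace.isUnit_res_basicOpen h
  have h0 : (X.presheaf.map (homOfLE (X.basicOpen_le h)).op).hom h *
      (X.presheaf.map (homOfLE (X.basicOpen_le h)).op).hom s = 0 := by
    rw [← map_mul, hs, map_zero]
  exact (IsUnit.mul_right_eq_zero hu).mp h0

/-- direction 1: if the open is scheme theoretically dense, no nonzero function is killed by
functions whose nonvanishing loci cover it. -/
theorem eq_zero_of_isSTD [IsSchemeTheoreticallyDominant Ω.ι] (H : Set Γ(X, ⊤))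
    (hcov : ∀ x ∈ Ω, ∃ h ∈ H, x ∈ X.basicOpen h) (s : Γ(X, ⊤)) (hs : ∀ h ∈ H, h * s = 0) :
    s = 0 := by
  have hker := ker_appTop_eq_bot Ω
  suffices hz : Ω.ι.appTop.hom s = 0 by
    have : s ∈ RingHom.ker Ω.ι.appTop.hom := hz
    rw [hker] at this
    exact this
  change (X.presheaf.map (homOfLE (x := Ω.ι ''ᵁ ⊤) le_top).op).hom s = 0
  refine X.IsSheaf.section_ext fun x hx => ?_
  have hxΩ : x ∈ Ω := by
    obtain ⟨z, -, rfl⟩ := hx
    exact z.2
  obtain ⟨h, hH, hxh⟩ := hcov x hxΩ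
  refine ⟨X.basicOpen h ⊓ Ω.ι ''ᵁ ⊤, inf_le_right, ⟨hxh, hx⟩, ?_⟩
  rw [map_zero]
  have h1 := res_eq_zero_of_mul_eq_zero h s (hs h hH)
  have h2 := congrArg (X.presheaf.map (homOfLE (inf_le_left :
    X.basicOpen h ⊓ Ω.ι ''ᵁ ⊤ ≤ X.basicOpen h)).op).hom h1
  rw [map_zero] at h2
  rw [← h2]
  simp only [← CommRingCat.comp_apply, ← Functor.map_comp]
  rfl

/-- direction 2. -/
theorem isSTD_of_ann (H : Set Γ(X, ⊤)) (hle : ∀ h ∈ H, X.basicOpen h ≤ Ω)
    (hann : ∀ s : Γ(X, ⊤), (∀ h ∈ H, ∃ n : ℕ, h ^ n * s = 0) → s = 0) :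
    IsSchemeTheoreticallyDominant Ω.ι := by
  rw [isSchemeTheoreticallyDominant_iff, Scheme.ker_of_isAffine]
  have hker : RingHom.ker Ω.ι.appTop.hom = ⊥ := by
    rw [eq_bot_iff]
    intro s hs
    rw [Ideal.mem_bot]
    apply hann
    intro h hH
    apply exists_pow_mul_eq_zero_of_res_basicOpen_eq_zero_of_isAffineOpen X (isAffineOpen_top X)
    have hs' : (X.presheaf.map (homOfLE (x := Ω.ι ''ᵁ ⊤) le_top).op).hom s = 0 := hs
    have hle' : X.basicOpen h ≤ Ω.ι ''ᵁ ⊤ := by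
      intro x hx
      exact ⟨⟨x, hle h hH hx⟩, trivial, rfl⟩
    have h2 := congrArg (X.presheaf.map (homOfLE hle').op).hom hs'
    rw [map_zero] at h2
    rw [← h2]
    simp only [← CommRingCat.comp_apply, ← Functor.map_comp]
    rfl
  rw [hker]
  exact Scheme.IdealSheafData.ext_of_isAffine (by simp)

end Affine

section Cover

variable {T : Scheme.{u}} (Z : T.Opens)

/-- restricting a scheme theoretically dense open along an open immersion. -/
theorem isSTD_preimage [QuasiCompact Z.ι] [IsSchemeTheoreticallyDominant Z.ι] {S : Scheme.{u}}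
    (j : S ⟶ T) [IsOpenImmersion j] : IsSchemeTheoreticallyDominant (j ⁻¹ᵁ Z).ι :=
  IsSchemeTheoreticallyDominant.of_isPullback (isPullback_morphismRestrict j Z)

/-- scheme theoretic density can be checked on an affine open cover. -/
theorem isSTD_of_cover [QuasiCompact Z.ι] {ι : Type*} (S : ι → Scheme.{u}) [∀ i, IsAffine (S i)]
    (j : ∀ i, S i ⟶ T) [∀ i, IsOpenImmersion (j i)] (hcov : ∀ x : T, ∃ i, x ∈ Set.range (j i))
    (h : ∀ i, IsSchemeTheoreticallyDominant ((j i) ⁻¹ᵁ Z).ι) :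
    IsSchemeTheoreticallyDominant Z.ι := by
  rw [isSchemeTheoreticallyDominant_iff]
  refine Scheme.IdealSheafData.ext_of_iSup_eq_top
    (fun i => ⟨(j i).opensRange, isAffineOpen_opensRange (j i)⟩) ?_ ?_
  · rw [eq_top_iff]
    intro x _
    obtain ⟨i, hi⟩ := hcov x
    exact TopologicalSpace.Opens.mem_iSup.mpr ⟨i, hi⟩
  · intro i
    have H := (isPullback_morphismRestrict (j i) Z).flip
    have h1 := Scheme.ker_ideal_of_isPullback_of_isOpenImmersion Z.ι ((j i ⁻¹ᵁ Z).ι)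
      (j i ∣_ Z) (j i) H ⟨⊤, isAffineOpen_top _⟩
    rw [(h i).ker_eq_bot] at h1
    have h2 : (⟨j i ''ᵁ ⊤, (isAffineOpen_top (S i)).image_of_isOpenImmersion (j i)⟩ :
        T.affineOpens) = ⟨(j i).opensRange, isAffineOpen_opensRange (j i)⟩ :=
      Subtype.ext (Scheme.Hom.image_top_eq_opensRange (j i))
    rw [← h2, Scheme.IdealSheafData.ideal_bot, Pi.bot_apply, eq_bot_iff]
    intro x hx
    rw [Ideal.mem_bot]
    have h3 : ((j i).appIso ⊤).hom.hom x ∈ Ideal.comap ((j i).appIso ⊤).inv.hom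
        ((Scheme.Hom.ker Z.ι).ideal ⟨j i ''ᵁ ⊤,
          (isAffineOpen_top (S i)).image_of_isOpenImmersion (j i)⟩) := by
      rw [Ideal.mem_comap]
      have : ((j i).appIso ⊤).inv.hom (((j i).appIso ⊤).hom.hom x) = x := by
        rw [← CommRingCat.comp_apply, Iso.hom_inv_id]
        rfl
      rw [this]
      exact hx
    rw [← h1, Scheme.IdealSheafData.ideal_bot, Pi.bot_apply, Ideal.mem_bot] at h3
    have h4 := congrArg ((j i).appIso ⊤).inv.hom h3
    rw [map_zero, ← CommRingCat.comp_apply, Iso.hom_inv_id] at h4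
    exact h4

end Cover

section Spread

variable {A B : Type u} [CommRing A] [CommRing B] [Algebra A B]

/-- `Spec (L ⊗ B) ⟶ Spec B`. -/
noncomputable def inclMap (A : Type u) {B : Type u} [CommRing A] [CommRing B] [Algebra A B]
    (L : Type u) [CommRing L] [Algebra A L] :
    Spec (CommRingCat.of (L ⊗[A] B)) ⟶ Spec (CommRingCat.of B) :=
  Spec.map (CommRingCat.ofHom
    (Algebra.TensorProduct.includeRight (R := A) (A := L) (B := B)).toRingHom)

/-- the functions on `Spec B` whose nonvanishing locus lies in `Ω`. -/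
def goodFns (Ω : (Spec (CommRingCat.of B)).Opens) : Set B :=
  {g | (PrimeSpectrum.basicOpen g : Set (PrimeSpectrum B)) ⊆ (Ω : Set ↥(Spec (CommRingCat.of B)))}

theorem mem_basicOpen_tmul_iff (L : Type u) [CommRing L] [Algebra A L] (g : B)
    (x : ↥(Spec (CommRingCat.of (L ⊗[A] B)))) :
    x ∈ (Spec (CommRingCat.of (L ⊗[A] B))).basicOpen
        ((Scheme.ΓSpecIso (CommRingCat.of (L ⊗[A] B))).inv ((1 : L) ⊗ₜ[A] g)) ↔
      (inclMap A L x : PrimeSpectrum B) ∈ PrimeSpectrum.basicOpen g := by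
  rw [basicOpen_eq_of_affine]
  rfl

theorem ann_of_isSTD (L : Type u) [CommRing L] [Algebra A L] (Ω : (Spec (CommRingCat.of B)).Opens)
    (h : IsSchemeTheoreticallyDominant ((inclMap A L) ⁻¹ᵁ Ω).ι) (c : L ⊗[A] B)
    (hc : ∀ g ∈ goodFns Ω, ((1 : L) ⊗ₜ[A] g) * c = 0) : c = 0 := by
  have key := eq_zero_of_isSTD ((inclMap A L) ⁻¹ᵁ Ω)
    ((fun g => (Scheme.ΓSpecIso (CommRingCat.of (L ⊗[A] B))).inv ((1 : L) ⊗ₜ[A] g)) '' goodFns Ω)
    ?_ ((Scheme.ΓSpecIso (CommRingCat.of (L ⊗[A] B))).inv c) ?_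
  · have := congrArg (Scheme.ΓSpecIso (CommRingCat.of (L ⊗[A] B))).hom key
    rw [map_zero, ← CommRingCat.comp_apply, Iso.inv_hom_id] at this
    exact this
  · intro x hx
    have hx' : (inclMap A L x : PrimeSpectrum B) ∈ (Ω : Set ↥(Spec (CommRingCat.of B))) := hx
    have hΩo : IsOpen ((Ω : Set ↥(Spec (CommRingCat.of B))) : Set (PrimeSpectrum B)) := Ω.isOpen
    obtain ⟨_, ⟨g, rfl⟩, hxg, hgΩ⟩ :=
      PrimeSpectrum.isTopologicalBasis_basic_opens.exists_subset_of_mem_open hx' hΩo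
    exact ⟨_, ⟨g, hgΩ, rfl⟩, (mem_basicOpen_tmul_iff L g x).mpr hxg⟩
  · rintro _ ⟨g, hg, rfl⟩
    rw [← map_mul, hc g hg, map_zero]

theorem isSTD_of_ann' (L : Type u) [CommRing L] [Algebra A L]
    (Ω : (Spec (CommRingCat.of B)).Opens) (G : Set B) (hG : G ⊆ goodFns Ω)
    (h : ∀ c : L ⊗[A] B, (∀ g ∈ G, ∃ n : ℕ, ((1 : L) ⊗ₜ[A] g) ^ n * c = 0) → c = 0) :
    IsSchemeTheoreticallyDominant ((inclMap A L) ⁻¹ᵁ Ω).ι := by
  refine isSTD_of_ann ((inclMap A L) ⁻¹ᵁ Ω)
    ((fun g => (Scheme.ΓSpecIso (CommRingCat.of (L ⊗[A] B))).inv ((1 : L) ⊗ₜ[A] g)) '' G) ?_ ?_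
  · rintro _ ⟨g, hg, rfl⟩ x hx
    exact hG hg ((mem_basicOpen_tmul_iff L g x).mp hx)
  · intro s hs
    have h0 : (Scheme.ΓSpecIso (CommRingCat.of (L ⊗[A] B))).hom s = 0 := by
      apply h
      intro g hg
      obtain ⟨n, hn⟩ := hs _ ⟨g, hg, rfl⟩
      refine ⟨n, ?_⟩
      have := congrArg (Scheme.ΓSpecIso (CommRingCat.of (L ⊗[A] B))).hom hn
      rw [map_zero, map_mul, map_pow, ← CommRingCat.comp_apply, Iso.inv_hom_id] at this
      exact this
    have := congrArg (Scheme.ΓSpecIso (CommRingCat.of (L ⊗[A] B))).inv h0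
    rw [map_zero, ← CommRingCat.comp_apply, Iso.hom_inv_id] at this
    exact this

/-- finitely many good functions suffice over a field with noetherian tensor product. -/
theorem exists_fin_annInj (L : Type u) [CommRing L] [Algebra A L] [IsNoetherianRing (L ⊗[A] B)]
    (G : Set B) (h : ∀ c : L ⊗[A] B, (∀ g ∈ G, ((1 : L) ⊗ₜ[A] g) * c = 0) → c = 0) :
    ∃ (m : ℕ) (g : Fin m → B), (∀ k, g k ∈ G) ∧ AnnInj (A := A) g L := by
  classical
  have hfg : (Ideal.span ((fun g : B => (1 : L) ⊗ₜ[A] g) '' G)).FG :=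
    IsNoetherian.noetherian _
  obtain ⟨t, htG, hspan⟩ := (Submodule.fg_span_iff_fg_span_finset_subset _).mp hfg
  obtain ⟨G₀, hG₀, rfl⟩ := Finset.subset_set_image_iff.mp htG
  refine ⟨G₀.card, fun k => (G₀.equivFin.symm k : B), fun k => hG₀ (G₀.equivFin.symm k).2, ?_⟩
  intro c hc
  apply h
  intro g hg
  have hmem : (1 : L) ⊗ₜ[A] g ∈ Ideal.span ((fun g : B => (1 : L) ⊗ₜ[A] g) '' G) :=
    Ideal.subset_span ⟨g, hg, rfl⟩
  change (1 : L) ⊗ₜ[A] g ∈ Submodule.span (L ⊗[A] B) ((fun g : B => (1 : L) ⊗ₜ[A] g) '' G) at hmem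
  rw [hspan] at hmem
  refine Submodule.span_induction (p := fun x _ => x * c = 0) ?_ ?_ ?_ ?_ hmem
  · intro x hx
    rw [Finset.coe_image] at hx
    obtain ⟨g', hg', rfl⟩ := hx
    have := hc (G₀.equivFin ⟨g', hg'⟩)
    simpa using this
  · exact zero_mul c
  · intro x y _ _ hx hy
    rw [add_mul, hx, hy, add_zero]
  · intro a x _ hx
    rw [smul_mul_assoc, hx, smul_zero]

/-- powers do not matter. -/
theorem annInj_pow {m : ℕ} (g : Fin m → B) (L : Type u) [CommRing L] [Algebra A L]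
    (h : AnnInj (A := A) g L) (c : L ⊗[A] B)
    (hc : ∀ k, ∃ n : ℕ, ((1 : L) ⊗ₜ[A] g k) ^ n * c = 0) : c = 0 := by
  choose n hn using hc
  have key : ∀ (s : ℕ) (n : Fin m → ℕ) (c : L ⊗[A] B), (∑ k, n k) = s →
      (∀ k, ((1 : L) ⊗ₜ[A] g k) ^ n k * c = 0) → c = 0 := by
    intro s
    induction s using Nat.strong_induction_on with
    | _ s ih =>
      intro n c hs hn
      apply h
      intro j
      by_cases hj : n j = 0
      · have := hn j
        rw [hj, pow_zero, one_mul] at this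
        rw [this, mul_zero]
      · refine ih (∑ k, Function.update n j (n j - 1) k) ?_ (Function.update n j (n j - 1)) _ rfl ?_
        · rw [← hs]
          apply Finset.sum_lt_sum
          · intro k _
            by_cases hk : k = j
            · subst hk
              simp
            · simp [Function.update_of_ne hk]
          · exact ⟨j, Finset.mem_univ _, by simp; omega⟩
        · intro k
          by_cases hk : k = j
          · subst hk
            rw [Function.update_self, ← mul_assoc, ← pow_succ]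
            have : n k - 1 + 1 = n k := by omega
            rw [this]
            exact hn k
          · rw [Function.update_of_ne hk, mul_left_comm, hn k, mul_zero]
  exact key _ n c rfl hn

/-- **spreading out** scheme theoretic density of the trace of an open of `Spec B` on the
generic fibre. -/
theorem spread [Algebra.FiniteType A B] (K₀ : Type u) [Field K₀] [Algebra A K₀]
    (hK : IsGenericField A K₀) (Ω : (Spec (CommRingCat.of B)).Opens)
    (h : IsSchemeTheoreticallyDominant ((inclMap A K₀) ⁻¹ᵁ Ω).ι) :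
    ∃ a : A, algebraMap A K₀ a ≠ 0 ∧ ∀ (L : Type u) [Field L] [Algebra A L],
      algebraMap A L a ≠ 0 → IsSchemeTheoreticallyDominant ((inclMap A L) ⁻¹ᵁ Ω).ι := by
  haveI : IsNoetherianRing (K₀ ⊗[A] B) :=
    Algebra.FiniteType.isNoetherianRing K₀ (K₀ ⊗[A] B)
  obtain ⟨m, g, hgG, hg⟩ := exists_fin_annInj (A := A) K₀ (goodFns Ω) (ann_of_isSTD K₀ Ω h)
  obtain ⟨a, ha, haL⟩ := annInj_generic K₀ hK g hg
  refine ⟨a, ha, fun L _ _ hL => ?_⟩
  refine isSTD_of_ann' L Ω (Set.range g) ?_ ?_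
  · rintro _ ⟨k, rfl⟩
    exact hgG k
  · intro c hc
    exact annInj_pow g L (haL L hL) c fun k => hc _ ⟨k, rfl⟩

end Spread

section Piece

variable {X Y : Scheme.{u}} (f : X ⟶ Y) {V : Y.Opens} (hV : IsAffineOpen V)

/-- the open immersion of an affine piece into the pullback, with its first projection. -/
theorem exists_piece' (L : Type u) [Field L] (ψ : Γ(Y, V) →+* L)
    (pt : Spec (CommRingCat.of L) ⟶ Y) (hpt : pt = fieldPt hV L ψ) {W : X.Opens}
    (hW : IsAffineOpen W) (e : W ≤ f ⁻¹ᵁ V) :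
    letI := (f.appLE V W e).hom.toAlgebra
    letI := ψ.toAlgebra
    ∃ j : Spec (CommRingCat.of (L ⊗[Γ(Y, V)] Γ(X, W))) ⟶ pullback f pt,
      IsOpenImmersion j ∧ Set.range j = (pullback.fst f pt) ⁻¹' (W : Set X) ∧
        j ≫ pullback.fst f pt = inclMap Γ(Y, V) L ≫ hW.fromSpec := by
  subst hpt
  letI := (f.appLE V W e).hom.toAlgebra
  letI := ψ.toAlgebra
  let φ : Γ(Y, V) ⟶ Γ(X, W) := f.appLE V W e
  let ψ' : Γ(Y, V) ⟶ CommRingCat.of L := CommRingCat.ofHom ψ
  have e₁ : Spec.map φ ≫ hV.fromSpec = hW.fromSpec ≫ f := hV.SpecMap_appLE_fromSpec f hW e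
  have e₂ : Spec.map ψ' ≫ hV.fromSpec = 𝟙 _ ≫ fieldPt hV L ψ := by
    rw [Category.id_comp, fieldPt]
  let j₁ := pullback.map (Spec.map φ) (Spec.map ψ') f (fieldPt hV L ψ) hW.fromSpec (𝟙 _)
    hV.fromSpec e₁ e₂
  let c : Γ(X, W) ⊗[Γ(Y, V)] L ≃ₐ[Γ(Y, V)] L ⊗[Γ(Y, V)] Γ(X, W) :=
    Algebra.TensorProduct.comm Γ(Y, V) Γ(X, W) L
  let j₀ : Spec (CommRingCat.of (L ⊗[Γ(Y, V)] Γ(X, W))) ⟶
      Spec (CommRingCat.of (Γ(X, W) ⊗[Γ(Y, V)] L)) :=
    Spec.map (CommRingCat.ofHom (c : Γ(X, W) ⊗[Γ(Y, V)] L →+* L ⊗[Γ(Y, V)] Γ(X, W)))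
  haveI : IsIso j₀ := by
    have : IsIso (CommRingCat.ofHom (c : Γ(X, W) ⊗[Γ(Y, V)] L →+* L ⊗[Γ(Y, V)] Γ(X, W))) :=
      (ConcreteCategory.isIso_iff_bijective _).mpr c.bijective
    infer_instance
  refine ⟨j₀ ≫ (pullbackSpecIso Γ(Y, V) Γ(X, W) L).inv ≫ j₁, inferInstance, ?_, ?_⟩
  · rw [Scheme.Hom.comp_base, TopCat.coe_comp, Set.range_comp,
      Set.range_eq_univ.mpr (by exact (j₀.homeomorph).surjective), Set.image_univ,
      Scheme.Hom.comp_base, TopCat.coe_comp, Set.range_comp,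
      Set.range_eq_univ.mpr
        (by exact ((pullbackSpecIso Γ(Y, V) Γ(X, W) L).symm.hom.homeomorph).surjective),
      Set.image_univ, Scheme.Pullback.range_map, hW.range_fromSpec]
    simp
  · have h1 : j₁ ≫ pullback.fst f (fieldPt hV L ψ) =
        pullback.fst (Spec.map φ) (Spec.map ψ') ≫ hW.fromSpec := pullback.lift_fst _ _ _
    have h2 : (pullbackSpecIso Γ(Y, V) Γ(X, W) L).inv ≫ pullback.fst (Spec.map φ) (Spec.map ψ') =
        Spec.map (CommRingCat.ofHom Algebra.TensorProduct.includeLeftRingHom) :=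
      pullbackSpecIso_inv_fst ..
    rw [Category.assoc, Category.assoc, h1, reassoc_of% h2, ← Category.assoc, ← Spec.map_comp]
    rfl

end Piece

section Main

variable {X Y : Scheme.{u}} (f : X ⟶ Y) {V : Y.Opens} (hV : IsAffineOpen V)

set_option backward.isDefEq.respectTransparency.types false in
instance isLocallyNoetherian_fiber [LocallyOfFiniteType f] (y : Y) :
    IsLocallyNoetherian (f.fiber y) :=
  have : LocallyOfFiniteType (f.fiberToSpecResidueField y) :=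
    MorphismProperty.pullback_snd _ _ inferInstance
  LocallyOfFiniteType.isLocallyNoetherian (f.fiberToSpecResidueField y)

include hV

theorem exists_piece_fiber (y : Y) (hy : y ∈ V) {W : X.Opens} (hW : IsAffineOpen W)
    (e : W ≤ f ⁻¹ᵁ V) :
    letI := (f.appLE V W e).hom.toAlgebra
    letI := (resHom y hy).toAlgebra
    ∃ j : Spec (CommRingCat.of (Y.residueField y ⊗[Γ(Y, V)] Γ(X, W))) ⟶ f.fiber y,
      IsOpenImmersion j ∧ Set.range j = (f.fiberι y) ⁻¹' (W : Set X) ∧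
        j ≫ f.fiberι y = inclMap Γ(Y, V) (Y.residueField y) ≫ hW.fromSpec :=
  exists_piece' f hV (Y.residueField y) (resHom y hy)
    (Y.fromSpecResidueField y) (fieldPt_resHom hV y hy).symm hW e

theorem isSTD_piece_of_isSTD [LocallyOfFiniteType f] (y : Y) (hy : y ∈ V) (U : X.Opens)
    (h : IsSchemeTheoreticallyDominant (f.fiberι y ⁻¹ᵁ U).ι) {W : X.Opens}
    (hW : IsAffineOpen W) (e : W ≤ f ⁻¹ᵁ V) :
    letI := (f.appLE V W e).hom.toAlgebra
    letI := (resHom y hy).toAlgebra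
    IsSchemeTheoreticallyDominant
      ((inclMap Γ(Y, V) (Y.residueField y)) ⁻¹ᵁ (hW.fromSpec ⁻¹ᵁ U)).ι := by
  letI := (f.appLE V W e).hom.toAlgebra
  letI := (resHom y hy).toAlgebra
  obtain ⟨j, hj, -, hjfst⟩ := exists_piece_fiber f hV y hy hW e
  have h1 := isSTD_preimage (f.fiberι y ⁻¹ᵁ U) j
  have hΩ : j ⁻¹ᵁ (f.fiberι y ⁻¹ᵁ U) =
      (inclMap Γ(Y, V) (Y.residueField y)) ⁻¹ᵁ (hW.fromSpec ⁻¹ᵁ U) := by
    rw [← Scheme.Hom.comp_preimage, ← Scheme.Hom.comp_preimage, ← hjfst]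
  rw [← hΩ]
  exact h1

theorem isSTD_of_pieces [LocallyOfFiniteType f] (y : Y) (hy : y ∈ V) (U : X.Opens)
    (S : Set X.affineOpens) (hS : ∀ x : X, f x ∈ V → ∃ W ∈ S, x ∈ W.1)
    (h : ∀ W ∈ S, ∃ e : W.1 ≤ f ⁻¹ᵁ V,
      letI := (f.appLE V W.1 e).hom.toAlgebra
      letI := (resHom y hy).toAlgebra
      IsSchemeTheoreticallyDominant
        ((inclMap Γ(Y, V) (Y.residueField y)) ⁻¹ᵁ (W.2.fromSpec ⁻¹ᵁ U)).ι) :
    IsSchemeTheoreticallyDominant (f.fiberι y ⁻¹ᵁ U).ι := by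
  have key : ∀ W : S, ∃ (T' : Scheme.{u}) (_ : IsAffine T') (j : T' ⟶ f.fiber y),
      IsOpenImmersion j ∧ Set.range j = (f.fiberι y) ⁻¹' (W.1.1 : Set X) ∧
        IsSchemeTheoreticallyDominant (j ⁻¹ᵁ (f.fiberι y ⁻¹ᵁ U)).ι := by
    rintro ⟨W, hWS⟩
    obtain ⟨e, hW⟩ := h W hWS
    letI := (f.appLE V W.1 e).hom.toAlgebra
    letI := (resHom y hy).toAlgebra
    obtain ⟨j, hj, hjr, hjfst⟩ := exists_piece_fiber f hV y hy W.2 e
    refine ⟨_, inferInstance, j, hj, hjr, ?_⟩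
    have hΩ : j ⁻¹ᵁ (f.fiberι y ⁻¹ᵁ U) =
        (inclMap Γ(Y, V) (Y.residueField y)) ⁻¹ᵁ (W.2.fromSpec ⁻¹ᵁ U) := by
      rw [← Scheme.Hom.comp_preimage, ← Scheme.Hom.comp_preimage, ← hjfst]
    rw [hΩ]
    exact hW
  choose T' hT' j hj hjr hjs using key
  refine isSTD_of_cover (f.fiberι y ⁻¹ᵁ U) T' j ?_ hjs
  intro z
  have hz : f (f.fiberι y z) ∈ V := by
    rw [← Scheme.Hom.comp_apply, Scheme.Hom.fiber_fac,
      Scheme.Hom.comp_apply, ← fieldPt_resHom hV y hy]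
    exact fieldPt_mem hV (Y.residueField y) (resHom y hy) _
  obtain ⟨W, hWS, hzW⟩ := hS _ hz
  refine ⟨⟨W, hWS⟩, ?_⟩
  rw [hjr]
  exact hzW

omit hV in
/-- **S1300**: scheme theoretic density of the trace of an open on the generic fibre spreads
out. -/
theorem main [IrreducibleSpace ↑Y] [LocallyOfFiniteType f] [QuasiCompact f] (U : X.Opens)
    (h : IsSchemeTheoreticallyDominant (f.fiberι (genericPoint ↑Y) ⁻¹ᵁ U).ι) :
    ∃ V : Y.Opens, (V : Set ↑Y).Nonempty ∧
      ∀ y ∈ V, IsSchemeTheoreticallyDominant (f.fiberι y ⁻¹ᵁ U).ι := by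
  classical
  obtain ⟨V, hV, hη⟩ := exists_affineOpen_genericPoint Y
  have hcomp : IsCompact ((f ⁻¹ᵁ V : X.Opens) : Set X) :=
    QuasiCompact.isCompact_preimage (f := f) _ V.2 hV.isCompact
  obtain ⟨S, hSfin, hS⟩ := isCompact_iff_finite_and_eq_biUnion_affineOpens.mp hcomp
  have hle : ∀ W ∈ S, (W : X.affineOpens).1 ≤ f ⁻¹ᵁ V := by
    intro W hW
    rw [hS]
    exact le_iSup₂ (f := fun (i : X.affineOpens) (_ : i ∈ S) => (i : X.Opens)) W hW
  have key : ∀ W : X.affineOpens, W ∈ S → ∃ a : Γ(Y, V),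
      resHom (genericPoint ↑Y) hη a ≠ 0 ∧ ∀ (y : Y) (hy : y ∈ V), resHom y hy a ≠ 0 →
        ∃ e : W.1 ≤ f ⁻¹ᵁ V,
          letI := (f.appLE V W.1 e).hom.toAlgebra
          letI := (resHom y hy).toAlgebra
          IsSchemeTheoreticallyDominant
            ((inclMap Γ(Y, V) (Y.residueField y)) ⁻¹ᵁ (W.2.fromSpec ⁻¹ᵁ U)).ι := by
    intro W hWS
    have e : W.1 ≤ f ⁻¹ᵁ V := hle W hWS
    letI := (f.appLE V W.1 e).hom.toAlgebra
    haveI : Algebra.FiniteType Γ(Y, V) Γ(X, W.1) := f.finiteType_appLE hV W.2 e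
    have h1 := isSTD_piece_of_isSTD f hV (genericPoint ↑Y) hη U h W.2 e
    letI := (resHom (genericPoint ↑Y) hη).toAlgebra
    obtain ⟨a, ha, haL⟩ := spread (A := Γ(Y, V)) (B := Γ(X, W.1))
      (Y.residueField (genericPoint ↑Y)) (isGenericField_resHom hV hη) (W.2.fromSpec ⁻¹ᵁ U) h1
    refine ⟨a, ha, fun y hy hay => ⟨e, ?_⟩⟩
    letI := (resHom y hy).toAlgebra
    exact haL (Y.residueField y) hay
  choose! a ha haL using key
  refine ⟨Y.basicOpen (∏ W ∈ hSfin.toFinset, a W), ⟨genericPoint ↑Y, ?_⟩, ?_⟩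
  · refine (resHom_ne_zero_iff _ hη _).mp ?_
    rw [map_prod]
    exact Finset.prod_ne_zero_iff.mpr fun W hW => ha W (hSfin.mem_toFinset.mp hW)
  · intro y hy
    have hyV : y ∈ V := Y.basicOpen_le _ hy
    have hay := (resHom_ne_zero_iff y hyV _).mpr hy
    rw [map_prod, Finset.prod_ne_zero_iff] at hay
    refine isSTD_of_pieces f hV y hyV U S ?_ ?_
    · intro x hx
      have hx' : x ∈ f ⁻¹ᵁ V := hx
      rw [hS] at hx'
      simpa using hx'
    · intro W hW
      exact haL W hW y hyV (hay W (hSfin.mem_toFinset.mpr hW))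

end Main

end Groth.Agent.Lib.Helper25.SchDenseSch
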