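import Mathlib
import Groth.Agent.Lib.Helper25.SepAlg
import Groth.Agent.Lib.Helper25.SepFlat

/-!
# helper25 — SepBC: base change of families of linear maps which are separating on all basic opens
-/

set_option autoImplicit false
set_option linter.unusedVariables false
set_option linter.style.haveILetI false
universe u
open TensorProduct

namespace Groth.Agent.Lib.Helper25.SepBC

open Groth.Agent.Lib.Helper25.SepAlg Groth.Agent.Lib.Helper25.SepFlat

section Core

variable {A : Type u} [CommRing A] {A' : Type u} [CommRing A'] [Algebra A A']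
  {M : Type u} [AddCommGroup M] [Module A M]
  {ι : Type u} {N : ι → Type u} [∀ i, AddCommGroup (N i)] [∀ i, Module A (N i)]

/-- `rTensor` of an algebra map is semilinear -/
theorem rTensor_smul {A'' : Type u} [CommRing A''] [Algebra A A''] (j : A' →ₐ[A] A'') (P : Type u)
    [AddCommGroup P] [Module A P] (a : A') (y : A' ⊗[A] P) :
    LinearMap.rTensor P j.toLinearMap (a • y) = j a • LinearMap.rTensor P j.toLinearMap y := by
  induction y using TensorProduct.induction_on with
  | zero => simp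
  | tmul b n =>
    rw [TensorProduct.smul_tmul', LinearMap.rTensor_tmul, LinearMap.rTensor_tmul, TensorProduct.smul_tmul']
    simp
  | add x y hx hy => rw [smul_add, map_add, map_add, smul_add, hx, hy]

theorem baseChange_rTensor {A'' : Type u} [CommRing A''] [Algebra A A''] (j : A' →ₐ[A] A'') {P P' : Type u}
    [AddCommGroup P] [Module A P] [AddCommGroup P'] [Module A P'] (w : P →ₗ[A] P') (y : A' ⊗[A] P) :
    w.baseChange A'' (LinearMap.rTensor P j.toLinearMap y) =
      LinearMap.rTensor P' j.toLinearMap (w.baseChange A' y) := by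
  rw [LinearMap.baseChange_eq_ltensor, LinearMap.baseChange_eq_ltensor, ← LinearMap.comp_apply,
    LinearMap.lTensor_comp_rTensor, ← LinearMap.rTensor_comp_lTensor, LinearMap.comp_apply]

/-- **Core lemma, `SepAlg` form.** -/
theorem sepAlg_baseChange_of_flat_fp [Algebra.FinitePresentation A A'] [Module.Flat A A']
    (v : ∀ i, M →ₗ[A] N i) (hv : SepAlg v) : SepAlg (fun i => (v i).baseChange A') := by
  intro h x hx
  let L := Localization.Away h
  haveI : Module.Flat A' L := IsLocalization.flat L (Submonoid.powers h)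
  haveI : Module.Flat A L := Module.Flat.trans A A' L
  haveI : Algebra.FinitePresentation A' L := IsLocalization.Away.finitePresentation h
  haveI : Algebra.FinitePresentation A L := Algebra.FinitePresentation.trans A A' L
  let ρ : A' →ₐ[A] L := IsScalarTower.toAlgHom A A' L
  have hτ : LinearMap.rTensor M ρ.toLinearMap x = 0 := by
    refine baseChange_sep_of_flat_fp v hv _ (fun i => ?_)
    rw [baseChange_rTensor]
    obtain ⟨n, hn⟩ := hx i
    have h1 := congrArg (LinearMap.rTensor (N i) ρ.toLinearMap) hn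
    rw [rTensor_smul, map_zero, map_pow] at h1
    have hu : IsUnit (ρ h ^ n) := (IsLocalization.Away.algebraMap_isUnit h).pow n
    exact hu.smul_eq_zero.1 h1
  have hloc : IsLocalizedModule (Submonoid.powers h) (TensorProduct.mk A' L (A' ⊗[A] M) 1) :=
    (isLocalizedModule_iff_isBaseChange (Submonoid.powers h) L _).2 (TensorProduct.isBaseChange A' (A' ⊗[A] M) L)
  have hc : ∀ y : A' ⊗[A] M, AlgebraTensorModule.cancelBaseChange A A' L L M ((1 : L) ⊗ₜ[A'] y) =
      LinearMap.rTensor M ρ.toLinearMap y := by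
    intro y
    induction y using TensorProduct.induction_on with
    | zero => simp
    | tmul b m =>
      rw [AlgebraTensorModule.cancelBaseChange_tmul, LinearMap.rTensor_tmul]
      congr 1
      rw [Algebra.smul_def, mul_one]
      rfl
    | add y z hy hz => rw [TensorProduct.tmul_add, map_add, map_add, hy, hz]
  have h0 : TensorProduct.mk A' L (A' ⊗[A] M) 1 x = 0 := by
    apply (AlgebraTensorModule.cancelBaseChange A A' L L M).injective
    rw [map_zero, TensorProduct.mk_apply, hc, hτ]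
  obtain ⟨⟨_, n, rfl⟩, hn⟩ := (IsLocalizedModule.eq_zero_iff (Submonoid.powers h) _).1 h0
  exact ⟨n, hn⟩

/-- **Approximation lemma.** If every pair `(h, x)` comes from an `A`-algebra `A₀ ⟶ A'` over which the base-changed
family is separating and such that `A₀ ⊗ N i ⟶ A' ⊗ N i` is injective, then the family base-changed to `A'` is
separating. -/
theorem sepAlg_baseChange_of_approx (v : ∀ i, M →ₗ[A] N i)
    (happ : ∀ (h : A') (x : A' ⊗[A] M), ∃ (A₀ : Type u) (_ : CommRing A₀) (_ : Algebra A A₀)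
      (j : A₀ →ₐ[A] A') (h₀ : A₀) (x₀ : A₀ ⊗[A] M), j h₀ = h ∧ LinearMap.rTensor M j.toLinearMap x₀ = x ∧
        (∀ i, Function.Injective (LinearMap.rTensor (N i) j.toLinearMap)) ∧
        SepAlg (fun i => (v i).baseChange A₀)) :
    SepAlg (fun i => (v i).baseChange A') := by
  intro h x hx
  obtain ⟨A₀, _, _, j, h₀, x₀, rfl, rfl, hinj, hsep⟩ := happ h x
  obtain ⟨n, hn⟩ := hsep h₀ x₀ (fun i => by
    obtain ⟨n, hn⟩ := hx i
    refine ⟨n, hinj i ?_⟩
    rw [map_zero, rTensor_smul, map_pow, ← baseChange_rTensor]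
    exact hn)
  refine ⟨n, ?_⟩
  rw [← map_pow, ← rTensor_smul, hn, map_zero]

end Core

section Equiv

variable {A : Type u} [CommRing A] {S₁ S₂ : Type u} [CommRing S₁] [Algebra A S₁] [CommRing S₂] [Algebra A S₂]
  {M : Type u} [AddCommGroup M] [Module A M]
  {ι : Type u} {N : ι → Type u} [∀ i, AddCommGroup (N i)] [∀ i, Module A (N i)]

theorem rTensor_algEquiv_injective (e : S₁ ≃ₐ[A] S₂) (P : Type u) [AddCommGroup P] [Module A P] :
    Function.Injective (LinearMap.rTensor P e.toAlgHom.toLinearMap) := by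
  have h : (LinearMap.rTensor P e.symm.toAlgHom.toLinearMap) ∘ₗ (LinearMap.rTensor P e.toAlgHom.toLinearMap) =
      LinearMap.id := by
    rw [← LinearMap.rTensor_comp]
    have : e.symm.toAlgHom.toLinearMap ∘ₗ e.toAlgHom.toLinearMap = LinearMap.id := by
      ext a; simp
    rw [this, LinearMap.rTensor_id]
  intro a b hab
  have := congrArg (LinearMap.rTensor P e.symm.toAlgHom.toLinearMap) hab
  rwa [← LinearMap.comp_apply, ← LinearMap.comp_apply, h] at this

theorem sepAlg_baseChange_of_algEquiv (e : S₁ ≃ₐ[A] S₂) (v : ∀ i, M →ₗ[A] N i)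
    (h : SepAlg (fun i => (v i).baseChange S₁)) : SepAlg (fun i => (v i).baseChange S₂) := by
  refine sepAlg_baseChange_of_approx v (fun h₂ x₂ => ?_)
  refine ⟨S₁, inferInstance, inferInstance, e.toAlgHom, e.symm h₂,
    LinearMap.rTensor M e.symm.toAlgHom.toLinearMap x₂, by simp, ?_,
    fun i => rTensor_algEquiv_injective e (N i), h⟩
  rw [← LinearMap.comp_apply, ← LinearMap.rTensor_comp]
  have : e.toAlgHom.toLinearMap ∘ₗ e.symm.toAlgHom.toLinearMap = LinearMap.id := by
    ext a; simp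
  rw [this, LinearMap.rTensor_id, LinearMap.id_apply]

end Equiv

section Field

variable {k : Type u} [CommRing k] {R C : Type u} [CommRing R] [Algebra k R] [CommRing C] [Algebra k C]

/-- the map `R ⊗ C₀ ⟶ R ⊗ C` for a subalgebra `C₀` of `C` -/
noncomputable def jmap (C₀ : Subalgebra k C) : R ⊗[k] C₀ →ₐ[R] R ⊗[k] C :=
  Algebra.TensorProduct.map (AlgHom.id R R) C₀.val

theorem jmap_tmul (C₀ : Subalgebra k C) (r : R) (c : C₀) : jmap (R := R) C₀ (r ⊗ₜ c) = r ⊗ₜ (c : C) := rfl

theorem jmap_comp_inclusion {C₁ C₂ : Subalgebra k C} (h : C₁ ≤ C₂) (b : R ⊗[k] C₁) :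
    jmap (R := R) C₂ (Algebra.TensorProduct.map (AlgHom.id R R) (Subalgebra.inclusion h) b) = jmap C₁ b := by
  induction b using TensorProduct.induction_on with
  | zero => simp
  | tmul r c => rfl
  | add x y hx hy => rw [map_add, map_add, map_add, hx, hy]

theorem range_jmap_mono {C₁ C₂ : Subalgebra k C} (h : C₁ ≤ C₂) (b : R ⊗[k] C)
    (hb : b ∈ Set.range (jmap (R := R) C₁)) : b ∈ Set.range (jmap (R := R) C₂) := by
  obtain ⟨b₁, rfl⟩ := hb
  exact ⟨_, jmap_comp_inclusion h b₁⟩

variable {M : Type u} [AddCommGroup M] [Module R M]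

theorem range_rTensor_jmap_mono {C₁ C₂ : Subalgebra k C} (h : C₁ ≤ C₂) (x : (R ⊗[k] C) ⊗[R] M)
    (hx : x ∈ Set.range (LinearMap.rTensor M (jmap (R := R) C₁).toLinearMap)) :
    x ∈ Set.range (LinearMap.rTensor M (jmap (R := R) C₂).toLinearMap) := by
  obtain ⟨x₁, rfl⟩ := hx
  refine ⟨LinearMap.rTensor M
    (Algebra.TensorProduct.map (AlgHom.id R R) (Subalgebra.inclusion h)).toLinearMap x₁, ?_⟩
  rw [← LinearMap.comp_apply, ← LinearMap.rTensor_comp]
  congr 2
  exact LinearMap.ext fun b => jmap_comp_inclusion h b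

theorem exists_fg_mem_range_jmap (b : R ⊗[k] C) :
    ∃ C₀ : Subalgebra k C, C₀.FG ∧ b ∈ Set.range (jmap (R := R) C₀) := by
  induction b using TensorProduct.induction_on with
  | zero => exact ⟨⊥, Subalgebra.fg_bot, 0, map_zero _⟩
  | tmul r c =>
    refine ⟨Algebra.adjoin k {c}, Subalgebra.fg_adjoin_finset {c} |> (by simpa using ·), ?_⟩
    exact ⟨r ⊗ₜ ⟨c, Algebra.subset_adjoin (Set.mem_singleton c)⟩, rfl⟩
  | add x y hx hy =>
    obtain ⟨C₁, h₁, hx⟩ := hx
    obtain ⟨C₂, h₂, hy⟩ := hy
    refine ⟨C₁ ⊔ C₂, h₁.sup h₂, ?_⟩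
    obtain ⟨x', hx'⟩ := range_jmap_mono (le_sup_left : C₁ ≤ C₁ ⊔ C₂) x hx
    obtain ⟨y', hy'⟩ := range_jmap_mono (le_sup_right : C₂ ≤ C₁ ⊔ C₂) y hy
    exact ⟨x' + y', by rw [map_add, hx', hy']⟩

theorem exists_fg_mem_range_rTensor_jmap (x : (R ⊗[k] C) ⊗[R] M) :
    ∃ C₀ : Subalgebra k C, C₀.FG ∧ x ∈ Set.range (LinearMap.rTensor M (jmap (R := R) C₀).toLinearMap) := by
  induction x using TensorProduct.induction_on with
  | zero => exact ⟨⊥, Subalgebra.fg_bot, 0, map_zero _⟩
  | tmul b m =>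
    obtain ⟨C₀, h₀, b₀, rfl⟩ := exists_fg_mem_range_jmap b
    exact ⟨C₀, h₀, b₀ ⊗ₜ m, rfl⟩
  | add x y hx hy =>
    obtain ⟨C₁, h₁, hx⟩ := hx
    obtain ⟨C₂, h₂, hy⟩ := hy
    refine ⟨C₁ ⊔ C₂, h₁.sup h₂, ?_⟩
    obtain ⟨x', hx'⟩ := range_rTensor_jmap_mono (le_sup_left : C₁ ≤ C₁ ⊔ C₂) x hx
    obtain ⟨y', hy'⟩ := range_rTensor_jmap_mono (le_sup_right : C₂ ≤ C₁ ⊔ C₂) y hy
    exact ⟨x' + y', by rw [map_add, hx', hy']⟩

/-- `(R ⊗ C₀) ⊗_R N ≃ N ⊗_k C₀` -/
noncomputable def phi (C₀ : Type u) [CommRing C₀] [Algebra k C₀] (P : Type u) [AddCommGroup P] [Module R P]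
    [Module k P] [IsScalarTower k R P] : (R ⊗[k] C₀) ⊗[R] P ≃ₗ[R] P ⊗[k] C₀ :=
  TensorProduct.comm R _ P ≪≫ₗ AlgebraTensorModule.cancelBaseChange k R R P C₀

theorem phi_tmul (C₀ : Type u) [CommRing C₀] [Algebra k C₀] (P : Type u) [AddCommGroup P] [Module R P]
    [Module k P] [IsScalarTower k R P] (r : R) (c : C₀) (n : P) :
    phi (R := R) C₀ P ((r ⊗ₜ[k] c) ⊗ₜ[R] n) = (r • n) ⊗ₜ[k] c := rfl

theorem rTensor_jmap_injective (C₀ : Subalgebra k C) (P : Type u) [AddCommGroup P] [Module R P]
    [Module k P] [IsScalarTower k R P] [Module.Flat k P] :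
    Function.Injective (LinearMap.rTensor P (jmap (R := R) C₀).toLinearMap) := by
  have hnat : ∀ y : (R ⊗[k] C₀) ⊗[R] P, phi (R := R) C P (LinearMap.rTensor P (jmap (R := R) C₀).toLinearMap y) =
      LinearMap.lTensor P C₀.val.toLinearMap (phi (R := R) C₀ P y) := by
    intro y
    induction y using TensorProduct.induction_on with
    | zero => simp
    | tmul b n =>
      induction b using TensorProduct.induction_on with
      | zero => simp
      | tmul r c => rfl
      | add b₁ b₂ h₁ h₂ => simp only [TensorProduct.add_tmul, map_add, h₁, h₂]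
    | add y z hy hz => simp only [map_add, hy, hz]
  have hinj : Function.Injective (LinearMap.lTensor P C₀.val.toLinearMap) :=
    Module.Flat.lTensor_preserves_injective_linearMap (M := P) C₀.val.toLinearMap Subtype.val_injective
  intro a b hab
  apply (phi (R := R) C₀ P).injective
  apply hinj
  rw [← hnat, ← hnat, hab]

variable {ι : Type u} {N : ι → Type u} [∀ i, AddCommGroup (N i)] [∀ i, Module R (N i)]

/-- approximation by finitely generated subalgebras (concrete tensor product form) -/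
theorem sepAlg_baseChange_tensor_of_forall_fg (v : ∀ i, M →ₗ[R] N i)
    (hflat : ∀ i, letI := Module.compHom (N i) (algebraMap k R); Module.Flat k (N i))
    (H : ∀ C₀ : Subalgebra k C, C₀.FG → SepAlg (A := R ⊗[k] C₀) (M := (R ⊗[k] C₀) ⊗[R] M)
      (N := fun i => (R ⊗[k] C₀) ⊗[R] N i) (fun i => (v i).baseChange (R ⊗[k] C₀))) :
    SepAlg (fun i => (v i).baseChange (R ⊗[k] C)) := by
  refine sepAlg_baseChange_of_approx v (fun h x => ?_)
  obtain ⟨C₁, hC₁, hh⟩ := exists_fg_mem_range_jmap h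
  obtain ⟨C₂, hC₂, hx⟩ := exists_fg_mem_range_rTensor_jmap x
  obtain ⟨C₀, hC₀⟩ : ∃ C₀ : Subalgebra k C, C₀ = C₁ ⊔ C₂ := ⟨_, rfl⟩
  obtain ⟨h₀, hh₀⟩ := range_jmap_mono (hC₀ ▸ le_sup_left : C₁ ≤ C₀) h hh
  obtain ⟨x₀, hx₀⟩ := range_rTensor_jmap_mono (hC₀ ▸ le_sup_right : C₂ ≤ C₀) x hx
  have hfg : C₀.FG := hC₀ ▸ hC₁.sup hC₂
  refine ⟨R ⊗[k] C₀, inferInstance, inferInstance, jmap C₀, h₀, x₀, hh₀, hx₀, fun i => ?_, H C₀ hfg⟩
  letI : Module k (N i) := Module.compHom (N i) (algebraMap k R)
  haveI : IsScalarTower k R (N i) := IsScalarTower.of_compHom k R (N i)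
  haveI : Module.Flat k (N i) := hflat i
  exact rTensor_jmap_injective C₀ (N i)

/-- **Base change over a field** (concrete tensor product form). -/
theorem sepAlg_baseChange_tensor_field {k : Type u} [Field k] {R C : Type u} [CommRing R] [Algebra k R]
    [CommRing C] [Algebra k C] {M : Type u} [AddCommGroup M] [Module R M]
    {ι : Type u} {N : ι → Type u} [∀ i, AddCommGroup (N i)] [∀ i, Module R (N i)]
    (v : ∀ i, M →ₗ[R] N i) (hv : SepAlg v) :
    SepAlg (fun i => (v i).baseChange (R ⊗[k] C)) := by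
  refine sepAlg_baseChange_tensor_of_forall_fg v (fun i => ?_) (fun C₀ hfg => ?_)
  · letI : Module k (N i) := Module.compHom (N i) (algebraMap k R)
    infer_instance
  · haveI : Algebra.FiniteType k C₀ := (Subalgebra.fg_iff_finiteType C₀).1 hfg
    haveI : Algebra.FinitePresentation k C₀ := Algebra.FinitePresentation.of_finiteType.1 inferInstance
    exact sepAlg_baseChange_of_flat_fp v hv

end Field

section Pushout

open CategoryTheory

/-- algebra data of a pushout square of commutative rings -/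
theorem algebra_isPushout_of_isPushout {K R C B : Type u} [CommRing K] [CommRing R] [CommRing C] [CommRing B]
    (φR : K →+* R) (φC : K →+* C) (ψR : R →+* B) (ψC : C →+* B)
    (hpo : IsPushout (CommRingCat.ofHom φR) (CommRingCat.ofHom φC) (CommRingCat.ofHom ψR)
      (CommRingCat.ofHom ψC)) :
    letI := φR.toAlgebra
    letI := φC.toAlgebra
    letI := ψR.toAlgebra
    letI := ψC.toAlgebra
    letI : Algebra K B := (ψR.comp φR).toAlgebra
    ∃ (_ : IsScalarTower K R B) (_ : IsScalarTower K C B), Algebra.IsPushout K R C B := by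
  letI := φR.toAlgebra
  letI := φC.toAlgebra
  letI := ψR.toAlgebra
  letI := ψC.toAlgebra
  letI : Algebra K B := (ψR.comp φR).toAlgebra
  haveI h1 : IsScalarTower K R B := IsScalarTower.of_algebraMap_eq (fun _ => rfl)
  have hw : ψR.comp φR = ψC.comp φC := by
    have := hpo.w
    exact congrArg CommRingCat.Hom.hom this
  haveI h2 : IsScalarTower K C B := IsScalarTower.of_algebraMap_eq (fun x => by
    exact congrArg (fun f : K →+* B => f x) hw)
  exact ⟨h1, h2, CommRingCat.isPushout_iff_isPushout.1 hpo⟩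

variable {K R C B : Type u} [CommRing K] [CommRing R] [CommRing C] [CommRing B]
  {M : Type u} [AddCommGroup M] [Module R M]
  {ι : Type u} {N : ι → Type u} [∀ i, AddCommGroup (N i)] [∀ i, Module R (N i)]

/-- **Base change over a field**, for an abstract pushout square of rings. -/
theorem sepAlg_baseChange_of_isPushout_field (hK : IsField K)
    (φR : K →+* R) (φC : K →+* C) (ψR : R →+* B) (ψC : C →+* B)
    (hpo : IsPushout (CommRingCat.ofHom φR) (CommRingCat.ofHom φC) (CommRingCat.ofHom ψR)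
      (CommRingCat.ofHom ψC)) (v : ∀ i, M →ₗ[R] N i) (hv : SepAlg v) :
    letI := ψR.toAlgebra
    SepAlg (fun i => (v i).baseChange B) := by
  letI := hK.toField
  letI := φR.toAlgebra
  letI := φC.toAlgebra
  letI := ψR.toAlgebra
  letI := ψC.toAlgebra
  letI : Algebra K B := (ψR.comp φR).toAlgebra
  obtain ⟨h1, h2, h3⟩ := algebra_isPushout_of_isPushout φR φC ψR ψC hpo
  exact sepAlg_baseChange_of_algEquiv (Algebra.IsPushout.equiv K R C B) v
    (sepAlg_baseChange_tensor_field (k := K) (C := C) v hv)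

/-- approximation by finitely generated subalgebras, for an abstract pushout square of rings -/
theorem sepAlg_baseChange_of_isPushout_of_forall_fg
    (φR : K →+* R) (φC : K →+* C) (ψR : R →+* B) (ψC : C →+* B)
    (hpo : IsPushout (CommRingCat.ofHom φR) (CommRingCat.ofHom φC) (CommRingCat.ofHom ψR)
      (CommRingCat.ofHom ψC)) (v : ∀ i, M →ₗ[R] N i)
    (hflat : ∀ i, letI := Module.compHom (N i) φR; Module.Flat K (N i))
    (H : letI := φC.toAlgebra
      ∀ (C₀ : Type u) [CommRing C₀] [Algebra K C₀] (b₀ : C₀ →ₐ[K] C), Function.Injective b₀ →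
        Algebra.FiniteType K C₀ →
        ∃ (D : Type u) (_ : CommRing D) (ψ : R →+* D) (χ : C₀ →+* D),
          IsPushout (CommRingCat.ofHom φR) (CommRingCat.ofHom (algebraMap K C₀)) (CommRingCat.ofHom ψ)
            (CommRingCat.ofHom χ) ∧
          (letI := ψ.toAlgebra
           SepAlg (A := D) (M := D ⊗[R] M) (N := fun i => D ⊗[R] N i) (fun i => (v i).baseChange D))) :
    letI := ψR.toAlgebra
    SepAlg (fun i => (v i).baseChange B) := by
  letI := φR.toAlgebra
  letI := φC.toAlgebra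
  letI := ψR.toAlgebra
  letI := ψC.toAlgebra
  letI : Algebra K B := (ψR.comp φR).toAlgebra
  obtain ⟨h1, h2, h3⟩ := algebra_isPushout_of_isPushout φR φC ψR ψC hpo
  refine sepAlg_baseChange_of_algEquiv (Algebra.IsPushout.equiv K R C B) v ?_
  refine sepAlg_baseChange_tensor_of_forall_fg v (fun i => hflat i) (fun C₀ hfg => ?_)
  haveI : Algebra.FiniteType K C₀ := (Subalgebra.fg_iff_finiteType C₀).1 hfg
  obtain ⟨D, _, ψ, χ, hD, hsepD⟩ := H C₀ C₀.val Subtype.val_injective inferInstance
  letI := ψ.toAlgebra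
  letI := χ.toAlgebra
  letI : Algebra K D := (ψ.comp φR).toAlgebra
  haveI : IsScalarTower K R D := IsScalarTower.of_algebraMap_eq (fun _ => rfl)
  have hw : ψ.comp φR = χ.comp (algebraMap K C₀) := congrArg CommRingCat.Hom.hom hD.w
  haveI : IsScalarTower K C₀ D := IsScalarTower.of_algebraMap_eq (fun x => by
    exact congrArg (fun f : K →+* D => f x) hw)
  haveI hD' : Algebra.IsPushout K R C₀ D := CommRingCat.isPushout_iff_isPushout.1 hD
  exact sepAlg_baseChange_of_algEquiv (Algebra.IsPushout.equiv K R C₀ D).symm v hsepD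

end Pushout

end Groth.Agent.Lib.Helper25.SepBC
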