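import Mathlib
import Groth.Agent.Lib.Helper7.Hartogs
import Groth.Agent.Lib.Helper25.SepBC
import Groth.Agent.Lib.Helper25.FibProdAff
import Groth.Agent.Lib.Helper25.SchDenseFlat

/-!
# helper25 — SchDom: schematically dominant families of morphisms, ring-theoretic dictionary and base change
-/

set_option backward.isDefEq.respectTransparency.types false
set_option autoImplicit false
set_option linter.unusedVariables false
set_option linter.style.haveILetI false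
set_option linter.dupNamespace false
universe u
open AlgebraicGeometry CategoryTheory Opposite TopologicalSpace TensorProduct

namespace Groth.Agent.Lib.Helper25.SchDom

open Groth.Agent.Lib.Helper7.Hartogs Groth.Agent.Lib.Helper25.SepAlg Groth.Agent.Lib.Helper25.SepBC
  Groth.Agent.Lib.Helper25.SchDenseFlat

section Ring

variable {A : Type u} [CommRing A] {Λ : Type u} {B : Λ → Type u} [∀ l, CommRing (B l)]

/-- a family of ring maps out of `A` which is jointly injective on every basic open of `Spec A` -/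
def SepRing (φ : ∀ l, A →+* B l) : Prop :=
  ∀ a x : A, (∀ l, ∃ n : ℕ, φ l (a ^ n * x) = 0) → ∃ n : ℕ, a ^ n * x = 0

theorem sepAlg_of_sepRing (φ : ∀ l, A →+* B l) (h : SepRing φ) :
    letI : ∀ l, Algebra A (B l) := fun l => (φ l).toAlgebra
    SepAlg (A := A) (M := A) (N := B) (fun l => Algebra.linearMap A (B l)) := by
  letI : ∀ l, Algebra A (B l) := fun l => (φ l).toAlgebra
  intro a x hx
  obtain ⟨n, hn⟩ := h a x (fun l => by
    obtain ⟨n, hn⟩ := hx l
    refine ⟨n, ?_⟩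
    rw [Algebra.smul_def, Algebra.linearMap_apply, ← map_mul] at hn
    exact hn)
  exact ⟨n, hn⟩

variable {A' : Type u} [CommRing A'] {D : Λ → Type u} [∀ l, CommRing (D l)]

/-- transport of the separating property along a family of pushout squares -/
theorem sepRing_of_isPushout (ψ : A →+* A') (φ : ∀ l, A →+* B l)
    (in1 : ∀ l, B l →+* D l) (in2 : ∀ l, A' →+* D l)
    (hpo : ∀ l, IsPushout (CommRingCat.ofHom (φ l)) (CommRingCat.ofHom ψ) (CommRingCat.ofHom (in1 l))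
      (CommRingCat.ofHom (in2 l)))
    (H : letI := ψ.toAlgebra
      letI : ∀ l, Algebra A (B l) := fun l => (φ l).toAlgebra
      SepAlg (A := A') (M := A' ⊗[A] A) (N := fun l => A' ⊗[A] B l)
        (fun l => (Algebra.linearMap A (B l)).baseChange A')) :
    SepRing in2 := by
  letI := ψ.toAlgebra
  letI : ∀ l, Algebra A (B l) := fun l => (φ l).toAlgebra
  intro a' x' hx
  have key : ∀ l, ∃ n : ℕ, a' ^ n • (Algebra.linearMap A (B l)).baseChange A' (x' ⊗ₜ[A] (1 : A)) = 0 := by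
    intro l
    obtain ⟨n, hn⟩ := hx l
    refine ⟨n, ?_⟩
    rw [LinearMap.baseChange_tmul, Algebra.linearMap_apply, map_one, TensorProduct.smul_tmul', smul_eq_mul]
    letI := (in1 l).toAlgebra
    letI := (in2 l).toAlgebra
    letI : Algebra A (D l) := ((in2 l).comp ψ).toAlgebra
    obtain ⟨h1, h2, h3⟩ := algebra_isPushout_of_isPushout ψ (φ l) (in2 l) (in1 l) (hpo l).flip
    apply (Algebra.IsPushout.equiv A A' (B l) (D l)).injective
    rw [Algebra.IsPushout.equiv_tmul, map_one, mul_one, map_zero]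
    exact hn
  obtain ⟨n, hn⟩ := H a' (x' ⊗ₜ 1) key
  refine ⟨n, ?_⟩
  have := congrArg (TensorProduct.rid A A') hn
  rwa [TensorProduct.smul_tmul', TensorProduct.rid_tmul, one_smul, smul_eq_mul, map_zero] at this

/-- flat finitely presented base change -/
theorem sepRing_of_isPushout_flat_fp (ψ : A →+* A') (hflat : ψ.Flat) (hfp : ψ.FinitePresentation)
    (φ : ∀ l, A →+* B l) (in1 : ∀ l, B l →+* D l) (in2 : ∀ l, A' →+* D l)
    (hpo : ∀ l, IsPushout (CommRingCat.ofHom (φ l)) (CommRingCat.ofHom ψ) (CommRingCat.ofHom (in1 l))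
      (CommRingCat.ofHom (in2 l))) (h : SepRing φ) : SepRing in2 := by
  refine sepRing_of_isPushout ψ φ in1 in2 hpo ?_
  letI := ψ.toAlgebra
  letI : ∀ l, Algebra A (B l) := fun l => (φ l).toAlgebra
  haveI : Module.Flat A A' := hflat
  haveI : Algebra.FinitePresentation A A' := hfp
  exact sepAlg_baseChange_of_flat_fp _ (sepAlg_of_sepRing φ h)

/-- base change over a field -/
theorem sepRing_of_isPushout_field {K C : Type u} [CommRing K] [CommRing C] (hK : IsField K)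
    (κA : K →+* A) (κC : K →+* C) (ψ : A →+* A') (χ : C →+* A')
    (hA' : IsPushout (CommRingCat.ofHom κA) (CommRingCat.ofHom κC) (CommRingCat.ofHom ψ) (CommRingCat.ofHom χ))
    (φ : ∀ l, A →+* B l) (in1 : ∀ l, B l →+* D l) (in2 : ∀ l, A' →+* D l)
    (hpo : ∀ l, IsPushout (CommRingCat.ofHom (φ l)) (CommRingCat.ofHom ψ) (CommRingCat.ofHom (in1 l))
      (CommRingCat.ofHom (in2 l))) (h : SepRing φ) : SepRing in2 := by
  refine sepRing_of_isPushout ψ φ in1 in2 hpo ?_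
  letI : ∀ l, Algebra A (B l) := fun l => (φ l).toAlgebra
  exact sepAlg_baseChange_of_isPushout_field hK κA κC ψ χ hA' _ (sepAlg_of_sepRing φ h)

end Ring

section Scheme

variable {X : Scheme.{u}}

theorem appLE_res {Y : Scheme.{u}} (g : Y ⟶ X) {U : X.Opens} {V V' : Y.Opens} (e : V ≤ g ⁻¹ᵁ U) (h : V' ≤ V)
    (x : Γ(X, U)) : res h ((g.appLE U V e).hom x) = (g.appLE U V' (h.trans e)).hom x := by
  have := Scheme.Hom.appLE_map g e (homOfLE h).op
  exact congrArg (fun φ => φ.hom x) this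

theorem res_appLE {Y : Scheme.{u}} (g : Y ⟶ X) {U U' : X.Opens} {V : Y.Opens} (e : V ≤ g ⁻¹ᵁ U) (h : U ≤ U')
    (x : Γ(X, U')) : (g.appLE U V e).hom (res h x) = (g.appLE U' V (e.trans (fun _ hy => h hy))).hom x := by
  have := Scheme.Hom.map_appLE g e (homOfLE h).op
  exact congrArg (fun φ => φ.hom x) this

variable {ι : Type u} {Z : ι → Scheme.{u}} (f : ∀ i, Z i ⟶ X)

/-- schematically dominant family of morphisms -/
def SchDom (f : ∀ i, Z i ⟶ X) : Prop :=
  ∀ (V : X.Opens) (t : Γ(X, V)), (∀ i, (f i).app V t = 0) → t = 0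

/-- a schematically dominant family gives separating families of ring maps on affine opens -/
theorem sepRing_of_schDom (hf : SchDom f) {W : X.Opens} (hW : IsAffineOpen W)
    (Λ : ι → Type u) (U : ∀ j, Λ j → (Z j).Opens) (hU : ∀ j l, U j l ≤ f j ⁻¹ᵁ W)
    (hcov : ∀ j (z : Z j), f j z ∈ W → ∃ l, z ∈ U j l) :
    SepRing (Λ := Σ j, Λ j) (B := fun l => Γ(Z l.1, U l.1 l.2))
      (fun l => ((f l.1).appLE W (U l.1 l.2) (hU l.1 l.2)).hom) := by
  intro a x hx
  have h0 : res (X.basicOpen_le a) x = 0 := by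
    apply hf (X.basicOpen a) _ (fun j => ?_)
    apply TopCat.Sheaf.eq_of_locally_eq' (Z j).sheaf (fun l : Λ j => U j l ⊓ f j ⁻¹ᵁ X.basicOpen a)
      (f j ⁻¹ᵁ X.basicOpen a) (fun l => homOfLE inf_le_right)
    · intro z hz
      obtain ⟨l, hl⟩ := hcov j z (X.basicOpen_le a hz)
      exact Opens.mem_iSup.2 ⟨l, hl, hz⟩
    · intro l
      show res inf_le_right (((f j).app (X.basicOpen a)).hom (res (X.basicOpen_le a) x)) = res inf_le_right 0
      rw [map_zero, Scheme.Hom.app_eq_appLE, appLE_res, res_appLE]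
      obtain ⟨n, hn⟩ := hx ⟨j, l⟩
      have h1 := congrArg (res (inf_le_left : U j l ⊓ f j ⁻¹ᵁ X.basicOpen a ≤ U j l)) hn
      rw [appLE_res, map_zero, map_mul, map_pow] at h1
      have hu : IsUnit (((f j).appLE W (U j l ⊓ f j ⁻¹ᵁ X.basicOpen a) (inf_le_left.trans (hU j l))).hom a) := by
        have h2 : IsUnit (res (X.basicOpen_le a) a) := RingedSpace.isUnit_res_basicOpen X.toRingedSpace a
        have h3 := h2.map ((f j).appLE (X.basicOpen a) (U j l ⊓ f j ⁻¹ᵁ X.basicOpen a) inf_le_right).hom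
        rw [res_appLE] at h3
        exact h3
      exact ((hu.pow n).mul_right_eq_zero).1 h1
  obtain ⟨n, hn⟩ := (res_basicOpen_eq_zero_iff hW a x).1 h0
  exact ⟨n, hn⟩

/-- criterion for a family to be schematically dominant, on a cover by affine opens -/
theorem schDom_of_sepRing_cover (P : X.Opens → Prop) (hP : ∀ x : X, ∃ O, P O ∧ x ∈ O)
    (H : ∀ O, P O → ∃ (hO : IsAffineOpen O) (Λ : Type u) (i : Λ → ι) (U : ∀ l, (Z (i l)).Opens)
      (hUa : ∀ l, IsAffineOpen (U l)) (hU : ∀ l, U l ≤ f (i l) ⁻¹ᵁ O),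
        SepRing (B := fun l => Γ(Z (i l), U l)) (fun l => ((f (i l)).appLE O (U l) (hU l)).hom)) :
    SchDom f := by
  intro V t ht
  apply TopCat.Sheaf.eq_of_locally_eq' X.sheaf
    (fun p : {p : (Σ O : {O : X.Opens // P O}, Γ(X, O.1)) // X.basicOpen p.2 ≤ V} => X.basicOpen p.1.2) V
    (fun p => homOfLE p.2)
  · intro x hx
    obtain ⟨O, hPO, hxO⟩ := hP x
    obtain ⟨hO, -⟩ := H O hPO
    obtain ⟨a, haV, hxa⟩ := hO.exists_basicOpen_le ⟨x, hx⟩ hxO
    exact Opens.mem_iSup.2 ⟨⟨⟨⟨O, hPO⟩, a⟩, haV⟩, hxa⟩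
  · rintro ⟨⟨⟨O, hPO⟩, a⟩, haV⟩
    show res haV t = res haV 0
    rw [map_zero]
    obtain ⟨hO, Λ, i, U, hUa, hU, hsep⟩ := H O hPO
    haveI := hO.isLocalization_basicOpen a
    obtain ⟨⟨x, ⟨_, m, rfl⟩⟩, hx⟩ := IsLocalization.surj (Submonoid.powers a) (res haV t)
    have hx0 : res (X.basicOpen_le a) x = 0 := by
      rw [res_basicOpen_eq_zero_iff hO]
      apply hsep a x
      intro l
      have hb : (Z (i l)).basicOpen (((f (i l)).appLE O (U l) (hU l)).hom a) =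
          U l ⊓ f (i l) ⁻¹ᵁ X.basicOpen a := Scheme.basicOpen_appLE _ _ _ _ _
      have hble : (Z (i l)).basicOpen (((f (i l)).appLE O (U l) (hU l)).hom a) ≤
          f (i l) ⁻¹ᵁ X.basicOpen a := hb.le.trans inf_le_right
      have h1 : res ((Z (i l)).basicOpen_le (((f (i l)).appLE O (U l) (hU l)).hom a))
          (((f (i l)).appLE O (U l) (hU l)).hom x) = 0 := by
        rw [appLE_res, ← res_appLE (f (i l)) hble (X.basicOpen_le a) x, ← algebraMap_eq_res]
        have hx' : algebraMap Γ(X, O) Γ(X, X.basicOpen a) x =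
            res haV t * algebraMap Γ(X, O) Γ(X, X.basicOpen a) (a ^ m) := hx.symm
        rw [hx', map_mul]
        have h2 : ((f (i l)).appLE (X.basicOpen a) _ hble).hom (res haV t) = 0 := by
          rw [res_appLE, ← appLE_res (f (i l)) le_rfl (hble.trans (fun _ hy => haV hy)) t,
            ← Scheme.Hom.app_eq_appLE, ht, map_zero]
        rw [h2, zero_mul]
      obtain ⟨n, hn⟩ := (res_basicOpen_eq_zero_iff (hUa l) _ _).1 h1
      exact ⟨n, by rw [map_mul, map_pow]; exact hn⟩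
    have hu : IsUnit (algebraMap Γ(X, O) Γ(X, X.basicOpen a) (a ^ m)) := by
      rw [map_pow]
      exact (RingedSpace.isUnit_res_basicOpen X.toRingedSpace a).pow m
    rw [algebraMap_eq_res a x, hx0] at hx
    exact (hu.mul_left_eq_zero).1 hx

end Scheme

section BaseChange

open Limits Groth.Agent.Lib.Helper25.FibProdAff

theorem appLE_of_eq {X Y : Scheme.{u}} {g₁ g₂ : Y ⟶ X} (h : g₁ = g₂) {U : X.Opens} {V : Y.Opens}
    (e : V ≤ g₁ ⁻¹ᵁ U) : g₁.appLE U V e = g₂.appLE U V (h ▸ e) := by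
  subst h
  rfl

/-- **EGA IV 11.10.5 (ii) for families**: schematically dominant families are stable under flat base change locally
of finite presentation. -/
theorem schDom_baseChange_of_flat_lfp {X X' : Scheme.{u}} {ι : Type u} (Z : ι → Scheme.{u})
    (f : ∀ i, Z i ⟶ X) (g : X' ⟶ X) [Flat g] [LocallyOfFinitePresentation g]
    (h : SchDom f) : SchDom (fun i => pullback.snd (f i) g) := by
  refine schDom_of_sepRing_cover (fun i => pullback.snd (f i) g)
    (fun O' => IsAffineOpen O' ∧ ∃ W : X.Opens, IsAffineOpen W ∧ O' ≤ g ⁻¹ᵁ W) ?_ ?_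
  · intro x'
    obtain ⟨W, hW, hxW, -⟩ := exists_isAffineOpen_mem_and_subset (x := g x') (U := ⊤) trivial
    obtain ⟨W', hW', hxW', hW'le⟩ := exists_isAffineOpen_mem_and_subset (x := x') (U := g ⁻¹ᵁ W) hxW
    exact ⟨W', ⟨hW', W, hW, hW'le⟩, hxW'⟩
  · rintro O' ⟨hO', W, hW, hle⟩
    refine ⟨hO', Σ j, {U : (Z j).Opens // IsAffineOpen U ∧ U ≤ f j ⁻¹ᵁ W}, Sigma.fst,
      fun l => pullback.fst (f l.1) g ⁻¹ᵁ l.2.1 ⊓ pullback.snd (f l.1) g ⁻¹ᵁ O', ?_, fun l => inf_le_right, ?_⟩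
    · intro l
      exact (pullback_affine (f l.1) g hW l.2.2.1 hO' l.2.2.2 hle).1
    · refine sepRing_of_isPushout_flat_fp (g.appLE W O' hle).hom
        (HasRingHomProperty.appLE (P := @Flat) g inferInstance ⟨W, hW⟩ ⟨O', hO'⟩ hle)
        (HasRingHomProperty.appLE (P := @LocallyOfFinitePresentation) g inferInstance ⟨W, hW⟩ ⟨O', hO'⟩ hle)
        (Λ := Σ j, {U : (Z j).Opens // IsAffineOpen U ∧ U ≤ f j ⁻¹ᵁ W})
        (fun l : (Σ j, {U : (Z j).Opens // IsAffineOpen U ∧ U ≤ f j ⁻¹ᵁ W}) =>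
          ((f l.1).appLE W l.2.1 l.2.2.2).hom)
        (fun l : (Σ j, {U : (Z j).Opens // IsAffineOpen U ∧ U ≤ f j ⁻¹ᵁ W}) =>
          ((pullback.fst (f l.1) g).appLE l.2.1
            (pullback.fst (f l.1) g ⁻¹ᵁ l.2.1 ⊓ pullback.snd (f l.1) g ⁻¹ᵁ O') inf_le_left).hom)
        (fun l : (Σ j, {U : (Z j).Opens // IsAffineOpen U ∧ U ≤ f j ⁻¹ᵁ W}) =>
          ((pullback.snd (f l.1) g).appLE O'
            (pullback.fst (f l.1) g ⁻¹ᵁ l.2.1 ⊓ pullback.snd (f l.1) g ⁻¹ᵁ O') inf_le_right).hom)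
        (fun l => (pullback_affine (f l.1) g hW l.2.2.1 hO' l.2.2.2 hle).2) ?_
      exact sepRing_of_schDom f h hW (fun j => {U : (Z j).Opens // IsAffineOpen U ∧ U ≤ f j ⁻¹ᵁ W})
        (fun j U => U.1) (fun j U => U.2.2) (fun j z hz => by
          obtain ⟨U, hU, hzU, hUle⟩ := exists_isAffineOpen_mem_and_subset (x := z) (U := f j ⁻¹ᵁ W) hz
          exact ⟨⟨U, hU, hUle⟩, hzU⟩)

/-- **EGA IV 11.10.6 for families**: schematically dominant families of `k`-schemes are stable under arbitrary base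
change `S' ⟶ Spec k`, `k` a field. -/
theorem schDom_baseChange_over_field {K : CommRingCat.{u}} (hK : IsField K) {X S' : Scheme.{u}}
    (p : X ⟶ Spec K) (q : S' ⟶ Spec K) {ι : Type u} (Z : ι → Scheme.{u}) (f : ∀ i, Z i ⟶ X)
    (f' : ∀ i, pullback (f i ≫ p) q ⟶ pullback p q)
    (hf'1 : ∀ i, f' i ≫ pullback.fst p q = pullback.fst (f i ≫ p) q ≫ f i)
    (hf'2 : ∀ i, f' i ≫ pullback.snd p q = pullback.snd (f i ≫ p) q)
    (h : SchDom f) : SchDom f' := by
  have hK' : IsField Γ(Spec K, ⊤) :=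
    MulEquiv.isField hK (Scheme.ΓSpecIso K).commRingCatIsoToRingEquiv.toMulEquiv
  refine schDom_of_sepRing_cover f'
    (fun O' => ∃ (W : X.Opens) (T : S'.Opens), IsAffineOpen W ∧ IsAffineOpen T ∧
      O' = pullback.fst p q ⁻¹ᵁ W ⊓ pullback.snd p q ⁻¹ᵁ T) ?_ ?_
  · intro x
    obtain ⟨W, hW, hxW, -⟩ :=
      exists_isAffineOpen_mem_and_subset (TopologicalSpace.Opens.mem_top (pullback.fst p q x))
    obtain ⟨T, hT, hxT, -⟩ :=
      exists_isAffineOpen_mem_and_subset (TopologicalSpace.Opens.mem_top (pullback.snd p q x))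
    exact ⟨_, ⟨W, T, hW, hT, rfl⟩, ⟨hxW, hxT⟩⟩
  · rintro O' ⟨W, T, hW, hT, rfl⟩
    obtain ⟨hO', hA'⟩ := pullback_affine p q (US := ⊤) (isAffineOpen_top _) hW hT
      (fun _ _ => trivial) (fun _ _ => trivial)
    have hU : ∀ l : (Σ j, {U : (Z j).Opens // IsAffineOpen U ∧ U ≤ f j ⁻¹ᵁ W}),
        pullback.fst (f l.1 ≫ p) q ⁻¹ᵁ l.2.1 ⊓ pullback.snd (f l.1 ≫ p) q ⁻¹ᵁ T ≤
          f' l.1 ⁻¹ᵁ (pullback.fst p q ⁻¹ᵁ W ⊓ pullback.snd p q ⁻¹ᵁ T) := by
      rintro ⟨j, U, hUa, hUle⟩ y ⟨hy1, hy2⟩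
      constructor
      · show y ∈ (f' j ≫ pullback.fst p q) ⁻¹ᵁ W
        rw [hf'1]
        exact hUle hy1
      · show y ∈ (f' j ≫ pullback.snd p q) ⁻¹ᵁ T
        rw [hf'2]
        exact hy2
    refine ⟨hO', Σ j, {U : (Z j).Opens // IsAffineOpen U ∧ U ≤ f j ⁻¹ᵁ W}, Sigma.fst,
      fun l => pullback.fst (f l.1 ≫ p) q ⁻¹ᵁ l.2.1 ⊓ pullback.snd (f l.1 ≫ p) q ⁻¹ᵁ T, ?_, hU, ?_⟩
    · intro l
      exact (pullback_affine (f l.1 ≫ p) q (US := ⊤) (isAffineOpen_top _) l.2.2.1 hT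
        (fun _ _ => trivial) (fun _ _ => trivial)).1
    · refine sepRing_of_isPushout_field hK' _ _ _ _ hA'
        (Λ := Σ j, {U : (Z j).Opens // IsAffineOpen U ∧ U ≤ f j ⁻¹ᵁ W})
        (fun l : (Σ j, {U : (Z j).Opens // IsAffineOpen U ∧ U ≤ f j ⁻¹ᵁ W}) =>
          ((f l.1).appLE W l.2.1 l.2.2.2).hom)
        (fun l : (Σ j, {U : (Z j).Opens // IsAffineOpen U ∧ U ≤ f j ⁻¹ᵁ W}) =>
          ((pullback.fst (f l.1 ≫ p) q).appLE l.2.1
            (pullback.fst (f l.1 ≫ p) q ⁻¹ᵁ l.2.1 ⊓ pullback.snd (f l.1 ≫ p) q ⁻¹ᵁ T) inf_le_left).hom)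
        (fun l : (Σ j, {U : (Z j).Opens // IsAffineOpen U ∧ U ≤ f j ⁻¹ᵁ W}) =>
          ((f' l.1).appLE (pullback.fst p q ⁻¹ᵁ W ⊓ pullback.snd p q ⁻¹ᵁ T)
            (pullback.fst (f l.1 ≫ p) q ⁻¹ᵁ l.2.1 ⊓ pullback.snd (f l.1 ≫ p) q ⁻¹ᵁ T) (hU l)).hom)
        (fun l => ?_) ?_
      · obtain ⟨j, U, hUa, hUle⟩ := l
        have s := (pullback_affine (f j ≫ p) q (US := ⊤) (isAffineOpen_top _) hUa hT
          (fun _ _ => trivial) (fun _ _ => trivial)).2
        have e1 : (f j ≫ p).appLE ⊤ U (fun _ _ => trivial) =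
            p.appLE ⊤ W (fun _ _ => trivial) ≫ (f j).appLE W U hUle :=
          (Scheme.Hom.appLE_comp_appLE _ _ _ _ _ _ _).symm
        have e2 : (pullback.snd (f j ≫ p) q).appLE T
            (pullback.fst (f j ≫ p) q ⁻¹ᵁ U ⊓ pullback.snd (f j ≫ p) q ⁻¹ᵁ T) inf_le_right =
            (pullback.snd p q).appLE T (pullback.fst p q ⁻¹ᵁ W ⊓ pullback.snd p q ⁻¹ᵁ T) inf_le_right ≫
              (f' j).appLE _ _ (hU ⟨j, U, hUa, hUle⟩) := by
          rw [Scheme.Hom.appLE_comp_appLE]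
          exact (appLE_of_eq (hf'2 j) _).symm
        have e3 : (f j).appLE W U hUle ≫ (pullback.fst (f j ≫ p) q).appLE U
            (pullback.fst (f j ≫ p) q ⁻¹ᵁ U ⊓ pullback.snd (f j ≫ p) q ⁻¹ᵁ T) inf_le_left =
            (pullback.fst p q).appLE W (pullback.fst p q ⁻¹ᵁ W ⊓ pullback.snd p q ⁻¹ᵁ T) inf_le_left ≫
              (f' j).appLE _ _ (hU ⟨j, U, hUa, hUle⟩) := by
          rw [Scheme.Hom.appLE_comp_appLE, Scheme.Hom.appLE_comp_appLE]
          exact (appLE_of_eq (hf'1 j) _).symm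
        rw [e1, e2] at s
        exact IsPushout.of_left s e3 hA'
      · exact sepRing_of_schDom f h hW (fun j => {U : (Z j).Opens // IsAffineOpen U ∧ U ≤ f j ⁻¹ᵁ W})
          (fun j U => U.1) (fun j U => U.2.2) (fun j z hz => by
            obtain ⟨U, hU, hzU, hUle⟩ := exists_isAffineOpen_mem_and_subset (x := z) (U := f j ⁻¹ᵁ W) hz
            exact ⟨⟨U, hU, hUle⟩, hzU⟩)

end BaseChange

end Groth.Agent.Lib.Helper25.SchDom
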