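import Mathlib
import Groth.Agent.Lib.Helper25.SepAlg
import Groth.Agent.Lib.Helper25.SepBC

/-!
# helper25 — SepNilp: a family of linear maps into flat modules which is separating modulo a nilpotent ideal with free
graded pieces is separating (EGA IV 11.9.?, algebraic core)
-/

set_option autoImplicit false
set_option linter.unusedVariables false
set_option linter.style.haveILetI false
universe u
open TensorProduct

namespace Groth.Agent.Lib.Helper25.SepNilp

open Groth.Agent.Lib.Helper25.SepAlg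

section Gr

variable {A : Type u} [CommRing A] (J : Ideal A) (k : ℕ)

/-- the projection `J^k → (A/J) ⊗ J^k = J^k / J^(k+1)` -/
noncomputable def π : ↥(J ^ k) →ₗ[A] (A ⧸ J) ⊗[A] ↥(J ^ k) := TensorProduct.mk A (A ⧸ J) ↥(J ^ k) 1

theorem π_apply (a : ↥(J ^ k)) : π J k a = (1 : A ⧸ J) ⊗ₜ[A] a := rfl

theorem mk_smul_π (r : A) (a : ↥(J ^ k)) : (Ideal.Quotient.mk J r) • π J k a = π J k (r • a) := by
  have h1 : r • (1 : A ⧸ J) = Ideal.Quotient.mk J r := by
    rw [Algebra.smul_def, mul_one]; rfl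
  calc (Ideal.Quotient.mk J r) • π J k a = (Ideal.Quotient.mk J r • (1 : A ⧸ J)) ⊗ₜ[A] a :=
        TensorProduct.smul_tmul' _ _ _
    _ = (r • (1 : A ⧸ J)) ⊗ₜ[A] a := by rw [h1, smul_eq_mul, mul_one]
    _ = (1 : A ⧸ J) ⊗ₜ[A] (r • a) := TensorProduct.smul_tmul _ _ _

theorem smul_gr_eq_zero {j : A} (hj : j ∈ J) (g : (A ⧸ J) ⊗[A] ↥(J ^ k)) : j • g = 0 := by
  induction g using TensorProduct.induction_on with
  | zero => simp
  | tmul q a =>
    rw [TensorProduct.smul_tmul']
    have : j • q = 0 := by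
      rw [Algebra.smul_def, Ideal.Quotient.algebraMap_eq, Ideal.Quotient.eq_zero_iff_mem.2 hj, zero_mul]
    rw [this, TensorProduct.zero_tmul]
  | add x y hx hy => rw [smul_add, hx, hy, add_zero]

/-- kernel of `π` -/
theorem coe_mem_pow_succ_of_π_eq_zero (a : ↥(J ^ k)) (h : π J k a = 0) : (a : A) ∈ J ^ (k + 1) := by
  have h1 : TensorProduct.quotTensorEquivQuotSMul ↥(J ^ k) J ((1 : A ⧸ J) ⊗ₜ[A] a) = 0 := by
    rw [← π_apply, h, map_zero]
  rw [TensorProduct.quotTensorEquivQuotSMul_mk_one_tmul, Submodule.Quotient.mk_eq_zero] at h1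
  have h2 : (a : A) ∈ (J • (⊤ : Submodule A ↥(J ^ k))).map (J ^ k).subtype := ⟨a, h1, rfl⟩
  rw [Submodule.map_smul'', Submodule.map_top, Submodule.range_subtype] at h2
  rw [pow_succ']
  exact h2

variable {N : Type u} [AddCommGroup N] [Module A N]

/-- multiplication `J^k ⊗ N → N` -/
noncomputable def μ : ↥(J ^ k) ⊗[A] N →ₗ[A] N :=
  (TensorProduct.lid A N).toLinearMap ∘ₗ LinearMap.rTensor N (J ^ k).subtype

theorem μ_tmul (a : ↥(J ^ k)) (n : N) : μ J k (a ⊗ₜ[A] n) = (a : A) • n := by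
  simp [μ]

theorem μ_injective [Module.Flat A N] : Function.Injective (μ J k (N := N)) := by
  have h := Module.Flat.rTensor_preserves_injective_linearMap (M := N) (J ^ k).subtype
    (Submodule.subtype_injective _)
  exact (TensorProduct.lid A N).injective.comp h

theorem exists_μ_eq (y : N) (hy : y ∈ (J ^ k) • (⊤ : Submodule A N)) : ∃ w : ↥(J ^ k) ⊗[A] N, μ J k w = y := by
  refine Submodule.smul_induction_on hy (fun a ha n _ => ?_) (fun x y hx hy => ?_)
  · exact ⟨⟨a, ha⟩ ⊗ₜ n, μ_tmul J k _ _⟩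
  · obtain ⟨w₁, h₁⟩ := hx
    obtain ⟨w₂, h₂⟩ := hy
    exact ⟨w₁ + w₂, by rw [map_add, h₁, h₂]⟩

theorem exists_μ_eq_and_rTensor_eq_zero (y : N) (hy : y ∈ (J ^ (k + 1)) • (⊤ : Submodule A N)) :
    ∃ w : ↥(J ^ k) ⊗[A] N, μ J k w = y ∧ LinearMap.rTensor N (π J k) w = 0 := by
  rw [pow_succ', Submodule.mul_smul] at hy
  refine Submodule.smul_induction_on hy (fun j hj y' hy' => ?_) (fun x y hx hy => ?_)
  · obtain ⟨w, hw⟩ := exists_μ_eq J k y' hy'
    refine ⟨j • w, by rw [map_smul, hw], ?_⟩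
    rw [map_smul]
    generalize LinearMap.rTensor N (π J k) w = g
    induction g using TensorProduct.induction_on with
    | zero => simp
    | tmul g n => rw [TensorProduct.smul_tmul', smul_gr_eq_zero J k hj, TensorProduct.zero_tmul]
    | add x y hx hy => rw [smul_add, hx, hy, add_zero]
  · obtain ⟨w₁, h₁, h₁'⟩ := hx
    obtain ⟨w₂, h₂, h₂'⟩ := hy
    exact ⟨w₁ + w₂, by rw [map_add, h₁, h₂], by rw [map_add, h₁', h₂', add_zero]⟩

/-- **Flatness lemma.** -/
theorem mem_smul_top_of_sum_mem [Module.Flat A N] {T : Type u}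
    (b : Module.Basis T (A ⧸ J) ((A ⧸ J) ⊗[A] ↥(J ^ k))) (e : T → ↥(J ^ k)) (he : ∀ t, π J k (e t) = b t)
    (z : T →₀ N) (hz : z.sum (fun t n => ((e t : ↥(J ^ k)) : A) • n) ∈ (J ^ (k + 1)) • (⊤ : Submodule A N))
    (t : T) : z t ∈ J • (⊤ : Submodule A N) := by
  classical
  obtain ⟨w', hw', hw'0⟩ := exists_μ_eq_and_rTensor_eq_zero J k _ hz
  set w : ↥(J ^ k) ⊗[A] N := z.sum (fun t n => e t ⊗ₜ[A] n) with hw
  have hμw : μ J k w = z.sum (fun t n => ((e t : ↥(J ^ k)) : A) • n) := by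
    rw [hw, map_finsuppSum]
    simp only [μ_tmul]
  have hww' : w = w' := μ_injective J k (hμw.trans hw'.symm)
  have h0 : LinearMap.rTensor N (π J k) w = 0 := hww' ▸ hw'0
  let κ : (A ⧸ J) ⊗[A] ↥(J ^ k) →ₗ[A] (A ⧸ J) := (b.coord t).restrictScalars A
  have h1 : LinearMap.rTensor N κ (LinearMap.rTensor N (π J k) w) = (1 : A ⧸ J) ⊗ₜ[A] z t := by
    rw [hw, map_finsuppSum, map_finsuppSum]
    simp only [LinearMap.rTensor_tmul, he]
    have : ∀ s, κ (b s) = if s = t then (1 : A ⧸ J) else 0 := by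
      intro s
      change b.coord t (b s) = _
      rw [Module.Basis.coord_apply, Module.Basis.repr_self, Finsupp.single_apply]
    simp only [this]
    rw [Finsupp.sum, Finset.sum_eq_single t]
    · simp
    · intro s _ hst
      rw [if_neg hst, TensorProduct.zero_tmul]
    · intro ht
      rw [Finsupp.notMem_support_iff.1 ht, TensorProduct.tmul_zero]
  rw [h0, map_zero] at h1
  have h2 := congrArg (TensorProduct.quotTensorEquivQuotSMul N J) h1.symm
  rw [TensorProduct.quotTensorEquivQuotSMul_mk_one_tmul, map_zero, Submodule.Quotient.mk_eq_zero] at h2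
  exact h2

/-- **Reduction lemma.** -/
theorem exists_finsupp_sub_mem {M : Type u} [AddCommGroup M] [Module A M] {T : Type u}
    (b : Module.Basis T (A ⧸ J) ((A ⧸ J) ⊗[A] ↥(J ^ k))) (e : T → ↥(J ^ k)) (he : ∀ t, π J k (e t) = b t)
    (x : M) (hx : x ∈ (J ^ k) • (⊤ : Submodule A M)) :
    ∃ y : T →₀ M, x - y.sum (fun t m => ((e t : ↥(J ^ k)) : A) • m) ∈ (J ^ (k + 1)) • (⊤ : Submodule A M) := by
  classical
  refine Submodule.smul_induction_on hx (fun a ha m _ => ?_) (fun x₁ x₂ h₁ h₂ => ?_)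
  · let a' : ↥(J ^ k) := ⟨a, ha⟩
    let c := b.repr (π J k a')
    let ℓ : A ⧸ J → A := fun q => if q = 0 then 0 else Function.surjInv Ideal.Quotient.mk_surjective q
    have hℓ0 : ℓ 0 = 0 := if_pos rfl
    have hℓ : ∀ q, Ideal.Quotient.mk J (ℓ q) = q := by
      intro q
      by_cases hq : q = 0
      · subst hq
        simp [ℓ]
      · simp only [ℓ, if_neg hq]
        exact Function.surjInv_eq Ideal.Quotient.mk_surjective q
    let c' : T →₀ A := c.mapRange ℓ hℓ0
    let d : ↥(J ^ k) := a' - c'.sum (fun t r => r • e t)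
    have hπd : π J k d = 0 := by
      have h1 : π J k (c'.sum (fun t r => r • e t)) = π J k a' := by
        rw [map_finsuppSum]
        simp only [← mk_smul_π, he]
        rw [Finsupp.sum_mapRange_index (fun t => by rw [map_zero, zero_smul])]
        simp only [hℓ]
        exact b.linearCombination_repr (π J k a')
      simp only [d, map_sub, h1, sub_self]
    have hd : (d : A) ∈ J ^ (k + 1) := coe_mem_pow_succ_of_π_eq_zero J k d hπd
    refine ⟨c'.mapRange (fun r => r • m) (zero_smul A m), ?_⟩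
    have h2 : a • m - (c'.mapRange (fun r => r • m) (zero_smul A m)).sum
        (fun t m' => ((e t : ↥(J ^ k)) : A) • m') = (d : A) • m := by
      rw [Finsupp.sum_mapRange_index (fun t => smul_zero _)]
      have h3 : (d : A) = a - ∑ t ∈ c'.support, c' t * ((e t : ↥(J ^ k)) : A) := by
        simp only [d, a', Finsupp.sum, Submodule.coe_sub, Submodule.coe_sum, Submodule.coe_smul, smul_eq_mul]
      rw [h3, sub_smul, Finset.sum_smul, Finsupp.sum]
      congr 1
      refine Finset.sum_congr rfl (fun t _ => ?_)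
      rw [mul_smul, smul_comm]
    rw [h2]
    exact Submodule.smul_mem_smul hd Submodule.mem_top
  · obtain ⟨y₁, hy₁⟩ := h₁
    obtain ⟨y₂, hy₂⟩ := h₂
    refine ⟨y₁ + y₂, ?_⟩
    rw [Finsupp.sum_add_index' (fun t => smul_zero _) (fun t m₁ m₂ => smul_add _ _ _)]
    have : x₁ + x₂ - (y₁.sum (fun t m => ((e t : ↥(J ^ k)) : A) • m) +
        y₂.sum (fun t m => ((e t : ↥(J ^ k)) : A) • m)) =
        (x₁ - y₁.sum (fun t m => ((e t : ↥(J ^ k)) : A) • m)) +
        (x₂ - y₂.sum (fun t m => ((e t : ↥(J ^ k)) : A) • m)) := by abel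
    rw [this]
    exact add_mem hy₁ hy₂

end Gr

section Main

variable {A : Type u} [CommRing A] (J : Ideal A) {R : Type u} [CommRing R] [Algebra A R]
  {M : Type u} [AddCommGroup M] [Module R M] [Module A M] [IsScalarTower A R M]

theorem mem_map_smul_top_iff (K : Ideal A) (x : M) :
    x ∈ (K.map (algebraMap A R)) • (⊤ : Submodule R M) ↔ x ∈ K • (⊤ : Submodule A M) := by
  constructor
  · intro hx
    refine Submodule.smul_induction_on hx (fun r hr m _ => ?_) (fun x y hx hy => add_mem hx hy)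
    have hr' : r ∈ Ideal.span ((algebraMap A R) '' (K : Set A)) := hr
    refine Submodule.span_induction (p := fun r _ => r • m ∈ K • (⊤ : Submodule A M)) ?_ ?_ ?_ ?_ hr'
    · rintro _ ⟨a, ha, rfl⟩
      rw [algebraMap_smul]
      exact Submodule.smul_mem_smul ha Submodule.mem_top
    · rw [zero_smul]; exact zero_mem _
    · intro r₁ r₂ _ _ h₁ h₂
      rw [add_smul]; exact add_mem h₁ h₂
    · intro s r₁ _ h₁
      rw [smul_eq_mul, mul_smul]
      -- `s • (K • ⊤) ⊆ K • ⊤`
      refine Submodule.smul_induction_on h₁ (fun a ha n _ => ?_) (fun x y hx hy => ?_)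
      · rw [smul_comm]
        exact Submodule.smul_mem_smul ha Submodule.mem_top
      · rw [smul_add]; exact add_mem hx hy
  · intro hx
    refine Submodule.smul_induction_on hx (fun a ha m _ => ?_) (fun x y hx hy => add_mem hx hy)
    rw [← algebraMap_smul R a m]
    exact Submodule.smul_mem_smul (Ideal.mem_map_of_mem _ ha) Submodule.mem_top

/-- the `R`-action preserves `K • ⊤` -/
theorem smul_mem_smul_top (K : Ideal A) (r : R) (x : M) (hx : x ∈ K • (⊤ : Submodule A M)) :
    r • x ∈ K • (⊤ : Submodule A M) := by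
  refine Submodule.smul_induction_on hx (fun a ha n _ => ?_) (fun x y hx hy => ?_)
  · rw [smul_comm]
    exact Submodule.smul_mem_smul ha Submodule.mem_top
  · rw [smul_add]; exact add_mem hx hy

variable {ι : Type u} {N : ι → Type u} [∀ i, AddCommGroup (N i)] [∀ i, Module R (N i)]
  [∀ i, Module A (N i)] [∀ i, IsScalarTower A R (N i)]

theorem one_tmul_eq_zero_iff (P : Type u) [AddCommGroup P] [Module R P] [Module A P] [IsScalarTower A R P]
    (y : P) : ((1 : R ⧸ J.map (algebraMap A R)) ⊗ₜ[R] y = 0) ↔ y ∈ J • (⊤ : Submodule A P) := by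
  rw [← mem_map_smul_top_iff (R := R) J y, ← Submodule.Quotient.mk_eq_zero,
    ← TensorProduct.quotTensorEquivQuotSMul_mk_one_tmul, LinearEquiv.map_eq_zero_iff]

/-- separation modulo `J`, elementwise form -/
theorem sepMod_of_sepAlg (v : ∀ i, M →ₗ[R] N i)
    (h0 : SepAlg (A := R ⧸ J.map (algebraMap A R)) (M := (R ⧸ J.map (algebraMap A R)) ⊗[R] M)
      (N := fun i => (R ⧸ J.map (algebraMap A R)) ⊗[R] N i)
      (fun i => (v i).baseChange (R ⧸ J.map (algebraMap A R))))
    (f : R) (x : M) (hx : ∀ i, ∃ n : ℕ, f ^ n • v i x ∈ J • (⊤ : Submodule A (N i))) :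
    ∃ n : ℕ, f ^ n • x ∈ J • (⊤ : Submodule A M) := by
  have hkey : ∀ (P : Type u) [AddCommGroup P] [Module R P] (n : ℕ) (y : P),
      (Ideal.Quotient.mk (J.map (algebraMap A R)) f) ^ n • ((1 : R ⧸ J.map (algebraMap A R)) ⊗ₜ[R] y) =
        (1 : R ⧸ J.map (algebraMap A R)) ⊗ₜ[R] (f ^ n • y) := by
    intro P _ _ n y
    have h1 : f ^ n • (1 : R ⧸ J.map (algebraMap A R)) = Ideal.Quotient.mk _ (f ^ n) := by
      rw [Algebra.smul_def, mul_one]; rfl
    calc (Ideal.Quotient.mk (J.map (algebraMap A R)) f) ^ n • ((1 : R ⧸ J.map (algebraMap A R)) ⊗ₜ[R] y)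
        = ((Ideal.Quotient.mk (J.map (algebraMap A R)) f) ^ n • (1 : R ⧸ J.map (algebraMap A R))) ⊗ₜ[R] y :=
          TensorProduct.smul_tmul' _ _ _
      _ = (f ^ n • (1 : R ⧸ J.map (algebraMap A R))) ⊗ₜ[R] y := by rw [h1, smul_eq_mul, mul_one, map_pow]
      _ = (1 : R ⧸ J.map (algebraMap A R)) ⊗ₜ[R] (f ^ n • y) := TensorProduct.smul_tmul _ _ _
  obtain ⟨n, hn⟩ := h0 (Ideal.Quotient.mk _ f) ((1 : R ⧸ J.map (algebraMap A R)) ⊗ₜ[R] x) (fun i => by
    obtain ⟨n, hn⟩ := hx i
    refine ⟨n, ?_⟩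
    rw [LinearMap.baseChange_tmul, hkey]
    exact (one_tmul_eq_zero_iff J (N i) _).2 hn)
  refine ⟨n, ?_⟩
  rw [hkey] at hn
  exact (one_tmul_eq_zero_iff J M _).1 hn

theorem π_surjective (k : ℕ) : Function.Surjective (π J k) := by
  intro g
  induction g using TensorProduct.induction_on with
  | zero => exact ⟨0, map_zero _⟩
  | tmul q a =>
    obtain ⟨r, rfl⟩ := Ideal.Quotient.mk_surjective q
    refine ⟨r • a, ?_⟩
    rw [← mk_smul_π, π_apply, TensorProduct.smul_tmul', smul_eq_mul, mul_one]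
  | add x y hx hy =>
    obtain ⟨a, rfl⟩ := hx
    obtain ⟨a', rfl⟩ := hy
    exact ⟨a + a', map_add _ _ _⟩

theorem map_mem_smul_top (K : Ideal A) {P : Type u} [AddCommGroup P] [Module R P] [Module A P]
    [IsScalarTower A R P] (w : M →ₗ[R] P) (x : M) (hx : x ∈ K • (⊤ : Submodule A M)) :
    w x ∈ K • (⊤ : Submodule A P) := by
  refine Submodule.smul_induction_on hx (fun a ha m _ => ?_) (fun x y hx hy => ?_)
  · rw [LinearMap.map_smul_of_tower]
    exact Submodule.smul_mem_smul ha Submodule.mem_top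
  · rw [map_add]; exact add_mem hx hy

set_option maxHeartbeats 1000000 in
/-- **Main algebraic theorem.** -/
theorem sepAlg_of_sepMod (hJ : IsNilpotent J)
    (hfree : ∀ k : ℕ, Module.Free (A ⧸ J) ((A ⧸ J) ⊗[A] ↥(J ^ k)))
    (v : ∀ i, M →ₗ[R] N i) [∀ i, Module.Flat A (N i)]
    (h0 : ∀ (f : R) (x : M), (∀ i, ∃ n : ℕ, f ^ n • v i x ∈ J • (⊤ : Submodule A (N i))) →
      ∃ n : ℕ, f ^ n • x ∈ J • (⊤ : Submodule A M)) :
    SepAlg v := by
  classical
  have claim : ∀ k : ℕ, ∀ (f : R) (x : M), (∀ i, ∃ n : ℕ, f ^ n • v i x = 0) →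
      ∃ n : ℕ, f ^ n • x ∈ (J ^ k) • (⊤ : Submodule A M) := by
    intro k
    induction k with
    | zero =>
      intro f x _
      refine ⟨0, ?_⟩
      rw [pow_zero J, Ideal.one_eq_top, Submodule.top_smul]
      trivial
    | succ k ih =>
      intro f x hx
      obtain ⟨n₀, hn₀⟩ := ih f x hx
      set x' := f ^ n₀ • x with hx'def
      have hx' : ∀ i, ∃ n : ℕ, f ^ n • v i x' = 0 := by
        intro i
        obtain ⟨n, hn⟩ := hx i
        refine ⟨n, ?_⟩
        rw [hx'def, map_smul, smul_comm, hn, smul_zero]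
      haveI := hfree k
      let b := Module.Free.chooseBasis (A ⧸ J) ((A ⧸ J) ⊗[A] ↥(J ^ k))
      choose e he using fun t => π_surjective J k (b t)
      obtain ⟨y, hy⟩ := exists_finsupp_sub_mem J k b e he x' hn₀
      set S := y.sum (fun t m => ((e t : ↥(J ^ k)) : A) • m) with hS
      have h1 : ∀ t, ∃ n : ℕ, f ^ n • y t ∈ J • (⊤ : Submodule A M) := by
        intro t
        refine h0 f (y t) (fun i => ?_)
        obtain ⟨n, hn⟩ := hx' i
        refine ⟨n, ?_⟩
        have hz : (y.mapRange (fun m => f ^ n • v i m) (by rw [map_zero, smul_zero])).sum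
            (fun t n' => ((e t : ↥(J ^ k)) : A) • n') ∈ (J ^ (k + 1)) • (⊤ : Submodule A (N i)) := by
          rw [Finsupp.sum_mapRange_index (fun t => smul_zero _)]
          have h2 : y.sum (fun t m => ((e t : ↥(J ^ k)) : A) • f ^ n • v i m) = f ^ n • v i S := by
            rw [hS, map_finsuppSum, Finsupp.smul_sum]
            refine Finsupp.sum_congr (fun t _ => ?_)
            rw [LinearMap.map_smul_of_tower, smul_comm]
          rw [h2]
          have h3 : f ^ n • v i S = -(f ^ n • v i (x' - S)) := by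
            rw [map_sub, smul_sub, hn, zero_sub, neg_neg]
          rw [h3]
          exact neg_mem (smul_mem_smul_top _ _ _ (map_mem_smul_top _ (v i) _ hy))
        have := mem_smul_top_of_sum_mem J k b e he _ hz t
        rwa [Finsupp.mapRange_apply] at this
      choose nt hnt using h1
      let n := y.support.sup nt
      have h2 : ∀ t ∈ y.support, f ^ n • y t ∈ J • (⊤ : Submodule A M) := by
        intro t ht
        have hle : nt t ≤ n := Finset.le_sup ht
        obtain ⟨d, hd⟩ := Nat.exists_eq_add_of_le hle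
        rw [hd, add_comm, pow_add, mul_smul]
        exact smul_mem_smul_top _ _ _ (hnt t)
      refine ⟨n + n₀, ?_⟩
      have h3 : f ^ (n + n₀) • x = f ^ n • (x' - S) + f ^ n • S := by
        rw [← smul_add, sub_add_cancel, hx'def, pow_add, mul_smul]
      rw [h3]
      refine add_mem (smul_mem_smul_top _ _ _ hy) ?_
      rw [hS, Finsupp.smul_sum]
      refine Submodule.sum_mem _ (fun t ht => ?_)
      show f ^ n • ((e t : ↥(J ^ k)) : A) • y t ∈ J ^ (k + 1) • (⊤ : Submodule A M)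
      rw [smul_comm, pow_succ, Submodule.mul_smul]
      exact Submodule.smul_mem_smul (e t).2 (h2 t ht)
  intro f x hx
  obtain ⟨K, hK⟩ := hJ
  obtain ⟨n, hn⟩ := claim K f x hx
  refine ⟨n, ?_⟩
  rw [hK, Ideal.zero_eq_bot, Submodule.bot_smul] at hn
  exact (Submodule.mem_bot A).1 hn

end Main

section Pushout

open CategoryTheory Groth.Agent.Lib.Helper25.SepBC

variable {A R D : Type u} [CommRing A] [CommRing R] [CommRing D] (J : Ideal A)
  {M : Type u} [AddCommGroup M] [Module R M]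
  {ι : Type u} {N : ι → Type u} [∀ i, AddCommGroup (N i)] [∀ i, Module R (N i)]

/-- **Separation modulo a nilpotent ideal with free graded pieces**, for an abstract pushout square of rings. -/
theorem sepAlg_of_isPushout_mod_nilpotent (hJ : IsNilpotent J)
    (hfree : ∀ k : ℕ, Module.Free (A ⧸ J) ((A ⧸ J) ⊗[A] ↥(J ^ k)))
    (φR : A →+* R) (ψ : R →+* D) (χ : (A ⧸ J) →+* D)
    (hpo : IsPushout (CommRingCat.ofHom φR) (CommRingCat.ofHom (Ideal.Quotient.mk J)) (CommRingCat.ofHom ψ)
      (CommRingCat.ofHom χ)) (v : ∀ i, M →ₗ[R] N i)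
    (hflat : ∀ i, letI := Module.compHom (N i) φR; Module.Flat A (N i))
    (h0 : letI := ψ.toAlgebra
      SepAlg (A := D) (M := D ⊗[R] M) (N := fun i => D ⊗[R] N i) (fun i => (v i).baseChange D)) :
    SepAlg v := by
  letI := φR.toAlgebra
  letI := ψ.toAlgebra
  letI := χ.toAlgebra
  letI : Algebra A D := (ψ.comp φR).toAlgebra
  haveI : IsScalarTower A R D := IsScalarTower.of_algebraMap_eq (fun _ => rfl)
  have hw : ψ.comp φR = χ.comp (Ideal.Quotient.mk J) := congrArg CommRingCat.Hom.hom hpo.w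
  haveI : IsScalarTower A (A ⧸ J) D := IsScalarTower.of_algebraMap_eq (fun x => by
    exact congrArg (fun f : A →+* D => f x) hw)
  haveI hD : Algebra.IsPushout A R (A ⧸ J) D := CommRingCat.isPushout_iff_isPushout.1 hpo
  let e₁ : R ⊗[A] (A ⧸ J) ≃ₐ[R] D := Algebra.IsPushout.equiv A R (A ⧸ J) D
  let e₂ : (R ⧸ J.map (algebraMap A R)) ≃ₐ[R] R ⊗[A] (A ⧸ J) :=
    Algebra.TensorProduct.quotIdealMapEquivTensorQuot R J
  have h0' := sepAlg_baseChange_of_algEquiv (e₂.trans e₁).symm v h0
  letI : Module A M := Module.compHom M φR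
  haveI : IsScalarTower A R M := IsScalarTower.of_compHom A R M
  letI : ∀ i, Module A (N i) := fun i => Module.compHom (N i) φR
  haveI : ∀ i, IsScalarTower A R (N i) := fun i => IsScalarTower.of_compHom A R (N i)
  haveI : ∀ i, Module.Flat A (N i) := hflat
  exact sepAlg_of_sepMod J hJ hfree v (sepMod_of_sepAlg J v h0')

end Pushout

end Groth.Agent.Lib.Helper25.SepNilp
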