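import Mathlib
import Groth.Agent.Lib.Helper1.FlatPullback
import Groth.Agent.Lib.Helper28.ModExact
import Groth.Agent.Lib.Helper25.StalkDescent

/-!
# helper25 — SepFamily: separating families of homomorphisms of modules (`F → ∏ G_i` injective on sections) and their
behaviour under flat pullback.
-/

set_option backward.isDefEq.respectTransparency.types false
set_option autoImplicit false
set_option linter.unusedVariables false
set_option linter.style.haveILetI false
universe u
open AlgebraicGeometry CategoryTheory Limits Opposite

namespace Groth.Agent.Lib.Helper25.SepFamily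

variable {X : Scheme.{u}} {F : X.Modules} {ι : Type u} {G : ι → X.Modules}

/-- a family of homomorphisms is separating: a section killed by all of them is zero -/
def IsSep (u : ∀ i, F ⟶ G i) : Prop :=
  ∀ (V : X.Opens) (t : Γ(F, V)), (∀ i, (u i).app V t = 0) → t = 0

/-- sections of a product of modules are determined by their components -/
theorem pi_section_ext (V : X.Opens) (s s' : Γ((∏ᶜ G : X.Modules), V))
    (h : ∀ i, (Pi.π G i).app V s = (Pi.π G i).app V s') : s = s' := by
  let E := SheafOfModules.evaluation.{u} X.ringCatSheaf (op V)
  have hlim : IsLimit (E.mapCone (limit.cone (Discrete.functor G))) :=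
    isLimitOfPreserves E (limit.isLimit _)
  refine Concrete.isLimit_ext _ hlim s s' ?_
  rintro ⟨i⟩
  exact h i

theorem isSep_iff_mono (u : ∀ i, F ⟶ G i) : IsSep u ↔ Mono (Pi.lift u) := by
  constructor
  · intro h
    refine Preadditive.mono_of_cancel_zero _ (fun {Z} k hk => ?_)
    ext U x
    change k.app U x = 0
    refine h U _ (fun i => ?_)
    have : k ≫ u i = 0 := by
      rw [← Pi.lift_π u i, ← Category.assoc, hk, zero_comp]
    have h2 := congrArg (fun φ => φ.app U x) this
    exact h2
  · intro h V t ht
    apply Groth.Agent.Lib.Helper28.QCohLoc.injective_of_mono (Pi.lift u) h V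
    rw [map_zero]
    refine pi_section_ext V _ _ (fun i => ?_)
    rw [map_zero]
    have : (Pi.lift u ≫ Pi.π G i).app V t = (u i).app V t := by rw [Pi.lift_π]
    rw [← ht i, ← this]
    rfl

open Groth.Agent.Lib.Helper1.FlatPullback in
/-- the pullback of a finite separating family along a flat morphism is separating -/
theorem isSep_pullback_of_finite [Finite ι] {X' : Scheme.{u}} (g : X' ⟶ X) [Flat g] (u : ∀ i, F ⟶ G i)
    (h : IsSep u) : IsSep (fun i => (Scheme.Modules.pullback g).map (u i)) := by
  rw [isSep_iff_mono] at h ⊢
  haveI := h
  haveI : PreservesLimit (Discrete.functor G) (Scheme.Modules.pullback g) := by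
    haveI : PreservesFiniteProducts (Scheme.Modules.pullback g) := inferInstance
    haveI : PreservesLimitsOfShape (Discrete ι) (Scheme.Modules.pullback g) := inferInstance
    infer_instance
  rw [← map_lift_piComparison (Scheme.Modules.pullback g) G F u]
  infer_instance

/-- a family is separating if its pullback along a faithfully flat morphism is -/
theorem isSep_of_pullback {X' : Scheme.{u}} (g : X' ⟶ X) [Flat g] [Surjective g] (u : ∀ i, F ⟶ G i)
    (h : IsSep (fun i => (Scheme.Modules.pullback g).map (u i))) : IsSep u := by
  rw [isSep_iff_mono] at h ⊢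
  haveI := h
  refine Preadditive.mono_of_kernel_zero ?_
  have h0 : (Scheme.Modules.pullback g).map (kernel.ι (Pi.lift u)) ≫
      Pi.lift (fun i => (Scheme.Modules.pullback g).map (u i)) = 0 := by
    refine Pi.hom_ext _ _ (fun i => ?_)
    rw [Category.assoc, Pi.lift_π, zero_comp, ← Functor.map_comp, ← Pi.lift_π u i, ← Category.assoc,
      kernel.condition, zero_comp, Functor.map_zero]
  have h1 : (Scheme.Modules.pullback g).map (kernel.ι (Pi.lift u)) = 0 := by
    rw [← cancel_mono (Pi.lift (fun i => (Scheme.Modules.pullback g).map (u i))), h0, zero_comp]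
  have hf := Groth.Agent.Lib.Helper25.StalkDescent.pullback_jointlyFaithful (fun _ : Unit => X')
    (fun _ => g) (fun y => ⟨(), (‹Surjective g›).surj y⟩)
  exact hf.map_injective (fun _ => by rw [h1, Functor.map_zero])

end Groth.Agent.Lib.Helper25.SepFamily
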