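import Mathlib
import Groth.Agent.Lib.Helper25.SepFamily
import Groth.Agent.Lib.Helper25.SecBCNat
import Groth.Agent.Lib.Helper25.SepAlg
import Groth.Agent.Lib.Helper28.QCohConv
import Groth.Agent.Lib.Helper28.QCohGen

/-!
# helper25 — SepDict: separating families of homomorphisms of quasi-coherent modules, in terms of sections over
affine opens.
-/

set_option backward.isDefEq.respectTransparency.types false
set_option autoImplicit false
set_option linter.unusedVariables false
set_option linter.style.haveILetI false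
universe u
open AlgebraicGeometry CategoryTheory Limits Opposite TensorProduct

namespace Groth.Agent.Lib.Helper25.SepDict

open Groth.Agent.Lib.Helper25.SepFamily Groth.Agent.Lib.Helper28.QCohLoc
  Groth.Agent.Lib.Helper7.FPKer Groth.Agent.Lib.Helper25.SecBCNat Groth.Agent.Lib.Helper25.SepAlg

variable {X : Scheme.{u}} {F : X.Modules} {ι : Type u} {G : ι → X.Modules}

theorem res_eq_zero_of_pow_smul {H : X.Modules} {U : X.Opens} (f : Γ(X, U)) (y : Γ(H, U)) (n : ℕ)
    (h : f ^ n • y = 0) : res H (X.basicOpen_le f) y = 0 := by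
  have h1 : resO (X.basicOpen_le f) (f ^ n) • res H (X.basicOpen_le f) y = 0 := by
    rw [← res_smul, h, res_zero]
  have hu : IsUnit (resO (X.basicOpen_le f) (f ^ n)) := by
    rw [resO_pow]
    exact (RingedSpace.isUnit_res_basicOpen _ f).pow n
  obtain ⟨v, hv⟩ := hu
  have h2 := congrArg (fun z => (↑v⁻¹ : Γ(X, X.basicOpen f)) • z) h1
  simp only [smul_zero] at h2
  rwa [← hv, smul_smul, Units.inv_mul, one_smul] at h2

/-- a separating family of homomorphisms of quasi-coherent modules is algebraically separating on affine opens -/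
theorem sepAlg_of_isSep [F.IsQuasicoherent] (u : ∀ i, F ⟶ G i) (h : IsSep u) {U : X.Opens}
    (hU : IsAffineOpen U) : SepAlg (fun i => appLinear (u i) U) := by
  intro f x hx
  refine (isLocOn_of_isQuasicoherent F hU).inj f x ?_
  refine h _ _ (fun i => ?_)
  obtain ⟨n, hn⟩ := hx i
  have := app_res (u i) (X.basicOpen_le f) x
  refine this.trans ?_
  exact res_eq_zero_of_pow_smul f _ n hn

/-- To check that the pullback of a family along `g : X' ⟶ X` is separating, it suffices to check the algebraic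
condition on sections over a basis of affine opens `U'` of `X'` mapping into affine opens of `X`. -/
theorem isSep_pullback_of_basis [F.IsQuasicoherent] [∀ i, (G i).IsQuasicoherent] {X' : Scheme.{u}} (g : X' ⟶ X)
    (u : ∀ i, F ⟶ G i) (P : X'.Opens → Prop)
    (hbasis : ∀ (V' : X'.Opens) (x : X'), x ∈ V' → ∃ U' : X'.Opens, P U' ∧ x ∈ U' ∧ U' ≤ V')
    (hP : ∀ U' : X'.Opens, P U' → ∃ (hU' : IsAffineOpen U') (U : X.Opens) (hU : IsAffineOpen U)
      (e : U' ≤ g ⁻¹ᵁ U),
      letI := (g.appLE U U' e).hom.toAlgebra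
      ∀ τ : Γ(X', U') ⊗[Γ(X, U)] Γ(F, U),
        (∀ i, (appLinear (u i) U).baseChange Γ(X', U') τ = 0) → τ = 0) :
    IsSep (fun i => (Scheme.Modules.pullback g).map (u i)) := by
  intro V' t ht
  choose W hWP hxW hWV using hbasis V'
  refine eq_of_locally_eq _ (fun x : V' => W x.1 x.2) V' (fun x => hWV x.1 x.2) ?_ _ _ (fun x => ?_)
  · intro q hq
    exact TopologicalSpace.Opens.mem_iSup.mpr ⟨⟨q, hq⟩, hxW q hq⟩
  · rw [res_zero]
    obtain ⟨hU', U, hU, e, halg⟩ := hP _ (hWP x.1 x.2)
    letI := (g.appLE U (W x.1 x.2) e).hom.toAlgebra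
    apply (secEquiv g F hU' hU e).injective
    rw [map_zero]
    refine halg _ (fun i => ?_)
    rw [← secEquiv_naturality g (u i) hU' hU e, app_res, ht i, res_zero, map_zero]

theorem eq_zero_of_unit_pow_smul {H : X.Modules} {U : X.Opens} (f : Γ(X, U)) (n : ℕ)
    (t : Γ(H, X.basicOpen f)) (h : (resO (X.basicOpen_le f) f) ^ n • t = 0) : t = 0 := by
  have hu : IsUnit ((resO (X.basicOpen_le f) f) ^ n) := (RingedSpace.isUnit_res_basicOpen _ f).pow n
  obtain ⟨v, hv⟩ := hu
  have h2 := congrArg (fun z => (↑v⁻¹ : Γ(X, X.basicOpen f)) • z) h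
  simp only [smul_zero] at h2
  rwa [← hv, smul_smul, Units.inv_mul, one_smul] at h2

/-- converse of `sepAlg_of_isSep`: a family which is algebraically separating on the members of an affine open cover
is separating -/
theorem isSep_of_sepAlg_cover [F.IsQuasicoherent] [∀ i, (G i).IsQuasicoherent] (u : ∀ i, F ⟶ G i)
    (P : X.Opens → Prop) (hcov : ∀ x : X, ∃ U, P U ∧ x ∈ U)
    (hP : ∀ U, P U → ∃ hU : IsAffineOpen U, SepAlg (fun i => appLinear (u i) U)) : IsSep u := by
  intro V t ht
  have hloc : ∀ x : V, ∃ (W : X.Opens) (hWV : W ≤ V), x.1 ∈ W ∧ res F hWV t = 0 := by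
    intro x
    obtain ⟨U, hPU, hxU⟩ := hcov x.1
    obtain ⟨hU, hsep⟩ := hP U hPU
    obtain ⟨f, hfV, hxf⟩ := hU.exists_basicOpen_le (V := V ⊓ U) ⟨x.1, ⟨x.2, hxU⟩⟩ hxU
    have hfV' : X.basicOpen f ≤ V := hfV.trans inf_le_left
    refine ⟨X.basicOpen f, hfV', hxf, ?_⟩
    set t' := res F hfV' t with ht'
    obtain ⟨n, y, hy⟩ := (isLocOn_of_isQuasicoherent F hU).surj f t'
    have h1 : ∀ i, ∃ m : ℕ, f ^ m • appLinear (u i) U y = 0 := by
      intro i
      refine (isLocOn_of_isQuasicoherent (G i) hU).inj f ((u i).app U y) ?_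
      rw [← app_res, ← hy, Scheme.Modules.Hom.app_smul, ht', app_res, ht i, res_zero, smul_zero]
    obtain ⟨m, hm⟩ := hsep f y h1
    have h2 := res_eq_zero_of_pow_smul f y m hm
    rw [← hy] at h2
    exact eq_zero_of_unit_pow_smul f n t' h2
  choose W hWV hxW hW0 using hloc
  refine eq_of_locally_eq _ W V hWV ?_ _ _ (fun x => ?_)
  · intro q hq
    exact TopologicalSpace.Opens.mem_iSup.mpr ⟨⟨q, hq⟩, hxW ⟨q, hq⟩⟩
  · rw [res_zero]
    exact hW0 x

/-- transport of the algebraic separating condition along linear equivalences -/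
theorem sepAlg_of_equiv {A : Type*} [CommRing A] {M M' : Type*} [AddCommGroup M] [Module A M]
    [AddCommGroup M'] [Module A M'] {κ : Type*} {N N' : κ → Type*} [∀ i, AddCommGroup (N i)]
    [∀ i, Module A (N i)] [∀ i, AddCommGroup (N' i)] [∀ i, Module A (N' i)]
    (v : ∀ i, M →ₗ[A] N i) (v' : ∀ i, M' →ₗ[A] N' i) (eM : M ≃ₗ[A] M') (eN : ∀ i, N i ≃ₗ[A] N' i)
    (hcomm : ∀ i x, eN i (v i x) = v' i (eM x)) (h : SepAlg v) : SepAlg v' := by
  intro f x' hx'
  obtain ⟨n, hn⟩ := h f (eM.symm x') (fun i => by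
    obtain ⟨n, hn⟩ := hx' i
    refine ⟨n, (eN i).injective ?_⟩
    rw [map_smul, hcomm, LinearEquiv.apply_symm_apply, hn, map_zero])
  refine ⟨n, ?_⟩
  have := congrArg eM hn
  rwa [map_smul, LinearEquiv.apply_symm_apply, map_zero] at this

set_option maxRecDepth 8000 in
set_option synthInstance.maxHeartbeats 200000 in
set_option maxHeartbeats 1000000 in
/-- if the pullback of a family along `g` is separating, the base-changed linear maps on sections over affine opens
are algebraically separating -/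
theorem sepAlg_baseChange_of_isSep_pullback [F.IsQuasicoherent] [∀ i, (G i).IsQuasicoherent]
    {X' : Scheme.{u}} (g : X' ⟶ X) (u : ∀ i, F ⟶ G i)
    (h : IsSep (fun i => (Scheme.Modules.pullback g).map (u i)))
    {U' : X'.Opens} (hU' : IsAffineOpen U') {U : X.Opens} (hU : IsAffineOpen U) (e : U' ≤ g ⁻¹ᵁ U) :
    letI := (g.appLE U U' e).hom.toAlgebra
    SepAlg (fun i => (appLinear (u i) U).baseChange Γ(X', U')) := by
  letI := (g.appLE U U' e).hom.toAlgebra
  refine sepAlg_of_equiv (fun i => appLinear ((Scheme.Modules.pullback g).map (u i)) U') _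
    (secEquiv g F hU' hU e) (fun i => secEquiv g (G i) hU' hU e) (fun i x => ?_)
    (sepAlg_of_isSep _ h hU')
  exact secEquiv_naturality g (u i) hU' hU e x

set_option maxRecDepth 8000 in
set_option synthInstance.maxHeartbeats 200000 in
set_option maxHeartbeats 1000000 in
/-- to check that the pullback of a family along `g` is separating, it suffices to check the algebraic separating
condition for the base-changed maps on an affine open cover of the source -/
theorem isSep_pullback_of_cover [F.IsQuasicoherent] [∀ i, (G i).IsQuasicoherent] {X' : Scheme.{u}} (g : X' ⟶ X)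
    (u : ∀ i, F ⟶ G i) (P : X'.Opens → Prop) (hcov : ∀ x : X', ∃ U', P U' ∧ x ∈ U')
    (hP : ∀ U' : X'.Opens, P U' → ∃ (hU' : IsAffineOpen U') (U : X.Opens) (hU : IsAffineOpen U)
      (e : U' ≤ g ⁻¹ᵁ U),
      letI := (g.appLE U U' e).hom.toAlgebra
      SepAlg (fun i => (appLinear (u i) U).baseChange Γ(X', U'))) :
    IsSep (fun i => (Scheme.Modules.pullback g).map (u i)) := by
  refine isSep_of_sepAlg_cover _ P hcov (fun U' hPU' => ?_)
  obtain ⟨hU', U, hU, e, hsep⟩ := hP U' hPU'
  refine ⟨hU', ?_⟩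
  letI := (g.appLE U U' e).hom.toAlgebra
  refine sepAlg_of_equiv _ (fun i => appLinear ((Scheme.Modules.pullback g).map (u i)) U')
    (secEquiv g F hU' hU e).symm (fun i => (secEquiv g (G i) hU' hU e).symm) (fun i x => ?_) hsep
  rw [LinearEquiv.symm_apply_eq]
  have := secEquiv_naturality g (u i) hU' hU e ((secEquiv g F hU' hU e).symm x)
  rw [LinearEquiv.apply_symm_apply] at this
  exact this.symm

end Groth.Agent.Lib.Helper25.SepDict
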