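import Mathlib
import Groth.Agent.Lib.Helper25.SepDict
import Groth.Agent.Lib.Helper25.SepBC
import Groth.Agent.Lib.Helper25.FibProdAff

/-!
# helper25 — SepFG: a family separating after base change to every finitely generated subalgebra is separating after
base change to the whole algebra (EGA IV 11.9.?), for targets flat over the base.
-/

set_option backward.isDefEq.respectTransparency.types false
set_option autoImplicit false
set_option linter.unusedVariables false
set_option linter.style.haveILetI false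
universe u
open AlgebraicGeometry CategoryTheory Limits Opposite TensorProduct

namespace Groth.Agent.Lib.Helper25.SepFG

open Groth.Agent.Lib.Helper25.SepFamily Groth.Agent.Lib.Helper25.SepDict Groth.Agent.Lib.Helper25.SepBC
  Groth.Agent.Lib.Helper25.FibProdAff Groth.Agent.Lib.Helper25.SepAlg Groth.Agent.Lib.Helper7.FPKer

theorem appLE_top_top {X Y : Scheme.{u}} (f : X ⟶ Y) (h : (⊤ : X.Opens) ≤ f ⁻¹ᵁ ⊤) :
    f.appLE ⊤ ⊤ h = f.appTop := f.appLE_eq_app (U := ⊤)

set_option maxHeartbeats 1000000 in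
theorem isSep_baseChange_of_forall_fg {X : Scheme.{u}} (A A' : CommRingCat.{u}) (φ : A ⟶ A')
    (p : X ⟶ Spec A) (F : X.Modules) [F.IsQuasicoherent] {ι : Type u} (G : ι → X.Modules)
    [∀ i, (G i).IsQuasicoherent] (hG : ∀ i, FlatMod.IsFlatOver p (G i)) (u : ∀ i, F ⟶ G i)
    (h : IsSep u)
    (hfg : ∀ (B : CommRingCat.{u}) (a : A ⟶ B) (b : B ⟶ A'), a ≫ b = φ → Function.Injective b.hom →
      a.hom.FiniteType →
      IsSep (fun i => (Scheme.Modules.pullback (pullback.fst p (Spec.map a))).map (u i))) :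
    IsSep (fun i => (Scheme.Modules.pullback (pullback.fst p (Spec.map φ))).map (u i)) := by
  refine isSep_pullback_of_cover (pullback.fst p (Spec.map φ)) u
    (fun U' => ∃ UX : X.Opens, IsAffineOpen UX ∧
      U' = pullback.fst p (Spec.map φ) ⁻¹ᵁ UX ⊓ pullback.snd p (Spec.map φ) ⁻¹ᵁ ⊤) ?_ ?_
  · intro x
    obtain ⟨UX, hUX, hxUX, -⟩ :=
      exists_isAffineOpen_mem_and_subset (TopologicalSpace.Opens.mem_top (pullback.fst p (Spec.map φ) x))
    exact ⟨_, ⟨UX, hUX, rfl⟩, ⟨hxUX, trivial⟩⟩
  · rintro U' ⟨UX, hUX, rfl⟩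
    have hle : UX ≤ p ⁻¹ᵁ ⊤ := fun _ _ => trivial
    obtain ⟨hUY, hpo⟩ := pullback_affine p (Spec.map φ) (US := ⊤) (isAffineOpen_top _) hUX
      (isAffineOpen_top _) hle (fun _ _ => trivial)
    refine ⟨hUY, UX, hUX, inf_le_left, ?_⟩
    refine sepAlg_baseChange_of_isPushout_of_forall_fg _ _ _ _ hpo _
      (fun i => flat_sections_of_isFlatOver p (G i) (hG i) hUX (isAffineOpen_top _) hle) ?_
    intro C₀ _ _ b₀ hb₀ hft
    letI : Algebra Γ(Spec A, ⊤) Γ(Spec A', ⊤) :=
      ((Spec.map φ).appLE ⊤ ⊤ (fun _ _ => trivial)).hom.toAlgebra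
    let a : A ⟶ CommRingCat.of C₀ :=
      (Scheme.ΓSpecIso A).inv ≫ CommRingCat.ofHom (algebraMap Γ(Spec A, ⊤) C₀)
    let b : CommRingCat.of C₀ ⟶ A' := CommRingCat.ofHom b₀.toRingHom ≫ (Scheme.ΓSpecIso A').hom
    have hab : a ≫ b = φ := by
      have key : (Scheme.ΓSpecIso A).inv ≫ (Spec.map φ).appTop ≫ (Scheme.ΓSpecIso A').hom = φ := by
        rw [Scheme.ΓSpecIso_naturality]
        exact Iso.inv_hom_id_assoc _ _
      ext x
      have hx := congrArg (fun m : A ⟶ A' => m.hom x) key
      refine Eq.trans ?_ hx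
      show (Scheme.ΓSpecIso A').hom.hom (b₀ (algebraMap Γ(Spec A, ⊤) C₀ ((Scheme.ΓSpecIso A).inv.hom x))) = _
      rw [b₀.commutes]
      rfl
    have hbinj : Function.Injective b.hom := by
      have : Function.Injective (Scheme.ΓSpecIso A').hom.hom :=
        (ConcreteCategory.bijective_of_isIso (Scheme.ΓSpecIso A').hom).1
      exact this.comp hb₀
    have haft : a.hom.FiniteType := by
      have h1 : (algebraMap Γ(Spec A, ⊤) C₀).FiniteType := RingHom.finiteType_algebraMap.2 hft
      have h2 : ((Scheme.ΓSpecIso A).inv.hom).FiniteType :=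
        RingHom.FiniteType.of_surjective _ (ConcreteCategory.bijective_of_isIso (Scheme.ΓSpecIso A).inv).2
      exact h1.comp h2
    have hsepB := hfg (CommRingCat.of C₀) a b hab hbinj haft
    obtain ⟨hUYB, hpoB⟩ := pullback_affine p (Spec.map a) (US := ⊤) (isAffineOpen_top _) hUX
      (isAffineOpen_top _) hle (fun _ _ => trivial)
    have hS := sepAlg_baseChange_of_isSep_pullback (pullback.fst p (Spec.map a)) u hsepB hUYB hUX inf_le_left
    refine ⟨_, inferInstance, _, ((Scheme.ΓSpecIso (CommRingCat.of C₀)).inv ≫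
      (pullback.snd p (Spec.map a)).appLE ⊤ _ inf_le_right).hom, ?_, hS⟩
    refine IsPushout.of_iso hpoB (Iso.refl _) (Iso.refl _) (Scheme.ΓSpecIso (CommRingCat.of C₀)) (Iso.refl _)
      ?_ ?_ ?_ ?_
    · simp only [Iso.refl_hom, Category.comp_id, Category.id_comp]
      rfl
    · rw [appLE_top_top, Scheme.ΓSpecIso_naturality]
      simp only [Iso.refl_hom, Category.id_comp]
      exact Iso.hom_inv_id_assoc _ _
    · simp only [Iso.refl_hom, Category.comp_id, Category.id_comp]
      rfl
    · simp only [Iso.refl_hom, Category.comp_id]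
      exact (Iso.hom_inv_id_assoc _ _).symm

end Groth.Agent.Lib.Helper25.SepFG
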