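import Mathlib
import Groth.Agent.Lib.Helper25.SepDict
import Groth.Agent.Lib.Helper25.SepNilp
import Groth.Agent.Lib.Helper25.SepFG
import Groth.Agent.Lib.Helper25.FibProdAff

/-!
# helper25 — SepNilpSch: a family of homomorphisms into modules flat over an affine base which is separating modulo a
nilpotent ideal with free graded pieces is separating (EGA IV 11.9.?, scheme form).
-/

set_option backward.isDefEq.respectTransparency.types false
set_option autoImplicit false
set_option linter.unusedVariables false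
set_option linter.style.haveILetI false
universe u
open AlgebraicGeometry CategoryTheory Limits Opposite TensorProduct

namespace Groth.Agent.Lib.Helper25.SepNilpSch

open Groth.Agent.Lib.Helper25.SepFamily Groth.Agent.Lib.Helper25.SepDict Groth.Agent.Lib.Helper25.SepNilp
  Groth.Agent.Lib.Helper25.FibProdAff Groth.Agent.Lib.Helper25.SepAlg Groth.Agent.Lib.Helper7.FPKer
  Groth.Agent.Lib.Helper25.SepFG

/-- flatness over a ring transported along a ring isomorphism of the base -/
theorem flat_compHom_of_ringEquiv {A K R : Type u} [CommRing A] [CommRing K] [CommRing R] (σ : A ≃+* K)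
    (φ : K →+* R) (P : Type u) [AddCommGroup P] [Module R P]
    (h : letI := Module.compHom P φ; Module.Flat K P) :
    letI := Module.compHom P (φ.comp σ.toRingHom); Module.Flat A P := by
  letI : Module K P := Module.compHom P φ
  letI : Module A P := Module.compHom P (φ.comp σ.toRingHom)
  letI : Algebra A K := σ.toRingHom.toAlgebra
  haveI : IsScalarTower A K P := IsScalarTower.of_algebraMap_smul (fun a x => rfl)
  haveI : Module.Flat K P := h
  haveI : Module.Flat A K :=
    Module.Flat.of_linearEquiv (LinearEquiv.ofBijective (Algebra.linearMap A K) σ.bijective).symm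
  exact Module.Flat.trans A K P

set_option maxHeartbeats 1000000 in
theorem isSep_of_isSep_mod_nilpotent {X : Scheme.{u}} (A : CommRingCat.{u}) (p : X ⟶ Spec A)
    (J : Ideal ↑A) (hJ : IsNilpotent J)
    (hfree : ∀ k : ℕ, Module.Free (↑A ⧸ J) ((↑A ⧸ J) ⊗[↑A] ↥(J ^ k)))
    (F : X.Modules) [F.IsQuasicoherent] {ι : Type u} (G : ι → X.Modules) [∀ i, (G i).IsQuasicoherent]
    (hG : ∀ i, FlatMod.IsFlatOver p (G i)) (u : ∀ i, F ⟶ G i)
    (h0 : IsSep (fun i => (Scheme.Modules.pullback
      (pullback.fst p (Spec.map (CommRingCat.ofHom (Ideal.Quotient.mk J))))).map (u i))) :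
    IsSep u := by
  refine isSep_of_sepAlg_cover u IsAffineOpen (fun x => ?_) (fun UX hUX => ⟨hUX, ?_⟩)
  · obtain ⟨U, hU, hxU, -⟩ := exists_isAffineOpen_mem_and_subset (TopologicalSpace.Opens.mem_top x)
    exact ⟨U, hU, hxU⟩
  · have hle : UX ≤ p ⁻¹ᵁ ⊤ := fun _ _ => trivial
    obtain ⟨hUY, hpo⟩ := pullback_affine p (Spec.map (CommRingCat.ofHom (Ideal.Quotient.mk J))) (US := ⊤)
      (isAffineOpen_top _) hUX (isAffineOpen_top _) hle (fun _ _ => trivial)
    have hS := sepAlg_baseChange_of_isSep_pullback
      (pullback.fst p (Spec.map (CommRingCat.ofHom (Ideal.Quotient.mk J)))) u h0 hUY hUX inf_le_left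
    have hpo' := IsPushout.of_iso hpo (Scheme.ΓSpecIso A) (Iso.refl _)
      (Scheme.ΓSpecIso (CommRingCat.of (↑A ⧸ J))) (Iso.refl _)
      (f' := (Scheme.ΓSpecIso A).inv ≫ p.appLE ⊤ UX hle)
      (g' := CommRingCat.ofHom (Ideal.Quotient.mk J))
      (inl' := (pullback.fst p (Spec.map (CommRingCat.ofHom (Ideal.Quotient.mk J)))).appLE UX _ inf_le_left)
      (inr' := (Scheme.ΓSpecIso (CommRingCat.of (↑A ⧸ J))).inv ≫
        (pullback.snd p (Spec.map (CommRingCat.ofHom (Ideal.Quotient.mk J)))).appLE ⊤ _ inf_le_right)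
      (by simp only [Iso.refl_hom, Category.comp_id]; exact (Iso.hom_inv_id_assoc _ _).symm)
      (by rw [appLE_top_top, Scheme.ΓSpecIso_naturality])
      (by simp only [Iso.refl_hom, Category.comp_id, Category.id_comp])
      (by simp only [Iso.refl_hom, Category.comp_id]; exact (Iso.hom_inv_id_assoc _ _).symm)
    refine sepAlg_of_isPushout_mod_nilpotent J hJ hfree _ _ _ hpo' _ (fun i => ?_) hS
    exact flat_compHom_of_ringEquiv (Scheme.ΓSpecIso A).symm.commRingCatIsoToRingEquiv
      (p.appLE ⊤ UX hle).hom _ (flat_sections_of_isFlatOver p (G i) (hG i) hUX (isAffineOpen_top _) hle)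

end Groth.Agent.Lib.Helper25.SepNilpSch
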