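import Mathlib
import Groth.Agent.Lib.Helper25.SchDom
import Groth.Agent.Lib.Helper25.SepNilp
import Groth.Agent.Lib.Helper25.SepNilpSch

/-!
# helper25 — SchDomNilp: a family of morphisms flat over an affine base which is schematically dominant modulo a
nilpotent ideal with free graded pieces is schematically dominant (SGA 3 IX/X, EGA IV 11.10.9-style)
-/

set_option backward.isDefEq.respectTransparency.types false
set_option autoImplicit false
set_option linter.unusedVariables false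
set_option linter.style.haveILetI false
universe u
open AlgebraicGeometry CategoryTheory Limits Opposite TopologicalSpace TensorProduct

namespace Groth.Agent.Lib.Helper25.SchDomNilp

open Groth.Agent.Lib.Helper7.Hartogs Groth.Agent.Lib.Helper25.SepAlg Groth.Agent.Lib.Helper25.SepBC
  Groth.Agent.Lib.Helper25.SchDom Groth.Agent.Lib.Helper25.FibProdAff Groth.Agent.Lib.Helper25.SepNilp
  Groth.Agent.Lib.Helper25.SepNilpSch Groth.Agent.Lib.Helper25.SepFG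

section Ring

variable {A : Type u} [CommRing A] {Λ : Type u} {B : Λ → Type u} [∀ l, CommRing (B l)]

theorem sepRing_of_sepAlg (φ : ∀ l, A →+* B l)
    (h : letI : ∀ l, Algebra A (B l) := fun l => (φ l).toAlgebra
      SepAlg (A := A) (M := A) (N := B) (fun l => Algebra.linearMap A (B l))) : SepRing φ := by
  letI : ∀ l, Algebra A (B l) := fun l => (φ l).toAlgebra
  intro a x hx
  obtain ⟨n, hn⟩ := h a x (fun l => by
    obtain ⟨n, hn⟩ := hx l
    refine ⟨n, ?_⟩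
    rw [Algebra.smul_def, Algebra.linearMap_apply, ← map_mul]
    exact hn)
  exact ⟨n, hn⟩

variable {A' : Type u} [CommRing A'] {D : Λ → Type u} [∀ l, CommRing (D l)]

/-- converse of `sepRing_of_isPushout` -/
theorem sepAlg_baseChange_of_sepRing_isPushout (ψ : A →+* A') (φ : ∀ l, A →+* B l)
    (in1 : ∀ l, B l →+* D l) (in2 : ∀ l, A' →+* D l)
    (hpo : ∀ l, IsPushout (CommRingCat.ofHom (φ l)) (CommRingCat.ofHom ψ) (CommRingCat.ofHom (in1 l))
      (CommRingCat.ofHom (in2 l))) (h : SepRing in2) :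
    letI := ψ.toAlgebra
    letI : ∀ l, Algebra A (B l) := fun l => (φ l).toAlgebra
    SepAlg (A := A') (M := A' ⊗[A] A) (N := fun l => A' ⊗[A] B l)
      (fun l => (Algebra.linearMap A (B l)).baseChange A') := by
  letI := ψ.toAlgebra
  letI : ∀ l, Algebra A (B l) := fun l => (φ l).toAlgebra
  intro a' τ hτ
  obtain ⟨x', rfl⟩ : ∃ x' : A', x' ⊗ₜ[A] (1 : A) = τ :=
    ⟨TensorProduct.rid A A' τ, by
      have := (TensorProduct.rid A A').symm_apply_apply τ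
      rwa [TensorProduct.rid_symm_apply] at this⟩
  have key : ∀ l, ∃ n : ℕ, in2 l (a' ^ n * x') = 0 := by
    intro l
    obtain ⟨n, hn⟩ := hτ l
    refine ⟨n, ?_⟩
    rw [LinearMap.baseChange_tmul, Algebra.linearMap_apply, map_one, TensorProduct.smul_tmul', smul_eq_mul] at hn
    letI := (in1 l).toAlgebra
    letI := (in2 l).toAlgebra
    letI : Algebra A (D l) := ((in2 l).comp ψ).toAlgebra
    obtain ⟨h1, h2, h3⟩ := algebra_isPushout_of_isPushout ψ (φ l) (in2 l) (in1 l) (hpo l).flip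
    have := congrArg (Algebra.IsPushout.equiv A A' (B l) (D l)) hn
    rw [Algebra.IsPushout.equiv_tmul, map_one, mul_one, map_zero] at this
    exact this
  obtain ⟨n, hn⟩ := h a' x' key
  refine ⟨n, ?_⟩
  rw [TensorProduct.smul_tmul', smul_eq_mul, hn, TensorProduct.zero_tmul]

end Ring

section Scheme

/-- affine pieces of the morphism `Z ×_S S' ⟶ X ×_S S'` induced by `f : Z ⟶ X`, and their pushout squares -/
theorem pullback_map_affine {S X S' Z : Scheme.{u}} (p : X ⟶ S) (q : S' ⟶ S) (f : Z ⟶ X)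
    (f' : pullback (f ≫ p) q ⟶ pullback p q)
    (hf'1 : f' ≫ pullback.fst p q = pullback.fst (f ≫ p) q ≫ f)
    (hf'2 : f' ≫ pullback.snd p q = pullback.snd (f ≫ p) q)
    {US : S.Opens} {W : X.Opens} {T : S'.Opens} {U : Z.Opens} (hUS : IsAffineOpen US) (hW : IsAffineOpen W)
    (hT : IsAffineOpen T) (hUa : IsAffineOpen U) (hWS : W ≤ p ⁻¹ᵁ US) (hTS : T ≤ q ⁻¹ᵁ US)
    (hUW : U ≤ f ⁻¹ᵁ W) :
    ∃ hle : pullback.fst (f ≫ p) q ⁻¹ᵁ U ⊓ pullback.snd (f ≫ p) q ⁻¹ᵁ T ≤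
        f' ⁻¹ᵁ (pullback.fst p q ⁻¹ᵁ W ⊓ pullback.snd p q ⁻¹ᵁ T),
      IsPushout (f.appLE W U hUW) ((pullback.fst p q).appLE W _ inf_le_left)
        ((pullback.fst (f ≫ p) q).appLE U _ inf_le_left) (f'.appLE _ _ hle) := by
  have hle : pullback.fst (f ≫ p) q ⁻¹ᵁ U ⊓ pullback.snd (f ≫ p) q ⁻¹ᵁ T ≤
      f' ⁻¹ᵁ (pullback.fst p q ⁻¹ᵁ W ⊓ pullback.snd p q ⁻¹ᵁ T) := by
    rintro y ⟨hy1, hy2⟩
    constructor
    · show y ∈ (f' ≫ pullback.fst p q) ⁻¹ᵁ W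
      rw [hf'1]
      exact hUW hy1
    · show y ∈ (f' ≫ pullback.snd p q) ⁻¹ᵁ T
      rw [hf'2]
      exact hy2
  refine ⟨hle, ?_⟩
  have hUS' : U ≤ (f ≫ p) ⁻¹ᵁ US := fun y hy => hWS (hUW hy)
  have hA' := (pullback_affine p q hUS hW hT hWS hTS).2
  have s := (pullback_affine (f ≫ p) q hUS hUa hT hUS' hTS).2
  have e1 : (f ≫ p).appLE US U hUS' = p.appLE US W hWS ≫ f.appLE W U hUW :=
    (Scheme.Hom.appLE_comp_appLE _ _ _ _ _ _ _).symm
  have e2 : (pullback.snd (f ≫ p) q).appLE T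
      (pullback.fst (f ≫ p) q ⁻¹ᵁ U ⊓ pullback.snd (f ≫ p) q ⁻¹ᵁ T) inf_le_right =
      (pullback.snd p q).appLE T (pullback.fst p q ⁻¹ᵁ W ⊓ pullback.snd p q ⁻¹ᵁ T) inf_le_right ≫
        f'.appLE _ _ hle := by
    rw [Scheme.Hom.appLE_comp_appLE]
    exact (appLE_of_eq hf'2 _).symm
  have e3 : f.appLE W U hUW ≫ (pullback.fst (f ≫ p) q).appLE U
      (pullback.fst (f ≫ p) q ⁻¹ᵁ U ⊓ pullback.snd (f ≫ p) q ⁻¹ᵁ T) inf_le_left =
      (pullback.fst p q).appLE W (pullback.fst p q ⁻¹ᵁ W ⊓ pullback.snd p q ⁻¹ᵁ T) inf_le_left ≫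
        f'.appLE _ _ hle := by
    rw [Scheme.Hom.appLE_comp_appLE, Scheme.Hom.appLE_comp_appLE]
    exact (appLE_of_eq hf'1 _).symm
  rw [e1, e2] at s
  exact IsPushout.of_left s e3 hA'

end Scheme

section Main

set_option maxHeartbeats 1000000 in
/-- **Schematic dominance modulo a nilpotent ideal with free graded pieces.** -/
theorem schDom_of_schDom_mod_nilpotent {X : Scheme.{u}} (A : CommRingCat.{u}) (p : X ⟶ Spec A)
    (J : Ideal ↑A) (hJ : IsNilpotent J)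
    (hfree : ∀ k : ℕ, Module.Free (↑A ⧸ J) ((↑A ⧸ J) ⊗[↑A] ↥(J ^ k)))
    {ι : Type u} (Z : ι → Scheme.{u}) (v : ∀ i, Z i ⟶ X) (hflat : ∀ i, Flat (v i ≫ p))
    (s : Spec (CommRingCat.of (↑A ⧸ J)) ⟶ Spec A)
    (hs : s = Spec.map (CommRingCat.ofHom (Ideal.Quotient.mk J)))
    (v0 : ∀ i, pullback (v i ≫ p) s ⟶ pullback p s)
    (hv01 : ∀ i, v0 i ≫ pullback.fst p s = pullback.fst (v i ≫ p) s ≫ v i)
    (hv02 : ∀ i, v0 i ≫ pullback.snd p s = pullback.snd (v i ≫ p) s)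
    (h0 : SchDom v0) : SchDom v := by
  refine schDom_of_sepRing_cover v IsAffineOpen (fun x => ?_) (fun O hO => ?_)
  · obtain ⟨U, hU, hxU, -⟩ := exists_isAffineOpen_mem_and_subset (TopologicalSpace.Opens.mem_top x)
    exact ⟨U, hU, hxU⟩
  · have hle : O ≤ p ⁻¹ᵁ ⊤ := fun _ _ => trivial
    obtain ⟨hO₀, hpo⟩ := pullback_affine p s (US := ⊤) (isAffineOpen_top _) hO (isAffineOpen_top _) hle
      (fun _ _ => trivial)
    refine ⟨hO, Σ j, {U : (Z j).Opens // IsAffineOpen U ∧ U ≤ v j ⁻¹ᵁ O}, Sigma.fst, fun l => l.2.1,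
      fun l => l.2.2.1, fun l => l.2.2.2, ?_⟩
    have hsq := fun l : (Σ j, {U : (Z j).Opens // IsAffineOpen U ∧ U ≤ v j ⁻¹ᵁ O}) =>
      pullback_map_affine p s (v l.1) (v0 l.1) (hv01 l.1) (hv02 l.1) (US := ⊤) (T := ⊤) (isAffineOpen_top _) hO
        (isAffineOpen_top _) l.2.2.1 hle (fun _ _ => trivial) l.2.2.2
    have hred := sepRing_of_schDom v0 h0 hO₀ (fun j => {U : (Z j).Opens // IsAffineOpen U ∧ U ≤ v j ⁻¹ᵁ O})
      (fun j U => pullback.fst (v j ≫ p) s ⁻¹ᵁ U.1 ⊓ pullback.snd (v j ≫ p) s ⁻¹ᵁ ⊤)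
      (fun j U => (hsq ⟨j, U⟩).1) (fun j z hz => by
        have hz1 : z ∈ (v0 j ≫ pullback.fst p s) ⁻¹ᵁ O := hz.1
        rw [hv01] at hz1
        obtain ⟨U, hU, hzU, hUle⟩ := exists_isAffineOpen_mem_and_subset
          (x := pullback.fst (v j ≫ p) s z) (U := v j ⁻¹ᵁ O) hz1
        exact ⟨⟨U, hU, hUle⟩, ⟨hzU, trivial⟩⟩)
    have hS := sepAlg_baseChange_of_sepRing_isPushout
      (Λ := Σ j, {U : (Z j).Opens // IsAffineOpen U ∧ U ≤ v j ⁻¹ᵁ O})
      ((pullback.fst p s).appLE O _ inf_le_left).hom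
      (fun l : (Σ j, {U : (Z j).Opens // IsAffineOpen U ∧ U ≤ v j ⁻¹ᵁ O}) =>
        ((v l.1).appLE O l.2.1 l.2.2.2).hom)
      (fun l : (Σ j, {U : (Z j).Opens // IsAffineOpen U ∧ U ≤ v j ⁻¹ᵁ O}) =>
        ((pullback.fst (v l.1 ≫ p) s).appLE l.2.1
          (pullback.fst (v l.1 ≫ p) s ⁻¹ᵁ l.2.1 ⊓ pullback.snd (v l.1 ≫ p) s ⁻¹ᵁ ⊤) inf_le_left).hom)
      (fun l : (Σ j, {U : (Z j).Opens // IsAffineOpen U ∧ U ≤ v j ⁻¹ᵁ O}) =>
        ((v0 l.1).appLE (pullback.fst p s ⁻¹ᵁ O ⊓ pullback.snd p s ⁻¹ᵁ ⊤)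
          (pullback.fst (v l.1 ≫ p) s ⁻¹ᵁ l.2.1 ⊓ pullback.snd (v l.1 ≫ p) s ⁻¹ᵁ ⊤) (hsq l).1).hom)
      (fun l => (hsq l).2) hred
    apply sepRing_of_sepAlg
    subst hs
    have hpo' := IsPushout.of_iso hpo (Scheme.ΓSpecIso A) (Iso.refl _)
      (Scheme.ΓSpecIso (CommRingCat.of (↑A ⧸ J))) (Iso.refl _)
      (f' := (Scheme.ΓSpecIso A).inv ≫ p.appLE ⊤ O hle)
      (g' := CommRingCat.ofHom (Ideal.Quotient.mk J))
      (inl' := (pullback.fst p (Spec.map (CommRingCat.ofHom (Ideal.Quotient.mk J)))).appLE O _ inf_le_left)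
      (inr' := (Scheme.ΓSpecIso (CommRingCat.of (↑A ⧸ J))).inv ≫
        (pullback.snd p (Spec.map (CommRingCat.ofHom (Ideal.Quotient.mk J)))).appLE ⊤ _ inf_le_right)
      (by simp only [Iso.refl_hom, Category.comp_id]; exact (Iso.hom_inv_id_assoc _ _).symm)
      (by rw [appLE_top_top, Scheme.ΓSpecIso_naturality]; rfl)
      (by simp only [Iso.refl_hom, Category.comp_id, Category.id_comp])
      (by simp only [Iso.refl_hom, Category.comp_id]; exact (Iso.hom_inv_id_assoc _ _).symm)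
    letI : ∀ l : (Σ j, {U : (Z j).Opens // IsAffineOpen U ∧ U ≤ v j ⁻¹ᵁ O}), Algebra Γ(X, O) Γ(Z l.1, l.2.1) :=
      fun l => ((v l.1).appLE O l.2.1 l.2.2.2).hom.toAlgebra
    refine sepAlg_of_isPushout_mod_nilpotent J hJ hfree _ _ _ hpo' _ (fun l => ?_) hS
    refine flat_compHom_of_ringEquiv (Scheme.ΓSpecIso A).symm.commRingCatIsoToRingEquiv
      (p.appLE ⊤ O hle).hom _ ?_
    have h1 := HasRingHomProperty.appLE (P := @Flat) (v l.1 ≫ p) (hflat l.1) ⟨⊤, isAffineOpen_top _⟩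
      ⟨l.2.1, l.2.2.1⟩ (fun _ _ => trivial)
    have e1 : (v l.1 ≫ p).appLE ⊤ l.2.1 (fun _ _ => trivial) = p.appLE ⊤ O hle ≫ (v l.1).appLE O l.2.1 l.2.2.2 :=
      (Scheme.Hom.appLE_comp_appLE _ _ _ _ _ _ _).symm
    rw [e1] at h1
    exact h1

end Main

end Groth.Agent.Lib.Helper25.SchDomNilp
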