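import Mathlib
import Groth.Agent.Lib.Helper25.SepBC
import Groth.Agent.Lib.Helper25.SepNilp

/-!
# helper25 — SepFib: the fibrewise criterion for universally separating families (algebra behind EGA IV 11.9.10 and
11.10.9)
-/

set_option autoImplicit false
set_option linter.unusedVariables false
set_option linter.style.haveILetI false
universe u
open TensorProduct CategoryTheory

namespace Groth.Agent.Lib.Helper25.SepFib

open Groth.Agent.Lib.Helper25.SepAlg Groth.Agent.Lib.Helper25.SepBC Groth.Agent.Lib.Helper25.SepNilp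

attribute [local instance] Algebra.TensorProduct.rightAlgebra

section Basic

/-- transport of the algebraic separating condition along linear equivalences -/
theorem sepAlg_congr {A : Type*} [CommRing A] {M M' : Type*} [AddCommGroup M] [Module A M]
    [AddCommGroup M'] [Module A M'] {κ : Type*} {N N' : κ → Type*} [∀ i, AddCommGroup (N i)]
    [∀ i, Module A (N i)] [∀ i, AddCommGroup (N' i)] [∀ i, Module A (N' i)]
    (v : ∀ i, M →ₗ[A] N i) (v' : ∀ i, M' →ₗ[A] N' i) (eM : M ≃ₗ[A] M') (eN : ∀ i, N i ≃ₗ[A] N' i)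
    (hcomm : ∀ i x, eN i (v i x) = v' i (eM x)) (h : SepAlg v) : SepAlg v' := by
  intro f x' hx'
  obtain ⟨n, hn⟩ := h f (eM.symm x') (fun i => by
    obtain ⟨n, hn⟩ := hx' i
    refine ⟨n, (eN i).injective ?_⟩
    rw [map_smul, hcomm, LinearEquiv.apply_symm_apply, hn, map_zero])
  refine ⟨n, ?_⟩
  have := congrArg eM hn
  rwa [map_smul, LinearEquiv.apply_symm_apply, map_zero] at this

variable {R : Type u} [CommRing R] {M : Type u} [AddCommGroup M] [Module R M]
  {ι : Type u} {N : ι → Type u} [∀ i, AddCommGroup (N i)] [∀ i, Module R (N i)]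

theorem cancelBaseChange_baseChange {D E : Type u} [CommRing D] [CommRing E] [Algebra R D] [Algebra D E]
    [Algebra R E] [IsScalarTower R D E] {P P' : Type u} [AddCommGroup P] [Module R P] [AddCommGroup P']
    [Module R P'] (w : P →ₗ[R] P') (y : E ⊗[D] (D ⊗[R] P)) :
    AlgebraTensorModule.cancelBaseChange R D E E P' ((w.baseChange D).baseChange E y) =
      w.baseChange E (AlgebraTensorModule.cancelBaseChange R D E E P y) := by
  induction y using TensorProduct.induction_on with
  | zero => simp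
  | tmul e z =>
    induction z using TensorProduct.induction_on with
    | zero => simp
    | tmul d p =>
      rw [LinearMap.baseChange_tmul, LinearMap.baseChange_tmul, AlgebraTensorModule.cancelBaseChange_tmul,
        AlgebraTensorModule.cancelBaseChange_tmul, LinearMap.baseChange_tmul]
    | add z₁ z₂ h₁ h₂ => simp only [TensorProduct.tmul_add, map_add, h₁, h₂]
  | add y z hy hz => simp only [map_add, hy, hz]

/-- **transitivity of base change** for the separating condition -/
theorem sepAlg_baseChange_baseChange_iff {D E : Type u} [CommRing D] [CommRing E] [Algebra R D] [Algebra D E]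
    [Algebra R E] [IsScalarTower R D E] (v : ∀ i, M →ₗ[R] N i) :
    SepAlg (A := E) (M := E ⊗[D] (D ⊗[R] M)) (N := fun i => E ⊗[D] (D ⊗[R] N i))
      (fun i => ((v i).baseChange D).baseChange E) ↔
    SepAlg (A := E) (M := E ⊗[R] M) (N := fun i => E ⊗[R] N i) (fun i => (v i).baseChange E) := by
  constructor
  · intro h
    exact sepAlg_congr _ _ (AlgebraTensorModule.cancelBaseChange R D E E M)
      (fun i => AlgebraTensorModule.cancelBaseChange R D E E (N i))
      (fun i y => cancelBaseChange_baseChange (v i) y) h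
  · intro h
    refine sepAlg_congr _ _ (AlgebraTensorModule.cancelBaseChange R D E E M).symm
      (fun i => (AlgebraTensorModule.cancelBaseChange R D E E (N i)).symm) (fun i y => ?_) h
    apply (AlgebraTensorModule.cancelBaseChange R D E E (N i)).injective
    rw [LinearEquiv.apply_symm_apply, cancelBaseChange_baseChange, LinearEquiv.apply_symm_apply]

/-- flatness for the scalar action through a ring map agrees with flatness for a compatible module structure -/
theorem flat_compHom_of_isScalarTower {B R' P : Type u} [CommRing B] [CommRing R'] [Algebra B R']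
    [AddCommGroup P] [Module R' P] (inst1 : Module B P) [IsScalarTower B R' P] (h : Module.Flat B P) :
    @Module.Flat B P _ _ (Module.compHom P (algebraMap B R')) := by
  have hsm : ∀ (b : B) (p : P), (algebraMap B R' b) • p = b • p := fun b p => algebraMap_smul R' b p
  exact @Module.Flat.of_linearEquiv B P P _ _ inst1 _ (Module.compHom P (algebraMap B R')) h
    (@LinearEquiv.mk B B _ _ (RingHom.id B) (RingHom.id B) _ _ P P _ _
      (Module.compHom P (algebraMap B R')) inst1
      (@LinearMap.mk B B _ _ (RingHom.id B) P P _ _ (Module.compHom P (algebraMap B R')) inst1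
        ⟨id, fun _ _ => rfl⟩ (fun b p => hsm b p)) id (fun _ => rfl) (fun _ => rfl))

end Basic

section LemmaA

variable {A R : Type u} [CommRing A] [CommRing R] [Algebra A R]
  {M : Type u} [AddCommGroup M] [Module R M]
  {ι : Type u} {N : ι → Type u} [∀ i, AddCommGroup (N i)] [∀ i, Module R (N i)]

/-- the family is separating on (some model of) the fibre `R ⊗ L` for every field `L` over `A` -/
def FibSep (A : Type u) [CommRing A] [Algebra A R] (v : ∀ i, M →ₗ[R] N i) : Prop :=
  ∀ (L : Type u) [Field L] [Algebra A L], ∃ (E : Type u) (_ : CommRing E) (ψR : R →+* E) (ψL : L →+* E),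
    IsPushout (CommRingCat.ofHom (algebraMap A R)) (CommRingCat.ofHom (algebraMap A L))
      (CommRingCat.ofHom ψR) (CommRingCat.ofHom ψL) ∧
    (letI := ψR.toAlgebra
     SepAlg (A := E) (M := E ⊗[R] M) (N := fun i => E ⊗[R] N i) (fun i => (v i).baseChange E))

/-- **pasting**: a model of `R ⊗_A L` is a model of `(R ⊗_A C) ⊗_C L` -/
theorem exists_model_of_tensor {C L E : Type u} [CommRing C] [CommRing L] [CommRing E] [Algebra A C]
    [Algebra A L] (χ : C →+* L) (hχ : χ.comp (algebraMap A C) = algebraMap A L) (ψR : R →+* E) (ψL : L →+* E)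
    (hpo : IsPushout (CommRingCat.ofHom (algebraMap A R)) (CommRingCat.ofHom (algebraMap A L))
      (CommRingCat.ofHom ψR) (CommRingCat.ofHom ψL)) (v : ∀ i, M →ₗ[R] N i)
    (hsep : letI := ψR.toAlgebra
      SepAlg (A := E) (M := E ⊗[R] M) (N := fun i => E ⊗[R] N i) (fun i => (v i).baseChange E)) :
    ∃ ψ' : R ⊗[A] C →+* E,
      IsPushout (CommRingCat.ofHom (algebraMap C (R ⊗[A] C))) (CommRingCat.ofHom χ) (CommRingCat.ofHom ψ')
        (CommRingCat.ofHom ψL) ∧
      (letI := ψ'.toAlgebra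
       SepAlg (A := E) (M := E ⊗[R ⊗[A] C] ((R ⊗[A] C) ⊗[R] M))
        (N := fun i => E ⊗[R ⊗[A] C] ((R ⊗[A] C) ⊗[R] N i))
        (fun i => ((v i).baseChange (R ⊗[A] C)).baseChange E)) := by
  have t := CommRingCat.isPushout_tensorProduct A R C
  have e1 : CommRingCat.ofHom (algebraMap A L) =
      CommRingCat.ofHom (algebraMap A C) ≫ CommRingCat.ofHom χ := by
    rw [← hχ]; rfl
  rw [e1] at hpo
  have key := IsPushout.of_top' hpo t
  refine ⟨(t.desc (CommRingCat.ofHom ψR) (CommRingCat.ofHom χ ≫ CommRingCat.ofHom ψL)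
    (by rw [hpo.w, Category.assoc])).hom, key, ?_⟩
  letI := ψR.toAlgebra
  letI := (t.desc (CommRingCat.ofHom ψR) (CommRingCat.ofHom χ ≫ CommRingCat.ofHom ψL)
    (by rw [hpo.w, Category.assoc])).hom.toAlgebra
  haveI : IsScalarTower R (R ⊗[A] C) E := IsScalarTower.of_algebraMap_eq (fun r => by
    have := t.inl_desc (CommRingCat.ofHom ψR) (CommRingCat.ofHom χ ≫ CommRingCat.ofHom ψL)
      (by rw [hpo.w, Category.assoc])
    exact (congrArg (fun m => m.hom r) this).symm)
  exact (sepAlg_baseChange_baseChange_iff v).2 hsep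

variable [∀ i, Module A (N i)] [∀ i, IsScalarTower A R (N i)] [∀ i, Module.Flat A (N i)]

/-- flatness of the base change, over the new base -/
theorem flat_baseChange_right (B : Type u) [CommRing B] [Algebra A B] (P : Type u) [AddCommGroup P]
    [Module R P] [Module A P] [IsScalarTower A R P] [Module.Flat A P] :
    Module.Flat B ((R ⊗[A] B) ⊗[R] P) :=
  Module.Flat.of_linearEquiv (Algebra.IsPushout.cancelBaseChange A B R (R ⊗[A] B) P)

/-- **Lemma A**: if the family is separating after base change to every field over `A`, then it is separating after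
base change to every `A`-algebra `B` with a nilpotent maximal ideal. -/
theorem sepAlg_baseChange_of_nilpotent_maximal (v : ∀ i, M →ₗ[R] N i) (H : FibSep A v)
    (B : Type u) [CommRing B] [Algebra A B] (J : Ideal B) [J.IsMaximal] (hJ : IsNilpotent J) :
    SepAlg (A := R ⊗[A] B) (M := (R ⊗[A] B) ⊗[R] M) (N := fun i => (R ⊗[A] B) ⊗[R] N i)
      (fun i => (v i).baseChange (R ⊗[A] B)) := by
  letI : Field (B ⧸ J) := Ideal.Quotient.field J
  have hfree : ∀ k : ℕ, Module.Free (B ⧸ J) ((B ⧸ J) ⊗[B] ↥(J ^ k)) :=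
    fun k => Module.Free.of_divisionRing _ _
  obtain ⟨E, _, ψR, ψL, hpo, hsep⟩ := H (B ⧸ J)
  obtain ⟨ψ', hpo', hsep'⟩ := exists_model_of_tensor (A := A) (C := B) (L := B ⧸ J) (Ideal.Quotient.mk J) rfl ψR ψL hpo v hsep
  refine sepAlg_of_isPushout_mod_nilpotent J hJ hfree _ _ _ hpo' _ (fun i => ?_) hsep'
  exact flat_compHom_of_isScalarTower _ (flat_baseChange_right B (N i))

end LemmaA

section Core

variable {A R : Type u} [CommRing A] [CommRing R] [Algebra A R]
  {M : Type u} [AddCommGroup M] [Module R M]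
  {ι : Type u} {N : ι → Type u} [∀ i, AddCommGroup (N i)] [∀ i, Module R (N i)] [∀ i, Module A (N i)]
  [∀ i, IsScalarTower A R (N i)] [∀ i, Module.Flat A (N i)]

/-- an element of `M` which dies in `(R' ⧸ I) ⊗ M` lies in `I (R' ⊗ M)` -/
theorem one_tmul_mem_smul_top_of_quotient {Rq : Type u} [CommRing Rq] [Algebra R Rq] (I : Ideal Rq) (x : M)
    (h : ((1 : Rq ⧸ I) ⊗ₜ[R] x : (Rq ⧸ I) ⊗[R] M) = 0) :
    ((1 : Rq) ⊗ₜ[R] x) ∈ (I • ⊤ : Submodule Rq (Rq ⊗[R] M)) := by
  have h1 : ((1 : Rq ⧸ I) ⊗ₜ[Rq] ((1 : Rq) ⊗ₜ[R] x) : (Rq ⧸ I) ⊗[Rq] (Rq ⊗[R] M)) = 0 := by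
    apply (AlgebraTensorModule.cancelBaseChange R Rq (Rq ⧸ I) (Rq ⧸ I) M).injective
    rw [AlgebraTensorModule.cancelBaseChange_tmul, one_smul, map_zero]
    exact h
  have h2 := congrArg (TensorProduct.quotTensorEquivQuotSMul (Rq ⊗[R] M) I) h1
  rwa [TensorProduct.quotTensorEquivQuotSMul_mk_one_tmul, map_zero, Submodule.Quotient.mk_eq_zero] at h2

set_option maxHeartbeats 1000000 in
/-- **Core theorem** (EGA IV 11.9.10, affine form): over a Noetherian ring `R`, a family of linear maps from a finite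
module into `A`-flat modules which is separating after base change to every field over `A` is separating. -/
theorem sepAlg_of_fibres [IsNoetherianRing R] [Module.Finite R M] (v : ∀ i, M →ₗ[R] N i)
    (H : FibSep A v) : SepAlg v := by
  intro f x hx
  by_contra hcon
  rw [not_exists] at hcon
  let I : Ideal R :=
    { carrier := {r | ∃ n : ℕ, f ^ n • (r • x) = 0}
      add_mem' := by
        rintro a b ⟨n, hn⟩ ⟨m, hm⟩
        refine ⟨n + m, ?_⟩
        have h1 : f ^ (n + m) • (a • x) = 0 := by rw [pow_add, mul_comm, mul_smul, hn, smul_zero]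
        have h2 : f ^ (n + m) • (b • x) = 0 := by rw [pow_add, mul_smul, hm, smul_zero]
        rw [add_smul, smul_add, h1, h2, add_zero]
      zero_mem' := ⟨0, by simp⟩
      smul_mem' := by
        rintro c a ⟨n, hn⟩
        refine ⟨n, ?_⟩
        rw [smul_eq_mul, mul_smul, smul_comm, hn, smul_zero] }
  have hdisj : Disjoint (I : Set R) (Submonoid.powers f : Set R) := by
    rw [Set.disjoint_left]
    rintro r ⟨n, hn⟩ ⟨k, rfl⟩
    exact hcon (n + k) (by rw [pow_add, mul_smul]; exact hn)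
  obtain ⟨𝔮, h𝔮, hI𝔮, h𝔮f⟩ := Ideal.exists_le_prime_disjoint I (Submonoid.powers f) hdisj
  have hf𝔮 : f ∈ 𝔮.primeCompl := fun hf => Set.disjoint_left.1 h𝔮f hf ⟨1, pow_one f⟩
  haveI : (𝔮.comap (algebraMap A R)).IsPrime := Ideal.comap_isPrime _ _
  -- the local rings
  let Ap := Localization.AtPrime (𝔮.comap (algebraMap A R))
  let Rq := Localization.AtPrime 𝔮
  haveI : IsNoetherianRing Rq := IsLocalization.isNoetherianRing 𝔮.primeCompl Rq inferInstance
  let g₀ : Ap →ₐ[A] Rq :=
    { toRingHom := Localization.localRingHom (𝔮.comap (algebraMap A R)) 𝔮 (algebraMap A R) rfl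
      commutes' := fun a => by
        show Localization.localRingHom (𝔮.comap (algebraMap A R)) 𝔮 (algebraMap A R) rfl (algebraMap A Ap a) = _
        rw [Localization.localRingHom_to_map]
        exact (IsScalarTower.algebraMap_apply A R Rq a).symm }
  have hloc : (IsLocalRing.maximalIdeal Ap).map g₀.toRingHom ≤ IsLocalRing.maximalIdeal Rq :=
    ((IsLocalRing.local_hom_TFAE g₀.toRingHom).out 0 2).1
      (Localization.isLocalHom_localRingHom _ _ _ rfl)
  have key' : ∀ n : ℕ, ((1 : Rq) ⊗ₜ[R] x) ∈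
      ((IsLocalRing.maximalIdeal Rq) ^ (n + 1) • ⊤ : Submodule Rq (Rq ⊗[R] M)) := by
    intro n
    let B := Ap ⧸ (IsLocalRing.maximalIdeal Ap) ^ (n + 1)
    let J : Ideal B := (IsLocalRing.maximalIdeal Ap).map (Ideal.Quotient.mk ((IsLocalRing.maximalIdeal Ap) ^ (n + 1)))
    haveI : J.IsMaximal := Ideal.IsMaximal.map_of_surjective_of_ker_le Ideal.Quotient.mk_surjective
      (by rw [Ideal.mk_ker]; exact Ideal.pow_le_self (Nat.succ_ne_zero n))
    have hJ : IsNilpotent J := ⟨n + 1, by rw [← Ideal.map_pow, Ideal.map_quotient_self]; rfl⟩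
    have hB := sepAlg_baseChange_of_nilpotent_maximal v H B J hJ
    obtain ⟨m, hm⟩ := hB (algebraMap R (R ⊗[A] B) f) ((1 : R ⊗[A] B) ⊗ₜ[R] x) (fun i => by
      obtain ⟨k, hk⟩ := hx i
      refine ⟨k, ?_⟩
      rw [LinearMap.baseChange_tmul, ← map_pow, algebraMap_smul, ← TensorProduct.tmul_smul, hk,
        TensorProduct.tmul_zero])
    -- push forward to `Q = Rq ⧸ 𝔪^(n+1)`
    have hle : (IsLocalRing.maximalIdeal Ap) ^ (n + 1) ≤
        ((IsLocalRing.maximalIdeal Rq) ^ (n + 1)).comap g₀ := by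
      rw [← Ideal.map_le_iff_le_comap]
      show Ideal.map g₀.toRingHom _ ≤ _
      rw [Ideal.map_pow]
      exact Ideal.pow_right_mono hloc (n + 1)
    let g : B →ₐ[A] (Rq ⧸ (IsLocalRing.maximalIdeal Rq) ^ (n + 1)) :=
      Ideal.quotientMapₐ ((IsLocalRing.maximalIdeal Rq) ^ (n + 1)) g₀ hle
    let ρ : (R ⊗[A] B) →ₐ[R] (Rq ⧸ (IsLocalRing.maximalIdeal Rq) ^ (n + 1)) :=
      Algebra.TensorProduct.lift (Algebra.ofId R _) g (fun _ _ => Commute.all _ _)
    have h3 := congrArg (LinearMap.rTensor M ρ.toLinearMap) hm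
    have h3' := rTensor_smul ρ M ((algebraMap R (R ⊗[A] B)) f ^ m) ((1 : R ⊗[A] B) ⊗ₜ[R] x)
    rw [h3, map_zero, LinearMap.rTensor_tmul, map_pow, AlgHom.commutes] at h3'
    have h3 := h3'.symm
    have h4 : ρ.toLinearMap (1 : R ⊗[A] B) = 1 := map_one ρ
    rw [h4] at h3
    have hu : IsUnit (algebraMap R (Rq ⧸ (IsLocalRing.maximalIdeal Rq) ^ (n + 1)) f) := by
      rw [IsScalarTower.algebraMap_apply R Rq (Rq ⧸ (IsLocalRing.maximalIdeal Rq) ^ (n + 1))]
      exact (IsLocalization.map_units Rq (⟨f, hf𝔮⟩ : 𝔮.primeCompl)).map _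
    exact one_tmul_mem_smul_top_of_quotient _ x ((hu.pow m).smul_eq_zero.1 h3)
  have hK : (⨅ n : ℕ, (IsLocalRing.maximalIdeal Rq) ^ n • (⊤ : Submodule Rq (Rq ⊗[R] M))) = ⊥ :=
    Ideal.iInf_pow_smul_eq_bot_of_isLocalRing _ (IsLocalRing.maximalIdeal.isMaximal Rq).ne_top
  have h0 : ((1 : Rq) ⊗ₜ[R] x : Rq ⊗[R] M) = 0 := by
    have hmem : ((1 : Rq) ⊗ₜ[R] x : Rq ⊗[R] M) ∈
        (⨅ n : ℕ, (IsLocalRing.maximalIdeal Rq) ^ n • (⊤ : Submodule Rq (Rq ⊗[R] M))) := by
      rw [Submodule.mem_iInf]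
      intro n
      exact Submodule.smul_mono_left (Ideal.pow_le_pow_right (Nat.le_succ n)) (key' n)
    rw [hK] at hmem
    exact hmem
  have hlocM : IsLocalizedModule 𝔮.primeCompl (TensorProduct.mk R Rq M 1) :=
    (isLocalizedModule_iff_isBaseChange 𝔮.primeCompl Rq _).2 (TensorProduct.isBaseChange R M Rq)
  obtain ⟨r, hr⟩ := (IsLocalizedModule.eq_zero_iff 𝔮.primeCompl (TensorProduct.mk R Rq M 1)).1 h0
  exact r.2 (hI𝔮 ⟨0, by rw [pow_zero, one_smul]; exact hr⟩)

end Core

section Univ

variable {A R : Type u} [CommRing A] [CommRing R] [Algebra A R]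
  {M : Type u} [AddCommGroup M] [Module R M]
  {ι : Type u} {N : ι → Type u} [∀ i, AddCommGroup (N i)] [∀ i, Module R (N i)]

/-- the fibrewise condition is stable under base change -/
theorem fibSep_baseChange (v : ∀ i, M →ₗ[R] N i) (H : FibSep A v) (C : Type u) [CommRing C] [Algebra A C] :
    FibSep C (R := R ⊗[A] C) (M := (R ⊗[A] C) ⊗[R] M) (N := fun i => (R ⊗[A] C) ⊗[R] N i)
      (fun i => (v i).baseChange (R ⊗[A] C)) := by
  intro L _ _
  letI : Algebra A L := ((algebraMap C L).comp (algebraMap A C)).toAlgebra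
  obtain ⟨E, _, ψR, ψL, hpo, hsep⟩ := H L
  obtain ⟨ψ', hpo', hsep'⟩ :=
    exists_model_of_tensor (A := A) (C := C) (L := L) (algebraMap C L) rfl ψR ψL hpo v hsep
  exact ⟨E, inferInstance, ψ', ψL, hpo', hsep'⟩

/-- the fibrewise condition, from the condition on one "residue field" model for every prime -/
theorem fibSep_of_forall_prime (v : ∀ i, M →ₗ[R] N i)
    (H : ∀ 𝔭 : Ideal A, 𝔭.IsPrime → ∃ (K : Type u) (_ : Field K) (φK : A →+* K),
      (∀ (L : Type u) [Field L] (ψ : A →+* L), RingHom.ker ψ = 𝔭 → ∃ σ : K →+* L, σ.comp φK = ψ) ∧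
      ∃ (D : Type u) (_ : CommRing D) (ψR : R →+* D) (ψK : K →+* D),
        IsPushout (CommRingCat.ofHom (algebraMap A R)) (CommRingCat.ofHom φK) (CommRingCat.ofHom ψR)
          (CommRingCat.ofHom ψK) ∧
        (letI := ψR.toAlgebra
         SepAlg (A := D) (M := D ⊗[R] M) (N := fun i => D ⊗[R] N i) (fun i => (v i).baseChange D))) :
    FibSep A v := by
  intro L _ _
  obtain ⟨K, _, φK, hinit, D, _, ψR, ψK, hpo, hsep⟩ :=
    H (RingHom.ker (algebraMap A L)) (RingHom.ker_isPrime _)
  obtain ⟨σ, hσ⟩ := hinit L (algebraMap A L) rfl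
  letI := ψK.toAlgebra
  letI := σ.toAlgebra
  have bot := CommRingCat.isPushout_tensorProduct K D L
  have big := hpo.paste_vert bot
  have e1 : CommRingCat.ofHom φK ≫ CommRingCat.ofHom (algebraMap K L) = CommRingCat.ofHom (algebraMap A L) := by
    rw [← hσ]; rfl
  rw [e1] at big
  refine ⟨D ⊗[K] L, inferInstance,
    (Algebra.TensorProduct.includeLeftRingHom (R := K) (A := D) (B := L)).comp ψR,
    Algebra.TensorProduct.includeRight.toRingHom, big, ?_⟩
  letI := ψR.toAlgebra
  letI : Algebra R (D ⊗[K] L) :=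
    ((Algebra.TensorProduct.includeLeftRingHom (R := K) (A := D) (B := L)).comp ψR).toAlgebra
  haveI : @IsScalarTower R D (D ⊗[K] L) Algebra.toSMul Algebra.toSMul Algebra.toSMul :=
    IsScalarTower.of_algebraMap_eq (fun _ => rfl)
  exact (sepAlg_baseChange_baseChange_iff v).1
    (sepAlg_baseChange_tensor_field (k := K) (R := D) (C := L) (fun i => (v i).baseChange D) hsep)

variable [∀ i, Module A (N i)] [∀ i, IsScalarTower A R (N i)] [∀ i, Module.Flat A (N i)]

set_option maxHeartbeats 400000 in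
/-- **Universal form** (EGA IV 11.9.10 b) ⇒ a), affine form). -/
theorem sepAlg_baseChange_of_fibSep [IsNoetherianRing R] [Module.Finite R M] (v : ∀ i, M →ₗ[R] N i)
    (H : FibSep A v) (A' : Type u) [CommRing A'] [Algebra A A'] :
    SepAlg (A := R ⊗[A] A') (M := (R ⊗[A] A') ⊗[R] M) (N := fun i => (R ⊗[A] A') ⊗[R] N i)
      (fun i => (v i).baseChange (R ⊗[A] A')) := by
  refine sepAlg_baseChange_tensor_of_forall_fg v (fun i => ?_) (fun C₀ hfg => ?_)
  · exact flat_compHom_of_isScalarTower _ inferInstance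
  · haveI : Algebra.FiniteType A C₀ := (Subalgebra.fg_iff_finiteType C₀).1 hfg
    haveI : IsNoetherianRing (R ⊗[A] C₀) := Algebra.FiniteType.isNoetherianRing R (R ⊗[A] C₀)
    haveI : ∀ i, Module.Flat C₀ ((R ⊗[A] C₀) ⊗[R] N i) := fun i => flat_baseChange_right C₀ (N i)
    have hfs := fibSep_baseChange v H C₀
    haveI inst2 : ∀ i, IsScalarTower C₀ (R ⊗[A] C₀) ((R ⊗[A] C₀) ⊗[R] N i) := fun i => inferInstance
    haveI inst3 : Module.Finite (R ⊗[A] C₀) ((R ⊗[A] C₀) ⊗[R] M) := inferInstance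
    let v' : ∀ i, ((R ⊗[A] C₀) ⊗[R] M) →ₗ[R ⊗[A] C₀] ((R ⊗[A] C₀) ⊗[R] N i) :=
      fun i => (v i).baseChange (R ⊗[A] C₀)
    have key := sepAlg_of_fibres (A := C₀) (R := R ⊗[A] C₀) (M := (R ⊗[A] C₀) ⊗[R] M)
      (N := fun i => (R ⊗[A] C₀) ⊗[R] N i) v'
    exact key hfs

end Univ

section Pushout

variable {A R A' R' : Type u} [CommRing A] [CommRing R] [CommRing A'] [CommRing R']
  {M : Type u} [AddCommGroup M] [Module R M]
  {ι : Type u} {N : ι → Type u} [∀ i, AddCommGroup (N i)] [∀ i, Module R (N i)]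

/-- **Universal form**, for an abstract pushout square of rings. -/
theorem sepAlg_baseChange_of_fibSep_of_isPushout (φ : A →+* R) (φ' : A →+* A') (ψR : R →+* R') (ψA' : A' →+* R')
    (hpo : IsPushout (CommRingCat.ofHom φ) (CommRingCat.ofHom φ') (CommRingCat.ofHom ψR)
      (CommRingCat.ofHom ψA')) (hR : IsNoetherianRing R) (hM : Module.Finite R M) (v : ∀ i, M →ₗ[R] N i)
    (hflat : ∀ i, letI := Module.compHom (N i) φ; Module.Flat A (N i))
    (H : letI := φ.toAlgebra; FibSep A v) :
    letI := ψR.toAlgebra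
    SepAlg (A := R') (M := R' ⊗[R] M) (N := fun i => R' ⊗[R] N i) (fun i => (v i).baseChange R') := by
  letI := φ.toAlgebra
  letI := φ'.toAlgebra
  letI := ψR.toAlgebra
  letI := ψA'.toAlgebra
  letI : Algebra A R' := (ψR.comp φ).toAlgebra
  obtain ⟨h1, h2, h3⟩ := algebra_isPushout_of_isPushout φ φ' ψR ψA' hpo
  letI : ∀ i, Module A (N i) := fun i => Module.compHom (N i) φ
  haveI : ∀ i, IsScalarTower A R (N i) := fun i => IsScalarTower.of_compHom A R (N i)
  haveI : ∀ i, Module.Flat A (N i) := hflat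
  exact sepAlg_baseChange_of_algEquiv (Algebra.IsPushout.equiv A R A' R') v
    (sepAlg_baseChange_of_fibSep v H A')

end Pushout

end Groth.Agent.Lib.Helper25.SepFib
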