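import Mathlib
import Groth.Agent.Lib.Helper25.SepFib
import Groth.Agent.Lib.Helper25.SepDict
import Groth.Agent.Lib.Helper25.FibProdAff
import Groth.Agent.Lib.Helper25.SchDom
import Groth.Agent.Lib.Helper25.SchDomNilp
import Groth.Agent.Lib.Helper28.FinType
import Groth.Agent.Lib.Helper25.SepFG

/-!
# helper25 — SepFibSch: universally separating / universally schematically dominant families over a locally Noetherian
scheme are detected on the fibres (EGA IV 11.9.10, 11.10.9)
-/

set_option backward.isDefEq.respectTransparency.types false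
set_option autoImplicit false
set_option linter.unusedVariables false
set_option linter.style.haveILetI false
universe u
open AlgebraicGeometry CategoryTheory Limits Opposite TopologicalSpace TensorProduct

namespace Groth.Agent.Lib.Helper25.SepFibSch

open Groth.Agent.Lib.Helper25.SepAlg Groth.Agent.Lib.Helper25.SepBC Groth.Agent.Lib.Helper25.SepFib
  Groth.Agent.Lib.Helper25.SchDom Groth.Agent.Lib.Helper25.FibProdAff Groth.Agent.Lib.Helper25.SepFamily
  Groth.Agent.Lib.Helper25.SepDict Groth.Agent.Lib.Helper7.FPKer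

section Alg

variable {A R : Type u} [CommRing A] [CommRing R] [Algebra A R]
  {M : Type u} [AddCommGroup M] [Module R M]
  {ι : Type u} {N : ι → Type u} [∀ i, AddCommGroup (N i)] [∀ i, Module R (N i)]

/-- the fibrewise condition, from the condition on some field through which a given field-valued point factors -/
theorem fibSep_of_forall_field (v : ∀ i, M →ₗ[R] N i)
    (H : ∀ (L : Type u) [Field L] (ψ : A →+* L), ∃ (K : Type u) (_ : CommRing K) (hK : IsField K)
      (φK : A →+* K) (σ : K →+* L), σ.comp φK = ψ ∧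
      ∃ (D : Type u) (_ : CommRing D) (ψR : R →+* D) (ψK : K →+* D),
        IsPushout (CommRingCat.ofHom (algebraMap A R)) (CommRingCat.ofHom φK) (CommRingCat.ofHom ψR)
          (CommRingCat.ofHom ψK) ∧
        (letI := ψR.toAlgebra
         SepAlg (A := D) (M := D ⊗[R] M) (N := fun i => D ⊗[R] N i) (fun i => (v i).baseChange D))) :
    FibSep A v := by
  intro L _ _
  obtain ⟨K, _, hK, φK, σ, hσ, D, _, ψR, ψK, hpo, hsep⟩ := H L (algebraMap A L)
  letI := hK.toField
  letI := ψK.toAlgebra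
  letI := σ.toAlgebra
  have bot := CommRingCat.isPushout_tensorProduct K D L
  have big := hpo.paste_vert bot
  have e1 : CommRingCat.ofHom φK ≫ CommRingCat.ofHom (algebraMap K L) = CommRingCat.ofHom (algebraMap A L) := by
    rw [← hσ]; rfl
  rw [e1] at big
  refine ⟨D ⊗[K] L, inferInstance,
    (Algebra.TensorProduct.includeLeftRingHom (R := K) (A := D) (B := L)).comp ψR,
    Algebra.TensorProduct.includeRight.toRingHom, big, ?_⟩
  letI := ψR.toAlgebra
  letI : Algebra R (D ⊗[K] L) :=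
    ((Algebra.TensorProduct.includeLeftRingHom (R := K) (A := D) (B := L)).comp ψR).toAlgebra
  haveI : @IsScalarTower R D (D ⊗[K] L) Algebra.toSMul Algebra.toSMul Algebra.toSMul :=
    IsScalarTower.of_algebraMap_eq (fun _ => rfl)
  exact (sepAlg_baseChange_baseChange_iff v).1
    (sepAlg_baseChange_tensor_field (k := K) (R := D) (C := L) (fun i => (v i).baseChange D) hsep)

end Alg

section ResidueField

variable {S : Scheme.{u}} {US : S.Opens}

theorem fromSpec_appLE_top (hUS : IsAffineOpen US) (e : (⊤ : (Spec Γ(S, US)).Opens) ≤ hUS.fromSpec ⁻¹ᵁ US) :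
    hUS.fromSpec.appLE US ⊤ e = (Scheme.ΓSpecIso Γ(S, US)).inv := by
  rw [Scheme.Hom.appLE, hUS.fromSpec_app_self, Category.assoc, ← Functor.map_comp]
  convert Category.comp_id _
  exact (Spec Γ(S, US)).presheaf.map_id _

theorem comp_fromSpec_mem (hUS : IsAffineOpen US) {T : Scheme.{u}} (k : T ⟶ Spec Γ(S, US)) (y : T) :
    (k ≫ hUS.fromSpec) y ∈ US := by
  have : (k ≫ hUS.fromSpec) y ∈ Set.range hUS.fromSpec := ⟨k y, by rw [Scheme.Hom.comp_apply]⟩
  rw [hUS.range_fromSpec] at this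
  exact this

theorem appLE_comp_fromSpec (hUS : IsAffineOpen US) {L : CommRingCat.{u}} (ψ : Γ(S, US) ⟶ L)
    (hle : (⊤ : (Spec L).Opens) ≤ (Spec.map ψ ≫ hUS.fromSpec) ⁻¹ᵁ US) :
    (Spec.map ψ ≫ hUS.fromSpec).appLE US ⊤ hle ≫ (Scheme.ΓSpecIso L).hom = ψ := by
  have hle3 : (⊤ : (Spec Γ(S, US)).Opens) ≤ hUS.fromSpec ⁻¹ᵁ US := by
    intro y _
    have : hUS.fromSpec y ∈ Set.range hUS.fromSpec := ⟨y, rfl⟩
    rw [hUS.range_fromSpec] at this
    exact this
  have s3 : (Spec.map ψ ≫ hUS.fromSpec).appLE US ⊤ hle = hUS.fromSpec.appLE US ⊤ hle3 ≫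
      (Spec.map ψ).appLE ⊤ ⊤ (fun _ _ => trivial) :=
    (Scheme.Hom.appLE_comp_appLE _ _ _ _ _ _ _).symm
  rw [s3, fromSpec_appLE_top, Groth.Agent.Lib.Helper25.SepFG.appLE_top_top,
    Category.assoc, Scheme.ΓSpecIso_naturality, Iso.inv_hom_id_assoc]

theorem appLE_comp_of_eq {X Y Z : Scheme.{u}} (τ : X ⟶ Y) (g : Y ⟶ Z) (k : X ⟶ Z) (hk : τ ≫ g = k)
    {U : Z.Opens} {V : Y.Opens} {W : X.Opens} (e₁ : V ≤ g ⁻¹ᵁ U) (e₂ : W ≤ τ ⁻¹ᵁ V) (e' : W ≤ k ⁻¹ᵁ U) :
    g.appLE U V e₁ ≫ τ.appLE V W e₂ = k.appLE U W e' := by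
  subst hk
  exact Scheme.Hom.appLE_comp_appLE _ _ _ _ _ _ _

/-- every field-valued point of an affine open factors through the residue field of its image point -/
theorem exists_residueField_factorization (hUS : IsAffineOpen US) {L : Type u} [Field L]
    (ψ : Γ(S, US) →+* L) :
    ∃ (s : S) (hs : ∀ y : Spec (S.residueField s), y ∈ (⊤ : (Spec (S.residueField s)).Opens) →
        y ∈ S.fromSpecResidueField s ⁻¹ᵁ US)
      (σ : Γ(Spec (S.residueField s), ⊤) →+* L),
      σ.comp ((S.fromSpecResidueField s).appLE US ⊤ hs).hom = ψ := by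
  obtain ⟨h, hh⟩ : ∃ h : Spec (CommRingCat.of L) ⟶ S, h = Spec.map (CommRingCat.ofHom ψ) ≫ hUS.fromSpec :=
    ⟨_, rfl⟩
  have hfac := Scheme.descResidueField_stalkClosedPointTo_fromSpecResidueField L S h
  have hsU : ∀ y, h y ∈ US := fun y => by rw [hh]; exact comp_fromSpec_mem hUS _ y
  have hs : ∀ y : Spec (S.residueField (h (IsLocalRing.closedPoint L))),
      y ∈ (⊤ : (Spec (S.residueField (h (IsLocalRing.closedPoint L)))).Opens) →
        y ∈ S.fromSpecResidueField (h (IsLocalRing.closedPoint L)) ⁻¹ᵁ US := by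
    intro y _
    show S.fromSpecResidueField _ y ∈ US
    rw [Scheme.fromSpecResidueField_apply]
    exact hsU _
  refine ⟨h (IsLocalRing.closedPoint L), hs,
    ((Spec.map (Scheme.descResidueField (Scheme.stalkClosedPointTo h))).appLE ⊤ ⊤ (fun _ _ => trivial) ≫
      (Scheme.ΓSpecIso (CommRingCat.of L)).hom).hom, ?_⟩
  have e0 : ((S.fromSpecResidueField (h (IsLocalRing.closedPoint L))).appLE US ⊤ hs) ≫
      ((Spec.map (Scheme.descResidueField (Scheme.stalkClosedPointTo h))).appLE ⊤ ⊤ (fun _ _ => trivial) ≫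
        (Scheme.ΓSpecIso (CommRingCat.of L)).hom) = CommRingCat.ofHom ψ := by
    have hle2 : (⊤ : (Spec (CommRingCat.of L)).Opens) ≤ h ⁻¹ᵁ US := fun y _ => hsU y
    have s1 := appLE_comp_of_eq (Spec.map (Scheme.descResidueField (Scheme.stalkClosedPointTo h)))
      (S.fromSpecResidueField (h (IsLocalRing.closedPoint L))) h hfac hs (fun _ _ => trivial) hle2
    rw [← Category.assoc, s1]
    subst hh
    exact appLE_comp_fromSpec hUS _ _
  exact congrArg CommRingCat.Hom.hom e0

end ResidueField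

section Modules

variable {X S : Scheme.{u}}

set_option maxHeartbeats 1000000 in
/-- **EGA IV 11.9.10, b) ⇒ a)** (case `Z_λ = X`). -/
theorem isSep_univ_of_fibrewise [IsLocallyNoetherian X] (p : X ⟶ S) (F : X.Modules)
    [F.IsQuasicoherent] [SheafOfModules.IsFiniteType.{u} (R := X.ringCatSheaf) F] {ι : Type u}
    (G : ι → X.Modules) [∀ i, (G i).IsQuasicoherent]
    (hG : ∀ i, FlatMod.IsFlatOver p (G i)) (u : ∀ i, F ⟶ G i)
    (hfib : ∀ s : S, IsSep (fun i =>
      (Scheme.Modules.pullback (pullback.fst p (S.fromSpecResidueField s))).map (u i)))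
    {S' : Scheme.{u}} (g : S' ⟶ S) :
    IsSep (fun i => (Scheme.Modules.pullback (pullback.fst p g)).map (u i)) := by
  refine isSep_pullback_of_cover (pullback.fst p g) u
    (fun U' => ∃ (US : S.Opens) (UX : X.Opens) (UT : S'.Opens) (hXS : UX ≤ p ⁻¹ᵁ US)
      (hTS : UT ≤ g ⁻¹ᵁ US), IsAffineOpen US ∧ IsAffineOpen UX ∧ IsAffineOpen UT ∧
      U' = pullback.fst p g ⁻¹ᵁ UX ⊓ pullback.snd p g ⁻¹ᵁ UT) ?_ ?_
  · intro x'
    obtain ⟨US, hUS, hsUS, -⟩ :=
      exists_isAffineOpen_mem_and_subset (x := p (pullback.fst p g x')) (U := ⊤) trivial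
    obtain ⟨UX, hUX, hxUX, hUXle⟩ :=
      exists_isAffineOpen_mem_and_subset (x := pullback.fst p g x') (U := p ⁻¹ᵁ US) hsUS
    have hcond : g (pullback.snd p g x') = p (pullback.fst p g x') := by
      rw [← Scheme.Hom.comp_apply, ← Scheme.Hom.comp_apply, pullback.condition]
    obtain ⟨UT, hUT, hxUT, hUTle⟩ :=
      exists_isAffineOpen_mem_and_subset (x := pullback.snd p g x') (U := g ⁻¹ᵁ US)
        (by show g _ ∈ US; rw [hcond]; exact hsUS)
    exact ⟨_, ⟨US, UX, UT, hUXle, hUTle, hUS, hUX, hUT, rfl⟩, ⟨hxUX, hxUT⟩⟩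
  · rintro U' ⟨US, UX, UT, hXS, hTS, hUS, hUX, hUT, rfl⟩
    obtain ⟨hUY, hpo⟩ := pullback_affine p g hUS hUX hUT hXS hTS
    refine ⟨hUY, UX, hUX, inf_le_left, ?_⟩
    haveI : IsNoetherianRing Γ(X, UX) := IsLocallyNoetherian.component_noetherian ⟨UX, hUX⟩
    haveI : Module.Finite Γ(X, UX) Γ(F, UX) :=
      Groth.Agent.Lib.Helper28.FinType.finite_of_isAffineOpen F hUX
    refine sepAlg_baseChange_of_fibSep_of_isPushout _ _ _ _ hpo inferInstance inferInstance _
      (fun i => flat_sections_of_isFlatOver p (G i) (hG i) hUX hUS hXS) ?_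
    letI := (p.appLE US UX hXS).hom.toAlgebra
    refine fibSep_of_forall_field _ (fun L _ ψ => ?_)
    obtain ⟨s, hs, σ, hσ⟩ := exists_residueField_factorization hUS ψ
    obtain ⟨hUf, hpof⟩ := pullback_affine p (S.fromSpecResidueField s) hUS hUX (isAffineOpen_top _) hXS hs
    have hS := sepAlg_baseChange_of_isSep_pullback (pullback.fst p (S.fromSpecResidueField s)) u (hfib s)
      hUf hUX inf_le_left
    have hK : IsField Γ(Spec (S.residueField s), ⊤) :=
      MulEquiv.isField (Field.toIsField (S.residueField s))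
        (Scheme.ΓSpecIso (S.residueField s)).commRingCatIsoToRingEquiv.toMulEquiv
    exact ⟨Γ(Spec (S.residueField s), ⊤), inferInstance, hK, _, σ, hσ, _, inferInstance, _, _, hpof, hS⟩

end Modules

end Groth.Agent.Lib.Helper25.SepFibSch
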