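import Mathlib
import Groth.Agent.Lib.Helper25.SepFibSch

/-!
# helper25 — SchDomFib: universally schematically dominant families over a locally Noetherian scheme are detected on
the fibres (EGA IV 11.10.9)
-/

set_option backward.isDefEq.respectTransparency.types false
set_option autoImplicit false
set_option linter.unusedVariables false
set_option linter.style.haveILetI false
universe u
open AlgebraicGeometry CategoryTheory Limits Opposite TopologicalSpace TensorProduct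

namespace Groth.Agent.Lib.Helper25.SchDomFib

open Groth.Agent.Lib.Helper25.SepAlg Groth.Agent.Lib.Helper25.SepBC Groth.Agent.Lib.Helper25.SepFib
  Groth.Agent.Lib.Helper25.SchDom Groth.Agent.Lib.Helper25.FibProdAff Groth.Agent.Lib.Helper25.SchDomNilp
  Groth.Agent.Lib.Helper25.SepFibSch

variable {X S : Scheme.{u}}

set_option maxHeartbeats 2000000 in
/-- **EGA IV 11.10.9, b) ⇒ a)**. -/
theorem schDom_univ_of_fibrewise [IsLocallyNoetherian X] (p : X ⟶ S) {ι : Type u} (Z : ι → Scheme.{u})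
    (f : ∀ i, Z i ⟶ X) (hflat : ∀ i, Flat (f i ≫ p))
    (fs : ∀ (s : S) (i : ι), pullback (f i ≫ p) (S.fromSpecResidueField s) ⟶
      pullback p (S.fromSpecResidueField s))
    (hfs1 : ∀ s i, fs s i ≫ pullback.fst p (S.fromSpecResidueField s) =
      pullback.fst (f i ≫ p) (S.fromSpecResidueField s) ≫ f i)
    (hfs2 : ∀ s i, fs s i ≫ pullback.snd p (S.fromSpecResidueField s) =
      pullback.snd (f i ≫ p) (S.fromSpecResidueField s))
    (hfib : ∀ s, SchDom (fs s))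
    {S' : Scheme.{u}} (g : S' ⟶ S) (f' : ∀ i, pullback (f i ≫ p) g ⟶ pullback p g)
    (hf'1 : ∀ i, f' i ≫ pullback.fst p g = pullback.fst (f i ≫ p) g ≫ f i)
    (hf'2 : ∀ i, f' i ≫ pullback.snd p g = pullback.snd (f i ≫ p) g) :
    SchDom f' := by
  refine schDom_of_sepRing_cover f'
    (fun U' => ∃ (US : S.Opens) (UX : X.Opens) (UT : S'.Opens) (hXS : UX ≤ p ⁻¹ᵁ US)
      (hTS : UT ≤ g ⁻¹ᵁ US), IsAffineOpen US ∧ IsAffineOpen UX ∧ IsAffineOpen UT ∧
      U' = pullback.fst p g ⁻¹ᵁ UX ⊓ pullback.snd p g ⁻¹ᵁ UT) ?_ ?_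
  · intro x'
    obtain ⟨US, hUS, hsUS, -⟩ :=
      exists_isAffineOpen_mem_and_subset (x := p (pullback.fst p g x')) (U := ⊤) trivial
    obtain ⟨UX, hUX, hxUX, hUXle⟩ :=
      exists_isAffineOpen_mem_and_subset (x := pullback.fst p g x') (U := p ⁻¹ᵁ US) hsUS
    have hcond : g (pullback.snd p g x') = p (pullback.fst p g x') := by
      rw [← Scheme.Hom.comp_apply, ← Scheme.Hom.comp_apply, pullback.condition]
    obtain ⟨UT, hUT, hxUT, hUTle⟩ :=
      exists_isAffineOpen_mem_and_subset (x := pullback.snd p g x') (U := g ⁻¹ᵁ US)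
        (by show g _ ∈ US; rw [hcond]; exact hsUS)
    exact ⟨_, ⟨US, UX, UT, hUXle, hUTle, hUS, hUX, hUT, rfl⟩, ⟨hxUX, hxUT⟩⟩
  · rintro O' ⟨US, UX, UT, hXS, hTS, hUS, hUX, hUT, rfl⟩
    obtain ⟨hO', hpo⟩ := pullback_affine p g hUS hUX hUT hXS hTS
    have hsq := fun l : (Σ j, {U : (Z j).Opens // IsAffineOpen U ∧ U ≤ f j ⁻¹ᵁ UX}) =>
      pullback_map_affine p g (f l.1) (f' l.1) (hf'1 l.1) (hf'2 l.1) hUS hUX hUT l.2.2.1 hXS hTS l.2.2.2
    refine ⟨hO', Σ j, {U : (Z j).Opens // IsAffineOpen U ∧ U ≤ f j ⁻¹ᵁ UX}, Sigma.fst,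
      fun l => pullback.fst (f l.1 ≫ p) g ⁻¹ᵁ l.2.1 ⊓ pullback.snd (f l.1 ≫ p) g ⁻¹ᵁ UT,
      fun l => (pullback_affine (f l.1 ≫ p) g hUS l.2.2.1 hUT (fun y hy => hXS (l.2.2.2 hy)) hTS).1,
      fun l => (hsq l).1, ?_⟩
    refine sepRing_of_isPushout
      (Λ := Σ j, {U : (Z j).Opens // IsAffineOpen U ∧ U ≤ f j ⁻¹ᵁ UX})
      ((pullback.fst p g).appLE UX _ inf_le_left).hom
      (fun l : (Σ j, {U : (Z j).Opens // IsAffineOpen U ∧ U ≤ f j ⁻¹ᵁ UX}) =>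
        ((f l.1).appLE UX l.2.1 l.2.2.2).hom)
      (fun l : (Σ j, {U : (Z j).Opens // IsAffineOpen U ∧ U ≤ f j ⁻¹ᵁ UX}) =>
        ((pullback.fst (f l.1 ≫ p) g).appLE l.2.1
          (pullback.fst (f l.1 ≫ p) g ⁻¹ᵁ l.2.1 ⊓ pullback.snd (f l.1 ≫ p) g ⁻¹ᵁ UT) inf_le_left).hom)
      (fun l : (Σ j, {U : (Z j).Opens // IsAffineOpen U ∧ U ≤ f j ⁻¹ᵁ UX}) =>
        ((f' l.1).appLE (pullback.fst p g ⁻¹ᵁ UX ⊓ pullback.snd p g ⁻¹ᵁ UT)
          (pullback.fst (f l.1 ≫ p) g ⁻¹ᵁ l.2.1 ⊓ pullback.snd (f l.1 ≫ p) g ⁻¹ᵁ UT) (hsq l).1).hom)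
      (fun l => (hsq l).2) ?_
    letI : ∀ l : (Σ j, {U : (Z j).Opens // IsAffineOpen U ∧ U ≤ f j ⁻¹ᵁ UX}),
        Algebra Γ(X, UX) Γ(Z l.1, l.2.1) := fun l => ((f l.1).appLE UX l.2.1 l.2.2.2).hom.toAlgebra
    haveI : IsNoetherianRing Γ(X, UX) := IsLocallyNoetherian.component_noetherian ⟨UX, hUX⟩
    refine sepAlg_baseChange_of_fibSep_of_isPushout _ _ _ _ hpo inferInstance inferInstance _
      (fun l => ?_) ?_
    · have h1 := HasRingHomProperty.appLE (P := @Flat) (f l.1 ≫ p) (hflat l.1) ⟨US, hUS⟩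
        ⟨l.2.1, l.2.2.1⟩ (fun y hy => hXS (l.2.2.2 hy))
      have e1 : (f l.1 ≫ p).appLE US l.2.1 (fun y hy => hXS (l.2.2.2 hy)) =
          p.appLE US UX hXS ≫ (f l.1).appLE UX l.2.1 l.2.2.2 :=
        (Scheme.Hom.appLE_comp_appLE _ _ _ _ _ _ _).symm
      rw [e1] at h1
      exact h1
    · letI := (p.appLE US UX hXS).hom.toAlgebra
      refine fibSep_of_forall_field _ (fun L _ ψ => ?_)
      obtain ⟨s, hs, σ, hσ⟩ := exists_residueField_factorization hUS ψ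
      obtain ⟨hUf, hpof⟩ := pullback_affine p (S.fromSpecResidueField s) hUS hUX (isAffineOpen_top _) hXS hs
      have hsqs := fun l : (Σ j, {U : (Z j).Opens // IsAffineOpen U ∧ U ≤ f j ⁻¹ᵁ UX}) =>
        pullback_map_affine p (S.fromSpecResidueField s) (f l.1) (fs s l.1) (hfs1 s l.1) (hfs2 s l.1)
          hUS hUX (isAffineOpen_top _) l.2.2.1 hXS hs l.2.2.2
      have hred := sepRing_of_schDom (fs s) (hfib s) hUf
        (fun j => {U : (Z j).Opens // IsAffineOpen U ∧ U ≤ f j ⁻¹ᵁ UX})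
        (fun j U => pullback.fst (f j ≫ p) (S.fromSpecResidueField s) ⁻¹ᵁ U.1 ⊓
          pullback.snd (f j ≫ p) (S.fromSpecResidueField s) ⁻¹ᵁ ⊤)
        (fun j U => (hsqs ⟨j, U⟩).1) (fun j z hz => by
          have hz1 : z ∈ (fs s j ≫ pullback.fst p (S.fromSpecResidueField s)) ⁻¹ᵁ UX := hz.1
          rw [hfs1] at hz1
          obtain ⟨U, hU, hzU, hUle⟩ := exists_isAffineOpen_mem_and_subset
            (x := pullback.fst (f j ≫ p) (S.fromSpecResidueField s) z) (U := f j ⁻¹ᵁ UX) hz1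
          exact ⟨⟨U, hU, hUle⟩, ⟨hzU, trivial⟩⟩)
      have hS := sepAlg_baseChange_of_sepRing_isPushout
        (Λ := Σ j, {U : (Z j).Opens // IsAffineOpen U ∧ U ≤ f j ⁻¹ᵁ UX})
        ((pullback.fst p (S.fromSpecResidueField s)).appLE UX _ inf_le_left).hom
        (fun l : (Σ j, {U : (Z j).Opens // IsAffineOpen U ∧ U ≤ f j ⁻¹ᵁ UX}) =>
          ((f l.1).appLE UX l.2.1 l.2.2.2).hom)
        (fun l : (Σ j, {U : (Z j).Opens // IsAffineOpen U ∧ U ≤ f j ⁻¹ᵁ UX}) =>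
          ((pullback.fst (f l.1 ≫ p) (S.fromSpecResidueField s)).appLE l.2.1
            (pullback.fst (f l.1 ≫ p) (S.fromSpecResidueField s) ⁻¹ᵁ l.2.1 ⊓
              pullback.snd (f l.1 ≫ p) (S.fromSpecResidueField s) ⁻¹ᵁ ⊤) inf_le_left).hom)
        (fun l : (Σ j, {U : (Z j).Opens // IsAffineOpen U ∧ U ≤ f j ⁻¹ᵁ UX}) =>
          ((fs s l.1).appLE (pullback.fst p (S.fromSpecResidueField s) ⁻¹ᵁ UX ⊓
              pullback.snd p (S.fromSpecResidueField s) ⁻¹ᵁ ⊤)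
            (pullback.fst (f l.1 ≫ p) (S.fromSpecResidueField s) ⁻¹ᵁ l.2.1 ⊓
              pullback.snd (f l.1 ≫ p) (S.fromSpecResidueField s) ⁻¹ᵁ ⊤) (hsqs l).1).hom)
        (fun l => (hsqs l).2) hred
      have hK : IsField Γ(Spec (S.residueField s), ⊤) :=
        MulEquiv.isField (Field.toIsField (S.residueField s))
          (Scheme.ΓSpecIso (S.residueField s)).commRingCatIsoToRingEquiv.toMulEquiv
      exact ⟨Γ(Spec (S.residueField s), ⊤), inferInstance, hK, _, σ, hσ, _, inferInstance, _, _, hpof, hS⟩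

end Groth.Agent.Lib.Helper25.SchDomFib
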