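import Mathlib
import Groth.Agent.Lib.Helper25.LocTower
import Groth.Agent.Lib.Helper25.InvDescA
import Groth.Agent.Lib.Helper25.RelGenC
import Groth.Agent.Lib.Helper25.LimFlatTower
import Groth.Agent.Lib.Helper13.LimDescendCore
import Groth.Agent.Lib.Helper28.PullbackInv2

/-!
# helper25 — StalkInv: an invertible module on `X ×_S Spec 𝒪_{S,s}` (with `X ⟶ S` quasi-compact, quasi-separated,
e.g. proper) extends to an invertible module over an open neighbourhood of `s`.
-/

set_option backward.isDefEq.respectTransparency.types false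
set_option autoImplicit false
set_option linter.unusedVariables false
set_option linter.style.haveILetI false
set_option linter.unusedSectionVars false
universe u
open AlgebraicGeometry CategoryTheory Limits TopologicalSpace Opposite

namespace Groth.Agent.Lib.Helper25.StalkInv

open Groth.Agent.Lib.Helper25.LocTower Groth.Agent.Lib.Helper25.InvDesc
  Groth.Agent.Lib.Helper25.ModMapLocal Groth.Agent.Lib.Helper22
  Groth.Agent.Lib.Helper25.LimFlatTower Groth.Agent.Lib.Helper13.LimDescend
  Groth.Agent.Lib.Helper21.FPQuot Groth.Agent.Lib.Helper25.LimModDesc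

section setup

variable {S : Scheme.{u}} (s : S) {U : S.Opens} (hU : IsAffineOpen U) (hsU : s ∈ U)

/-- the stalk as an algebra over the sections on an affine neighbourhood -/
@[reducible] noncomputable def germAlg : Algebra Γ(S, U) (S.presheaf.stalk s) :=
  (S.presheaf.germ U s hsU).hom.toAlgebra

/-- the multiplicative set of functions not vanishing at `s` -/
noncomputable abbrev Mp : Submonoid Γ(S, U) := (hU.primeIdealOf ⟨s, hsU⟩).asIdeal.primeCompl

theorem isLoc : letI := germAlg s hsU
    IsLocalization (Mp s hU hsU) (S.presheaf.stalk s) :=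
  hU.isLocalization_stalk ⟨s, hsU⟩

/-- structure map of a stage to `S` -/
noncomputable def stageStr (T : (Finset (Mp s hU hsU))ᵒᵖ) :
    (specDiag Γ(S, U) (Mp s hU hsU)).obj T ⟶ S :=
  specStr Γ(S, U) (Mp s hU hsU) T ≫ hU.fromSpec

instance (T : (Finset (Mp s hU hsU))ᵒᵖ) : IsOpenImmersion (stageStr s hU hsU T) := by
  unfold stageStr
  infer_instance

lemma stageStr_map {T T' : (Finset (Mp s hU hsU))ᵒᵖ} (φ : T ⟶ T') :
    (specDiag Γ(S, U) (Mp s hU hsU)).map φ ≫ stageStr s hU hsU T' = stageStr s hU hsU T := by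
  unfold stageStr
  rw [← Category.assoc, specDiag_map_str]

/-- the limit cone -/
noncomputable def cone : Cone (specDiag Γ(S, U) (Mp s hU hsU)) :=
  letI := germAlg s hsU
  haveI := isLoc s hU hsU
  specCone Γ(S, U) (Mp s hU hsU) (S.presheaf.stalk s)

/-- it is a limit cone -/
noncomputable def isLimit : IsLimit (cone s hU hsU) :=
  letI := germAlg s hsU
  haveI := isLoc s hU hsU
  specIsLimit Γ(S, U) (Mp s hU hsU) (S.presheaf.stalk s)

/-- the cone legs, with source written as `Spec` of the stalk -/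
noncomputable def leg (T : (Finset (Mp s hU hsU))ᵒᵖ) :
    Spec (S.presheaf.stalk s) ⟶ (specDiag Γ(S, U) (Mp s hU hsU)).obj T :=
  (cone s hU hsU).π.app T

lemma leg_stageStr (T : (Finset (Mp s hU hsU))ᵒᵖ) :
    leg s hU hsU T ≫ stageStr s hU hsU T = S.fromSpecStalk s := by
  letI := germAlg s hsU
  haveI := isLoc s hU hsU
  have h1 : leg s hU hsU T ≫ specStr Γ(S, U) (Mp s hU hsU) T =
      Spec.map (S.presheaf.germ U s hsU) :=
    specCone_π_str Γ(S, U) (Mp s hU hsU) (S.presheaf.stalk s) T
  calc leg s hU hsU T ≫ stageStr s hU hsU T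
      = (leg s hU hsU T ≫ specStr Γ(S, U) (Mp s hU hsU) T) ≫ hU.fromSpec :=
        (Category.assoc _ _ _).symm
    _ = Spec.map (S.presheaf.germ U s hsU) ≫ hU.fromSpec := by rw [h1]
    _ = S.fromSpecStalk s := hU.fromSpecStalk_eq_fromSpecStalk hsU

lemma mem_opensRange_stageStr (T : (Finset (Mp s hU hsU))ᵒᵖ) :
    s ∈ (stageStr s hU hsU T).opensRange := by
  refine ⟨leg s hU hsU T (IsLocalRing.closedPoint (S.presheaf.stalk s)), ?_⟩
  rw [← Scheme.Hom.comp_apply, leg_stageStr]
  exact Scheme.fromSpecStalk_closedPoint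

end setup

section main

theorem isInvertible_of_iso' {X : Scheme.{u}} {L L' : X.Modules} (e : L ≅ L') (hL : PicF.IsInvertible L) :
    PicF.IsInvertible L' :=
  isInvertible_of_trivOn_cover _ (fun x => by
    obtain ⟨V, hx, h⟩ := exists_trivOn_of_isInvertible hL x
    exact ⟨V, hx, h.of_iso e⟩)

set_option maxHeartbeats 2000000 in
theorem main {X S : Scheme.{u}} (f : X ⟶ S) [QuasiCompact f] [QuasiSeparated f] (s : S)
    (L : (pullback f (S.fromSpecStalk s)).Modules) (hL : PicF.IsInvertible L) :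
    ∃ (V : S.Opens) (_ : s ∈ V) (L' : (↑(f ⁻¹ᵁ V) : Scheme.{u}).Modules), PicF.IsInvertible L' ∧
      ∀ (ι : pullback f (S.fromSpecStalk s) ⟶ ↑(f ⁻¹ᵁ V)),
        ι ≫ (f ⁻¹ᵁ V).ι = pullback.fst f (S.fromSpecStalk s) →
        Nonempty ((Scheme.Modules.pullback ι).obj L' ≅ L) := by
  classical
  obtain ⟨_, ⟨U, hU : IsAffineOpen U, rfl⟩, hsU, -⟩ :=
    S.isBasis_affineOpens.exists_subset_of_mem_open (Set.mem_univ s) isOpen_univ
  let E := specDiag Γ(S, U) (Mp s hU hsU)
  let e : Cone E := cone s hU hsU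
  have he : IsLimit e := isLimit s hU hsU
  let k : (Finset (Mp s hU hsU))ᵒᵖ := op ∅
  let b₀ : E.obj k ⟶ S := stageStr s hU hsU k
  let fk : pullback f b₀ ⟶ E.obj k := pullback.snd f b₀
  let rX : pullback f b₀ ⟶ X := pullback.fst f b₀
  haveI : QuasiCompact fk := MorphismProperty.pullback_snd (P := @QuasiCompact) _ _ inferInstance
  haveI : QuasiSeparated fk := MorphismProperty.pullback_snd (P := @QuasiSeparated) _ _ inferInstance
  haveI : CompactSpace ↥(pullback f b₀) := QuasiCompact.compactSpace_of_compactSpace fk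
  haveI : QuasiSeparatedSpace ↥(pullback f b₀) := quasiSeparatedSpace_of_quasiSeparated fk
  -- the limit side
  let π₀ : Spec (S.presheaf.stalk s) ⟶ E.obj k := e.π.app k
  have heq : π₀ ≫ b₀ = S.fromSpecStalk s := leg_stageStr s hU hsU k
  let gK := pullback.snd f (S.fromSpecStalk s)
  let qX : pullback f (S.fromSpecStalk s) ⟶ pullback f b₀ :=
    pullback.lift (pullback.fst f (S.fromSpecStalk s)) (gK ≫ π₀)
      (by rw [Category.assoc, heq]; exact pullback.condition)
  have hqX1 : qX ≫ rX = pullback.fst f (S.fromSpecStalk s) := pullback.lift_fst _ _ _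
  have hqX2 : qX ≫ fk = gK ≫ π₀ := pullback.lift_snd _ _ _
  have hX : IsPullback qX gK fk π₀ := by
    have big : IsPullback (qX ≫ rX) gK f (π₀ ≫ b₀) := by
      rw [hqX1, heq]; exact IsPullback.of_hasPullback f (S.fromSpecStalk s)
    exact IsPullback.of_right big hqX2 (IsPullback.of_hasPullback f b₀)
  let ιX : pullback f (S.fromSpecStalk s) ≅ pullback π₀ fk := hX.flip.isoPullback
  have hιX2 : ιX.hom ≫ pullback.snd π₀ fk = qX := hX.flip.isoPullback_hom_snd
  -- the module on the limit of the `X`-tower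
  let Linf : (bcCone E e k fk).pt.Modules := (Scheme.Modules.pullback ιX.inv).obj L
  have hLinf : PicF.IsInvertible Linf :=
    Groth.Agent.Lib.Helper28.PullbackInv.isInvertible_pullback ιX.inv hL
  haveI hLinffp : SheafOfModules.IsFinitePresentation.{u} (R := (bcCone E e k fk).pt.ringCatSheaf) Linf :=
    Groth.Agent.Lib.Helper25.RelGen.isFinitePresentation_of_isInvertible Linf hLinf
  -- instances for the `X`-tower
  haveI hEaff : ∀ (i j : (Finset (Mp s hU hsU))ᵒᵖ) (φ : i ⟶ j), IsAffineHom (E.map φ) :=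
    fun _ _ φ => inferInstance
  haveI hXT : ∀ (m m' : Over k) (φ : m ⟶ m'), IsAffineHom ((bcDiag E k fk).map φ) :=
    fun _ _ φ => inferInstance
  haveI hcomp : ∀ m : Over k, CompactSpace ((bcDiag E k fk).obj m) := fun m => inferInstance
  let tp : Over k := top k
  let stop : pullback (E.map tp.hom) fk ⟶ pullback f b₀ := pullback.snd (E.map tp.hom) fk
  haveI : IsAffineHom stop := MorphismProperty.pullback_snd (P := @IsAffineHom) _ _ inferInstance
  haveI : IsSeparated stop := IsSeparated.of_isAffineHom stop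
  have hqs : QuasiSeparatedSpace ↥(pullback (E.map tp.hom) fk) :=
    quasiSeparatedSpace_of_quasiSeparated stop
  haveI : QuasiSeparatedSpace ((bcDiag E k fk).obj tp) := hqs
  obtain ⟨m, φ, Lm, hLmq, hLmfp, ⟨em⟩⟩ := exists_module_descend (bcDiag E k fk)
    (bcIsLimit E he k fk) tp Linf
  haveI := hLmfp
  have hinvm : PicF.IsInvertible
      ((Scheme.Modules.pullback ((bcCone E e k fk).π.app m)).obj Lm) :=
    isInvertible_of_iso' em.symm hLinf
  obtain ⟨m', φ', hinv'⟩ := exists_stage_isInvertible (bcDiag E k fk) (bcIsLimit E he k fk) m Lm hinvm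
  -- the stage scheme and its identification with an open subscheme of `X`
  let Lm' : ((bcDiag E k fk).obj m').Modules :=
    (Scheme.Modules.pullback ((bcDiag E k fk).map φ')).obj Lm
  let str : E.obj m'.left ⟶ S := stageStr s hU hsU m'.left
  let V : S.Opens := str.opensRange
  have hsV : s ∈ V := mem_opensRange_stageStr s hU hsU m'.left
  let j' : pullback (E.map m'.hom) fk ⟶ X := pullback.snd (E.map m'.hom) fk ≫ rX
  have hstr : E.map m'.hom ≫ b₀ = str := stageStr_map s hU hsU m'.hom
  have sq : IsPullback j' (pullback.fst (E.map m'.hom) fk) f str := by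
    have h1 := (IsPullback.of_hasPullback (E.map m'.hom) fk).flip.paste_horiz
      (IsPullback.of_hasPullback f b₀)
    rw [hstr] at h1
    exact h1
  haveI : IsOpenImmersion j' :=
    MorphismProperty.of_isPullback (P := @IsOpenImmersion) sq.flip inferInstance
  have hrange : Set.range j' = Set.range (f ⁻¹ᵁ V).ι := by
    rw [Scheme.Opens.range_ι]
    have h1 : sq.isoPullback.hom ≫ pullback.fst f str = j' := sq.isoPullback_hom_fst
    have h2 : Set.range (pullback.fst f str) = f ⁻¹' Set.range str := Scheme.Pullback.range_fst f str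
    ext x
    constructor
    · rintro ⟨y, rfl⟩
      have : j' y = pullback.fst f str (sq.isoPullback.hom y) :=
        congrArg (fun t : pullback (E.map m'.hom) fk ⟶ X => t y) h1.symm
      rw [this]
      have h3 : pullback.fst f str (sq.isoPullback.hom y) ∈ Set.range (pullback.fst f str) := ⟨_, rfl⟩
      rw [h2] at h3
      exact h3
    · intro hx
      have h3 : x ∈ Set.range (pullback.fst f str) := by rw [h2]; exact hx
      obtain ⟨z, rfl⟩ := h3
      refine ⟨sq.isoPullback.inv z, ?_⟩
      have h4 : sq.isoPullback.inv ≫ j' = pullback.fst f str := sq.isoPullback_inv_fst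
      exact congrArg (fun t : pullback f str ⟶ X => t z) h4
  let Θ : pullback (E.map m'.hom) fk ≅ ↑(f ⁻¹ᵁ V) :=
    IsOpenImmersion.isoOfRangeEq j' (f ⁻¹ᵁ V).ι hrange
  have hΘ : Θ.inv ≫ j' = (f ⁻¹ᵁ V).ι := IsOpenImmersion.isoOfRangeEq_inv_fac _ _ _
  let L' : (↑(f ⁻¹ᵁ V) : Scheme.{u}).Modules := (Scheme.Modules.pullback Θ.inv).obj Lm'
  have hL' : PicF.IsInvertible L' :=
    Groth.Agent.Lib.Helper28.PullbackInv.isInvertible_pullback Θ.inv hinv'
  refine ⟨V, hsV, L', hL', fun ι hι => ?_⟩
  let p' : pullback f (S.fromSpecStalk s) ⟶ pullback (E.map m'.hom) fk :=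
    ιX.hom ≫ proj E e k fk m'
  have hps : proj E e k fk m' ≫ pullback.snd (E.map m'.hom) fk = pullback.snd π₀ fk :=
    proj_snd E e k fk m'
  have h_b : proj E e k fk m' ≫ (pullback.snd (E.map m'.hom) fk ≫ rX) = pullback.snd π₀ fk ≫ rX :=
    (Category.assoc _ _ _).symm.trans (congrArg (fun t => t ≫ rX) hps)
  have h_d : ιX.hom ≫ (pullback.snd π₀ fk ≫ rX) = pullback.fst f (S.fromSpecStalk s) :=
    (Category.assoc _ _ _).symm.trans ((congrArg (fun t => t ≫ rX) hιX2).trans hqX1)
  have hp'j : p' ≫ j' = pullback.fst f (S.fromSpecStalk s) :=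
    (Category.assoc _ _ _).trans ((congrArg (fun t => ιX.hom ≫ t) h_b).trans h_d)
  have hclaim : ι ≫ Θ.inv = p' := by
    rw [← cancel_mono j', Category.assoc, hΘ, hι, hp'j]
  have hw2 : p' ≫ (bcDiag E k fk).map φ' = ιX.hom ≫ (bcCone E e k fk).π.app m :=
    (Category.assoc _ _ _).trans (congrArg (fun t => ιX.hom ≫ t) ((bcCone E e k fk).w φ'))
  exact ⟨(compIso ι Θ.inv p' hclaim).app Lm' ≪≫
    (compIso p' ((bcDiag E k fk).map φ') (ιX.hom ≫ (bcCone E e k fk).π.app m) hw2).app Lm ≪≫
    ((compIso ιX.hom ((bcCone E e k fk).π.app m) _ rfl).app Lm).symm ≪≫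
    (Scheme.Modules.pullback ιX.hom).mapIso em ≪≫
    (compIso ιX.hom ιX.inv (𝟙 _) ιX.hom_inv_id).app L ≪≫ (Scheme.Modules.pullbackId _).app L⟩

end main

end Groth.Agent.Lib.Helper25.StalkInv
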