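import Mathlib
import Groth.Agent.Lib.Helper25.NoethFlatA
import Groth.Agent.Lib.Helper7.FlatBCComp
import Groth.Agent.Lib.Helper17.FibreStalk
import Groth.Agent.S5973
import Groth.Agent.Lib.Helper27.NoethLfp

/-!
# helper25 — StratA: flatness over strata of a chain of ideal sheaves, and its pullback along a base change.
-/

set_option backward.isDefEq.respectTransparency.types false
set_option autoImplicit false
set_option linter.unusedSectionVars false
set_option linter.unusedVariables false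
set_option linter.style.haveILetI false
universe u

open CategoryTheory CategoryTheory.Limits AlgebraicGeometry Topology

namespace Groth.Agent.Lib.Helper25.Strat

open Groth.Agent.Lib.Helper7.FlatChart Groth.Agent.Lib.Helper17.FibreStalk
  Groth.Agent.Lib.Helper25.ModMapLocal

/-- flatness of the pullback of `F` over a base change `ι : W ⟶ S` -/
def FlatOn {X S : Scheme.{u}} (f : X ⟶ S) (F : X.Modules) {W : Scheme.{u}} (ι : W ⟶ S) : Prop :=
  FlatMod.IsFlatOver (pullback.snd f ι) ((Scheme.Modules.pullback (pullback.fst f ι)).obj F)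

/-- the stratum `V(a) ∖ V(b)`, as a scheme over `S` -/
noncomputable abbrev stratumι {S : Scheme.{u}} (a b : S.IdealSheafData) :
    (a.subschemeι ⁻¹ᵁ b.support.compl).toScheme ⟶ S :=
  (a.subschemeι ⁻¹ᵁ b.support.compl).ι ≫ a.subschemeι

/-- flatness of `F` over the stratum `V(a) ∖ V(b)` -/
def StrataFlat {X S : Scheme.{u}} (f : X ⟶ S) (F : X.Modules) (a b : S.IdealSheafData) : Prop :=
  FlatOn f F (stratumι a b)

/-- a flattening chain of ideal sheaves -/
def IsFlatChain {X S : Scheme.{u}} (f : X ⟶ S) (F : X.Modules) (t : ℕ)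
    (I : Fin (t + 1) → S.IdealSheafData) : Prop :=
  Monotone I ∧ I (Fin.last t) = ⊤ ∧ ∀ i : Fin t, StrataFlat f F (I i.castSucc) (I i.succ)

lemma flatOn_congr {X S : Scheme.{u}} (f : X ⟶ S) (F : X.Modules) {W : Scheme.{u}} {ι ι' : W ⟶ S}
    (h : ι = ι') (H : FlatOn f F ι) : FlatOn f F ι' := by subst h; exact H

/-- flatness over a base change is inherited by a further base change, compatibly with a base change of
the whole situation -/
theorem flatOn_of_factor {X S X₀ S₀ : Scheme.{u}} {f : X ⟶ S} {f₀ : X₀ ⟶ S₀} {q : X ⟶ X₀}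
    {φ : S ⟶ S₀} (hX : IsPullback q f f₀ φ) (F : X.Modules) [F.IsQuasicoherent] (F₀ : X₀.Modules)
    [F₀.IsQuasicoherent] (eF : F ≅ (Scheme.Modules.pullback q).obj F₀)
    {W W₀ : Scheme.{u}} (ι : W ⟶ S) (ι₀ : W₀ ⟶ S₀) (h : W ⟶ W₀) (hh : h ≫ ι₀ = ι ≫ φ)
    (H : FlatOn f₀ F₀ ι₀) : FlatOn f F ι := by
  intro x'
  let k : pullback f ι ⟶ pullback f₀ ι₀ :=
    pullback.lift (pullback.fst f ι ≫ q) (pullback.snd f ι ≫ h)
      (by rw [Category.assoc, hX.w, Category.assoc, hh, ← Category.assoc, ← Category.assoc,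
        pullback.condition])
  have hk1 : k ≫ pullback.fst f₀ ι₀ = pullback.fst f ι ≫ q := pullback.lift_fst _ _ _
  have hk2 : k ≫ pullback.snd f₀ ι₀ = pullback.snd f ι ≫ h := pullback.lift_snd _ _ _
  have big : IsPullback (k ≫ pullback.fst f₀ ι₀) (pullback.snd f ι) f₀ (h ≫ ι₀) := by
    rw [hk1, hh]
    exact (IsPullback.of_hasPullback f ι).paste_horiz hX
  have sq : IsPullback k (pullback.snd f ι) (pullback.snd f₀ ι₀) h :=
    IsPullback.of_right big hk2 (IsPullback.of_hasPullback f₀ ι₀)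
  have h1 := isFlatOverAt_baseChange (pullback.snd f₀ ι₀) (pullback.snd f ι) k h sq
    ((Scheme.Modules.pullback (pullback.fst f₀ ι₀)).obj F₀) x' (H (k x'))
  let eiso : (Scheme.Modules.pullback k).obj ((Scheme.Modules.pullback (pullback.fst f₀ ι₀)).obj F₀) ≅
      (Scheme.Modules.pullback (pullback.fst f ι)).obj F :=
    (compIso k (pullback.fst f₀ ι₀) (pullback.fst f ι ≫ q) hk1).app F₀ ≪≫
      ((compIso (pullback.fst f ι) q (pullback.fst f ι ≫ q) rfl).app F₀).symm ≪≫
      (Scheme.Modules.pullback (pullback.fst f ι)).mapIso eF.symm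
  exact isFlatOverAt_of_iso _ eiso x' h1

/-- flatness over a stratum pulls back along a base change -/
theorem strataFlat_comap {X S X₀ S₀ : Scheme.{u}} {f : X ⟶ S} {f₀ : X₀ ⟶ S₀} {q : X ⟶ X₀}
    {φ : S ⟶ S₀} (hX : IsPullback q f f₀ φ) (F : X.Modules) [F.IsQuasicoherent] (F₀ : X₀.Modules)
    [F₀.IsQuasicoherent] (eF : F ≅ (Scheme.Modules.pullback q).obj F₀)
    (a₀ b₀ : S₀.IdealSheafData) (H : StrataFlat f₀ F₀ a₀ b₀) :
    StrataFlat f F (a₀.comap φ) (b₀.comap φ) := by
  let m : (a₀.comap φ).subscheme ⟶ a₀.subscheme :=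
    Scheme.IdealSheafData.subschemeMap (a₀.comap φ) a₀ φ (a₀.le_map_comap φ)
  have hm : m ≫ a₀.subschemeι = (a₀.comap φ).subschemeι ≫ φ :=
    Scheme.IdealSheafData.subschemeMap_subschemeι _ _ _ _
  have hle : (a₀.comap φ).subschemeι ⁻¹ᵁ (b₀.comap φ).support.compl ≤
      m ⁻¹ᵁ (a₀.subschemeι ⁻¹ᵁ b₀.support.compl) := by
    intro x hx
    change a₀.subschemeι (m x) ∉ (b₀.support : Set S₀)
    have hx' : (a₀.comap φ).subschemeι x ∉ ((b₀.comap φ).support : Set S) := hx
    rw [Scheme.IdealSheafData.support_comap] at hx'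
    have e1 : a₀.subschemeι (m x) = φ ((a₀.comap φ).subschemeι x) := by
      rw [← Scheme.Hom.comp_apply, hm, Scheme.Hom.comp_apply]
    rw [e1]
    exact hx'
  let h := m.resLE _ _ hle
  refine flatOn_of_factor hX F F₀ eF (stratumι (a₀.comap φ) (b₀.comap φ)) (stratumι a₀ b₀) h ?_ H
  change m.resLE _ _ hle ≫ (a₀.subschemeι ⁻¹ᵁ b₀.support.compl).ι ≫ a₀.subschemeι = _
  rw [Scheme.Hom.resLE_comp_ι_assoc, hm, Category.assoc]

/-- a flattening chain pulls back to a flattening chain -/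
theorem isFlatChain_comap {X S X₀ S₀ : Scheme.{u}} {f : X ⟶ S} {f₀ : X₀ ⟶ S₀} {q : X ⟶ X₀}
    {φ : S ⟶ S₀} (hX : IsPullback q f f₀ φ) (F : X.Modules) [F.IsQuasicoherent] (F₀ : X₀.Modules)
    [F₀.IsQuasicoherent] (eF : F ≅ (Scheme.Modules.pullback q).obj F₀) {t : ℕ}
    {I : Fin (t + 1) → S₀.IdealSheafData} (H : IsFlatChain f₀ F₀ t I) :
    IsFlatChain f F t (fun i => (I i).comap φ) := by
  refine ⟨fun i j hij => Scheme.IdealSheafData.comap_mono φ (H.1 hij), ?_, fun i => ?_⟩
  · change (I (Fin.last t)).comap φ = ⊤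
    rw [H.2.1, Scheme.IdealSheafData.comap_top]
  · exact strataFlat_comap hX F F₀ eF _ _ (H.2.2 i)

/-- the ideals of the pullback of an ideal sheaf on a locally Noetherian scheme are finitely generated -/
theorem fg_comap {S S₀ : Scheme.{u}} (φ : S ⟶ S₀) [IsLocallyNoetherian S₀] (a₀ : S₀.IdealSheafData)
    (U : S.affineOpens) : ((a₀.comap φ).ideal U).FG := by
  haveI : LocallyOfFinitePresentation a₀.subschemeι :=
    Groth.Agent.Lib.Helper27.NoethLfp.locallyOfFinitePresentation_of_isLocallyNoetherian _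
  exact Groth.Agent.S5973.fg_ker_of_lfp (pullback.fst φ a₀.subschemeι) U

end Groth.Agent.Lib.Helper25.Strat
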