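import Mathlib
import Groth.Agent.Lib.Helper25.StratA
import Groth.Agent.Lib.Helper7.GenericFlat
import Groth.Agent.Lib.Helper24.FibreDim.Main4944
import Groth.Agent.Lib.Helper17.FinTypePushPull

/-!
# helper25 — StratB: the generic flatness stratification over a Noetherian base.
-/

set_option backward.isDefEq.respectTransparency.types false
set_option autoImplicit false
set_option linter.unusedSectionVars false
set_option linter.unusedVariables false
set_option linter.style.haveILetI false
universe u

open CategoryTheory CategoryTheory.Limits AlgebraicGeometry Topology TopologicalSpace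

namespace Groth.Agent.Lib.Helper25.Strat

open Groth.Agent.Lib.Helper7.FlatChart Groth.Agent.Lib.Helper17.FibreStalk
  Groth.Agent.Lib.Helper25.ModMapLocal

/-- a nonempty reduced Noetherian scheme has a nonempty integral open subscheme -/
theorem exists_integral_open (T : Scheme.{u}) [IsReduced T] [IsNoetherian T] [Nonempty T] :
    ∃ V : T.Opens, (V : Set T).Nonempty ∧ IsIntegral V.toScheme := by
  obtain ⟨x⟩ := ‹Nonempty T›
  obtain ⟨o, ho, hne, hsub⟩ := NoetherianSpace.exists_isOpen_nonempty_subset_irreducibleComponent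
    (irreducibleComponent x) (irreducibleComponent_mem_irreducibleComponents x)
  have hirr : IsIrreducible o :=
    ⟨hne, isIrreducible_irreducibleComponent.isPreirreducible.open_subset ho hsub⟩
  let V : T.Opens := ⟨o, ho⟩
  refine ⟨V, hne, ?_⟩
  haveI : IrreducibleSpace V.toScheme := Subtype.irreducibleSpace hirr
  exact isIntegral_of_irreducibleSpace_of_isReduced _

/-- flatness over the opens contained in the image of a flatness open -/
theorem flatOn_of_le {X S T : Scheme.{u}} (f : X ⟶ S) (F : X.Modules) [F.IsQuasicoherent]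
    (j : T ⟶ S) (V : T.Opens) (U : V.toScheme.Opens)
    (hU : ∀ x : ↥(pullback f (V.ι ≫ j)), pullback.snd f (V.ι ≫ j) x ∈ U →
      FlatMod.IsFlatOverAt (pullback.snd f (V.ι ≫ j))
        ((Scheme.Modules.pullback (pullback.fst f (V.ι ≫ j))).obj F) x)
    (W₁ : T.Opens) (hW : W₁ ≤ V.ι ''ᵁ U) : FlatOn f F (W₁.ι ≫ j) := by
  have hWV : W₁ ≤ V := hW.trans (V.ι_image_le U)
  let k : W₁.toScheme ⟶ V.toScheme := T.homOfLE hWV
  have hk : k ≫ V.ι = W₁.ι := T.homOfLE_ι hWV
  have hkU : ∀ w : ↥W₁.toScheme, k w ∈ U := by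
    intro w
    have h1 : W₁.ι w ∈ V.ι ''ᵁ U := hW w.2
    obtain ⟨u, hu, hu'⟩ := h1
    have : V.ι (k w) = W₁.ι w := by rw [← Scheme.Hom.comp_apply, hk]
    have h2 : u = k w := V.ι.isOpenEmbedding.injective (hu'.trans this.symm)
    rw [← h2]; exact hu
  refine flatOn_congr f F (show k ≫ (V.ι ≫ j) = W₁.ι ≫ j by rw [← Category.assoc, hk]) ?_
  intro x''
  refine isFlatOverAt_pullback_comp f (V.ι ≫ j) k F x'' (hU _ ?_)
  have : pullback.map f (k ≫ V.ι ≫ j) f (V.ι ≫ j) (𝟙 X) k (𝟙 S) (by simp) (by simp) ≫
      pullback.snd f (V.ι ≫ j) = pullback.snd f (k ≫ V.ι ≫ j) ≫ k := pullback.lift_snd _ _ _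
  rw [← Scheme.Hom.comp_apply, this, Scheme.Hom.comp_apply]
  exact hkU _

lemma support_vanishingIdeal {S : Scheme.{u}} (Z : Closeds S) :
    (Scheme.IdealSheafData.vanishingIdeal Z).support = Z := by
  ext1; simp

/-- prepending an ideal sheaf to a flattening chain -/
theorem isFlatChain_cons {X S : Scheme.{u}} (f : X ⟶ S) (F : X.Modules) {t : ℕ}
    {I : Fin (t + 1) → S.IdealSheafData} (H : IsFlatChain f F t I) (J : S.IdealSheafData)
    (hJ : J ≤ I 0) (hflat : StrataFlat f F J (I 0)) :
    IsFlatChain f F (t + 1) (Fin.cons J I : Fin (t + 1 + 1) → S.IdealSheafData) := by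
  refine ⟨?_, ?_, ?_⟩
  · rw [Fin.monotone_iff_le_succ]
    intro i
    induction i using Fin.cases with
    | zero =>
      rw [Fin.castSucc_zero, Fin.cons_zero, Fin.cons_succ]
      exact hJ
    | succ j =>
      rw [← Fin.succ_castSucc, Fin.cons_succ, Fin.cons_succ]
      exact Fin.monotone_iff_le_succ.mp H.1 j
  · rw [← Fin.succ_last, Fin.cons_succ]
    exact H.2.1
  · intro i
    induction i using Fin.cases with
    | zero =>
      rw [Fin.castSucc_zero, Fin.cons_zero, Fin.cons_succ]
      exact hflat
    | succ j =>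
      rw [← Fin.succ_castSucc, Fin.cons_succ, Fin.cons_succ]
      exact H.2.2 j

/-- **generic flatness stratification over a Noetherian base** -/
theorem exists_flatChain_noeth {X S : Scheme.{u}} [IsNoetherian S] (f : X ⟶ S)
    [LocallyOfFiniteType f] [QuasiCompact f] (F : X.Modules) [F.IsQuasicoherent]
    [SheafOfModules.IsFiniteType.{u} (R := X.ringCatSheaf) F] (Z : Closeds S) :
    ∃ (t : ℕ) (I : Fin (t + 1) → S.IdealSheafData), IsFlatChain f F t I ∧
      I 0 = Scheme.IdealSheafData.vanishingIdeal Z := by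
  apply wellFounded_lt.induction (C := fun Z : Closeds S => ∃ (t : ℕ) (I : Fin (t + 1) → S.IdealSheafData),
    IsFlatChain f F t I ∧ I 0 = Scheme.IdealSheafData.vanishingIdeal Z) Z
  intro Z IH
  rcases eq_or_ne Z ⊥ with rfl | hZ
  · refine ⟨0, fun _ => ⊤, ⟨monotone_const, rfl, fun i => i.elim0⟩, ?_⟩
    simp
  · set J := Scheme.IdealSheafData.vanishingIdeal Z with hJdef
    haveI : IsReduced J.subscheme :=
      Groth.Agent.Lib.Helper24.FibreDim.isReduced_vanishingIdeal_subscheme Z
    haveI : IsLocallyNoetherian J.subscheme := LocallyOfFiniteType.isLocallyNoetherian J.subschemeι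
    haveI : CompactSpace J.subscheme := QuasiCompact.compactSpace_of_compactSpace J.subschemeι
    haveI : IsNoetherian J.subscheme := { }
    have hsupp : J.support = Z := support_vanishingIdeal Z
    haveI : Nonempty J.subscheme := by
      obtain ⟨z, hz⟩ := Closeds.coe_nonempty.2 hZ
      have : z ∈ Set.range J.subschemeι := by rw [J.range_subschemeι, hsupp]; exact hz
      obtain ⟨w, -⟩ := this
      exact ⟨w⟩
    obtain ⟨V, hVne, hVint⟩ := exists_integral_open J.subscheme
    haveI := hVint
    haveI : SheafOfModules.IsFiniteType.{u}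
        (R := (pullback f (V.ι ≫ J.subschemeι)).ringCatSheaf)
        ((Scheme.Modules.pullback (pullback.fst f (V.ι ≫ J.subschemeι))).obj F) :=
      Groth.Agent.Lib.Helper17.FinTypePushPull.isFiniteType_pullback _ F
    obtain ⟨U, hUne, hUflat⟩ := Groth.Agent.Lib.Helper7.GenericFlat.exists_open_flat
      (pullback.snd f (V.ι ≫ J.subschemeι))
      ((Scheme.Modules.pullback (pullback.fst f (V.ι ≫ J.subschemeι))).obj F)
    -- the smaller closed set
    let W : J.subscheme.Opens := V.ι ''ᵁ U
    have hclosed : IsClosed (J.subschemeι '' ((W : Set J.subscheme)ᶜ)) :=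
      J.subschemeι.isClosedEmbedding.isClosedMap _ W.isOpen.isClosed_compl
    let Z' : Closeds S := ⟨J.subschemeι '' ((W : Set J.subscheme)ᶜ), hclosed⟩
    have hle : Z' ≤ Z := by
      intro z hz
      obtain ⟨w, -, rfl⟩ := hz
      have : J.subschemeι w ∈ Set.range J.subschemeι := ⟨w, rfl⟩
      rw [J.range_subschemeι, hsupp] at this
      exact this
    have hne : Z' ≠ Z := by
      intro heq
      obtain ⟨u, hu⟩ := hUne
      have hw : V.ι u ∈ W := ⟨u, hu, rfl⟩
      have h1 : J.subschemeι (V.ι u) ∈ (Z : Set S) := by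
        have : J.subschemeι (V.ι u) ∈ Set.range J.subschemeι := ⟨_, rfl⟩
        rw [J.range_subschemeι, hsupp] at this
        exact this
      rw [← heq] at h1
      obtain ⟨w', hw', hww'⟩ := h1
      have := J.subschemeι.isClosedEmbedding.injective hww'
      exact hw' (this ▸ hw)
    obtain ⟨t', I', hI', hI'0⟩ := IH Z' (lt_of_le_of_ne hle hne)
    have hJle : J ≤ I' 0 := by
      rw [hI'0]; exact Scheme.IdealSheafData.vanishingIdeal_antimono hle
    refine ⟨t' + 1, Fin.cons J I', isFlatChain_cons f F hI' J hJle ?_, Fin.cons_zero _ _⟩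
    -- flatness over the first stratum
    refine flatOn_of_le f F J.subschemeι V U hUflat _ ?_
    intro w hw
    rw [hI'0, support_vanishingIdeal] at hw
    by_contra hcon
    exact hw ⟨w, hcon, rfl⟩

end Groth.Agent.Lib.Helper25.Strat
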