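import Mathlib
import Groth.Agent.Lib.Helper25.StratB
import Groth.Agent.Lib.Helper25.ConsModB
import Groth.Agent.Lib.Helper13.NaArrow

/-!
# helper25 — StratC: Noetherian approximation of a finitely presented scheme with a finitely presented module over
a qcqs base, and the generic flatness stratification (Stacks 0ASY).
-/

set_option backward.isDefEq.respectTransparency.types false
set_option autoImplicit false
set_option linter.unusedSectionVars false
set_option linter.unusedVariables false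
set_option linter.style.haveILetI false
universe u

open CategoryTheory CategoryTheory.Limits AlgebraicGeometry Topology TopologicalSpace

namespace Groth.Agent.Lib.Helper25.Strat

open Groth.Agent.Lib.Helper22
  Groth.Agent.Lib.Helper25.NoethApprox Groth.Agent.Lib.Helper25.ModMapLocal
  Groth.Agent.Lib.Helper25.LimModDesc Groth.Agent.Lib.Helper21.FPQuot
  Groth.Agent.Lib.Helper25.ConsMod

variable (H : FPDescent.{u})

include H in
/-- Noetherian approximation of `(X ⟶ S, F)` over a qcqs base -/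
theorem hasNoethModelMod_of_qcqs {X S : Scheme.{u}} [CompactSpace S] [QuasiSeparatedSpace S]
    (u : X ⟶ S) [LocallyOfFinitePresentation u] [QuasiCompact u] [QuasiSeparated u] (F : X.Modules)
    [SheafOfModules.IsFinitePresentation.{u} (R := X.ringCatSheaf) F] :
    HasNoethModelMod u F := by
  obtain ⟨I, _, _, _, D, π, ⟨hc⟩, haff, hft⟩ := Groth.Agent.Lib.Helper13.NaArrow.exists_approx' S
  let c : Cone D := Cone.mk S π
  haveI : ∀ (i j : Iᵒᵖ) (f : i ⟶ j), IsAffineHom (D.map f) := haff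
  haveI hN : ∀ i, IsNoetherian (D.obj i) := fun i =>
    Groth.Agent.Lib.lead.NaMain.isNoetherian_of_ftz (hft i)
  haveI : ∀ i, CompactSpace (D.obj i) := fun i => (hft i).1
  haveI : ∀ i, QuasiSeparatedSpace (D.obj i) := fun i => inferInstance
  obtain ⟨s₀, X₀, u₀, qX, h1, h2, h3, hX⟩ := H D c hc X u
  haveI := h1; haveI := h2; haveI := h3
  haveI : CompactSpace X₀ := QuasiCompact.compactSpace_of_compactSpace u₀
  haveI : QuasiSeparatedSpace X₀ := quasiSeparatedSpace_of_quasiSeparated u₀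
  let D' := bcDiag D s₀ u₀
  let c' := bcCone D c s₀ u₀
  let hc' : IsLimit c' := bcIsLimit D hc s₀ u₀
  let θ : X ≅ c'.pt := hX.flip.isoPullback
  have hθ1 : θ.hom ≫ pullback.fst (c.π.app s₀) u₀ = u := hX.flip.isoPullback_hom_fst
  have hθ2 : θ.hom ≫ pullback.snd (c.π.app s₀) u₀ = qX := hX.flip.isoPullback_hom_snd
  let F' : c'.pt.Modules := (Scheme.Modules.pullback θ.inv).obj F
  haveI : SheafOfModules.IsFinitePresentation.{u} (R := c'.pt.ringCatSheaf) F' := isFP_pullback θ.inv F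
  haveI : ∀ (j k : Over s₀) (f : j ⟶ k), IsAffineHom (D'.map f) :=
    fun _ _ f => bcDiag_isAffineHom D s₀ u₀ f
  haveI : CompactSpace (D'.obj (Over.mk (𝟙 s₀))) := bcDiag_compactSpace D s₀ u₀ _
  haveI : QuasiSeparatedSpace (D'.obj (Over.mk (𝟙 s₀))) := bcDiag_quasiSeparatedSpace D s₀ u₀ _
  obtain ⟨k, φk, Fk, hq, hfp, ⟨eF⟩⟩ := exists_module_descend D' hc' (Over.mk (𝟙 s₀)) F'
  haveI := hfp
  let πk : pullback (c.π.app s₀) u₀ ⟶ pullback (D.map k.hom) u₀ := c'.π.app k
  have hπ1 : πk ≫ pullback.snd (D.map k.hom) u₀ = pullback.snd (c.π.app s₀) u₀ :=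
    bcCone_π_snd D c s₀ u₀ k
  have hπ2 : πk ≫ pullback.fst (D.map k.hom) u₀ = pullback.fst (c.π.app s₀) u₀ ≫ c.π.app k.left :=
    bcCone_π_fst D c s₀ u₀ k
  let θ' : X ⟶ pullback (c.π.app s₀) u₀ := θ.hom
  let uk : pullback (D.map k.hom) u₀ ⟶ D.obj k.left := pullback.fst (D.map k.hom) u₀
  let qX' : X ⟶ pullback (D.map k.hom) u₀ := θ' ≫ πk
  have hqX'1 : qX' ≫ pullback.snd (D.map k.hom) u₀ = qX := by
    change (θ' ≫ πk) ≫ pullback.snd (D.map k.hom) u₀ = qX
    rw [Category.assoc, hπ1]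
    exact hθ2
  have hqX'2 : qX' ≫ uk = u ≫ c.π.app k.left := by
    change (θ' ≫ πk) ≫ pullback.fst (D.map k.hom) u₀ = u ≫ c.π.app k.left
    rw [Category.assoc, hπ2, ← Category.assoc]
    congr 1
  have hX' : IsPullback qX' u uk (c.π.app k.left) := by
    refine IsPullback.of_right ?_ hqX'2 (IsPullback.of_hasPullback (D.map k.hom) u₀).flip
    rw [hqX'1, c.w]
    exact hX
  let iso : F ≅ (Scheme.Modules.pullback qX').obj Fk :=
    ((compIso θ.hom θ.inv (𝟙 X) θ.hom_inv_id).app F ≪≫ (Scheme.Modules.pullbackId X).app F).symm ≪≫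
      (Scheme.Modules.pullback θ.hom).mapIso eF.symm ≪≫
      (compIso θ.hom πk qX' rfl).app Fk
  exact ⟨D.obj k.left, pullback (D.map k.hom) u₀, uk, Fk, c.π.app k.left, qX', inferInstance,
    inferInstance, inferInstance, isCoh_of_isFP Fk, hX', ⟨iso⟩⟩

include H in
/-- **generic flatness stratification** (Stacks 0ASY) -/
theorem exists_flatChain {X S : Scheme.{u}} [CompactSpace S] [QuasiSeparatedSpace S]
    (f : X ⟶ S) [LocallyOfFinitePresentation f] [QuasiCompact f] [QuasiSeparated f] (F : X.Modules)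
    [SheafOfModules.IsFinitePresentation.{u} (R := X.ringCatSheaf) F] :
    ∃ (t : ℕ) (I : Fin (t + 1) → S.IdealSheafData), IsFlatChain f F t I ∧
      ((I 0).support : Set S) = Set.univ ∧ ∀ i, ∀ U : S.affineOpens, ((I i).ideal U).FG := by
  obtain ⟨S₀, X₀, u₀, F₀, φ, qX, h1, h2, h3, hF₀, hX, ⟨eF⟩⟩ := hasNoethModelMod_of_qcqs H f F
  haveI := h1; haveI := h2; haveI := h3
  haveI : F₀.IsQuasicoherent := hF₀.1
  haveI : SheafOfModules.IsFiniteType.{u} (R := X₀.ringCatSheaf) F₀ := hF₀.2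
  haveI : F.IsQuasicoherent :=
    Groth.Agent.Lib.Helper29.FPDict.isQuasicoherent_of_isFinitePresentation F
  obtain ⟨t, I₀, hchain, hI0⟩ := exists_flatChain_noeth u₀ F₀ ⊤
  refine ⟨t, fun i => (I₀ i).comap φ, isFlatChain_comap hX F F₀ eF hchain, ?_, fun i U =>
    fg_comap φ (I₀ i) U⟩
  change (((I₀ 0).comap φ).support : Set S) = Set.univ
  rw [Scheme.IdealSheafData.support_comap, hI0, support_vanishingIdeal]
  rfl

end Groth.Agent.Lib.Helper25.Strat
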