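import Mathlib.Topology.NoetherianSpace
import Mathlib.Topology.Sober

/-!
# Topological lemmas for spaces with open Noetherian quasi-sober charts (helper25)
-/

set_option autoImplicit false

namespace Groth.Agent.Lib.Helper25.TopChart

open TopologicalSpace

theorem exists_genericPoint_of_open_chart {X V : Type*} [TopologicalSpace X] [TopologicalSpace V]
    [NoetherianSpace V] [QuasiSober V]
    (q : V → X) (hq : Continuous q) (hqo : IsOpenMap q) (Z : Set X) (hZ : IsIrreducible Z)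
    (hZc : IsClosed Z) (hne : (Z ∩ Set.range q).Nonempty) : ∃ x, IsGenericPoint x Z := by
  have hWc : IsClosed (q ⁻¹' Z) := hZc.preimage hq
  obtain ⟨S, hSf, hSc, hSi, hSU⟩ :=
    NoetherianSpace.exists_finite_set_isClosed_irreducible hWc
  -- Z ⊆ closure (Z ∩ range q)
  have h1 : Z ⊆ closure (Z ∩ Set.range q) :=
    subset_closure_inter_of_isPreirreducible_of_isOpen hZ.2 hqo.isOpen_range hne
  have h2 : Z ∩ Set.range q ⊆ ⋃₀ ((fun T => closure (q '' T)) '' S) := by
    rintro _ ⟨hz, v, rfl⟩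
    have hv : v ∈ q ⁻¹' Z := hz
    rw [hSU] at hv
    obtain ⟨T, hT, hvT⟩ := hv
    exact ⟨closure (q '' T), ⟨T, hT, rfl⟩, subset_closure ⟨v, hvT, rfl⟩⟩
  have hfin : ((fun T => closure (q '' T)) '' S).Finite := hSf.image _
  have hcl : IsClosed (⋃₀ ((fun T => closure (q '' T)) '' S)) := by
    rw [Set.sUnion_eq_biUnion]
    apply hfin.isClosed_biUnion
    rintro _ ⟨T, _, rfl⟩
    exact isClosed_closure
  have h3 : Z ⊆ ⋃₀ ((fun T => closure (q '' T)) '' S) :=
    h1.trans (closure_minimal h2 hcl)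
  obtain ⟨z, hz, hZz⟩ := isIrreducible_iff_sUnion_isClosed.1 hZ hfin.toFinset
    (by
      intro z hz
      rw [Set.Finite.mem_toFinset] at hz
      obtain ⟨T, _, rfl⟩ := hz
      exact isClosed_closure)
    (by rwa [Set.Finite.coe_toFinset])
  rw [Set.Finite.mem_toFinset] at hz
  obtain ⟨T, hT, rfl⟩ := hz
  obtain ⟨ξ, hξ⟩ := QuasiSober.sober (hSi T hT) (hSc T hT)
  refine ⟨q ξ, ?_⟩
  have := hξ.image hq
  have heq : closure (q '' T) = Z := by
    apply Set.Subset.antisymm
    · apply closure_minimal _ hZc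
      rintro _ ⟨v, hv, rfl⟩
      have : v ∈ q ⁻¹' Z := by
        rw [hSU]
        exact ⟨T, hT, hv⟩
      exact this
    · exact hZz
  rwa [heq] at this

theorem quasiSober_of_open_charts {X : Type*} [TopologicalSpace X]
    (h : ∀ x : X, ∃ (V : Type*) (_ : TopologicalSpace V) (_ : NoetherianSpace V) (_ : QuasiSober V)
      (q : V → X), Continuous q ∧ IsOpenMap q ∧ x ∈ Set.range q) : QuasiSober X := by
  refine ⟨fun {Z} hZ hZc => ?_⟩
  obtain ⟨z, hz⟩ := hZ.1
  obtain ⟨V, _, _, _, q, hq, hqo, hx⟩ := h z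
  exact exists_genericPoint_of_open_chart q hq hqo Z hZ hZc ⟨z, hz, hx⟩

end Groth.Agent.Lib.Helper25.TopChart
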