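import Mathlib
import Groth.Agent.Lib.Helper13.SpecFGLimit
import Groth.Agent.Lib.Helper13.LimDescendDiag

/-!
# Unramified algebras have models over finite type `ℤ`-algebras
-/

set_option autoImplicit false
set_option linter.deprecated false
set_option linter.style.haveILetI false
set_option linter.unusedVariables false
universe u
open CategoryTheory CategoryTheory.Limits AlgebraicGeometry Topology TensorProduct

namespace Groth.Agent.Lib.Helper25.UnramApprox

open Groth.Agent.Lib.Helper13 Groth.Agent.Lib.Helper13.SpecFG Groth.Agent.Lib.Helper13.LimDescend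

theorem formallyUnramified_pullback_fst_iff (A B C : Type u) [CommRing A] [CommRing B] [CommRing C]
    [Algebra A B] [Algebra A C] :
    FormallyUnramified (pullback.fst (Spec.map (CommRingCat.ofHom (algebraMap A B)))
      (Spec.map (CommRingCat.ofHom (algebraMap A C)))) ↔
      Algebra.FormallyUnramified B (B ⊗[A] C) := by
  haveI : MorphismProperty.RespectsIso @AlgebraicGeometry.FormallyUnramified.{u} :=
    MorphismProperty.IsStableUnderBaseChange.respectsIso
  rw [← pullbackSpecIso_hom_fst' A B C,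
    MorphismProperty.cancel_left_of_respectsIso (P := @FormallyUnramified),
    HasRingHomProperty.Spec_iff (P := @FormallyUnramified)]
  exact RingHom.formallyUnramified_algebraMap

/-- descent of formal unramifiedness to a finitely generated subalgebra. -/
theorem descend_unram (R : Type u) [CommRing R] (s₀ : Finset R)
    (B₀ : Type u) [CommRing B₀] [Algebra (Algebra.adjoin ℤ (s₀ : Set R)) B₀]
    [Algebra.FiniteType (Algebra.adjoin ℤ (s₀ : Set R)) B₀]
    [Algebra.FormallyUnramified R (R ⊗[Algebra.adjoin ℤ (s₀ : Set R)] B₀)] :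
    ∃ (s₁ : Finset R) (h : s₀ ⊆ s₁),
      letI := (Subalgebra.inclusion
        (Algebra.adjoin_mono (R := ℤ) (Finset.coe_subset.mpr h))).toRingHom.toAlgebra
      Algebra.FormallyUnramified (Algebra.adjoin ℤ (s₁ : Set R))
        (Algebra.adjoin ℤ (s₁ : Set R) ⊗[Algebra.adjoin ℤ (s₀ : Set R)] B₀) := by
  let j₀ : (Finset R)ᵒᵖ := Opposite.op s₀
  let a₀ : Spec (CommRingCat.of B₀) ⟶ Spec (CommRingCat.of (Algebra.adjoin ℤ (s₀ : Set R))) :=
    Spec.map (CommRingCat.ofHom (algebraMap (Algebra.adjoin ℤ (s₀ : Set R)) B₀))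
  have ha₀ : LocallyOfFiniteType a₀ :=
    (HasRingHomProperty.Spec_iff (P := @LocallyOfFiniteType)).mpr
      (RingHom.finiteType_algebraMap.mpr inferInstance)
  let a : Spec (CommRingCat.of B₀) ⟶ (specDiag R).obj j₀ := a₀
  haveI : LocallyOfFiniteType a := ha₀
  have h : AlgebraicGeometry.FormallyUnramified (pullback.fst ((specCone R).π.app j₀) a) :=
    (formallyUnramified_pullback_fst_iff (Algebra.adjoin ℤ (s₀ : Set R)) R B₀).mpr inferInstance
  obtain ⟨j, ψ, hj⟩ := core_formallyUnramified (specDiag R) (specCone R) (specIsLimit R) j₀ a h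
  have hle : s₀ ⊆ j.unop := leOfHom ψ.unop
  refine ⟨j.unop, hle, ?_⟩
  letI := (Subalgebra.inclusion
    (Algebra.adjoin_mono (R := ℤ) (Finset.coe_subset.mpr hle))).toRingHom.toAlgebra
  exact (formallyUnramified_pullback_fst_iff (Algebra.adjoin ℤ (s₀ : Set R))
    (Algebra.adjoin ℤ (j.unop : Set R)) B₀).mp hj

/-- **S12085**: a G-unramified algebra has a G-unramified model over a finite type `ℤ`-algebra. -/
theorem exists_unram_model (R S : Type u) [CommRing R] [CommRing S] [Algebra R S]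
    [Algebra.FinitePresentation R S] [Algebra.FormallyUnramified R S] :
    ∃ (R₀ : Type u) (_ : CommRing R₀) (_ : Algebra.FiniteType ℤ R₀) (S₀ : Type u) (_ : CommRing S₀)
      (_ : Algebra R₀ S₀) (_ : Algebra.FinitePresentation R₀ S₀)
      (_ : Algebra.FormallyUnramified R₀ S₀)
      (_ : Algebra R₀ R), Nonempty (R ⊗[R₀] S₀ ≃ₐ[R] S) := by
  classical
  let P := Algebra.Presentation.ofFinitePresentation R S
  let s₀ : Finset R := P.finite_coeffs.toFinset
  haveI : P.HasCoeffs (Algebra.adjoin ℤ (s₀ : Set R)) := ⟨by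
    intro x hx
    have : x ∈ (s₀ : Set R) := by simpa [s₀] using hx
    exact ⟨⟨x, Algebra.subset_adjoin this⟩, rfl⟩⟩
  let ε : R ⊗[Algebra.adjoin ℤ (s₀ : Set R)] P.ModelOfHasCoeffs (Algebra.adjoin ℤ (s₀ : Set R))
      ≃ₐ[R] S := P.tensorModelOfHasCoeffsEquiv (Algebra.adjoin ℤ (s₀ : Set R))
  haveI : Algebra.FormallyUnramified R
      (R ⊗[Algebra.adjoin ℤ (s₀ : Set R)] P.ModelOfHasCoeffs (Algebra.adjoin ℤ (s₀ : Set R))) :=
    Algebra.FormallyUnramified.of_equiv ε.symm
  obtain ⟨s₁, hle, h1⟩ := descend_unram R s₀ (P.ModelOfHasCoeffs (Algebra.adjoin ℤ (s₀ : Set R)))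
  letI := (Subalgebra.inclusion
    (Algebra.adjoin_mono (R := ℤ) (Finset.coe_subset.mpr hle))).toRingHom.toAlgebra
  haveI : IsScalarTower (Algebra.adjoin ℤ (s₀ : Set R)) (Algebra.adjoin ℤ (s₁ : Set R)) R :=
    IsScalarTower.of_algebraMap_eq (fun x => rfl)
  refine ⟨Algebra.adjoin ℤ (s₁ : Set R), inferInstance, ?_,
    Algebra.adjoin ℤ (s₁ : Set R) ⊗[Algebra.adjoin ℤ (s₀ : Set R)]
      P.ModelOfHasCoeffs (Algebra.adjoin ℤ (s₀ : Set R)),
    inferInstance, inferInstance, inferInstance, h1, inferInstance, ⟨?_⟩⟩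
  · exact (Subalgebra.fg_iff_finiteType _).mp (Subalgebra.fg_adjoin_finset s₁)
  · exact (Algebra.TensorProduct.cancelBaseChange (Algebra.adjoin ℤ (s₀ : Set R))
      (Algebra.adjoin ℤ (s₁ : Set R)) R R
      (P.ModelOfHasCoeffs (Algebra.adjoin ℤ (s₀ : Set R)))).trans ε

end Groth.Agent.Lib.Helper25.UnramApprox
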