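/-
Basic structure of flat liftings over `W₂(k)` (helper25): for a flat lifting `(C', ι, π)` of a
`k`-algebra `C` (`k` a perfect field of characteristic `p`), the kernel of `π` is `p C'`, the
`p`-torsion of `C'` is `p C'`, and multiplication by `p` induces an injective additive map
`tau : C → C'` with image `ker π`.
-/
import Mathlib
import Groth.Prelude.Def_W4c1liftfrobW2
import Groth.Agent.Lib.Helper26.W2Flat

set_option autoImplicit false
set_option linter.unusedSectionVars false
set_option linter.style.haveILetI false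
universe u v

namespace Groth.Agent.Lib.Helper25.W2Lift

open Groth.Agent.Lib.Helper26.W2Flat Function

variable (p : ℕ) [hp : Fact p.Prime] (k : Type u) [Field k] [CharP k p] [PerfectRing k p]

lemma res_p : FrobAlg.res p k (p : FrobAlg.W2 p k) = 0 := by
  rw [map_natCast]
  exact CharP.cast_eq_zero k p

lemma ker_res_eq : RingHom.ker (FrobAlg.res p k) = Ideal.span {(p : FrobAlg.W2 p k)} := by
  apply le_antisymm
  · intro x hx
    rcases unit_or p k x with hu | ⟨y, rfl⟩
    · exfalso
      rw [RingHom.mem_ker] at hx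
      have := hu.map (FrobAlg.res p k)
      rw [hx] at this
      exact not_isUnit_zero this
    · exact Ideal.mem_span_singleton.2 ⟨y, rfl⟩
  · rw [Ideal.span_le, Set.singleton_subset_iff]
    exact RingHom.mem_ker.2 (res_p p k)

section Lift

variable {p k}
variable {C : Type v} [CommRing C] [Algebra k C] {C' : Type v} [CommRing C']
  {ι : FrobAlg.W2 p k →+* C'} {π : C' →+* C} (h : FrobAlg.IsLift p k C C' ι π)

include h

lemma ker_pi_eq : RingHom.ker π = Ideal.span {(p : C')} := by
  rw [h.ker_eq, ker_res_eq, Ideal.map_span, Set.image_singleton, map_natCast]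

lemma pi_p : π (p : C') = 0 := by
  have : (p : C') ∈ RingHom.ker π := by
    rw [ker_pi_eq h]; exact Ideal.mem_span_singleton_self _
  exact this

lemma p_mul_p' : (p : C') * (p : C') = 0 := by
  have := congrArg ι (p_mul_p p k)
  rwa [map_mul, map_natCast, map_zero] at this

lemma p_mul_of_pi_eq_zero (x : C') (hx : π x = 0) : (p : C') * x = 0 := by
  have : x ∈ RingHom.ker π := hx
  rw [ker_pi_eq h] at this
  obtain ⟨y, rfl⟩ := Ideal.mem_span_singleton.1 this
  rw [← mul_assoc, p_mul_p' h, zero_mul]

lemma pi_eq_zero_of_p_mul (x : C') (hx : (p : C') * x = 0) : π x = 0 := by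
  letI : Algebra (FrobAlg.W2 p k) C' := ι.toAlgebra
  have hflat : Module.Flat (FrobAlg.W2 p k) C' := h.flat
  have hsm : ∀ m : C', (p : FrobAlg.W2 p k) • m = (p : C') * m := fun m => by
    rw [Algebra.smul_def]
    change ι (p : FrobAlg.W2 p k) * m = _
    rw [map_natCast]
  obtain ⟨m', hm'⟩ := (w2_flat_iff p k C').1 hflat x (by rw [hsm, hx])
  rw [hm', hsm, map_mul, pi_p h, zero_mul]

/-- multiplication by `p`, as an additive map `C → C'` -/
noncomputable def tau : C →+ C' where
  toFun c := (p : C') * Function.surjInv h.surj c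
  map_zero' := by
    apply p_mul_of_pi_eq_zero h
    exact Function.surjInv_eq h.surj 0
  map_add' c d := by
    rw [← mul_add, ← sub_eq_zero, ← mul_sub]
    apply p_mul_of_pi_eq_zero h
    rw [map_sub, map_add, Function.surjInv_eq h.surj, Function.surjInv_eq h.surj,
      Function.surjInv_eq h.surj, sub_self]

lemma tau_pi (x : C') : tau h (π x) = (p : C') * x := by
  change (p : C') * Function.surjInv h.surj (π x) = _
  rw [← sub_eq_zero, ← mul_sub]
  apply p_mul_of_pi_eq_zero h
  rw [map_sub, Function.surjInv_eq h.surj, sub_self]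

lemma pi_tau (c : C) : π (tau h c) = 0 := by
  obtain ⟨x, rfl⟩ := h.surj c
  rw [tau_pi, map_mul, pi_p h, zero_mul]

lemma tau_injective : Injective (tau h) := by
  rw [injective_iff_map_eq_zero]
  intro c hc
  obtain ⟨x, rfl⟩ := h.surj c
  rw [tau_pi] at hc
  exact pi_eq_zero_of_p_mul h x hc

lemma mul_tau (x : C') (c : C) : x * tau h c = tau h (π x * c) := by
  obtain ⟨y, rfl⟩ := h.surj c
  rw [← map_mul, tau_pi, tau_pi]
  ring

lemma tau_mul_tau (c d : C) : tau h c * tau h d = 0 := by
  obtain ⟨x, rfl⟩ := h.surj c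
  obtain ⟨y, rfl⟩ := h.surj d
  rw [tau_pi, tau_pi]
  calc (p : C') * x * ((p : C') * y) = ((p : C') * (p : C')) * (x * y) := by ring
    _ = 0 := by rw [p_mul_p' h, zero_mul]

lemma exists_tau_eq (x : C') (hx : π x = 0) : ∃ c : C, tau h c = x := by
  have : x ∈ RingHom.ker π := hx
  rw [ker_pi_eq h] at this
  obtain ⟨y, rfl⟩ := Ideal.mem_span_singleton.1 this
  exact ⟨π y, tau_pi h y⟩

lemma pi_iota (w : FrobAlg.W2 p k) : π (ι w) = algebraMap k C (FrobAlg.res p k w) := by
  have := congrArg (fun f => f w) h.comm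
  simpa using this

end Lift

end Groth.Agent.Lib.Helper25.W2Lift
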