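/-
Frobenius lifts on polynomial rings over `W₂(k)` (helper25): the endomorphism
`Psi h : x_j ↦ x_j^p - p h_j` (σ₂ on coefficients) of `W₂(k)[x_1..x_n]` satisfies the Taylor formula
`Psi h g = F'(g) - p ∑_j (∂g/∂x_j)^p h_j`, where `F' = polyFrob` is the standard Frobenius lift.
-/
import Mathlib
import Groth.Prelude.Def_W4c1liftfrobW2
import Groth.Agent.Lib.Helper25.W2Lift
import Groth.Agent.Lib.Helper25.W2Coeff

set_option autoImplicit false
set_option linter.unusedSectionVars false
set_option linter.style.haveILetI false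
universe u

namespace Groth.Agent.Lib.Helper25.W2PolyFrob

open MvPolynomial Finset
open Groth.Agent.Lib.Helper26.W2Flat Groth.Agent.Lib.Helper25.W2Lift
  Groth.Agent.Lib.Helper25.W2Coeff

variable (p : ℕ) [hp : Fact p.Prime] (k : Type u) [Field k] [CharP k p] [PerfectRing k p] {n : ℕ}

local notation "RR" => MvPolynomial (Fin n) (FrobAlg.W2 p k)

lemma p_mul_p_poly : (p : RR) * (p : RR) = 0 := by
  have := congrArg (C : FrobAlg.W2 p k →+* RR) (p_mul_p p k)
  rwa [map_mul, map_natCast, map_zero] at this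

lemma ker_map_res :
    RingHom.ker (MvPolynomial.map (FrobAlg.res p k) : RR →+* MvPolynomial (Fin n) k) =
      Ideal.span {(p : RR)} := by
  rw [MvPolynomial.ker_map, ker_res_eq, Ideal.map_span, Set.image_singleton, map_natCast]

lemma p_mul_add_pow (u v : RR) : (p : RR) * (u + v) ^ p = (p : RR) * u ^ p + (p : RR) * v ^ p := by
  rw [add_pow_eq p u v]
  linear_combination (QQ p u v) * p_mul_p_poly p k (n := n)

/-- a `σ₂`-semilinear endomorphism sending `x_j` to a lift of `x_j^p` reduces to Frobenius -/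
lemma map_res_eval₂ (v : Fin n → RR)
    (hv : ∀ j, MvPolynomial.map (FrobAlg.res p k) (v j) = X j ^ p) (g : RR) :
    MvPolynomial.map (FrobAlg.res p k) (eval₂Hom (C.comp (FrobAlg.sigma p k)) v g) =
      (MvPolynomial.map (FrobAlg.res p k) g) ^ p := by
  induction g using MvPolynomial.induction_on with
  | C a =>
    rw [coe_eval₂Hom, eval₂_C, RingHom.comp_apply, map_C, map_C, ← map_pow, FrobAlg.res_apply,
      WittGrp.coeff_frob, FrobAlg.res_apply]
  | add f g hf hg =>
    rw [map_add, map_add, hf, hg, map_add, add_pow_char]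
  | mul_X f j hf =>
    rw [map_mul, map_mul, hf, coe_eval₂Hom, eval₂_X, hv, map_mul, mul_pow, map_X]

lemma map_res_polyFrob (g : RR) :
    MvPolynomial.map (FrobAlg.res p k) (FrobAlg.polyFrob p k (Fin n) g) =
      (MvPolynomial.map (FrobAlg.res p k) g) ^ p := by
  unfold FrobAlg.polyFrob
  apply map_res_eval₂
  intro j
  rw [map_pow, map_X]

lemma polyFrob_sub_pow_mem (g : RR) :
    FrobAlg.polyFrob p k (Fin n) g - g ^ p ∈ Ideal.span {(p : RR)} := by
  rw [← ker_map_res, RingHom.mem_ker, map_sub, map_res_polyFrob, map_pow, sub_self]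

lemma p_mul_polyFrob (g : RR) :
    (p : RR) * FrobAlg.polyFrob p k (Fin n) g = (p : RR) * g ^ p := by
  obtain ⟨c, hc⟩ := Ideal.mem_span_singleton.1 (polyFrob_sub_pow_mem p k g)
  have := p_mul_p_poly p k (n := n)
  linear_combination (p : RR) * hc + c * this

/-- the endomorphism `x_j ↦ x_j^p - p h_j`, `σ₂` on coefficients -/
noncomputable def Psi (h : Fin n → RR) : RR →+* RR :=
  eval₂Hom (C.comp (FrobAlg.sigma p k)) fun j => X j ^ p - (p : RR) * h j

lemma Psi_C (h : Fin n → RR) (a : FrobAlg.W2 p k) : Psi p k h (C a) = C (FrobAlg.sigma p k a) := by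
  rw [Psi, coe_eval₂Hom, eval₂_C, RingHom.comp_apply]

lemma Psi_X (h : Fin n → RR) (j : Fin n) : Psi p k h (X j) = X j ^ p - (p : RR) * h j := by
  rw [Psi, coe_eval₂Hom, eval₂_X]

lemma polyFrob_C (a : FrobAlg.W2 p k) :
    FrobAlg.polyFrob p k (Fin n) (C a) = C (FrobAlg.sigma p k a) := by
  rw [FrobAlg.polyFrob, coe_eval₂Hom, eval₂_C, RingHom.comp_apply]

lemma polyFrob_X (j : Fin n) : FrobAlg.polyFrob p k (Fin n) (X j) = X j ^ p := by
  rw [FrobAlg.polyFrob, coe_eval₂Hom, eval₂_X]

lemma map_res_Psi (h : Fin n → RR) (g : RR) :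
    MvPolynomial.map (FrobAlg.res p k) (Psi p k h g) = (MvPolynomial.map (FrobAlg.res p k) g) ^ p := by
  unfold Psi
  apply map_res_eval₂
  intro j
  rw [map_sub, map_mul, map_natCast, CharP.cast_eq_zero, zero_mul, sub_zero, map_pow, map_X]

/-- the correction term `p ∑_j (∂g/∂x_j)^p h_j` -/
noncomputable def DD (h : Fin n → RR) (g : RR) : RR :=
  (p : RR) * ∑ j, pderiv j g ^ p * h j

lemma DD_C (h : Fin n → RR) (a : FrobAlg.W2 p k) : DD p k h (C a) = 0 := by
  unfold DD
  simp [zero_pow hp.out.ne_zero]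

lemma DD_add (h : Fin n → RR) (f g : RR) : DD p k h (f + g) = DD p k h f + DD p k h g := by
  unfold DD
  rw [← mul_add, ← Finset.sum_add_distrib, Finset.mul_sum, Finset.mul_sum]
  apply Finset.sum_congr rfl
  intro j _
  rw [map_add]
  linear_combination (h j) * p_mul_add_pow p k (pderiv j f) (pderiv j g)

lemma DD_mul_X (h : Fin n → RR) (g : RR) (m : Fin n) :
    DD p k h (g * X m) = DD p k h g * X m ^ p + (p : RR) * g ^ p * h m := by
  unfold DD
  have hterm : ∀ j, (p : RR) * (pderiv j (g * X m) ^ p * h j) =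
      (p : RR) * (pderiv j g ^ p * h j) * X m ^ p +
        (if j = m then (p : RR) * g ^ p * h m else 0) := by
    intro j
    rw [Derivation.leibniz, pderiv_X, smul_eq_mul, smul_eq_mul]
    by_cases hjm : j = m
    · subst hjm
      rw [if_pos rfl, Pi.single_eq_same, mul_one, add_comm]
      have := p_mul_add_pow p k (X j * pderiv j g) g
      rw [mul_pow] at this
      linear_combination (h j) * this
    · rw [if_neg hjm, Pi.single_eq_of_ne (Ne.symm hjm), mul_zero, zero_add, add_zero, mul_pow]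
      ring
  rw [Finset.mul_sum, Finset.sum_congr rfl (fun j _ => hterm j), Finset.sum_add_distrib,
    Finset.sum_ite_eq' Finset.univ m, if_pos (Finset.mem_univ m), Finset.mul_sum, Finset.sum_mul]

/-- Taylor formula modulo `p²` -/
theorem Psi_eq (h : Fin n → RR) (g : RR) :
    Psi p k h g = FrobAlg.polyFrob p k (Fin n) g - DD p k h g := by
  induction g using MvPolynomial.induction_on with
  | C a => rw [Psi_C, polyFrob_C, DD_C, sub_zero]
  | add f g hf hg => rw [map_add, map_add, hf, hg, DD_add]; ring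
  | mul_X g m hg =>
    rw [map_mul, map_mul, hg, Psi_X, polyFrob_X, DD_mul_X]
    have h1 := p_mul_polyFrob p k g
    have h2 := p_mul_p_poly p k (n := n)
    have h3 : DD p k h g * (p : RR) = 0 := by
      unfold DD
      rw [mul_comm, ← mul_assoc, h2, zero_mul]
    linear_combination (-(h m)) * h1 + (h m) * h3

end Groth.Agent.Lib.Helper25.W2PolyFrob
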