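import Mathlib

/-! Top exterior power of a finite-dimensional subspace inside the exterior algebra:
the submodules `Q D m` of `m`-fold products of elements of `D`. -/

set_option autoImplicit false
universe u w
open TensorProduct

namespace Groth.Agent.Lib.Helper25.Wedge

variable {k : Type u} [Field k] {W : Type w} [AddCommGroup W] [Module k W] (D : Submodule k W)

local notation "E" => ExteriorAlgebra k W

/-- the span of the `m`-fold products of elements of `D` inside the exterior algebra of `W` -/
noncomputable def Q (m : ℕ) : Submodule k E := (D.map (ExteriorAlgebra.ι k)) ^ m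

theorem Q_eq_map (m : ℕ) :
    Q D m = Submodule.map (ExteriorAlgebra.map D.subtype).toLinearMap (⋀[k]^m D) := by
  unfold Q
  rw [ExteriorAlgebra.exteriorPower, Submodule.map_pow, ExteriorAlgebra.ι_range_map_map,
    Submodule.range_subtype]

theorem one_mem_Q_zero : (1 : E) ∈ Q D 0 := by
  unfold Q
  rw [pow_zero]
  exact Submodule.one_le.mp le_rfl

theorem algebraMap_mem_Q_zero (r : k) : algebraMap k E r ∈ Q D 0 := by
  rw [Algebra.algebraMap_eq_smul_one]
  exact Submodule.smul_mem _ _ (one_mem_Q_zero D)

theorem ι_mul_mem_Q {m : ℕ} {x : W} (hx : x ∈ D) {q : E} (hq : q ∈ Q D m) :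
    ExteriorAlgebra.ι k x * q ∈ Q D (m + 1) := by
  unfold Q at hq ⊢
  rw [pow_succ']
  exact Submodule.mul_mem_mul (Submodule.mem_map_of_mem hx) hq

theorem contractLeft_eq_zero (φ : Module.Dual k W) (hφ : ∀ x ∈ D, φ x = 0) {m : ℕ} {q : E}
    (hq : q ∈ Q D m) : CliffordAlgebra.contractLeft (Q := (0 : QuadraticForm k W)) φ q = 0 := by
  unfold Q at hq
  induction hq using Submodule.pow_induction_on_left' with
  | algebraMap r => exact CliffordAlgebra.contractLeft_algebraMap _ _ _
  | add x y i hx hy h₁ h₂ => rw [map_add, h₁, h₂, add_zero]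
  | mem_mul m hm i x hx h =>
    obtain ⟨y, hy, rfl⟩ := hm
    rw [CliffordAlgebra.contractLeft_ι_mul, h, hφ y hy, zero_smul, mul_zero, sub_zero]

variable [Module.Finite k D]

theorem Q_succ_finrank : Q D (Module.finrank k D + 1) = ⊥ := by
  rw [Q_eq_map]
  have h : Module.finrank k (⋀[k]^(Module.finrank k D + 1) D) = 0 := by
    rw [exteriorPower.finrank_eq, Nat.choose_succ_self]
  rw [Submodule.finrank_eq_zero] at h
  rw [h, Submodule.map_bot]

theorem exists_top :
    ∃ v : E, v ∈ Q D (Module.finrank k D) ∧ v ≠ 0 ∧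
      Q D (Module.finrank k D) ≤ Submodule.span k {v} := by
  have h : Module.finrank k (⋀[k]^(Module.finrank k D) D) = 1 := by
    rw [exteriorPower.finrank_eq, Nat.choose_self]
  obtain ⟨v', hv', hspan⟩ := finrank_eq_one_iff'.mp h
  have hinj : Function.Injective (ExteriorAlgebra.map D.subtype) :=
    ExteriorAlgebra.map_injective_field (Submodule.ker_subtype D)
  refine ⟨ExteriorAlgebra.map D.subtype (v' : ExteriorAlgebra k D), ?_, ?_, ?_⟩
  · rw [Q_eq_map]
    exact Submodule.mem_map_of_mem v'.2
  · intro h0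
    apply hv'
    have : (v' : ExteriorAlgebra k D) = 0 := hinj (by rw [h0, map_zero])
    exact Subtype.ext this
  · rw [Q_eq_map]
    rintro _ ⟨x, hx, rfl⟩
    obtain ⟨c, hc⟩ := hspan ⟨x, hx⟩
    have hx' : x = c • (v' : ExteriorAlgebra k D) := by
      have := congrArg Subtype.val hc
      simpa using this.symm
    rw [hx']
    simp only [AlgHom.toLinearMap_apply, map_smul]
    exact Submodule.smul_mem _ _ (Submodule.mem_span_singleton_self _)

theorem ι_mul_eq_zero {x : W} (hx : x ∈ D) {v : E} (hv : v ∈ Q D (Module.finrank k D)) :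
    ExteriorAlgebra.ι k x * v = 0 := by
  have := ι_mul_mem_Q D hx hv
  rw [Q_succ_finrank] at this
  exact (Submodule.mem_bot k).mp this

end Groth.Agent.Lib.Helper25.Wedge
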