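import Groth.Agent.Lib.Helper25.ExtComod
import Groth.Agent.Lib.Helper25.Wedge

/-! Base change of the wedge computations: stabilizing a subspace `D` versus stabilizing the
top exterior power line, over a `k`-algebra `R`. -/

set_option autoImplicit false
universe u v w
open TensorProduct

namespace Groth.Agent.Lib.Helper25.WedgeR
open Groth.Agent.Lib.Helper25.ExtComod Groth.Agent.Lib.Helper25.Wedge

variable {k : Type u} [Field k] {W : Type w} [AddCommGroup W] [Module k W] (D : Submodule k W)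
  (R : Type v) [CommRing R] [Algebra k R]

local notation "E" => ExteriorAlgebra k W

/-- `D ⊗ R` inside `W ⊗ R` -/
def DR : Submodule k (W ⊗[k] R) := LinearMap.range (D.subtype.rTensor R)

/-- `Q D m ⊗ R` inside `E ⊗ R` -/
noncomputable def PR (m : ℕ) : Submodule k (E ⊗[k] R) := LinearMap.range ((Q D m).subtype.rTensor R)

theorem one_mem_PR_zero : (1 : E ⊗[k] R) ∈ PR D R 0 :=
  ⟨(⟨1, one_mem_Q_zero D⟩ : Q D 0) ⊗ₜ[k] (1 : R), by simp [Algebra.TensorProduct.one_def]⟩

theorem jB_mul_mem_PR {m : ℕ} {y : W ⊗[k] R} (hy : y ∈ DR D R) {p : E ⊗[k] R}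
    (hp : p ∈ PR D R m) : jB k W R y * p ∈ PR D R (m + 1) := by
  obtain ⟨y', rfl⟩ := hy
  obtain ⟨p', rfl⟩ := hp
  induction y' using TensorProduct.induction_on with
  | zero => simp
  | tmul x s =>
    induction p' using TensorProduct.induction_on with
    | zero => simp
    | tmul q r =>
      refine ⟨(⟨ExteriorAlgebra.ι k (x : W) * (q : E), ι_mul_mem_Q D x.2 q.2⟩ : Q D (m + 1)) ⊗ₜ[k]
        (s * r), ?_⟩
      simp [Algebra.TensorProduct.tmul_mul_tmul]
    | add p₁ p₂ h₁ h₂ =>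
      rw [map_add, mul_add]
      exact Submodule.add_mem _ h₁ h₂
  | add y₁ y₂ h₁ h₂ =>
    rw [map_add, map_add, add_mul]
    exact Submodule.add_mem _ h₁ h₂

theorem map_mem_PR (G : E →ₐ[k] E ⊗[k] R)
    (hG : ∀ x ∈ D, ∃ y ∈ DR D R, G (ExteriorAlgebra.ι k x) = jB k W R y) {m : ℕ} {q : E}
    (hq : q ∈ Q D m) : G q ∈ PR D R m := by
  unfold Q at hq
  induction hq using Submodule.pow_induction_on_left' with
  | algebraMap r =>
    rw [AlgHom.commutes, Algebra.algebraMap_eq_smul_one]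
    exact Submodule.smul_mem _ _ (one_mem_PR_zero D R)
  | add x y i hx hy h₁ h₂ => rw [map_add]; exact Submodule.add_mem _ h₁ h₂
  | mem_mul m hm i x hx h =>
    obtain ⟨y, hy, rfl⟩ := hm
    obtain ⟨z, hz, hGz⟩ := hG y hy
    rw [map_mul, hGz]
    exact jB_mul_mem_PR D R hz h

theorem exists_of_mem_PR {d : ℕ} {v : E} (hspan : Q D d ≤ Submodule.span k {v}) {p : E ⊗[k] R}
    (hp : p ∈ PR D R d) : ∃ c : R, p = v ⊗ₜ[k] c := by
  obtain ⟨p', rfl⟩ := hp
  induction p' using TensorProduct.induction_on with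
  | zero => exact ⟨0, by simp⟩
  | tmul q r =>
    obtain ⟨a, ha⟩ := Submodule.mem_span_singleton.mp (hspan q.2)
    refine ⟨a • r, ?_⟩
    rw [LinearMap.rTensor_tmul, Submodule.subtype_apply, ← ha, TensorProduct.smul_tmul]
  | add p₁ p₂ h₁ h₂ =>
    obtain ⟨c₁, h₁⟩ := h₁
    obtain ⟨c₂, h₂⟩ := h₂
    exact ⟨c₁ + c₂, by rw [map_add, h₁, h₂, TensorProduct.tmul_add]⟩

/-- F3: if the point stabilizes `D ⊗ R` then it multiplies the top wedge by a scalar. -/
theorem exists_smul_of_stab (G : E →ₐ[k] E ⊗[k] R)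
    (hG : ∀ x ∈ D, ∃ y ∈ DR D R, G (ExteriorAlgebra.ι k x) = jB k W R y) {d : ℕ} {v : E}
    (hv : v ∈ Q D d) (hspan : Q D d ≤ Submodule.span k {v}) : ∃ c : R, G v = v ⊗ₜ[k] c :=
  exists_of_mem_PR D R hspan (map_mem_PR D R G hG hv)

variable {R}

/-- extension of a functional on `W` to `W ⊗ R → R` -/
noncomputable def phiR (φ : Module.Dual k W) : W ⊗[k] R →ₗ[k] R :=
  (TensorProduct.lid k R).toLinearMap ∘ₗ φ.rTensor R

@[simp] theorem phiR_tmul (φ : Module.Dual k W) (w : W) (r : R) :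
    phiR φ (w ⊗ₜ[k] r) = φ w • r := by
  simp [phiR]

theorem phiR_rTensor {W' : Type*} [AddCommGroup W'] [Module k W'] (φ : Module.Dual k W)
    (f : W' →ₗ[k] W) (y : W' ⊗[k] R) : phiR φ (f.rTensor R y) = phiR (φ ∘ₗ f) y := by
  induction y using TensorProduct.induction_on with
  | zero => simp
  | tmul w r => simp
  | add y₁ y₂ h₁ h₂ => simp only [map_add, h₁, h₂]

theorem contract_jB_mul (φ : Module.Dual k W) (y : W ⊗[k] R) (z : E) (r : R) :
    (CliffordAlgebra.contractLeft (Q := (0 : QuadraticForm k W)) φ).rTensor R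
        (jB k W R y * (z ⊗ₜ[k] r)) =
      z ⊗ₜ[k] (phiR φ y * r) -
        jB k W R y * ((CliffordAlgebra.contractLeft (Q := (0 : QuadraticForm k W)) φ z) ⊗ₜ[k] r) := by
  induction y using TensorProduct.induction_on with
  | zero => simp
  | tmul w s =>
    rw [jB_tmul, Algebra.TensorProduct.tmul_mul_tmul, LinearMap.rTensor_tmul,
      Algebra.TensorProduct.tmul_mul_tmul, phiR_tmul]
    have := CliffordAlgebra.contractLeft_ι_mul (Q := (0 : QuadraticForm k W)) (d := φ) w z
    erw [this]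
    rw [TensorProduct.sub_tmul, TensorProduct.smul_tmul, smul_mul_assoc]
  | add y₁ y₂ h₁ h₂ =>
    rw [map_add, add_mul, map_add, h₁, h₂, map_add, add_mul, TensorProduct.tmul_add, add_mul]
    abel

/-- functionals `φ ⊗ id` separate the points of `W ⊗ R` -/
theorem eq_zero_of_phiR (z : W ⊗[k] R) (h : ∀ ψ : Module.Dual k W, phiR ψ z = 0) : z = 0 := by
  classical
  let b := Module.Basis.ofVectorSpace k W
  apply (TensorProduct.equivFinsuppOfBasisLeft (N := R) b).injective
  rw [map_zero]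
  ext i
  have key : ∀ z : W ⊗[k] R, (TensorProduct.equivFinsuppOfBasisLeft (N := R) b z) i =
      phiR (b.coord i) z := by
    intro z
    induction z using TensorProduct.induction_on with
    | zero => simp
    | tmul w r => simp
    | add z₁ z₂ h₁ h₂ => simp only [map_add, Finsupp.add_apply, h₁, h₂]
  rw [key, h]
  rfl

theorem mem_DR_of_phiR (y : W ⊗[k] R)
    (h : ∀ φ : Module.Dual k W, (∀ x ∈ D, φ x = 0) → phiR φ y = 0) : y ∈ DR D R := by
  obtain ⟨p, hp⟩ := D.subtype.exists_leftInverse_of_injective (Submodule.ker_subtype D)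
  have hz : (LinearMap.id - D.subtype ∘ₗ p).rTensor R y = 0 := by
    apply eq_zero_of_phiR
    intro ψ
    rw [phiR_rTensor]
    apply h
    intro x hx
    have := LinearMap.congr_fun hp ⟨x, hx⟩
    simp only [LinearMap.comp_apply, Submodule.subtype_apply, LinearMap.id_apply] at this
    simp [this]
  have : y = D.subtype.rTensor R (p.rTensor R y) := by
    rw [← LinearMap.comp_apply, ← LinearMap.rTensor_comp]
    have h2 : (LinearMap.id - D.subtype ∘ₗ p).rTensor R y = y - (D.subtype ∘ₗ p).rTensor R y := by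
      rw [LinearMap.rTensor_sub, LinearMap.sub_apply, LinearMap.rTensor_id, LinearMap.id_apply]
    rw [h2, sub_eq_zero] at hz
    exact hz
  rw [this]
  exact ⟨_, rfl⟩

/-- F4: if `jB y` kills `v ⊗ c` with `c` a unit, then `y ∈ D ⊗ R`. -/
theorem mem_DR_of_mul_eq_zero {d : ℕ} {v : E} (hv : v ∈ Q D d) (hv0 : v ≠ 0) {c : R}
    (hc : IsUnit c) (y : W ⊗[k] R) (h : jB k W R y * (v ⊗ₜ[k] c) = 0) : y ∈ DR D R := by
  apply mem_DR_of_phiR
  intro φ hφ
  have h1 := contract_jB_mul φ y v c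
  rw [h, map_zero, contractLeft_eq_zero D φ hφ hv, TensorProduct.zero_tmul, mul_zero,
    sub_zero] at h1
  obtain ⟨ψ, hψ⟩ : ∃ ψ : Module.Dual k E, ψ v ≠ 0 := by
    by_contra hne
    push Not at hne
    exact hv0 ((Module.forall_dual_apply_eq_zero_iff k v).mp hne)
  have h2 := congrArg (phiR (W := E) ψ) h1
  rw [map_zero, phiR_tmul] at h2
  have h3 : phiR φ y * c = 0 := by
    have := h2.symm
    rwa [smul_eq_zero, or_iff_right hψ] at this
  exact (hc.mul_left_eq_zero).mp h3

end Groth.Agent.Lib.Helper25.WedgeR
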