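import Groth.Agent.Lib.Helper25.ZClosAffF
import Groth.Agent.Lib.Helper12.HironakaB

/-!
# helper25 — ZClosAffG: finiteness of the height-one hull from coherence of the `Z`-closure
-/

set_option autoImplicit false
set_option backward.isDefEq.respectTransparency.types false
set_option linter.unusedVariables false
set_option linter.unusedSectionVars false
set_option linter.style.haveILetI false
universe u
open AlgebraicGeometry StructureSheaf TopologicalSpace CategoryTheory CategoryTheory.Limits Opposite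

namespace Groth.Agent.Lib.Helper25.ZClosAff

open ZClos Groth.Agent.Lib.Helper25.PushCompl Groth.Agent.Lib.Helper29.ZClosLib
open Groth.Agent.Lib.Helper28.QCohLoc

variable {A : Type u} [CommRing A] [IsNoetherianRing A]

theorem constSec_injective_of_not_le (p : Ideal A) [p.IsPrime]
    (H : Submodule A (FractionRing (A ⧸ p))) (J : Ideal A) (hJp : ¬ J ≤ p) :
    Function.Injective (constSec H (EGA4.openCompl A J)) := by
  obtain ⟨a₀, ha₀J, ha₀p⟩ := SetLike.not_le_iff_exists.1 hJp
  have htf : ∀ m : H, (∃ n : ℕ, ∀ a ∈ J ^ n, a • m = 0) → m = 0 := by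
    rintro m ⟨n, hn⟩
    have h1 := hn (a₀ ^ n) (Ideal.pow_mem_pow ha₀J n)
    have h2 : (a₀ ^ n) • (m : FractionRing (A ⧸ p)) = (a₀ ^ n) • (0 : FractionRing (A ⧸ p)) := by
      rw [smul_zero]
      exact congrArg Subtype.val h1
    exact Subtype.ext (smul_cancel_fractionRing_quot p (fun h => ha₀p (Ideal.IsPrime.mem_of_pow_mem ‹_› n h)) h2)
  exact constSec_injective_of_torsionFree (N := H) J (IsNoetherian.noetherian J) htf

/-- the set of primes containing `q` of height at least two over `q` -/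
def codimTwo (q : Ideal A) : Set (Spec (CommRingCat.of A)) :=
  {y : PrimeSpectrum A | q ≤ y.asIdeal ∧ (2 : ℕ∞) ≤ (y.asIdeal.map (Ideal.Quotient.mk q)).height}

theorem mem_codimTwo (q : Ideal A) (y : PrimeSpectrum A) :
    y ∈ codimTwo q ↔ q ≤ y.asIdeal ∧ (2 : ℕ∞) ≤ (y.asIdeal.map (Ideal.Quotient.mk q)).height := Iff.rfl

theorem stable_codimTwo (q : Ideal A) : StableUnderSpecialization (codimTwo q) := by
  intro y y' hyy' hy
  have hle : (y : PrimeSpectrum A).asIdeal ≤ (y' : PrimeSpectrum A).asIdeal :=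
    (PrimeSpectrum.le_iff_specializes y y').2 hyy'
  exact ⟨hy.1.trans hle, hy.2.trans (Ideal.height_mono (Ideal.map_mono hle))⟩

theorem not_mem_codimTwo_self (q : Ideal A) [hq : q.IsPrime] : (⟨q, hq⟩ : PrimeSpectrum A) ∉ codimTwo q := by
  intro h
  have h2 := h.2
  have h0 : (q.map (Ideal.Quotient.mk q)) = ⊥ := by
    rw [Ideal.map_quotient_self]
  have h3 : (2 : ℕ∞) ≤ (⊥ : Ideal (A ⧸ q)).height := by
    rw [← h0]
    exact h2
  rw [Ideal.height_bot] at h3
  exact absurd h3 (by decide)

open Groth.Agent.Lib.Helper12.Hironaka in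
/-- the conductor condition for elements of the height-one hull -/
theorem exists_conductor (q : Ideal A) [q.IsPrime]
    (ι : (A ⧸ q) →ₗ[A] ((hullSubalgebra (A ⧸ q)).toSubmodule.restrictScalars A))
    (hι : ∀ b, ((ι b : (hullSubalgebra (A ⧸ q)).toSubmodule.restrictScalars A) : FractionRing (A ⧸ q)) =
      algebraMap (A ⧸ q) (FractionRing (A ⧸ q)) b)
    (x : (hullSubalgebra (A ⧸ q)).toSubmodule.restrictScalars A) :
    ∃ I : Ideal A, PrimeSpectrum.zeroLocus (I : Set A) ⊆ codimTwo q ∧
      ∀ a ∈ I, a • x ∈ LinearMap.range ι := by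
  refine ⟨(LinearMap.range ι).colon {x}, ?_, fun a ha => Submodule.mem_colon_singleton.1 ha⟩
  have hmem : ∀ (a : A) (b : A ⧸ q),
      algebraMap (A ⧸ q) (FractionRing (A ⧸ q)) b =
        algebraMap (A ⧸ q) (FractionRing (A ⧸ q)) (Ideal.Quotient.mk q a) * (x : FractionRing (A ⧸ q)) →
      a ∈ (LinearMap.range ι).colon {x} := by
    intro a b hb
    rw [Submodule.mem_colon_singleton]
    refine ⟨b, Subtype.ext ?_⟩
    rw [hι, hb]
    show _ = a • (x : FractionRing (A ⧸ q))
    rw [Algebra.smul_def, IsScalarTower.algebraMap_apply A (A ⧸ q) (FractionRing (A ⧸ q))]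
    rfl
  -- a denominator
  obtain ⟨s₀, hs₀q, hs₀⟩ : ∃ s₀ : A, s₀ ∉ q ∧ s₀ ∈ (LinearMap.range ι).colon {x} := by
    obtain ⟨b, s, hs, hbs⟩ := IsFractionRing.div_surjective (A := A ⧸ q) (x : FractionRing (A ⧸ q))
    obtain ⟨s', rfl⟩ := Ideal.Quotient.mk_surjective s
    refine ⟨s', ?_, hmem s' b ?_⟩
    · intro h
      have : Ideal.Quotient.mk q s' = 0 := Ideal.Quotient.eq_zero_iff_mem.2 h
      rw [this] at hs
      exact (nonZeroDivisors.ne_zero hs) rfl
    · rw [← hbs]
      have hne : algebraMap (A ⧸ q) (FractionRing (A ⧸ q)) (Ideal.Quotient.mk q s') ≠ 0 := by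
        intro h0
        have := (IsFractionRing.injective (A ⧸ q) (FractionRing (A ⧸ q))) (h0.trans (map_zero _).symm)
        rw [this] at hs
        exact (nonZeroDivisors.ne_zero hs) rfl
      field_simp
  intro P hP
  have hIP : (LinearMap.range ι).colon {x} ≤ P.asIdeal := hP
  have hqP : q ≤ P.asIdeal := by
    intro a ha
    apply hIP
    refine hmem a 0 ?_
    rw [Ideal.Quotient.eq_zero_iff_mem.2 ha, map_zero, zero_mul]
  refine ⟨hqP, ?_⟩
  by_contra hlt
  have hsurj : Function.Surjective (Ideal.Quotient.mk q) := Ideal.Quotient.mk_surjective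
  haveI hPb : (P.asIdeal.map (Ideal.Quotient.mk q)).IsPrime :=
    Ideal.map_isPrime_of_surjective hsurj (by rw [Ideal.mk_ker]; exact hqP)
  have hcomap : (P.asIdeal.map (Ideal.Quotient.mk q)).comap (Ideal.Quotient.mk q) = P.asIdeal := by
    rw [Ideal.comap_map_of_surjective _ hsurj, ← RingHom.ker_eq_comap_bot, Ideal.mk_ker]
    exact sup_eq_left.2 hqP
  have hnotmem : ∀ a : A, Ideal.Quotient.mk q a ∉ P.asIdeal.map (Ideal.Quotient.mk q) → a ∉ P.asIdeal :=
    fun a ha haP => ha (Ideal.mem_map_of_mem _ haP)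
  have hle1 : (P.asIdeal.map (Ideal.Quotient.mk q)).height ≤ 1 := by
    rw [not_le] at hlt
    exact Order.le_of_lt_succ hlt
  rcases lt_or_eq_of_le hle1 with h0 | h1
  · -- height zero: `P = q`
    have hbot : P.asIdeal.map (Ideal.Quotient.mk q) = ⊥ := by
      by_contra hne
      have hlt' : (⊥ : Ideal (A ⧸ q)) < P.asIdeal.map (Ideal.Quotient.mk q) := bot_lt_iff_ne_bot.2 hne
      have := Ideal.height_strict_mono_of_isPrime hlt'
      rw [Ideal.height_bot] at this
      have h00 : (P.asIdeal.map (Ideal.Quotient.mk q)).height = 0 := by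
        exact Order.lt_one_iff.1 h0
      rw [h00] at this
      exact lt_irrefl _ this
    have hPq : P.asIdeal ≤ q := by
      rw [← hcomap, hbot, ← RingHom.ker_eq_comap_bot, Ideal.mk_ker]
    exact hs₀q (hPq (hIP hs₀))
  · -- height one: use the hull condition
    obtain ⟨s, hs, b, hb⟩ := x.2 (P.asIdeal.map (Ideal.Quotient.mk q)) h1
    obtain ⟨s', rfl⟩ := hsurj s
    exact hnotmem s' hs (hIP (hmem s' b hb))

open Groth.Agent.Lib.Helper12.Hironaka in
/-- finiteness of the height-one hull of `A/q` from finiteness of the `Z`-closure for `Z` the primes of height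
`≥ 2` over `q` -/
theorem hullFinite_of_PZ (q : Ideal A) [q.IsPrime] (h : PZ (codimTwo q) (A ⧸ q)) :
    EGA4.HeightOneHullFinite (A ⧸ q) := by
  let H : Submodule A (FractionRing (A ⧸ q)) := (hullSubalgebra (A ⧸ q)).toSubmodule.restrictScalars A
  let ι : (A ⧸ q) →ₗ[A] H :=
    LinearMap.codRestrict H ((Algebra.linearMap (A ⧸ q) (FractionRing (A ⧸ q))).restrictScalars A)
      (fun b => (hullSubalgebra (A ⧸ q)).algebraMap_mem b)
  have hιinj : Function.Injective ι := by
    intro b b' hbb
    have := congrArg Subtype.val hbb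
    exact IsFractionRing.injective (A ⧸ q) (FractionRing (A ⧸ q)) this
  have hN : _root_.IsNoetherian A H := by
    refine isNoetherian_of_PZ (codimTwo q) ι hιinj h ?_ ?_
    · intro J hJ
      refine constSec_injective_of_not_le q H J fun hJq => ?_
      exact not_mem_codimTwo_self q (hJ hJq)
    · intro x
      exact exists_conductor q ι (fun b => rfl) x
  refine ⟨hullSubalgebra (A ⧸ q), rfl, ?_⟩
  have hfg : H.FG := (Module.Finite.iff_fg).1 inferInstance
  have hfg' : (hullSubalgebra (A ⧸ q)).toSubmodule.FG := Submodule.FG.of_restrictScalars A hfg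
  exact (Module.Finite.iff_fg).2 hfg'

end Groth.Agent.Lib.Helper25.ZClosAff
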